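import Mathlib

/-!
# Trace maps (transfer from the trivial subgroup) for representations of a finite group

For `k`-linear representations `ρ, σ` of a finite group `G` on `V, W`, and a `k`-linear map
`f : V → W`, `repTr ρ σ f = ∑ g, σ g ∘ f ∘ ρ g⁻¹` is a `G`-map.  A `G`-map of this form is a
*trace map*; a representation is *trace-projective* when its identity is a trace map
(this is equivalent to projectivity, which we never need).
-/

set_option autoImplicit false

namespace Cfsg.Agent.Helper16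

open Representation

universe u v

section Defs

variable {k : Type v} [Field k] {G : Type u} [Group G] [Fintype G]
variable {V W U : Type*} [AddCommGroup V] [Module k V] [AddCommGroup W] [Module k W]
  [AddCommGroup U] [Module k U]

/-- The trace from the trivial subgroup of a `k`-linear map between two representations. -/
noncomputable def repTr (ρ : Representation k G V) (σ : Representation k G W) (f : V →ₗ[k] W) :
    V →ₗ[k] W :=
  ∑ g : G, (σ g) ∘ₗ f ∘ₗ (ρ g⁻¹)

/-- `f` is a trace map from `ρ` to `σ`. -/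
def IsRepTrace (ρ : Representation k G V) (σ : Representation k G W) (f : V →ₗ[k] W) : Prop :=
  ∃ φ : V →ₗ[k] W, repTr ρ σ φ = f

/-- The representation is trace-projective: its identity is a trace map. -/
def IsTraceProj (ρ : Representation k G V) : Prop := IsRepTrace ρ ρ LinearMap.id

variable (ρ : Representation k G V) (σ : Representation k G W) (τ : Representation k G U)

theorem repTr_apply (f : V →ₗ[k] W) (v : V) :
    repTr ρ σ f v = ∑ g : G, σ g (f (ρ g⁻¹ v)) := by
  unfold repTr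
  rw [LinearMap.sum_apply]
  rfl

theorem repTr_zero : repTr ρ σ (0 : V →ₗ[k] W) = 0 := by
  ext v
  rw [repTr_apply]
  simp

theorem repTr_add (f g : V →ₗ[k] W) : repTr ρ σ (f + g) = repTr ρ σ f + repTr ρ σ g := by
  ext v
  rw [LinearMap.add_apply, repTr_apply, repTr_apply, repTr_apply, ← Finset.sum_add_distrib]
  refine Finset.sum_congr rfl (fun x _ => ?_)
  rw [LinearMap.add_apply, map_add]

theorem repTr_smul (c : k) (f : V →ₗ[k] W) : repTr ρ σ (c • f) = c • repTr ρ σ f := by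
  ext v
  rw [LinearMap.smul_apply, repTr_apply, repTr_apply, Finset.smul_sum]
  refine Finset.sum_congr rfl (fun x _ => ?_)
  rw [LinearMap.smul_apply, map_smul]

theorem repTr_neg (f : V →ₗ[k] W) : repTr ρ σ (-f) = - repTr ρ σ f := by
  have := repTr_smul ρ σ (-1 : k) f
  simpa using this

theorem repTr_sub (f g : V →ₗ[k] W) : repTr ρ σ (f - g) = repTr ρ σ f - repTr ρ σ g := by
  rw [sub_eq_add_neg, repTr_add, repTr_neg, ← sub_eq_add_neg]

theorem repTr_sum {ι : Type*} (s : Finset ι) (f : ι → V →ₗ[k] W) :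
    repTr ρ σ (∑ i ∈ s, f i) = ∑ i ∈ s, repTr ρ σ (f i) := by
  classical
  induction s using Finset.induction_on with
  | empty => simp [repTr_zero]
  | insert a s ha ih => rw [Finset.sum_insert ha, Finset.sum_insert ha, repTr_add, ih]

/-- a trace map is a `G`-map -/
theorem repTr_comm (f : V →ₗ[k] W) (h : G) : (σ h) ∘ₗ repTr ρ σ f = repTr ρ σ f ∘ₗ (ρ h) := by
  ext v
  rw [LinearMap.comp_apply, LinearMap.comp_apply, repTr_apply, repTr_apply, map_sum]
  refine Fintype.sum_equiv (Equiv.mulLeft h) _ _ (fun g => ?_)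
  show σ h (σ g (f (ρ g⁻¹ v))) = σ (h * g) (f (ρ (h * g)⁻¹ (ρ h v)))
  rw [map_mul, mul_inv_rev, map_mul]
  simp only [Module.End.mul_apply]
  rw [← Module.End.mul_apply (ρ h⁻¹) (ρ h), ← map_mul, inv_mul_cancel, map_one, Module.End.one_apply]

theorem repTr_comp_left (f : V →ₗ[k] W) (a : W →ₗ[k] U) (ha : ∀ g, a ∘ₗ σ g = τ g ∘ₗ a) :
    a ∘ₗ repTr ρ σ f = repTr ρ τ (a ∘ₗ f) := by
  ext v
  rw [LinearMap.comp_apply, repTr_apply, repTr_apply, map_sum]
  refine Finset.sum_congr rfl (fun g _ => ?_)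
  have := LinearMap.congr_fun (ha g) (f (ρ g⁻¹ v))
  simpa using this

theorem repTr_comp_right (f : V →ₗ[k] W) (b : U →ₗ[k] V) (hb : ∀ g, b ∘ₗ τ g = ρ g ∘ₗ b) :
    repTr ρ σ f ∘ₗ b = repTr τ σ (f ∘ₗ b) := by
  ext v
  rw [LinearMap.comp_apply, repTr_apply, repTr_apply]
  refine Finset.sum_congr rfl (fun g _ => ?_)
  have := LinearMap.congr_fun (hb g⁻¹) v
  simp only [LinearMap.comp_apply] at this ⊢
  rw [this]

variable {ρ σ τ}

theorem IsRepTrace.zero : IsRepTrace ρ σ (0 : V →ₗ[k] W) := ⟨0, repTr_zero ρ σ⟩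

theorem IsRepTrace.add {f g : V →ₗ[k] W} (hf : IsRepTrace ρ σ f) (hg : IsRepTrace ρ σ g) :
    IsRepTrace ρ σ (f + g) := by
  obtain ⟨φ, rfl⟩ := hf
  obtain ⟨ψ, rfl⟩ := hg
  exact ⟨φ + ψ, repTr_add ρ σ φ ψ⟩

theorem IsRepTrace.smul (c : k) {f : V →ₗ[k] W} (hf : IsRepTrace ρ σ f) :
    IsRepTrace ρ σ (c • f) := by
  obtain ⟨φ, rfl⟩ := hf
  exact ⟨c • φ, repTr_smul ρ σ c φ⟩

theorem IsRepTrace.neg {f : V →ₗ[k] W} (hf : IsRepTrace ρ σ f) : IsRepTrace ρ σ (-f) := by
  obtain ⟨φ, rfl⟩ := hf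
  exact ⟨-φ, repTr_neg ρ σ φ⟩

theorem IsRepTrace.sub {f g : V →ₗ[k] W} (hf : IsRepTrace ρ σ f) (hg : IsRepTrace ρ σ g) :
    IsRepTrace ρ σ (f - g) := by
  rw [sub_eq_add_neg]
  exact hf.add hg.neg

theorem IsRepTrace.sum {ι : Type*} (s : Finset ι) {f : ι → V →ₗ[k] W}
    (hf : ∀ i ∈ s, IsRepTrace ρ σ (f i)) : IsRepTrace ρ σ (∑ i ∈ s, f i) := by
  classical
  induction s using Finset.induction_on with
  | empty => simpa using IsRepTrace.zero
  | insert a s ha ih =>
    rw [Finset.sum_insert ha]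
    exact (hf a (Finset.mem_insert_self a s)).add
      (ih (fun i hi => hf i (Finset.mem_insert_of_mem hi)))

theorem IsRepTrace.comp_left {f : V →ₗ[k] W} (hf : IsRepTrace ρ σ f) (a : W →ₗ[k] U)
    (ha : ∀ g, a ∘ₗ σ g = τ g ∘ₗ a) : IsRepTrace ρ τ (a ∘ₗ f) := by
  obtain ⟨φ, rfl⟩ := hf
  exact ⟨a ∘ₗ φ, (repTr_comp_left ρ σ τ φ a ha).symm⟩

theorem IsRepTrace.comp_right {f : V →ₗ[k] W} (hf : IsRepTrace ρ σ f) (b : U →ₗ[k] V)
    (hb : ∀ g, b ∘ₗ τ g = ρ g ∘ₗ b) : IsRepTrace τ σ (f ∘ₗ b) := by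
  obtain ⟨φ, rfl⟩ := hf
  exact ⟨φ ∘ₗ b, (repTr_comp_right ρ σ τ φ b hb).symm⟩

/-- a trace map is a `G`-map -/
theorem IsRepTrace.comm {f : V →ₗ[k] W} (hf : IsRepTrace ρ σ f) (h : G) :
    (σ h) ∘ₗ f = f ∘ₗ (ρ h) := by
  obtain ⟨φ, rfl⟩ := hf
  exact repTr_comm ρ σ φ h

/-- every `G`-map out of a trace-projective representation is a trace map -/
theorem IsTraceProj.isRepTrace_of_comm (hρ : IsTraceProj ρ) (f : V →ₗ[k] W)
    (hf : ∀ g, f ∘ₗ ρ g = σ g ∘ₗ f) : IsRepTrace ρ σ f := by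
  have := IsRepTrace.comp_left (τ := σ) hρ f hf
  simpa using this

/-- every `G`-map into a trace-projective representation is a trace map -/
theorem IsTraceProj.isRepTrace_of_comm' (hσ : IsTraceProj σ) (f : V →ₗ[k] W)
    (hf : ∀ g, f ∘ₗ ρ g = σ g ∘ₗ f) : IsRepTrace ρ σ f := by
  have := IsRepTrace.comp_right (τ := ρ) hσ f hf
  simpa using this

/-- trace-projectivity is invariant under isomorphism -/
theorem IsTraceProj.of_equiv (hρ : IsTraceProj ρ) (e : V ≃ₗ[k] W)
    (he : ∀ g, e.toLinearMap ∘ₗ ρ g = σ g ∘ₗ e.toLinearMap) : IsTraceProj σ := by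
  have h1 : IsRepTrace ρ σ e.toLinearMap := hρ.isRepTrace_of_comm e.toLinearMap he
  have he' : ∀ g, e.symm.toLinearMap ∘ₗ σ g = ρ g ∘ₗ e.symm.toLinearMap := by
    intro g
    ext w
    have := LinearMap.congr_fun (he g) (e.symm w)
    simp only [LinearMap.comp_apply, LinearEquiv.coe_coe, LinearEquiv.apply_symm_apply] at this ⊢
    rw [← this, LinearEquiv.symm_apply_apply]
  have h2 := IsRepTrace.comp_right (τ := σ) h1 e.symm.toLinearMap he'
  have h3 : e.toLinearMap ∘ₗ e.symm.toLinearMap = LinearMap.id := by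
    ext w
    simp
  rw [h3] at h2
  exact h2

end Defs

section Restrict

variable {k : Type v} [Field k] {G : Type u} [Group G] [Fintype G]
variable {V W : Type*} [AddCommGroup V] [Module k V] [AddCommGroup W] [Module k W]
variable {ρ : Representation k G V} {σ : Representation k G W}

/-- the bijection `(G ⧸ N) × N ≃ G`, `(q, n) ↦ q.out * n` -/
noncomputable def cosetProdEquiv (N : Subgroup G) : (G ⧸ N) × N ≃ G where
  toFun x := x.1.out * (x.2 : G)
  invFun g := (QuotientGroup.mk g, ⟨(QuotientGroup.mk g : G ⧸ N).out⁻¹ * g,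
    QuotientGroup.eq.mp (QuotientGroup.out_eq' (QuotientGroup.mk g : G ⧸ N))⟩)
  left_inv x := by
    have h1 : (QuotientGroup.mk (x.1.out * (x.2 : G)) : G ⧸ N) = x.1 := by
      rw [← QuotientGroup.out_eq' x.1]
      refine QuotientGroup.eq.mpr ?_
      rw [QuotientGroup.out_eq', mul_inv_rev, inv_mul_cancel_right]
      exact N.inv_mem x.2.2
    ext
    · exact h1
    · show (QuotientGroup.mk (x.1.out * (x.2 : G)) : G ⧸ N).out⁻¹ * (x.1.out * (x.2 : G)) = x.2
      rw [h1, inv_mul_cancel_left]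
  right_inv g := by
    show (QuotientGroup.mk g : G ⧸ N).out * ((QuotientGroup.mk g : G ⧸ N).out⁻¹ * g) = g
    rw [mul_inv_cancel_left]

/-- a trace map for `G` is a trace map for every subgroup -/
theorem IsRepTrace.restrict {f : V →ₗ[k] W} (hf : IsRepTrace ρ σ f) (N : Subgroup G) [Fintype N] :
    IsRepTrace (ρ.comp N.subtype) (σ.comp N.subtype) f := by
  classical
  obtain ⟨φ, rfl⟩ := hf
  refine ⟨∑ q : G ⧸ N, σ (q.out)⁻¹ ∘ₗ φ ∘ₗ ρ q.out, ?_⟩
  ext v
  rw [repTr_apply, repTr_apply]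
  -- reindex the sum over `G` by `g ↦ g⁻¹`, then by `(G ⧸ N) × N ≃ G`
  have h1 : ∑ g : G, σ g (φ (ρ g⁻¹ v)) = ∑ g : G, σ g⁻¹ (φ (ρ g v)) := by
    refine Fintype.sum_equiv (Equiv.inv G) _ _ (fun g => ?_)
    simp
  rw [h1, ← (cosetProdEquiv N).sum_comp, Fintype.sum_prod_type, Finset.sum_comm]
  refine Fintype.sum_equiv (Equiv.inv N) _ _ (fun n => ?_)
  simp only [MonoidHom.comp_apply, Subgroup.coe_subtype, LinearMap.sum_apply,
    LinearMap.comp_apply, map_sum, Equiv.inv_apply]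
  refine Finset.sum_congr rfl (fun q _ => ?_)
  have h2 : (cosetProdEquiv N (q, n⁻¹) : G) = q.out * ((n : G))⁻¹ := rfl
  rw [h2, mul_inv_rev, map_mul, map_mul, inv_inv]
  simp [Module.End.mul_apply]

/-- a trace-projective representation of `G` is trace-projective for every subgroup -/
theorem IsTraceProj.restrict (hρ : IsTraceProj ρ) (N : Subgroup G) [Fintype N] :
    IsTraceProj (ρ.comp N.subtype) :=
  IsRepTrace.restrict hρ N

end Restrict

/-- A finite family of pairwise non-isomorphic irreducible finite-dimensional representations. -/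
structure SimpleRepFamily (k : Type v) [Field k] (G : Type u) [Group G] (ι : Type*) where
  /-- the spaces -/
  V : ι → Type u
  [acg : ∀ i, AddCommGroup (V i)]
  [mod : ∀ i, Module k (V i)]
  [fd : ∀ i, FiniteDimensional k (V i)]
  /-- the representations -/
  ρ : ∀ i, Representation k G (V i)
  irr : ∀ i, (ρ i).IsIrreducible
  ne : ∀ i j, i ≠ j → IsEmpty ((ρ i).Equiv (ρ j))

attribute [instance] SimpleRepFamily.acg SimpleRepFamily.mod SimpleRepFamily.fd

end Cfsg.Agent.Helper16
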