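import Cfsg.Agent.Helper16.TIBase
import Cfsg.Agent.Helper74.CharBasic
import Cfsg.Prelude.Def_Blocks

/-!
# Set-up for the blocks of defect one (Sylow `p`-subgroup of order `p`)

`C = C_G(P)`, `N = N_G(C)` (`= N_G(P)`), the canonical map `can : Irr(C) → Irr(C)`, the integral
rows `rowZ χ φ = ⟨χ|_C, φ⟩ - ⟨χ|_C, can φ⟩`, the sets `R_θ` and the inertial indices `e_θ`.
Only definitions and their immediate unfolding lemmas: everything else is proved elsewhere.
-/

set_option autoImplicit false

namespace Cfsg.Agent.Helper16.DefOne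

open Cfsg Cfsg.Agent.Helper16

universe u

variable {G : Type u} [Group G] {p : ℕ}

/-- `C_G(P)` -/
abbrev cen (P : Sylow p G) : Subgroup G := Subgroup.centralizer ((P : Subgroup G) : Set G)

/-- `N_G(C_G(P))`, which equals `N_G(P)` when `|P| = p`; it acts on `IrrCharacter (cen P)`. -/
abbrev nor (P : Sylow p G) : Subgroup G := Subgroup.normalizer ((cen P : Subgroup G) : Set G)

/-- `θ ∈ Irr(C)` has `P` in its kernel. -/
def IsCanon (P : Sylow p G) (θ : IrrCharacter (cen P)) : Prop :=
  ∀ x : cen P, (x : G) ∈ (P : Subgroup G) → (θ : cen P → ℂ) x = (θ : cen P → ℂ) 1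

open Classical in
/-- The canonical map: `can φ` is the irreducible character of `C` with `P` in its kernel that
agrees with `φ` on the `p`-regular elements (it exists and is unique when `|P| = p`). -/
noncomputable def can (P : Sylow p G) (φ : IrrCharacter (cen P)) : IrrCharacter (cen P) :=
  if h : ∃ θ : IrrCharacter (cen P), IsCanon P θ ∧
      ∀ x : cen P, ¬ p ∣ orderOf x → (φ : cen P → ℂ) x = (θ : cen P → ℂ) x
  then Classical.choose h else φ

theorem can_spec (P : Sylow p G) (φ : IrrCharacter (cen P))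
    (h : ∃ θ : IrrCharacter (cen P), IsCanon P θ ∧
      ∀ x : cen P, ¬ p ∣ orderOf x → (φ : cen P → ℂ) x = (θ : cen P → ℂ) x) :
    IsCanon P (can P φ) ∧
      ∀ x : cen P, ¬ p ∣ orderOf x → (φ : cen P → ℂ) x = (can P φ : cen P → ℂ) x := by
  unfold can
  rw [dif_pos h]
  exact Classical.choose_spec h

variable [Fintype G]

/-- The multiplicity `⟨χ|_C, φ⟩` as an integer (the floor of the real part of the inner product;
it is the inner product itself because `χ|_C` is a character). -/
noncomputable def mult (P : Sylow p G) (χ : IrrCharacter G) (φ : IrrCharacter (cen P)) : ℤ :=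
  haveI : Fintype (cen P) := Fintype.ofFinite _
  ⌊(classInner (fun c : cen P => (χ : G → ℂ) (c : G)) (φ : cen P → ℂ)).re⌋

theorem mult_cast (P : Sylow p G) [inst : Fintype (cen P)] (χ : IrrCharacter G)
    (φ : IrrCharacter (cen P)) :
    ((mult P χ φ : ℤ) : ℂ) = classInner (fun c : cen P => (χ : G → ℂ) (c : G)) (φ : cen P → ℂ) := by
  have hinst : inst = Fintype.ofFinite _ := Subsingleton.elim _ _
  subst hinst
  letI : Fintype (cen P) := Fintype.ofFinite _
  have hχ : IsCharacter G (χ : G → ℂ) := by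
    obtain ⟨n, ρ, -, h⟩ := χ.2
    exact ⟨n, ρ, h⟩
  obtain ⟨m, hm⟩ := Helper74.isCharacter_inner_irr_nat
    (Helper74.isCharacter_restrict (cen P) hχ) φ
  unfold mult
  rw [hm]
  simp

/-- The integral row of `χ` at `φ`: `⟨χ|_C, φ⟩ - ⟨χ|_C, can φ⟩`. -/
noncomputable def rowZ (P : Sylow p G) (χ : IrrCharacter G) (φ : IrrCharacter (cen P)) : ℤ :=
  mult P χ φ - mult P χ (can P φ)

/-- `R_θ`: the irreducible characters of `G` with a nonzero row over `θ`. -/
def Rset (P : Sylow p G) (θ : IrrCharacter (cen P)) : Set (IrrCharacter G) :=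
  {χ | ∃ φ : IrrCharacter (cen P), can P φ = θ ∧ rowZ P χ φ ≠ 0}

/-- The inertial index `e_θ = |Stab_N(θ) : C|`. -/
noncomputable def inertia (P : Sylow p G) (θ : IrrCharacter (cen P)) : ℕ :=
  Nat.card (MulAction.stabilizer (nor P) θ) / Nat.card (cen P)

end Cfsg.Agent.Helper16.DefOne
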