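import Cfsg.Prelude.Def_Blocks

set_option autoImplicit false

namespace Cfsg.Agent.Helper16

open Cfsg

variable {M : Ideal AlgInt}

theorem coe_ne_zero_of_not_mem {b : AlgInt} (hb : b ∉ M) : (b : ℂ) ≠ 0 := by
  intro h
  apply hb
  have : b = 0 := Subtype.ext h
  rw [this]
  exact M.zero_mem

theorem one_not_mem [hM : M.IsPrime] : (1 : AlgInt) ∉ M := by
  intro h
  exact hM.ne_top ((Ideal.eq_top_iff_one M).mpr h)

theorem memLocalRing_algInt [M.IsPrime] (a : AlgInt) : MemLocalRing M (a : ℂ) :=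
  ⟨a, 1, one_not_mem, by simp⟩

theorem memLocalRing_of_isIntegral [M.IsPrime] {z : ℂ} (hz : IsIntegral ℤ z) : MemLocalRing M z :=
  memLocalRing_algInt (M := M) ⟨z, hz⟩

theorem memLocalRing_zero [M.IsPrime] : MemLocalRing M 0 := by
  simpa using memLocalRing_algInt (M := M) 0

theorem memLocalRing_one [M.IsPrime] : MemLocalRing M 1 := by
  simpa using memLocalRing_algInt (M := M) 1

theorem memLocalRing_natCast [M.IsPrime] (n : ℕ) : MemLocalRing M (n : ℂ) := by
  simpa using memLocalRing_algInt (M := M) (n : AlgInt)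

theorem memLocalRing_intCast [M.IsPrime] (n : ℤ) : MemLocalRing M (n : ℂ) := by
  simpa using memLocalRing_algInt (M := M) (n : AlgInt)

theorem memLocalRing_add [hM : M.IsPrime] {x y : ℂ} (hx : MemLocalRing M x) (hy : MemLocalRing M y) :
    MemLocalRing M (x + y) := by
  obtain ⟨a, b, hb, rfl⟩ := hx
  obtain ⟨c, d, hd, rfl⟩ := hy
  refine ⟨a * d + c * b, b * d, ?_, ?_⟩
  · intro h
    rcases hM.mem_or_mem h with h | h
    · exact hb h
    · exact hd h
  · have hb' := coe_ne_zero_of_not_mem hb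
    have hd' := coe_ne_zero_of_not_mem hd
    push_cast
    field_simp

theorem memLocalRing_mul [hM : M.IsPrime] {x y : ℂ} (hx : MemLocalRing M x) (hy : MemLocalRing M y) :
    MemLocalRing M (x * y) := by
  obtain ⟨a, b, hb, rfl⟩ := hx
  obtain ⟨c, d, hd, rfl⟩ := hy
  refine ⟨a * c, b * d, ?_, ?_⟩
  · intro h
    rcases hM.mem_or_mem h with h | h
    · exact hb h
    · exact hd h
  · have hb' := coe_ne_zero_of_not_mem hb
    have hd' := coe_ne_zero_of_not_mem hd
    push_cast
    field_simp

theorem memLocalRing_neg {x : ℂ} (hx : MemLocalRing M x) : MemLocalRing M (-x) := by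
  obtain ⟨a, b, hb, rfl⟩ := hx
  refine ⟨-a, b, hb, ?_⟩
  push_cast
  ring

theorem memLocalRing_sub [M.IsPrime] {x y : ℂ} (hx : MemLocalRing M x) (hy : MemLocalRing M y) :
    MemLocalRing M (x - y) := by
  rw [sub_eq_add_neg]
  exact memLocalRing_add hx (memLocalRing_neg hy)

theorem memLocalRing_sum [M.IsPrime] {ι : Type*} (s : Finset ι) (f : ι → ℂ)
    (h : ∀ i ∈ s, MemLocalRing M (f i)) : MemLocalRing M (∑ i ∈ s, f i) := by
  classical
  induction s using Finset.induction_on with
  | empty => simpa using memLocalRing_zero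
  | insert a s ha ih =>
    rw [Finset.sum_insert ha]
    exact memLocalRing_add (h a (Finset.mem_insert_self a s))
      (ih (fun i hi => h i (Finset.mem_insert_of_mem hi)))

theorem memLocalRing_prod [M.IsPrime] {ι : Type*} (s : Finset ι) (f : ι → ℂ)
    (h : ∀ i ∈ s, MemLocalRing M (f i)) : MemLocalRing M (∏ i ∈ s, f i) := by
  classical
  induction s using Finset.induction_on with
  | empty => simpa using memLocalRing_one
  | insert a s ha ih =>
    rw [Finset.prod_insert ha]
    exact memLocalRing_mul (h a (Finset.mem_insert_self a s))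
      (ih (fun i hi => h i (Finset.mem_insert_of_mem hi)))

theorem memLocalRing_pow [M.IsPrime] {x : ℂ} (hx : MemLocalRing M x) (n : ℕ) :
    MemLocalRing M (x ^ n) := by
  induction n with
  | zero => simpa using memLocalRing_one
  | succ n ih => rw [pow_succ]; exact memLocalRing_mul ih hx

theorem memLocalIdeal_memLocalRing {x : ℂ} (hx : MemLocalIdeal M x) : MemLocalRing M x := by
  obtain ⟨a, b, _, hb, rfl⟩ := hx
  exact ⟨a, b, hb, rfl⟩

theorem memLocalIdeal_zero [M.IsPrime] : MemLocalIdeal M 0 :=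
  ⟨0, 1, M.zero_mem, one_not_mem, by simp⟩

theorem memLocalIdeal_add [hM : M.IsPrime] {x y : ℂ} (hx : MemLocalIdeal M x)
    (hy : MemLocalIdeal M y) : MemLocalIdeal M (x + y) := by
  obtain ⟨a, b, ha, hb, rfl⟩ := hx
  obtain ⟨c, d, hc, hd, rfl⟩ := hy
  refine ⟨a * d + c * b, b * d, ?_, ?_, ?_⟩
  · exact M.add_mem (M.mul_mem_right _ ha) (M.mul_mem_right _ hc)
  · intro h
    rcases hM.mem_or_mem h with h | h
    · exact hb h
    · exact hd h
  · have hb' := coe_ne_zero_of_not_mem hb
    have hd' := coe_ne_zero_of_not_mem hd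
    push_cast
    field_simp

theorem memLocalIdeal_neg {x : ℂ} (hx : MemLocalIdeal M x) : MemLocalIdeal M (-x) := by
  obtain ⟨a, b, ha, hb, rfl⟩ := hx
  refine ⟨-a, b, M.neg_mem ha, hb, ?_⟩
  push_cast
  ring

theorem memLocalIdeal_sub [M.IsPrime] {x y : ℂ} (hx : MemLocalIdeal M x)
    (hy : MemLocalIdeal M y) : MemLocalIdeal M (x - y) := by
  rw [sub_eq_add_neg]
  exact memLocalIdeal_add hx (memLocalIdeal_neg hy)

theorem memLocalIdeal_mul_left [hM : M.IsPrime] {x y : ℂ} (hx : MemLocalRing M x)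
    (hy : MemLocalIdeal M y) : MemLocalIdeal M (x * y) := by
  obtain ⟨a, b, hb, rfl⟩ := hx
  obtain ⟨c, d, hc, hd, rfl⟩ := hy
  refine ⟨a * c, b * d, M.mul_mem_left _ hc, ?_, ?_⟩
  · intro h
    rcases hM.mem_or_mem h with h | h
    · exact hb h
    · exact hd h
  · have hb' := coe_ne_zero_of_not_mem hb
    have hd' := coe_ne_zero_of_not_mem hd
    push_cast
    field_simp

theorem memLocalIdeal_mul_right [M.IsPrime] {x y : ℂ} (hx : MemLocalIdeal M x)
    (hy : MemLocalRing M y) : MemLocalIdeal M (x * y) := by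
  rw [mul_comm]
  exact memLocalIdeal_mul_left hy hx

theorem memLocalIdeal_sum [M.IsPrime] {ι : Type*} (s : Finset ι) (f : ι → ℂ)
    (h : ∀ i ∈ s, MemLocalIdeal M (f i)) : MemLocalIdeal M (∑ i ∈ s, f i) := by
  classical
  induction s using Finset.induction_on with
  | empty => simpa using memLocalIdeal_zero
  | insert a s ha ih =>
    rw [Finset.sum_insert ha]
    exact memLocalIdeal_add (h a (Finset.mem_insert_self a s))
      (ih (fun i hi => h i (Finset.mem_insert_of_mem hi)))

/-- For an algebraic integer, lying in the local ideal is the same as lying in `M`. -/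
theorem memLocalIdeal_algInt_iff [hM : M.IsPrime] (a : AlgInt) :
    MemLocalIdeal M (a : ℂ) ↔ a ∈ M := by
  constructor
  · rintro ⟨c, d, hc, hd, h⟩
    have hd' := coe_ne_zero_of_not_mem hd
    have h2 : (c : ℂ) = (a : ℂ) * (d : ℂ) := by
      rw [← h]; field_simp
    have h3 : c = a * d := Subtype.ext (by push_cast; exact h2)
    rw [h3] at hc
    rcases hM.mem_or_mem hc with h | h
    · exact h
    · exact absurd h hd
  · intro ha
    exact ⟨a, 1, ha, one_not_mem, by simp⟩

theorem not_memLocalIdeal_one [M.IsPrime] : ¬ MemLocalIdeal M 1 := by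
  intro h
  have : MemLocalIdeal M ((1 : AlgInt) : ℂ) := by simpa using h
  exact one_not_mem ((memLocalIdeal_algInt_iff 1).mp this)

/-- Elements of the local ring outside the local ideal are units of the local ring. -/
theorem memLocalRing_inv {x : ℂ} (hx : MemLocalRing M x) (hx' : ¬ MemLocalIdeal M x) :
    MemLocalRing M x⁻¹ := by
  obtain ⟨a, b, hb, rfl⟩ := hx
  have ha : a ∉ M := fun ha => hx' ⟨a, b, ha, hb, rfl⟩
  exact ⟨b, a, ha, by rw [inv_div]⟩

theorem not_memLocalIdeal_inv [M.IsPrime] {x : ℂ} (hx : MemLocalRing M x)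
    (hx' : ¬ MemLocalIdeal M x) : ¬ MemLocalIdeal M x⁻¹ := by
  intro h
  have hx0 : x ≠ 0 := by
    rintro rfl
    exact hx' memLocalIdeal_zero
  have := memLocalIdeal_mul_left hx h
  rw [mul_inv_cancel₀ hx0] at this
  exact not_memLocalIdeal_one this

theorem not_memLocalIdeal_mul [M.IsPrime] {x y : ℂ} (hx : MemLocalRing M x)
    (hx' : ¬ MemLocalIdeal M x) (hy' : ¬ MemLocalIdeal M y) :
    ¬ MemLocalIdeal M (x * y) := by
  intro h
  have hx0 : x ≠ 0 := by
    rintro rfl
    exact hx' memLocalIdeal_zero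
  have := memLocalIdeal_mul_left (memLocalRing_inv hx hx') h
  rw [← mul_assoc, inv_mul_cancel₀ hx0, one_mul] at this
  exact hy' this

theorem not_memLocalIdeal_prod [M.IsPrime] {ι : Type*} (s : Finset ι) (f : ι → ℂ)
    (h : ∀ i ∈ s, MemLocalRing M (f i)) (h' : ∀ i ∈ s, ¬ MemLocalIdeal M (f i)) :
    ¬ MemLocalIdeal M (∏ i ∈ s, f i) := by
  classical
  induction s using Finset.induction_on with
  | empty => simpa using not_memLocalIdeal_one
  | insert a s ha ih =>
    rw [Finset.prod_insert ha]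
    exact not_memLocalIdeal_mul (h a (Finset.mem_insert_self a s))
      (h' a (Finset.mem_insert_self a s))
      (ih (fun i hi => h i (Finset.mem_insert_of_mem hi))
        (fun i hi => h' i (Finset.mem_insert_of_mem hi)))

/-- unit plus element of the ideal is a unit -/
theorem not_memLocalIdeal_add [M.IsPrime] {x y : ℂ} (hx' : ¬ MemLocalIdeal M x)
    (hy : MemLocalIdeal M y) : ¬ MemLocalIdeal M (x + y) := by
  intro h
  apply hx'
  have := memLocalIdeal_sub h hy
  simpa using this

theorem not_memLocalIdeal_sub [M.IsPrime] {x y : ℂ} (hx' : ¬ MemLocalIdeal M x)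
    (hy : MemLocalIdeal M y) : ¬ MemLocalIdeal M (x - y) := by
  rw [sub_eq_add_neg]
  exact not_memLocalIdeal_add hx' (memLocalIdeal_neg hy)

theorem not_memLocalIdeal_neg {x : ℂ} (hx' : ¬ MemLocalIdeal M x) : ¬ MemLocalIdeal M (-x) := by
  intro h
  apply hx'
  simpa using memLocalIdeal_neg h

theorem IsPModular.isPrime {p : ℕ} (hM : IsPModular p M) : M.IsPrime := hM.2.1.isPrime

end Cfsg.Agent.Helper16
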