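import Cfsg.Agent.Helper16.Integrality
import Cfsg.Agent.Helper16.LocalRing
import Cfsg.Agent.Helper79.CharComplete

set_option autoImplicit false
set_option linter.unusedSectionVars false

namespace Cfsg.Agent.Helper16

open Cfsg
open scoped ComplexConjugate

section Irr

variable {G : Type*} [Group G] [Fintype G]

theorem irr_isClassFunction (χ : IrrCharacter G) : IsClassFunction G (χ : G → ℂ) :=
  Cfsg.Agent.Helper79.irr_isClassFunction χ

theorem irr_one_ne_zero (χ : IrrCharacter G) : (χ : G → ℂ) 1 ≠ 0 := by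
  obtain ⟨χ, n, ρ, hirr, rfl⟩ := χ
  have hirr' : ρ.IsIrreducible := hirr
  show ρ.character 1 ≠ 0
  rw [Representation.char_one]
  exact_mod_cast (finrank_pos_of_irreducible ρ).ne'

theorem irr_omega_conv (χ : IrrCharacter G) {s t : G → ℂ} (hs : IsClassFunction G s)
    (ht : IsClassFunction G t) :
    omega (χ : G → ℂ) (conv s t) = omega (χ : G → ℂ) s * omega (χ : G → ℂ) t := by
  obtain ⟨χ, n, ρ, hirr, rfl⟩ := χ
  have hirr' : ρ.IsIrreducible := hirr
  exact omega_conv ρ hs ht

theorem irr_isIntegral_centralChar (χ : IrrCharacter G) (g : G) :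
    IsIntegral ℤ (centralChar (χ : G → ℂ) g) := by
  obtain ⟨χ, n, ρ, hirr, rfl⟩ := χ
  have hirr' : ρ.IsIrreducible := hirr
  exact isIntegral_centralChar ρ g

noncomputable instance irrFintype : Fintype (IrrCharacter G) :=
  @Fintype.ofFinite _ Cfsg.Agent.Helper79.irr_finite

/-- Fourier inversion on class functions, in terms of `omega`. -/
theorem classFunction_eq_sum_omega {s : G → ℂ} (hs : IsClassFunction G s) (g : G) :
    s g = (Nat.card G : ℂ)⁻¹ *
      ∑ χ : IrrCharacter G, omega (χ : G → ℂ) s * (χ : G → ℂ) 1 * conj ((χ : G → ℂ) g) := by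
  classical
  have h1 : ∀ χ : IrrCharacter G, omega (χ : G → ℂ) s * (χ : G → ℂ) 1 * conj ((χ : G → ℂ) g) =
      ∑ x : G, s x * ((χ : G → ℂ) x * conj ((χ : G → ℂ) g)) := by
    intro χ
    unfold omega
    rw [div_mul_cancel₀ _ (irr_one_ne_zero χ), Finset.sum_mul]
    refine Finset.sum_congr rfl (fun x _ => ?_)
    ring
  simp_rw [h1]
  rw [Finset.sum_comm]
  simp_rw [← Finset.mul_sum]
  have h2 : ∀ x : G, ∑ χ : IrrCharacter G, (χ : G → ℂ) x * conj ((χ : G → ℂ) g) =
      if IsConj g x then (Nat.card (Subgroup.centralizer ({g} : Set G)) : ℂ) else 0 := by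
    intro x
    exact Cfsg.Agent.Helper79.column_orthogonality x g
  simp_rw [h2]
  have h3 : ∑ x : G, s x * (if IsConj g x then (Nat.card (Subgroup.centralizer ({g} : Set G)) : ℂ) else 0)
      = ∑ x ∈ Finset.univ.filter (fun x => IsConj g x),
          s g * (Nat.card (Subgroup.centralizer ({g} : Set G)) : ℂ) := by
    rw [Finset.sum_filter]
    refine Finset.sum_congr rfl (fun x _ => ?_)
    by_cases h : IsConj g x
    · rw [if_pos h, if_pos h, isClassFunction_eq_of_isConj hs h]
    · rw [if_neg h, if_neg h, mul_zero]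
  rw [h3, Finset.sum_const, nsmul_eq_mul, card_filter_isConj']
  have hidx : ((Subgroup.centralizer ({g} : Set G)).index : ℂ) *
      (Nat.card (Subgroup.centralizer ({g} : Set G)) : ℂ) = (Nat.card G : ℂ) := by
    exact_mod_cast Subgroup.index_mul_card _
  have hG : (Nat.card G : ℂ) ≠ 0 := card_ne_zero'
  rw [← hidx] at hG ⊢
  have hi := left_ne_zero_of_mul hG
  have hc := right_ne_zero_of_mul hG
  field_simp

end Irr

section Lambda

variable {G : Type*} [Group G] [Fintype G] {M : Ideal AlgInt}

/-- The image of the centre of the local group ring in `Irr → ℂ` under the central characters. -/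
def InLambda (M : Ideal AlgInt) (l : IrrCharacter G → ℂ) : Prop :=
  ∃ s : G → ℂ, IsClassFunction G s ∧ (∀ g, MemLocalRing M (s g)) ∧
    ∀ χ : IrrCharacter G, l χ = omega (χ : G → ℂ) s

theorem inLambda_add [M.IsPrime] {l m : IrrCharacter G → ℂ} (hl : InLambda M l) (hm : InLambda M m) :
    InLambda M (fun χ => l χ + m χ) := by
  obtain ⟨s, hs, hsS, hsl⟩ := hl
  obtain ⟨t, ht, htS, htm⟩ := hm
  refine ⟨s + t, isClassFunction_add hs ht, fun g => memLocalRing_add (hsS g) (htS g), ?_⟩
  intro χ
  show l χ + m χ = _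
  rw [omega_add, hsl, htm]

theorem inLambda_sub [M.IsPrime] {l m : IrrCharacter G → ℂ} (hl : InLambda M l) (hm : InLambda M m) :
    InLambda M (fun χ => l χ - m χ) := by
  obtain ⟨s, hs, hsS, hsl⟩ := hl
  obtain ⟨t, ht, htS, htm⟩ := hm
  refine ⟨s - t, isClassFunction_sub hs ht, fun g => memLocalRing_sub (hsS g) (htS g), ?_⟩
  intro χ
  show l χ - m χ = _
  rw [omega_sub, hsl, htm]

theorem inLambda_smul [M.IsPrime] {c : ℂ} (hc : MemLocalRing M c) {l : IrrCharacter G → ℂ}
    (hl : InLambda M l) : InLambda M (fun χ => c * l χ) := by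
  obtain ⟨s, hs, hsS, hsl⟩ := hl
  refine ⟨c • s, isClassFunction_smul c hs, fun g => memLocalRing_mul hc (hsS g), ?_⟩
  intro χ
  show c * l χ = _
  rw [omega_smul, hsl]

theorem inLambda_mul [M.IsPrime] {l m : IrrCharacter G → ℂ} (hl : InLambda M l) (hm : InLambda M m) :
    InLambda M (fun χ => l χ * m χ) := by
  obtain ⟨s, hs, hsS, hsl⟩ := hl
  obtain ⟨t, ht, htS, htm⟩ := hm
  refine ⟨conv s t, isClassFunction_conv hs ht, ?_, ?_⟩
  · intro g
    unfold conv
    exact memLocalRing_sum _ _ (fun x _ => memLocalRing_mul (hsS x) (htS _))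
  · intro χ
    show l χ * m χ = _
    rw [irr_omega_conv χ hs ht, hsl, htm]

theorem inLambda_const [M.IsPrime] {c : ℂ} (hc : MemLocalRing M c) :
    InLambda (G := G) M (fun _ => c) := by
  classical
  refine ⟨c • deltaOne, isClassFunction_smul c isClassFunction_deltaOne, ?_, ?_⟩
  · intro g
    refine memLocalRing_mul hc ?_
    unfold deltaOne
    by_cases h : g = 1
    · rw [if_pos h]; exact memLocalRing_one
    · rw [if_neg h]; exact memLocalRing_zero
  · intro χ
    show c = _
    rw [omega_smul, omega_deltaOne _ (irr_one_ne_zero χ), mul_one]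

theorem inLambda_one [M.IsPrime] : InLambda (G := G) M (fun _ => 1) :=
  inLambda_const memLocalRing_one

theorem inLambda_prod [M.IsPrime] {ι : Type*} (I : Finset ι) (f : ι → IrrCharacter G → ℂ)
    (h : ∀ i ∈ I, InLambda M (f i)) : InLambda M (fun χ => ∏ i ∈ I, f i χ) := by
  classical
  induction I using Finset.induction_on with
  | empty => simpa using inLambda_one
  | insert a I ha ih =>
    simp_rw [Finset.prod_insert ha]
    exact inLambda_mul (h a (Finset.mem_insert_self a I))
      (ih (fun i hi => h i (Finset.mem_insert_of_mem hi)))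

theorem inLambda_centralChar [M.IsPrime] (g : G) :
    InLambda M (fun χ : IrrCharacter G => centralChar (χ : G → ℂ) g) := by
  classical
  refine ⟨classInd g, isClassFunction_classInd g, ?_, ?_⟩
  · intro x
    unfold classInd
    by_cases h : IsConj g x
    · rw [if_pos h]; exact memLocalRing_one
    · rw [if_neg h]; exact memLocalRing_zero
  · intro χ
    show centralChar (χ : G → ℂ) g = _
    rw [omega_classInd _ (irr_isClassFunction χ)]

theorem omega_memLocalRing [M.IsPrime] (χ : IrrCharacter G) {s : G → ℂ} (hs : IsClassFunction G s)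
    (hsS : ∀ g, MemLocalRing M (s g)) : MemLocalRing M (omega (χ : G → ℂ) s) := by
  classical
  rw [omega_eq_sum_classes _ _ (irr_isClassFunction χ) hs]
  exact memLocalRing_sum _ _ (fun C _ => memLocalRing_mul (hsS _)
    (memLocalRing_of_isIntegral (irr_isIntegral_centralChar χ _)))

theorem InLambda.memLocalRing [M.IsPrime] {l : IrrCharacter G → ℂ} (hl : InLambda M l)
    (χ : IrrCharacter G) : MemLocalRing M (l χ) := by
  obtain ⟨s, hs, hsS, hsl⟩ := hl
  rw [hsl]
  exact omega_memLocalRing χ hs hsS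

theorem omega_sub_memLocalIdeal [M.IsPrime] {χ ψ : IrrCharacter G}
    (h : SameBlock M (χ : G → ℂ) (ψ : G → ℂ)) {s : G → ℂ} (hs : IsClassFunction G s)
    (hsS : ∀ g, MemLocalRing M (s g)) :
    MemLocalIdeal M (omega (χ : G → ℂ) s - omega (ψ : G → ℂ) s) := by
  classical
  rw [omega_eq_sum_classes _ _ (irr_isClassFunction χ) hs,
    omega_eq_sum_classes _ _ (irr_isClassFunction ψ) hs, ← Finset.sum_sub_distrib]
  refine memLocalIdeal_sum _ _ (fun C _ => ?_)
  rw [← mul_sub]
  exact memLocalIdeal_mul_left (hsS _) (h _)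

theorem InLambda.sub_memLocalIdeal [M.IsPrime] {l : IrrCharacter G → ℂ} (hl : InLambda M l)
    {χ ψ : IrrCharacter G} (h : SameBlock M (χ : G → ℂ) (ψ : G → ℂ)) :
    MemLocalIdeal M (l χ - l ψ) := by
  obtain ⟨s, hs, hsS, hsl⟩ := hl
  rw [hsl, hsl]
  exact omega_sub_memLocalIdeal h hs hsS

end Lambda

end Cfsg.Agent.Helper16
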