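import Cfsg.Agent.Helper16.Covering2

/-!
# More on characters of normal subgroups (helper16)

* `omega_eq_omega_restrict_of_constituent`: if `θ` lies under `χ` and the class function `S` of `G`
  is supported on `N ⊴ G`, then `ω_χ(S) = ω_θ(S|_N)`;
* `exists_irr_over`: every irreducible character of a subgroup lies under some irreducible
  character of the group.
-/

set_option autoImplicit false
set_option linter.unusedSectionVars false

namespace Cfsg.Agent.Helper16

open Cfsg Cfsg.Agent.Helper15
open scoped ComplexConjugate

universe u

variable {G : Type u} [Group G] [Fintype G]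

/-- Every irreducible character of a subgroup lies under an irreducible character of the group. -/
theorem exists_irr_over (H : Subgroup G) [Fintype H] (θ : IrrCharacter H) :
    ∃ χ : IrrCharacter G, classInner (fun h : H => (χ : G → ℂ) h) (θ : H → ℂ) ≠ 0 := by
  classical
  by_contra hcon
  have hall : ∀ χ : IrrCharacter G, classInner (indFun H (θ : H → ℂ)) (χ : G → ℂ) = 0 := by
    intro χ
    rw [frobenius_reciprocity H (θ : H → ℂ) (χ : G → ℂ) (irr_isClassFunction χ)]
    by_contra h0
    apply hcon
    refine ⟨χ, ?_⟩
    rw [← classInner_conj_symm]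
    intro h1
    apply h0
    have := congrArg conj h1
    simpa using this
  have hexp := congrFun (Helper79.classFunction_expansion
    (isClassFunction_indFun H (θ : H → ℂ))) 1
  rw [Finset.sum_apply] at hexp
  simp only [Pi.smul_apply, smul_eq_mul, hall, zero_mul, Finset.sum_const_zero] at hexp
  rw [indFun_apply_one] at hexp
  have hidx : (H.index : ℂ) ≠ 0 := by
    have : H.index ≠ 0 := Subgroup.index_ne_zero_of_finite
    exact_mod_cast this
  exact mul_ne_zero hidx (irr_one_ne_zero θ) hexp

variable (N : Subgroup G) [hN : N.Normal] [Fintype N]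

/-- If `θ` lies under `χ` and `S` is a class function of `G` supported on `N`, then
`ω_χ(S) = ω_θ(S|_N)`. -/
theorem omega_eq_omega_restrict_of_constituent (χ : IrrCharacter G) (θ : IrrCharacter N)
    (h : classInner (fun n : N => (χ : G → ℂ) n) (θ : N → ℂ) ≠ 0) {S : G → ℂ}
    (hS : IsClassFunction G S) (hsupp : ∀ x : G, x ∉ N → S x = 0) :
    omega (χ : G → ℂ) S = omega (θ : N → ℂ) (fun n : N => S n) := by
  classical
  rw [omega_eq_sum_classes (χ : G → ℂ) S (irr_isClassFunction χ) hS,
    omega_restrict_eq_sum_classes N (θ : N → ℂ) hS]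
  refine Finset.sum_congr rfl (fun C _ => ?_)
  by_cases hC : classRep C ∈ N
  · rw [centralChar_eq_of_constituent N χ θ h ⟨classRep C, hC⟩]
  · rw [hsupp _ hC, zero_mul, zero_mul]

end Cfsg.Agent.Helper16
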