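import Cfsg.Agent.Helper16.BlockIdem

set_option autoImplicit false
set_option linter.unusedSectionVars false

namespace Cfsg.Agent.Helper16

open Cfsg
open scoped ComplexConjugate

section

variable {G : Type*} [Group G] [Fintype G] {M : Ideal AlgInt}

/-- The restriction to a subgroup `H` of the class indicator of `g` in `G`. -/
noncomputable def classIndRes (H : Subgroup G) (g : G) : H → ℂ := fun h => classInd g (h : G)

theorem isClassFunction_classIndRes (H : Subgroup G) (g : G) :
    IsClassFunction H (classIndRes H g) := by
  intro x h
  show classInd g ((h * x * h⁻¹ : H) : G) = classInd g (x : G)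
  have : ((h * x * h⁻¹ : H) : G) = (h : G) * (x : G) * (h : G)⁻¹ := by simp
  rw [this]
  exact isClassFunction_classInd g _ _

theorem classIndRes_memLocalRing [M.IsPrime] (H : Subgroup G) (g : G) (h : H) :
    MemLocalRing M (classIndRes H g h) := by
  classical
  unfold classIndRes classInd
  by_cases hc : IsConj g (h : G)
  · rw [if_pos hc]; exact memLocalRing_one
  · rw [if_neg hc]; exact memLocalRing_zero

/-- The induced central character of the Prelude is `omega` of the restricted class indicator. -/
theorem inducedCentralChar_eq_omega (H : Subgroup G) [Fintype H] (ξ : H → ℂ) (g : G) :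
    inducedCentralChar H ξ g = omega ξ (classIndRes H g) := by
  classical
  unfold inducedCentralChar omega classIndRes classInd
  have hfin : ({h : H | IsConj g (h : G)} : Set H).Finite := Set.toFinite _
  rw [finsum_mem_eq_finite_toFinset_sum _ hfin, Finset.sum_div]
  have hset : hfin.toFinset = (Finset.univ : Finset H).filter (fun h : H => IsConj g (h : G)) := by
    ext h
    simp
  rw [hset, Finset.sum_filter]
  refine Finset.sum_congr rfl (fun h _ => ?_)
  by_cases hc : IsConj g (h : G)
  · rw [if_pos hc, if_pos hc, one_mul]
  · rw [if_neg hc, if_neg hc, zero_mul, zero_div]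

/-- Induced central characters of characters in the same block of `H` agree modulo the local
ideal. -/
theorem inducedCentralChar_sub_memLocalIdeal [M.IsPrime] (H : Subgroup G) [Fintype H]
    {ξ ξ' : IrrCharacter H} (h : SameBlock M (ξ : H → ℂ) (ξ' : H → ℂ)) (g : G) :
    MemLocalIdeal M (inducedCentralChar H (ξ : H → ℂ) g - inducedCentralChar H (ξ' : H → ℂ) g) := by
  rw [inducedCentralChar_eq_omega, inducedCentralChar_eq_omega]
  exact omega_sub_memLocalIdeal h (isClassFunction_classIndRes H g)
    (classIndRes_memLocalRing H g)

theorem inducedCentralChar_memLocalRing [M.IsPrime] (H : Subgroup G) [Fintype H]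
    (ξ : IrrCharacter H) (g : G) : MemLocalRing M (inducedCentralChar H (ξ : H → ℂ) g) := by
  rw [inducedCentralChar_eq_omega]
  exact omega_memLocalRing ξ (isClassFunction_classIndRes H g) (classIndRes_memLocalRing H g)

theorem centralChar_memLocalRing [M.IsPrime] (χ : IrrCharacter G) (g : G) :
    MemLocalRing M (centralChar (χ : G → ℂ) g) :=
  memLocalRing_of_isIntegral (irr_isIntegral_centralChar χ g)

end

end Cfsg.Agent.Helper16
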