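import Cfsg.Agent.Helper16.Idempotent
import Cfsg.Agent.Helper77.LocalRing

/-!
# Rational numbers in the local ring and `p`-adic valuations (helper16)
-/

set_option autoImplicit false

namespace Cfsg.Agent.Helper16

open Cfsg

variable {M : Ideal AlgInt} {p : ℕ}

theorem exists_pow_mul_factorization [hp : Fact p.Prime] {n : ℕ} (hn : n ≠ 0) :
    ∃ n' : ℕ, ¬ p ∣ n' ∧ n = p ^ n.factorization p * n' := by
  refine ⟨n / p ^ n.factorization p, Nat.not_dvd_ordCompl hp.out hn, ?_⟩
  exact (Nat.ordProj_mul_ordCompl_eq_self n p).symm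

theorem memLocalIdeal_pow_prime (hM : IsPModular p M) {k : ℕ} (hk : k ≠ 0) :
    MemLocalIdeal M ((p : ℂ) ^ k) := by
  haveI : M.IsPrime := IsPModular.isPrime hM
  obtain ⟨j, rfl⟩ := Nat.exists_eq_succ_of_ne_zero hk
  rw [pow_succ]
  exact memLocalIdeal_mul_left (memLocalRing_pow (memLocalRing_natCast p) j)
    (Helper77.memLocalIdeal_p hM)

/-- A quotient of natural numbers in the local ideal: the numerator is zero or has larger
valuation. -/
theorem factorization_lt_of_memLocalIdeal_div [hp : Fact p.Prime] (hM : IsPModular p M) {n m : ℕ}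
    (hm : m ≠ 0) (h : MemLocalIdeal M ((n : ℂ) / (m : ℂ))) :
    n = 0 ∨ m.factorization p < n.factorization p := by
  haveI : M.IsPrime := IsPModular.isPrime hM
  by_cases hn : n = 0
  · exact Or.inl hn
  right
  obtain ⟨n', hn', hneq⟩ := exists_pow_mul_factorization (p := p) hn
  obtain ⟨m', hm', hmeq⟩ := exists_pow_mul_factorization (p := p) hm
  by_contra hle
  have hle' : n.factorization p ≤ m.factorization p := not_lt.mp hle
  obtain ⟨k, hk⟩ := Nat.exists_eq_add_of_le hle'
  have hp0 : (p : ℂ) ≠ 0 := by exact_mod_cast hp.out.ne_zero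
  have hm0 : (m : ℂ) ≠ 0 := by exact_mod_cast hm
  have key : (n : ℂ) / (m : ℂ) * ((p : ℂ) ^ k * (m' : ℂ)) = (n' : ℂ) := by
    have h1 : (m : ℂ) = (p : ℂ) ^ (n.factorization p + k) * (m' : ℂ) := by
      conv_lhs => rw [hmeq, hk]
      push_cast
      ring
    have h2 : (n : ℂ) = (p : ℂ) ^ (n.factorization p) * (n' : ℂ) := by
      conv_lhs => rw [hneq]
      push_cast
      ring
    have hm'0 : (m' : ℂ) ≠ 0 := by
      intro h0
      apply hm0
      rw [h1, h0, mul_zero]
    rw [h1, h2, pow_add]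
    field_simp
  have hmem : MemLocalIdeal M (n' : ℂ) := by
    rw [← key]
    exact memLocalIdeal_mul_right h
      (memLocalRing_mul (memLocalRing_pow (memLocalRing_natCast p) k) (memLocalRing_natCast m'))
  exact hn' ((Helper77.memLocalIdeal_natCast_iff hM n').mp hmem)

/-- A quotient of natural numbers congruent to `1` modulo the local ideal: equal valuations. -/
theorem factorization_eq_of_memLocalIdeal_div_sub_one [hp : Fact p.Prime] (hM : IsPModular p M)
    {n m : ℕ} (hm : m ≠ 0) (h : MemLocalIdeal M ((n : ℂ) / (m : ℂ) - 1)) :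
    n ≠ 0 ∧ n.factorization p = m.factorization p := by
  haveI : M.IsPrime := IsPModular.isPrime hM
  have hn : n ≠ 0 := by
    intro h0
    rw [h0, Nat.cast_zero, zero_div, zero_sub] at h
    exact not_memLocalIdeal_one (by simpa using memLocalIdeal_neg h)
  refine ⟨hn, ?_⟩
  obtain ⟨n', hn', hneq⟩ := exists_pow_mul_factorization (p := p) hn
  obtain ⟨m', hm', hmeq⟩ := exists_pow_mul_factorization (p := p) hm
  have hp0 : (p : ℂ) ≠ 0 := by exact_mod_cast hp.out.ne_zero
  have hm0 : (m : ℂ) ≠ 0 := by exact_mod_cast hm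
  have hn0 : (n : ℂ) ≠ 0 := by exact_mod_cast hn
  have hrR : MemLocalRing M ((n : ℂ) / (m : ℂ)) := by
    have := memLocalRing_add (memLocalIdeal_memLocalRing h) (memLocalRing_one (M := M))
    rwa [sub_add_cancel] at this
  have h2 : (n : ℂ) = (p : ℂ) ^ (n.factorization p) * (n' : ℂ) := by
    conv_lhs => rw [hneq]
    push_cast
    ring
  have h1 : (m : ℂ) = (p : ℂ) ^ (m.factorization p) * (m' : ℂ) := by
    conv_lhs => rw [hmeq]
    push_cast
    ring
  have hm'0 : (m' : ℂ) ≠ 0 := by
    intro h0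
    apply hm0
    rw [h1, h0, mul_zero]
  rcases lt_trichotomy (n.factorization p) (m.factorization p) with hlt | heq | hgt
  · exfalso
    obtain ⟨k, hk⟩ := Nat.exists_eq_add_of_lt hlt
    have key : (n : ℂ) / (m : ℂ) * ((p : ℂ) ^ (k + 1) * (m' : ℂ)) = (n' : ℂ) := by
      have h1' : (m : ℂ) = (p : ℂ) ^ (n.factorization p + (k + 1)) * (m' : ℂ) := by
        rw [h1, hk, add_assoc]
      rw [h1', h2, pow_add]
      field_simp
    have hmem : MemLocalIdeal M (n' : ℂ) := by
      rw [← key]
      exact memLocalIdeal_mul_left hrR (memLocalIdeal_mul_right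
        (memLocalIdeal_pow_prime hM (Nat.succ_ne_zero k)) (memLocalRing_natCast m'))
    exact hn' ((Helper77.memLocalIdeal_natCast_iff hM n').mp hmem)
  · exact heq
  · exfalso
    obtain ⟨k, hk⟩ := Nat.exists_eq_add_of_lt hgt
    have key : (n : ℂ) / (m : ℂ) * (m' : ℂ) = (p : ℂ) ^ (k + 1) * (n' : ℂ) := by
      have h2' : (n : ℂ) = (p : ℂ) ^ (m.factorization p + (k + 1)) * (n' : ℂ) := by
        rw [h2, hk, add_assoc]
      rw [h1, h2', pow_add]
      field_simp
    have hmem1 : MemLocalIdeal M ((n : ℂ) / (m : ℂ) * (m' : ℂ)) := by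
      rw [key]
      exact memLocalIdeal_mul_right (memLocalIdeal_pow_prime hM (Nat.succ_ne_zero k))
        (memLocalRing_natCast n')
    have hmem2 : MemLocalIdeal M (((n : ℂ) / (m : ℂ) - 1) * (m' : ℂ)) :=
      memLocalIdeal_mul_right h (memLocalRing_natCast m')
    have hmem : MemLocalIdeal M (m' : ℂ) := by
      have := memLocalIdeal_sub hmem1 hmem2
      have heq : (n : ℂ) / (m : ℂ) * (m' : ℂ) - ((n : ℂ) / (m : ℂ) - 1) * (m' : ℂ) = (m' : ℂ) := by
        ring
      rwa [heq] at this
    exact hm' ((Helper77.memLocalIdeal_natCast_iff hM m').mp hmem)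


/-- A quotient of natural numbers whose numerator has larger valuation lies in the local ideal. -/
theorem memLocalIdeal_div_of_factorization_lt [hp : Fact p.Prime] (hM : IsPModular p M) {n m : ℕ}
    (hm : m ≠ 0) (hn : n ≠ 0) (h : m.factorization p < n.factorization p) :
    MemLocalIdeal M ((n : ℂ) / (m : ℂ)) := by
  haveI : M.IsPrime := IsPModular.isPrime hM
  obtain ⟨n', hn', hneq⟩ := exists_pow_mul_factorization (p := p) hn
  obtain ⟨m', hm', hmeq⟩ := exists_pow_mul_factorization (p := p) hm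
  obtain ⟨k, hk⟩ := Nat.exists_eq_add_of_lt h
  have hp0 : (p : ℂ) ≠ 0 := by exact_mod_cast hp.out.ne_zero
  have hm0 : (m : ℂ) ≠ 0 := by exact_mod_cast hm
  have h1 : (m : ℂ) = (p : ℂ) ^ (m.factorization p) * (m' : ℂ) := by
    conv_lhs => rw [hmeq]
    push_cast
    ring
  have h2 : (n : ℂ) = (p : ℂ) ^ (m.factorization p + (k + 1)) * (n' : ℂ) := by
    conv_lhs => rw [hneq, hk, add_assoc]
    push_cast
    ring
  have hm'0 : (m' : ℂ) ≠ 0 := by
    intro h0
    apply hm0
    rw [h1, h0, mul_zero]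
  have key : (n : ℂ) / (m : ℂ) = (p : ℂ) ^ (k + 1) * ((n' : ℂ) * (m' : ℂ)⁻¹) := by
    rw [h1, h2, pow_add]
    field_simp
  rw [key]
  exact memLocalIdeal_mul_right (memLocalIdeal_pow_prime hM (Nat.succ_ne_zero k))
    (memLocalRing_mul (memLocalRing_natCast n') (memLocalRing_inv_natCast hM hm'))

end Cfsg.Agent.Helper16
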