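import Cfsg.Agent.Helper16.UnionBlocks
import Cfsg.Agent.Helper16.Valuation
import Cfsg.Agent.Helper16.Induced
import Cfsg.Agent.Helper15.IndChar
import Cfsg.Agent.Helper78.BlockBasic
import Cfsg.Agent.S0932

/-!
# The block part of a class function (helper16)

`blockPart B ϑ 1 = ∑ g, blockCoeff B g * ϑ g`, and for an induced character `ϑ = ξ^G` with
`b^G = B₀` defined, `blockPart B ϑ 1 / ϑ 1 ≡ [B = B₀]` modulo the local ideal.
-/

set_option autoImplicit false

namespace Cfsg.Agent.Helper16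

open Cfsg
open scoped ComplexConjugate

variable {G : Type*} [Group G] [Fintype G] {M : Ideal AlgInt}

theorem blockPart_apply (B : Set (IrrCharacter G)) (ϑ : G → ℂ) (g : G) :
    blockPart B ϑ g = ∑ᶠ χ ∈ B, classInner ϑ (χ : G → ℂ) * (χ : G → ℂ) g := by
  show (∑ᶠ χ ∈ B, @classInner G _ (Fintype.ofFinite G) ϑ (χ : G → ℂ) * (χ : G → ℂ) g) = _
  rw [Subsingleton.elim (Fintype.ofFinite G) ‹Fintype G›]

theorem blockPart_eq_sum (B : Set (IrrCharacter G)) [DecidablePred (· ∈ B)] (ϑ : G → ℂ) (g : G) :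
    blockPart B ϑ g = ∑ χ : IrrCharacter G,
      (if χ ∈ B then (1 : ℂ) else 0) * (classInner ϑ (χ : G → ℂ) * (χ : G → ℂ) g) := by
  rw [blockPart_apply, finsum_mem_def, finsum_eq_sum_of_fintype]
  refine Finset.sum_congr rfl (fun χ _ => ?_)
  rw [Set.indicator_apply]
  by_cases h : χ ∈ B
  · rw [if_pos h, if_pos h, one_mul]
  · rw [if_neg h, if_neg h, zero_mul]

/-- The value at `1` of the `B`-part is the pairing with the block idempotent coefficients. -/
theorem blockPart_one_eq_sum_blockCoeff (B : Set (IrrCharacter G)) (ϑ : G → ℂ) :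
    blockPart B ϑ 1 = ∑ g : G, blockCoeff B g * ϑ g := by
  classical
  rw [blockPart_eq_sum]
  simp_rw [blockCoeff_eq_sum]
  unfold classInner
  simp_rw [Finset.mul_sum, Finset.sum_mul, Finset.mul_sum]
  rw [Finset.sum_comm]
  refine Finset.sum_congr rfl (fun g _ => ?_)
  refine Finset.sum_congr rfl (fun χ _ => ?_)
  ring

theorem blockPart_one_eq_mul_omega (B : Set (IrrCharacter G)) (ϑ : G → ℂ) (h1 : ϑ 1 ≠ 0) :
    blockPart B ϑ 1 = ϑ 1 * omega ϑ (blockCoeff B) := by
  rw [blockPart_one_eq_sum_blockCoeff]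
  unfold omega
  field_simp

/-- The value at `1` of the block part of a character is a natural number. -/
theorem blockPart_one_nat (B : Set (IrrCharacter G)) {ϑ : G → ℂ} (hϑ : IsCharacter G ϑ) :
    ∃ n : ℕ, blockPart B ϑ 1 = (n : ℂ) := by
  classical
  have hm : ∀ χ : IrrCharacter G, ∃ m : ℕ, classInner ϑ (χ : G → ℂ) = (m : ℂ) := fun χ =>
    Helper15.isCharacter_inner_nat hϑ (Helper74.irr_isCharacter χ)
  choose m hm using hm
  refine ⟨∑ χ : IrrCharacter G, (if χ ∈ B then 1 else 0) * (m χ * charDegree (χ : G → ℂ)), ?_⟩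
  rw [blockPart_eq_sum]
  push_cast
  refine Finset.sum_congr rfl (fun χ _ => ?_)
  rw [hm χ, Helper74.charDegree_cast (Helper74.irr_isCharacter χ)]

open Classical in
/-- For an induced character whose block induces `B₀`, the normalised block parts are congruent to
the indicator of `B₀`. -/
theorem omega_indFun_blockCoeff_sub [M.IsPrime] (H : Subgroup G) [Fintype H]
    {b : Set (IrrCharacter H)} {B₀ : Set (IrrCharacter G)} (hind : IsInducedBlock M H b B₀)
    {ξ : IrrCharacter H} (hξ : ξ ∈ b) {χ₀ : IrrCharacter G} (hχ₀ : χ₀ ∈ B₀)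
    {B : Set (IrrCharacter G)} (hB : IsPBlock M B) :
    MemLocalIdeal M (omega (indFun H (ξ : H → ℂ)) (blockCoeff B) -
      (if χ₀ ∈ B then (1 : ℂ) else 0)) := by
  rw [← omega_blockCoeff B χ₀,
    omega_eq_sum_classes _ _ (Helper15.isClassFunction_indFun H (ξ : H → ℂ))
      (isClassFunction_blockCoeff B),
    omega_eq_sum_classes _ _ (irr_isClassFunction χ₀) (isClassFunction_blockCoeff B),
    ← Finset.sum_sub_distrib]
  refine memLocalIdeal_sum _ _ (fun C _ => ?_)
  rw [← mul_sub, ← Cfsg.Agent.S0932.result H (ξ : H → ℂ) (Helper74.irr_isCharacter ξ)]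
  exact memLocalIdeal_mul_left (osima hB _) (hind.2.2 ξ hξ χ₀ hχ₀ _)

end Cfsg.Agent.Helper16
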