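import Cfsg.Agent.Helper16.BlockIdem
import Mathlib.GroupTheory.PGroup

set_option autoImplicit false
set_option linter.unusedSectionVars false

namespace Cfsg.Agent.Helper16

open Cfsg
open scoped ComplexConjugate

section PGroupSum

variable {M : Ideal AlgInt}

theorem memLocalIdeal_prime {p : ℕ} [M.IsPrime] (hpM : (p : AlgInt) ∈ M) :
    MemLocalIdeal M (p : ℂ) := by
  have := (memLocalIdeal_algInt_iff (M := M) (p : AlgInt)).mpr hpM
  simpa using this

/-- If a `p`-group acts on a finite set and `f` is an invariant function with values in the local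
ring whose values at the fixed points lie in the local ideal, then the sum of `f` lies in the
local ideal. -/
theorem memLocalIdeal_sum_of_pgroup_action {p : ℕ} [Fact p.Prime] [M.IsPrime]
    (hpM : (p : AlgInt) ∈ M)
    {Γ X : Type*} [Group Γ] [MulAction Γ X] [Fintype X] (hΓ : IsPGroup p Γ)
    (f : X → ℂ) (hfS : ∀ x, MemLocalRing M (f x)) (hinv : ∀ (u : Γ) (x : X), f (u • x) = f x)
    (hfix : ∀ x, (∀ u : Γ, u • x = x) → MemLocalIdeal M (f x)) :
    MemLocalIdeal M (∑ x, f x) := by
  classical
  rw [Finset.sum_partition (MulAction.orbitRel Γ X)]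
  refine memLocalIdeal_sum _ _ (fun xbar _ => ?_)
  induction xbar using Quotient.inductionOn with
  | h x =>
    have hmem : ∀ y, y ∈ Finset.univ.filter (fun y => (⟦y⟧ : Quotient (MulAction.orbitRel Γ X)) = ⟦x⟧) ↔
        y ∈ MulAction.orbit Γ x := by
      intro y
      simp only [Finset.mem_filter, Finset.mem_univ, true_and]
      rw [Quotient.eq]
      exact MulAction.orbitRel_apply
    have hconst : ∀ y ∈ Finset.univ.filter (fun y => (⟦y⟧ : Quotient (MulAction.orbitRel Γ X)) = ⟦x⟧),
        f y = f x := by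
      intro y hy
      obtain ⟨u, rfl⟩ := (hmem y).mp hy
      exact hinv u x
    rw [Finset.sum_congr rfl hconst, Finset.sum_const, nsmul_eq_mul]
    have hcard : (Finset.univ.filter (fun y => (⟦y⟧ : Quotient (MulAction.orbitRel Γ X)) = ⟦x⟧)).card =
        Nat.card (MulAction.orbit Γ x) := by
      rw [Nat.card_eq_fintype_card, ← Set.toFinset_card]
      congr 1
      ext y
      rw [hmem y, Set.mem_toFinset]
    obtain ⟨n, hn⟩ := hΓ.card_orbit x
    rw [hcard, hn]
    cases n with
    | zero =>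
      rw [pow_zero, Nat.cast_one, one_mul]
      apply hfix
      intro u
      have h1 : Nat.card (MulAction.orbit Γ x) = 1 := by rw [hn, pow_zero]
      have hsub : Subsingleton (MulAction.orbit Γ x) := (Nat.card_eq_one_iff_unique.mp h1).1
      have := Subsingleton.elim (⟨u • x, MulAction.mem_orbit x u⟩ : MulAction.orbit Γ x)
        ⟨x, MulAction.mem_orbit_self x⟩
      exact congrArg Subtype.val this
    | succ n =>
      rw [pow_succ, Nat.cast_mul, mul_assoc]
      exact memLocalIdeal_mul_left (memLocalRing_natCast _)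
        (memLocalIdeal_mul_right (memLocalIdeal_prime hpM) (hfS x))

theorem exists_fixed_of_sum_not_memLocalIdeal {p : ℕ} [Fact p.Prime] [M.IsPrime]
    (hpM : (p : AlgInt) ∈ M)
    {Γ X : Type*} [Group Γ] [MulAction Γ X] [Fintype X] (hΓ : IsPGroup p Γ)
    (f : X → ℂ) (hfS : ∀ x, MemLocalRing M (f x)) (hinv : ∀ (u : Γ) (x : X), f (u • x) = f x)
    (hsum : ¬ MemLocalIdeal M (∑ x, f x)) :
    ∃ x, (∀ u : Γ, u • x = x) ∧ ¬ MemLocalIdeal M (f x) := by
  by_contra hcon
  apply hsum
  refine memLocalIdeal_sum_of_pgroup_action hpM hΓ f hfS hinv ?_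
  intro x hx
  by_contra h
  exact hcon ⟨x, hx, h⟩

end PGroupSum

section InvOnBlock

variable {G : Type*} [Group G] [Fintype G] {M : Ideal AlgInt}

theorem inLambda_zero [M.IsPrime] : InLambda (G := G) M (fun _ => 0) :=
  inLambda_const memLocalRing_zero

/-- Polynomial-division step: `∏_{χ ∈ I} (v ψ - v χ) = v ψ * q ψ + ∏_{χ ∈ I} (- v χ)` with `q ∈ Λ`. -/
theorem exists_quotient_inLambda [M.IsPrime] {v : IrrCharacter G → ℂ} (hv : InLambda M v)
    (I : Finset (IrrCharacter G)) :
    ∃ q : IrrCharacter G → ℂ, InLambda M q ∧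
      ∀ ψ, ∏ χ ∈ I, (v ψ - v χ) = v ψ * q ψ + ∏ χ ∈ I, (0 - v χ) := by
  classical
  induction I using Finset.induction_on with
  | empty =>
    exact ⟨fun _ => 0, inLambda_zero, fun ψ => by simp⟩
  | insert a I ha ih =>
    obtain ⟨q, hq, hqe⟩ := ih
    have hcS : MemLocalRing M (∏ χ ∈ I, (0 - v χ)) :=
      memLocalRing_prod _ _ (fun χ _ => memLocalRing_sub memLocalRing_zero (hv.memLocalRing χ))
    refine ⟨fun ψ => (v ψ - v a) * q ψ + ∏ χ ∈ I, (0 - v χ), ?_, ?_⟩
    · exact inLambda_add (inLambda_mul (inLambda_sub hv (inLambda_const (hv.memLocalRing a))) hq)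
        (inLambda_const hcS)
    · intro ψ
      rw [Finset.prod_insert ha, Finset.prod_insert ha, hqe ψ]
      ring

/-- An element of `Λ` which is a unit at every character of the block `B` can be inverted on `B`
inside `Λ`. -/
theorem exists_inv_on_block [M.IsPrime] {v : IrrCharacter G → ℂ} (hv : InLambda M v)
    (B : Set (IrrCharacter G)) (hunit : ∀ χ ∈ B, ¬ MemLocalIdeal M (v χ)) :
    ∃ w : IrrCharacter G → ℂ, InLambda M w ∧ ∀ χ ∈ B, v χ * w χ = 1 := by
  classical
  let I : Finset (IrrCharacter G) := Finset.univ.filter (fun χ => χ ∈ B)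
  obtain ⟨q, hq, hqe⟩ := exists_quotient_inLambda hv I
  set c : ℂ := ∏ χ ∈ I, (0 - v χ) with hc
  have hcS : MemLocalRing M c :=
    memLocalRing_prod _ _ (fun χ _ => memLocalRing_sub memLocalRing_zero (hv.memLocalRing χ))
  have hc_unit : ¬ MemLocalIdeal M c := by
    refine not_memLocalIdeal_prod _ _
      (fun χ _ => memLocalRing_sub memLocalRing_zero (hv.memLocalRing χ)) ?_
    intro χ hχ
    rw [zero_sub]
    have : χ ∈ B := by simpa [I] using hχ
    exact not_memLocalIdeal_neg (hunit χ this)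
  have hc0 : c ≠ 0 := by
    intro h
    rw [h] at hc_unit
    exact hc_unit memLocalIdeal_zero
  refine ⟨fun ψ => (-c⁻¹) * q ψ, inLambda_smul (memLocalRing_neg (memLocalRing_inv hcS hc_unit)) hq, ?_⟩
  intro ψ hψ
  have hψI : ψ ∈ I := by simpa [I] using hψ
  have h0 : ∏ χ ∈ I, (v ψ - v χ) = 0 := Finset.prod_eq_zero hψI (sub_self _)
  have h1 := hqe ψ
  rw [h0] at h1
  -- 0 = v ψ * q ψ + c
  have h2 : v ψ * q ψ = -c := by linear_combination -h1
  show v ψ * (-c⁻¹ * q ψ) = 1
  have : v ψ * (-c⁻¹ * q ψ) = -c⁻¹ * (v ψ * q ψ) := by ring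
  rw [this, h2]
  field_simp

/-- A class function is determined by its `omega`-transform. -/
theorem classFunction_ext_omega {s t : G → ℂ} (hs : IsClassFunction G s) (ht : IsClassFunction G t)
    (h : ∀ χ : IrrCharacter G, omega (χ : G → ℂ) s = omega (χ : G → ℂ) t) : s = t := by
  funext g
  rw [classFunction_eq_sum_omega hs g, classFunction_eq_sum_omega ht g]
  congr 1
  exact Finset.sum_congr rfl (fun χ _ => by rw [h χ])

/-- If the class `k` has unit central character values on the block `B`, the block idempotent is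
divisible by the class sum of `k` in the centre of the local group ring. -/
theorem blockCoeff_eq_conv [M.IsPrime] (χ₀ : IrrCharacter G) (k : G)
    (hk : ∀ χ ∈ blockOf M (χ₀ : G → ℂ), ¬ MemLocalIdeal M (centralChar (χ : G → ℂ) k)) :
    ∃ t : G → ℂ, IsClassFunction G t ∧ (∀ g, MemLocalRing M (t g)) ∧
      blockCoeff (blockOf M (χ₀ : G → ℂ)) = conv (classInd k) t := by
  classical
  obtain ⟨w, hw, hwe⟩ := exists_inv_on_block (inLambda_centralChar (M := M) k)
    (blockOf M (χ₀ : G → ℂ)) hk
  obtain ⟨t, ht, htS, hte⟩ := inLambda_mul hw (inLambda_indicator (M := M) χ₀)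
  refine ⟨t, ht, htS, ?_⟩
  obtain ⟨hb, _, hbo⟩ := osima_strong (M := M) χ₀
  apply classFunction_ext_omega hb (isClassFunction_conv (isClassFunction_classInd k) ht)
  intro χ
  rw [hbo χ, irr_omega_conv χ (isClassFunction_classInd k) ht, ← hte χ,
    omega_classInd _ (irr_isClassFunction χ)]
  by_cases h : SameBlock M (χ₀ : G → ℂ) (χ : G → ℂ)
  · simp only [if_pos h, mul_one]
    exact (hwe χ h).symm
  · simp only [if_neg h, mul_zero]

end InvOnBlock

section Core

variable {G : Type*} [Group G] [Fintype G] {M : Ideal AlgInt}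

/-- Conjugation action of a subgroup on the group. -/
@[reducible] def conjActionOn (P : Subgroup G) : MulAction P G where
  smul u x := (u : G) * x * (u : G)⁻¹
  one_smul x := by
    show ((1 : P) : G) * x * ((1 : P) : G)⁻¹ = x
    simp
  mul_smul u v x := by
    show ((u * v : P) : G) * x * ((u * v : P) : G)⁻¹ = (u : G) * ((v : G) * x * (v : G)⁻¹) * (u : G)⁻¹
    simp [mul_assoc]

/-- The core of the min-max theorem: if the class of `k` has unit central character values on the
block `B`, the block coefficient at `l` is a unit and `P` is a `p`-subgroup centralizing `l`,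
then `P` centralizes some conjugate of `k`. -/
theorem minmax_core {p : ℕ} [Fact p.Prime] [M.IsPrime] (hpM : (p : AlgInt) ∈ M)
    (χ₀ : IrrCharacter G) (k l : G)
    (hk : ∀ χ ∈ blockOf M (χ₀ : G → ℂ), ¬ MemLocalIdeal M (centralChar (χ : G → ℂ) k))
    (hl : ¬ MemLocalIdeal M (blockCoeff (blockOf M (χ₀ : G → ℂ)) l))
    (P : Subgroup G) (hP : IsPGroup p P) (hPl : P ≤ Subgroup.centralizer ({l} : Set G)) :
    ∃ x, IsConj k x ∧ P ≤ Subgroup.centralizer ({x} : Set G) := by
  classical
  obtain ⟨t, ht, htS, hbt⟩ := blockCoeff_eq_conv (M := M) χ₀ k hk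
  rw [hbt] at hl
  let _ := conjActionOn P
  let f : G → ℂ := fun x => classInd k x * t (x⁻¹ * l)
  have hfS : ∀ x, MemLocalRing M (f x) := by
    intro x
    refine memLocalRing_mul ?_ (htS _)
    unfold classInd
    by_cases h : IsConj k x
    · rw [if_pos h]; exact memLocalRing_one
    · rw [if_neg h]; exact memLocalRing_zero
  have hinv : ∀ (u : P) (x : G), f (u • x) = f x := by
    intro u x
    show classInd k ((u : G) * x * (u : G)⁻¹) * t (((u : G) * x * (u : G)⁻¹)⁻¹ * l) =
      classInd k x * t (x⁻¹ * l)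
    rw [isClassFunction_classInd k x (u : G)]
    congr 1
    have hu := hPl u.2
    rw [Subgroup.mem_centralizer_singleton_iff] at hu
    have : ((u : G) * x * (u : G)⁻¹)⁻¹ * l = (u : G) * (x⁻¹ * l) * (u : G)⁻¹ := by
      have h2 : (u : G)⁻¹ * l = l * (u : G)⁻¹ := by
        have := congrArg (fun z => (u : G)⁻¹ * z * (u : G)⁻¹) hu
        simpa [mul_assoc] using this.symm
      calc ((u : G) * x * (u : G)⁻¹)⁻¹ * l = (u : G) * x⁻¹ * ((u : G)⁻¹ * l) := by
            simp [mul_assoc]
        _ = (u : G) * x⁻¹ * (l * (u : G)⁻¹) := by rw [h2]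
        _ = (u : G) * (x⁻¹ * l) * (u : G)⁻¹ := by simp [mul_assoc]
    rw [this]
    exact ht _ _
  have hsum : ¬ MemLocalIdeal M (∑ x, f x) := hl
  obtain ⟨x, hxfix, hx⟩ := exists_fixed_of_sum_not_memLocalIdeal hpM hP f hfS hinv hsum
  refine ⟨x, ?_, ?_⟩
  · by_contra hcon
    apply hx
    have : f x = 0 := by
      show classInd k x * t (x⁻¹ * l) = 0
      unfold classInd
      rw [if_neg hcon, zero_mul]
    rw [this]
    exact memLocalIdeal_zero
  · intro u hu
    rw [Subgroup.mem_centralizer_singleton_iff]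
    have h1 : u * x * u⁻¹ = x := hxfix ⟨u, hu⟩
    calc u * x = u * x * u⁻¹ * u := by simp
      _ = x * u := by rw [h1]

end Core

end Cfsg.Agent.Helper16
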