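import Cfsg.Agent.Helper16.SecondMain
import Cfsg.Agent.Helper16.BlockPart
import Cfsg.Agent.Helper79.ClassMult
import Cfsg.Agent.Helper78.BrauerHom

/-!
# Brauer's second main theorem, character form
-/

set_option autoImplicit false
set_option linter.unusedSectionVars false
set_option linter.unusedVariables false

namespace Cfsg.Agent.Helper16

open Cfsg
open scoped ComplexConjugate

section BP

variable {G : Type*} [Group G] [Fintype G]

/-- The `B`-part of a class function, in terms of the block idempotent. -/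
theorem blockPart_eq_sum_blockCoeff_mul (B : Set (IrrCharacter G)) {ϑ : G → ℂ}
    (hϑ : IsClassFunction G ϑ) (g : G) :
    blockPart B ϑ g = ∑ k : G, blockCoeff B k * ϑ (k * g) := by
  classical
  rw [blockPart_eq_sum]
  simp_rw [blockCoeff_eq_sum]
  unfold classInner
  -- the key identity for each irreducible character
  have key : ∀ χ : IrrCharacter G,
      ∑ k : G, (χ : G → ℂ) 1 * conj ((χ : G → ℂ) k) * ϑ (k * g) =
        (∑ t : G, ϑ t * conj ((χ : G → ℂ) t)) * (χ : G → ℂ) g := by
    intro χ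
    have hinvcl : IsClassFunction G (fun s => ϑ s⁻¹) := by
      intro s t
      show ϑ (t * s * t⁻¹)⁻¹ = ϑ s⁻¹
      have : (t * s * t⁻¹)⁻¹ = t * s⁻¹ * t⁻¹ := by group
      rw [this]
      exact hϑ s⁻¹ t
    have h1 := irr_sum_mul_eq_omega χ hinvcl g
    -- h1 : ∑ x, ϑ x⁻¹ * χ (x g) = ω_χ(ϑ∘inv) χ g
    have h2 : ∑ k : G, (χ : G → ℂ) 1 * conj ((χ : G → ℂ) k) * ϑ (k * g) =
        (χ : G → ℂ) 1 * ∑ x : G, ϑ x⁻¹ * (χ : G → ℂ) (x * g) := by
      rw [Finset.mul_sum]
      refine Fintype.sum_equiv ((Equiv.mulRight g).trans (Equiv.inv G)) _ _ (fun k => ?_)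
      simp only [Equiv.trans_apply, Equiv.coe_mulRight, Equiv.inv_apply, inv_inv]
      have h3 : (χ : G → ℂ) ((k * g)⁻¹ * g) = conj ((χ : G → ℂ) k) := by
        have e1 : (k * g)⁻¹ * g = g⁻¹ * k⁻¹ * g⁻¹⁻¹ := by group
        rw [e1, irr_isClassFunction χ k⁻¹ g⁻¹, Helper79.irr_inv]
      rw [h3]
      ring
    rw [h2, h1]
    unfold omega
    have hne := irr_one_ne_zero χ
    have h4 : ∑ x : G, (fun s => ϑ s⁻¹) x * (χ : G → ℂ) x =
        ∑ t : G, ϑ t * conj ((χ : G → ℂ) t) := by
      refine Fintype.sum_equiv (Equiv.inv G) _ _ (fun x => ?_)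
      simp only [Equiv.inv_apply]
      rw [← Helper79.irr_inv, inv_inv]
    rw [h4]
    field_simp
  calc ∑ χ : IrrCharacter G, (if χ ∈ B then (1 : ℂ) else 0) *
        (((Nat.card G : ℂ)⁻¹ * ∑ t : G, ϑ t * conj ((χ : G → ℂ) t)) * (χ : G → ℂ) g)
      = ∑ χ : IrrCharacter G, (Nat.card G : ℂ)⁻¹ * ((if χ ∈ B then (1 : ℂ) else 0) *
          ∑ k : G, (χ : G → ℂ) 1 * conj ((χ : G → ℂ) k) * ϑ (k * g)) := by
        refine Finset.sum_congr rfl (fun χ _ => ?_)
        rw [key χ]
        ring
    _ = ∑ k : G, (Nat.card G : ℂ)⁻¹ * (∑ χ : IrrCharacter G,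
          (if χ ∈ B then (1 : ℂ) else 0) * (χ : G → ℂ) 1 * conj ((χ : G → ℂ) k)) * ϑ (k * g) := by
        simp_rw [Finset.mul_sum, Finset.sum_mul]
        rw [Finset.sum_comm]
        refine Finset.sum_congr rfl (fun k _ => ?_)
        refine Finset.sum_congr rfl (fun χ _ => ?_)
        ring

end BP

section SM

variable {G : Type*} [Group G] [Fintype G] {M : Ideal AlgInt} {p : ℕ}

/-- For a `p`-element `x`, every block of `C_G(x)` induces a block of `G`. -/
theorem inducedBlockDefined_centralizer [Fact p.Prime] (hM : IsPModular p M) (x : G)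
    (hx : ∃ k : ℕ, orderOf x = p ^ k)
    (b : Set (IrrCharacter (Subgroup.centralizer ({x} : Set G)))) (hb : IsPBlock M b) :
    InducedBlockDefined M (Subgroup.centralizer ({x} : Set G)) b := by
  classical
  have hP : IsPGroup p (Subgroup.zpowers x) := by
    obtain ⟨k, hk⟩ := hx
    apply IsPGroup.of_card (n := k)
    rw [Nat.card_zpowers, hk]
  have hPH : Subgroup.zpowers x ≤ Subgroup.centralizer ({x} : Set G) := by
    rw [Subgroup.zpowers_le]
    rw [Subgroup.mem_centralizer_iff]
    intro t ht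
    rw [Set.mem_singleton_iff] at ht
    rw [ht]
  have hCH : Subgroup.centralizer ((Subgroup.zpowers x : Subgroup G) : Set G) ≤
      Subgroup.centralizer ({x} : Set G) := by
    apply Subgroup.centralizer_le
    intro t ht
    rw [Set.mem_singleton_iff] at ht
    rw [ht]
    exact Subgroup.mem_zpowers x
  have hHN : Subgroup.centralizer ({x} : Set G) ≤
      Subgroup.normalizer ((Subgroup.zpowers x : Subgroup G) : Set G) := by
    intro c hc
    have hcx : x * c = c * x := by
      rw [Subgroup.mem_centralizer_iff] at hc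
      exact hc x (Set.mem_singleton x)
    have hcz : ∀ t ∈ Subgroup.zpowers x, c * t * c⁻¹ = t := by
      intro t ht
      obtain ⟨n, rfl⟩ := Subgroup.mem_zpowers_iff.mp ht
      have : Commute c (x ^ n) := (Commute.zpow_right (show Commute c x from hcx.symm) n)
      rw [this.eq, mul_inv_cancel_right]
    rw [Subgroup.mem_normalizer_iff]
    intro t
    constructor
    · intro ht
      rw [hcz t ht]; exact ht
    · intro ht
      have h1 : c⁻¹ * (c * t * c⁻¹) * c = t := by group
      have h2 : c⁻¹ * (c * t * c⁻¹) * c = c * t * c⁻¹ := by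
        have := hcz _ ht
        -- c * (c t c⁻¹) * c⁻¹ = c t c⁻¹, so c⁻¹ (c t c⁻¹) c = c t c⁻¹
        calc c⁻¹ * (c * t * c⁻¹) * c = c⁻¹ * (c * (c * t * c⁻¹) * c⁻¹) * c := by rw [this]
          _ = c * t * c⁻¹ := by group
      rw [← h1, h2]; exact ht
  exact Helper78.inducedBlockDefined_of_le_normalizer hM hP hPH hCH hHN b hb

/-- **Brauer's second main theorem**, character form. -/
theorem second_main_character [Fact p.Prime] (hM : IsPModular p M) (x : G)
    (hx : ∃ k : ℕ, orderOf x = p ^ k) {B : Set (IrrCharacter G)} (hB : IsPBlock M B)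
    (χ : IrrCharacter G) (hχ : χ ∈ B)
    (b : Set (IrrCharacter (Subgroup.centralizer ({x} : Set G)))) (hb : IsPBlock M b)
    (hnot : ¬ IsInducedBlock M (Subgroup.centralizer ({x} : Set G)) b B)
    (y : Subgroup.centralizer ({x} : Set G)) (hy : ¬ p ∣ orderOf y) :
    blockPart b (fun c : Subgroup.centralizer ({x} : Set G) => (χ : G → ℂ) (x * (c : G))) y = 0 := by
  classical
  haveI hMp : M.IsPrime := IsPModular.isPrime hM
  haveI : Fintype (Subgroup.centralizer ({x} : Set G)) := Fintype.ofFinite _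
  obtain ⟨B₁, hind⟩ := inducedBlockDefined_centralizer hM x hx b hb
  have hχ₁ : χ ∉ B₁ := by
    intro h1
    apply hnot
    rw [Helper78.isPBlock_eq_of_mem_of_mem hMp hB hind.2.1 hχ h1]
    exact hind
  have hcomm : ∀ c : Subgroup.centralizer ({x} : Set G), x * (c : G) = (c : G) * x := by
    intro c
    have := c.2
    rw [Subgroup.mem_centralizer_iff] at this
    exact this x (Set.mem_singleton x)
  have hxC : x ∈ Subgroup.centralizer ({x} : Set G) := by
    rw [Subgroup.mem_centralizer_iff]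
    intro t ht
    rw [Set.mem_singleton_iff] at ht
    rw [ht]
  have hcl : IsClassFunction (Subgroup.centralizer ({x} : Set G))
      (fun c : Subgroup.centralizer ({x} : Set G) => (χ : G → ℂ) (x * (c : G))) := by
    intro c t
    show (χ : G → ℂ) (x * ((t * c * t⁻¹ : Subgroup.centralizer ({x} : Set G)) : G)) =
      (χ : G → ℂ) (x * (c : G))
    rw [Subgroup.coe_mul, Subgroup.coe_mul, Subgroup.coe_inv]
    have e1 : x * ((t : G) * (c : G) * (t : G)⁻¹) = (t : G) * (x * (c : G)) * (t : G)⁻¹ := by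
      rw [← mul_assoc, ← mul_assoc, hcomm t]
      simp only [mul_assoc]
    rw [e1]
    exact irr_isClassFunction χ _ _
  rw [blockPart_eq_sum_blockCoeff_mul b hcl y]
  have hπ : IsPPart p (((⟨x, hxC⟩ : Subgroup.centralizer ({x} : Set G)) * y :
      Subgroup.centralizer ({x} : Set G)) : G) x := by
    refine ⟨(y : G), ?_, hcomm y, hx, ?_⟩
    · rw [Subgroup.coe_mul]
    · rw [Subgroup.orderOf_coe]; exact hy
  have key := second_main_idempotent hM (Subgroup.centralizer ({x} : Set G)) hind
    ((⟨x, hxC⟩ : Subgroup.centralizer ({x} : Set G)) * y) hπ le_rfl χ hχ₁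
  rw [← key]
  refine Finset.sum_congr rfl (fun k _ => ?_)
  congr 1
  show (χ : G → ℂ) (x * ((k * y : Subgroup.centralizer ({x} : Set G)) : G)) = _
  rw [Subgroup.coe_mul, Subgroup.coe_mul, ← mul_assoc, hcomm k, mul_assoc]

end SM

end Cfsg.Agent.Helper16
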