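import Cfsg.Agent.Helper16.PrincipalNorm
import Cfsg.Agent.Helper77.BlockRank

/-!
# Brauer's count of the characters of a block by subsections
-/

set_option autoImplicit false
set_option linter.unusedSectionVars false
set_option linter.unusedVariables false

namespace Cfsg.Agent.Helper16

open Cfsg
open scoped ComplexConjugate

section SC

variable {G : Type*} [Group G] [Fintype G] {M : Ideal AlgInt} {p : ℕ}

open Classical in
/-- The `B`-part of a class function at `z y` is the sum of its `b`-components over the blocks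
`b` of `C_G(z)` inducing `B`. -/
theorem blockPart_shift_general [Fact p.Prime] (hM : IsPModular p M) (z : G)
    (hz : ∃ k : ℕ, orderOf z = p ^ k) [Fintype (Subgroup.centralizer ({z} : Set G))]
    {B : Set (IrrCharacter G)} (hB : IsPBlock M B)
    {θ : G → ℂ} (hθ : IsClassFunction G θ)
    (y : Subgroup.centralizer ({z} : Set G)) (hy : ¬ p ∣ orderOf y) :
    blockPart B θ (z * (y : G)) =
      ∑ b ∈ (Helper77.blocksFinset M (Subgroup.centralizer ({z} : Set G))).filter
        (fun b => IsInducedBlock M (Subgroup.centralizer ({z} : Set G)) b B),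
        shiftPart z b θ y := by
  haveI hMp : M.IsPrime := IsPModular.isPrime hM
  rw [← sum_shiftPart (M := M) z (blockPart B θ) y, Finset.sum_filter]
  refine Finset.sum_congr rfl (fun b hb => ?_)
  rw [Helper77.mem_blocksFinset] at hb
  by_cases hind : IsInducedBlock M (Subgroup.centralizer ({z} : Set G)) b B
  · rw [if_pos hind]
    have e0 : (fun u => ∑ B' ∈ Helper77.blocksFinset M G, blockPart B' θ u) = θ := by
      funext u
      exact sum_blockPart_eq (M := M) hθ u
    have e1 : shiftPart z b θ y =
        ∑ B' ∈ Helper77.blocksFinset M G, shiftPart z b (blockPart B' θ) y := by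
      rw [← shiftPart_sum, e0]
    have e2 : ∑ B' ∈ Helper77.blocksFinset M G, shiftPart z b (blockPart B' θ) y =
        shiftPart z b (blockPart B θ) y := by
      apply Finset.sum_eq_single B
      · intro B' hB' hne
        rw [Helper77.mem_blocksFinset] at hB'
        refine shiftPart_blockPart_eq_zero hM z hz hB' θ b hb ?_ y hy
        intro hind'
        exact hne (Helper77.isInducedBlock_unique _ hind' hind)
      · intro hBn
        exact absurd (Helper77.mem_blocksFinset.mpr hB) hBn
    rw [← e2, ← e1]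
  · rw [if_neg hind]
    exact shiftPart_blockPart_eq_zero hM z hz hB θ b hb hind y hy

/-- The `b`-component of the class indicator of `z y` at `y`. -/
theorem shiftPart_classInd [Fact p.Prime] (hM : IsPModular p M) (z : G)
    (hz : ∃ k : ℕ, orderOf z = p ^ k) [Fintype (Subgroup.centralizer ({z} : Set G))]
    {b : Set (IrrCharacter (Subgroup.centralizer ({z} : Set G)))} (hb : IsPBlock M b)
    (y : Subgroup.centralizer ({z} : Set G)) (hy : ¬ p ∣ orderOf y) :
    shiftPart z b (classInd (z * (y : G))) y = blockPart b (classInd y) y := by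
  classical
  have hθ := isClassFunction_classInd (z * (y : G))
  have hC : shiftPart z b (classInd (z * (y : G))) y =
      blockPart b (fun c : Subgroup.centralizer ({z} : Set G) =>
        classInd (z * (y : G)) (z * (c : G))) y := by
    rw [shiftPart_def, ← blockPart_eq_sum_blockCoeff_mul b (isClassFunction_shift' hθ z) y]
  have hD : blockPart b (fun c : Subgroup.centralizer ({z} : Set G) =>
        classInd (z * (y : G)) (z * (c : G))) y = blockPart b (classInd y) y := by
    have hd := blockPart_eq_zero_of_vanish_pRegular hM hb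
      ((fun c : Subgroup.centralizer ({z} : Set G) => classInd (z * (y : G)) (z * (c : G))) -
        classInd y) (by
        intro c hc
        rw [Pi.sub_apply]
        unfold classInd
        have := isConj_mul_iff z hz y c hy hc
        by_cases hyc : IsConj y c
        · rw [if_pos hyc, if_pos (this.mpr hyc), sub_self]
        · rw [if_neg hyc, if_neg (fun h => hyc (this.mp h)), sub_self]) y hy
    rw [blockPart_sub] at hd
    exact sub_eq_zero.mp hd
  rw [hC, hD]

open Classical in
/-- **Block norm sums on a `p`-section.** -/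
theorem block_norm_sum_eq [Fact p.Prime] (hM : IsPModular p M) (z : G)
    (hz : ∃ k : ℕ, orderOf z = p ^ k) [Fintype (Subgroup.centralizer ({z} : Set G))]
    {B : Set (IrrCharacter G)} (hB : IsPBlock M B)
    (y : Subgroup.centralizer ({z} : Set G)) (hy : ¬ p ∣ orderOf y) :
    ∑ ζ : IrrCharacter G, (if ζ ∈ B then (1 : ℂ) else 0) *
      ((ζ : G → ℂ) (z * (y : G)) * conj ((ζ : G → ℂ) (z * (y : G)))) =
    ∑ b ∈ (Helper77.blocksFinset M (Subgroup.centralizer ({z} : Set G))).filter
        (fun b => IsInducedBlock M (Subgroup.centralizer ({z} : Set G)) b B),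
      ∑ χ : IrrCharacter (Subgroup.centralizer ({z} : Set G)),
        (if χ ∈ b then (1 : ℂ) else 0) *
        ((χ : Subgroup.centralizer ({z} : Set G) → ℂ) y *
          conj ((χ : Subgroup.centralizer ({z} : Set G) → ℂ) y)) := by
  haveI hMp : M.IsPrime := IsPModular.isPrime hM
  have hθ := isClassFunction_classInd (z * (y : G))
  have h1 := blockPart_shift_general hM z hz hB hθ y hy
  have h2 : ∀ b ∈ (Helper77.blocksFinset M (Subgroup.centralizer ({z} : Set G))).filter
        (fun b => IsInducedBlock M (Subgroup.centralizer ({z} : Set G)) b B),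
      shiftPart z b (classInd (z * (y : G))) y =
      (Nat.card (Subgroup.centralizer ({y} : Set (Subgroup.centralizer ({z} : Set G)))) : ℂ)⁻¹ *
        ∑ χ : IrrCharacter (Subgroup.centralizer ({z} : Set G)),
        (if χ ∈ b then (1 : ℂ) else 0) *
        ((χ : Subgroup.centralizer ({z} : Set G) → ℂ) y *
          conj ((χ : Subgroup.centralizer ({z} : Set G) → ℂ) y)) := by
    intro b hb
    rw [Finset.mem_filter, Helper77.mem_blocksFinset] at hb
    rw [shiftPart_classInd hM z hz hb.1 y hy, blockPart_classInd]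
  rw [Finset.sum_congr rfl h2, ← Finset.mul_sum, blockPart_classInd,
    card_centralizer_mul z hz y hy] at h1
  have hc : (Nat.card (Subgroup.centralizer ({y} : Set (Subgroup.centralizer ({z} : Set G)))) : ℂ)⁻¹
      ≠ 0 := by
    apply inv_ne_zero
    have : 0 < Nat.card (Subgroup.centralizer ({y} : Set (Subgroup.centralizer ({z} : Set G)))) :=
      Nat.card_pos
    exact_mod_cast this.ne'
  exact mul_left_cancel₀ hc h1

end SC

section Partition

variable {G : Type*} [Group G] [Fintype G] {p : ℕ}

/-- The `p`-part of an element. -/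
noncomputable def pPartOf (p : ℕ) [hp : Fact p.Prime] (g : G) : G :=
  Classical.choose (exists_isPPart p hp.out g)

theorem pPartOf_spec [hp : Fact p.Prime] (g : G) : IsPPart p g (pPartOf p g) :=
  Classical.choose_spec (exists_isPPart p hp.out g)

theorem pPartOf_eq_iff [hp : Fact p.Prime] (g z : G) : pPartOf p g = z ↔ IsPPart p g z := by
  constructor
  · rintro rfl
    exact pPartOf_spec g
  · intro h
    exact isPPart_unique hp.out (pPartOf_spec g) h

theorem pPartOf_conj [hp : Fact p.Prime] (g t : G) :
    pPartOf p (t * g * t⁻¹) = t * pPartOf p g * t⁻¹ := by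
  rw [pPartOf_eq_iff]
  exact Helper78.isPPart_conj (pPartOf_spec g) t

theorem pPartOf_orderOf [hp : Fact p.Prime] (g : G) : ∃ k : ℕ, orderOf (pPartOf p g) = p ^ k := by
  obtain ⟨_, _, _, h, _⟩ := pPartOf_spec (p := p) g
  exact h

open Classical in
/-- Class sums of a class function. -/
theorem sum_isConj_eq (h : G) {ψ : G → ℂ} (hψ : IsClassFunction G ψ) :
    ∑ g : G, (if IsConj h g then ψ g else 0) =
      (Nat.card G : ℂ) * (Nat.card (Subgroup.centralizer ({h} : Set G)) : ℂ)⁻¹ * ψ h := by
  have hψ' : IsClassFunction G (fun g => conj (ψ g)) := by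
    intro x t
    show conj (ψ (t * x * t⁻¹)) = conj (ψ x)
    rw [hψ x t]
  have h1 := Helper79.classInner_indicator_class h hψ'
  unfold classInner at h1
  have hcard : (Nat.card G : ℂ) ≠ 0 := Helper79.card_ne_zero_complex
  have h2 : ∑ g : G, (if IsConj h g then (1 : ℂ) else 0) * conj (conj (ψ g)) =
      ∑ g : G, (if IsConj h g then ψ g else 0) := by
    refine Finset.sum_congr rfl (fun g _ => ?_)
    rw [Complex.conj_conj]
    by_cases hc : IsConj h g
    · rw [if_pos hc, if_pos hc, one_mul]
    · rw [if_neg hc, if_neg hc, zero_mul]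
  rw [h2, Complex.conj_conj] at h1
  rw [mul_assoc, ← h1, ← mul_assoc, mul_inv_cancel₀ hcard, one_mul]

open Classical in
/-- The sum of a class function over the elements with `p`-part `x`. -/
theorem sum_pPartOf_eq [hp : Fact p.Prime] (x : G) (hx : ∃ k : ℕ, orderOf x = p ^ k)
    [Fintype (Subgroup.centralizer ({x} : Set G))] (F : G → ℂ) :
    ∑ g : G, (if pPartOf p g = x then F g else 0) =
      ∑ y : Subgroup.centralizer ({x} : Set G),
        (if ¬ p ∣ orderOf y then F (x * (y : G)) else 0) := by
  rw [← Finset.sum_filter, ← Finset.sum_filter]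
  symm
  refine Finset.sum_bij (fun y _ => x * (y : G)) ?_ ?_ ?_ ?_
  · intro y hy
    rw [Finset.mem_filter] at hy ⊢
    refine ⟨Finset.mem_univ _, ?_⟩
    rw [pPartOf_eq_iff]
    refine ⟨(y : G), rfl, ?_, hx, ?_⟩
    · have := y.2
      rw [Subgroup.mem_centralizer_iff] at this
      exact this x (Set.mem_singleton x)
    · rw [Subgroup.orderOf_coe]; exact hy.2
  · intro y₁ _ y₂ _ h
    exact Subtype.ext (mul_left_cancel h)
  · intro g hg
    rw [Finset.mem_filter, pPartOf_eq_iff] at hg
    obtain ⟨w, hxw, hcomm, -, hw⟩ := hg.2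
    have hwC : w ∈ Subgroup.centralizer ({x} : Set G) := by
      rw [Subgroup.mem_centralizer_iff]
      intro s hs
      rw [Set.mem_singleton_iff] at hs
      rw [hs]
      exact hcomm.eq
    refine ⟨⟨w, hwC⟩, ?_, hxw⟩
    rw [Finset.mem_filter]
    refine ⟨Finset.mem_univ _, ?_⟩
    rw [← Subgroup.orderOf_coe]
    exact hw
  · intro y _
    rfl

open Classical in
/-- **Partition of a class-function sum into `p`-sections.** -/
theorem sum_eq_sum_pSections [hp : Fact p.Prime] [∀ x : G, Fintype (Subgroup.centralizer ({x} : Set G))]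
    (X : Finset G)
    (hX : ∀ x ∈ X, ∃ k : ℕ, orderOf x = p ^ k)
    (hXrep : ∀ g : G, (∃ k : ℕ, orderOf g = p ^ k) → ∃! x, x ∈ X ∧ IsConj g x)
    {F : G → ℂ} (hF : IsClassFunction G F) :
    ∑ g : G, F g = ∑ x ∈ X, (Nat.card G : ℂ) *
      (Nat.card (Subgroup.centralizer ({x} : Set G)) : ℂ)⁻¹ *
      ∑ y : Subgroup.centralizer ({x} : Set G),
        (if ¬ p ∣ orderOf y then F (x * (y : G)) else 0) := by
  set ψ : G → ℂ := fun z => ∑ g : G, (if pPartOf p g = z then F g else 0) with hψdef
  have hψ : IsClassFunction G ψ := by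
    intro z t
    show ∑ g : G, (if pPartOf p g = t * z * t⁻¹ then F g else 0) =
      ∑ g : G, (if pPartOf p g = z then F g else 0)
    rw [← Equiv.sum_comp (MulAut.conj t).toEquiv]
    refine Finset.sum_congr rfl (fun g _ => ?_)
    show (if pPartOf p (t * g * t⁻¹) = t * z * t⁻¹ then F (t * g * t⁻¹) else 0) = _
    rw [pPartOf_conj, hF g t]
    have : t * pPartOf p g * t⁻¹ = t * z * t⁻¹ ↔ pPartOf p g = z := by
      constructor
      · intro h
        exact mul_left_cancel (mul_right_cancel h)
      · intro h; rw [h]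
    simp only [this]
  -- each section
  have hsec : ∀ x ∈ X, (Nat.card G : ℂ) *
      (Nat.card (Subgroup.centralizer ({x} : Set G)) : ℂ)⁻¹ *
      ∑ y : Subgroup.centralizer ({x} : Set G),
        (if ¬ p ∣ orderOf y then F (x * (y : G)) else 0) =
      ∑ g : G, (if IsConj x (pPartOf p g) then F g else 0) := by
    intro x hx
    rw [← sum_pPartOf_eq x (hX x hx) F, ← sum_isConj_eq x hψ]
    show ∑ z : G, (if IsConj x z then ∑ g : G, (if pPartOf p g = z then F g else 0) else 0) = _
    have h1 : ∀ z : G, (if IsConj x z then ∑ g : G, (if pPartOf p g = z then F g else 0) else 0) =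
        ∑ g : G, (if pPartOf p g = z then (if IsConj x (pPartOf p g) then F g else 0) else 0) := by
      intro z
      by_cases hc : IsConj x z
      · rw [if_pos hc]
        refine Finset.sum_congr rfl (fun g _ => ?_)
        by_cases hg : pPartOf p g = z
        · rw [if_pos hg, if_pos hg, hg, if_pos hc]
        · rw [if_neg hg, if_neg hg]
      · rw [if_neg hc]
        symm
        refine Finset.sum_eq_zero (fun g _ => ?_)
        by_cases hg : pPartOf p g = z
        · rw [if_pos hg, hg, if_neg hc]
        · rw [if_neg hg]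
    rw [Finset.sum_congr rfl (fun z _ => h1 z), Finset.sum_comm]
    refine Finset.sum_congr rfl (fun g _ => ?_)
    rw [Finset.sum_ite_eq Finset.univ (pPartOf p g), if_pos (Finset.mem_univ _)]
  rw [Finset.sum_congr rfl hsec, Finset.sum_comm]
  refine Finset.sum_congr rfl (fun g _ => ?_)
  obtain ⟨x₀, ⟨hx₀X, hx₀c⟩, huniq⟩ := hXrep (pPartOf p g) (pPartOf_orderOf g)
  rw [Finset.sum_eq_single x₀]
  · rw [if_pos hx₀c.symm]
  · intro x hxX hne
    rw [if_neg]
    intro hc
    exact hne (huniq x ⟨hxX, hc.symm⟩)
  · intro h; exact absurd hx₀X h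

end Partition

section Count

variable {G : Type*} [Group G] [Fintype G] {M : Ideal AlgInt} {p : ℕ}

open Classical in
theorem sum_boole_block (B : Set (IrrCharacter G)) :
    ∑ ζ : IrrCharacter G, (if ζ ∈ B then (1 : ℂ) else 0) = (Nat.card B : ℂ) := by
  rw [Finset.sum_boole]
  congr 1
  rw [Nat.card_eq_fintype_card, Fintype.card_subtype]

open Classical in
/-- **Brauer's count of `k(B)` by subsections** (complex, finset form). -/
theorem card_block_eq_sum_blockRank [Fact p.Prime]
    [∀ x : G, Fintype (Subgroup.centralizer ({x} : Set G))]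
    (hM : IsPModular p M) {B : Set (IrrCharacter G)} (hB : IsPBlock M B) (X : Finset G)
    (hX : ∀ x ∈ X, ∃ k : ℕ, orderOf x = p ^ k)
    (hXrep : ∀ g : G, (∃ k : ℕ, orderOf g = p ^ k) → ∃! x, x ∈ X ∧ IsConj g x) :
    (Nat.card B : ℂ) = ∑ x ∈ X,
      ∑ b ∈ (Helper77.blocksFinset M (Subgroup.centralizer ({x} : Set G))).filter
        (fun b => IsInducedBlock M (Subgroup.centralizer ({x} : Set G)) b B),
        (blockRank p b : ℂ) := by
  haveI hMp : M.IsPrime := IsPModular.isPrime hM
  have hcard : (Nat.card G : ℂ) ≠ 0 := Helper79.card_ne_zero_complex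
  set N : G → ℂ := fun g => ∑ ζ : IrrCharacter G, (if ζ ∈ B then (1 : ℂ) else 0) *
    ((ζ : G → ℂ) g * conj ((ζ : G → ℂ) g)) with hN
  have hNcl : IsClassFunction G N := by
    intro g t
    show ∑ ζ : IrrCharacter G, (if ζ ∈ B then (1 : ℂ) else 0) *
      ((ζ : G → ℂ) (t * g * t⁻¹) * conj ((ζ : G → ℂ) (t * g * t⁻¹))) =
      ∑ ζ : IrrCharacter G, (if ζ ∈ B then (1 : ℂ) else 0) *
      ((ζ : G → ℂ) g * conj ((ζ : G → ℂ) g))
    refine Finset.sum_congr rfl (fun ζ _ => ?_)
    rw [irr_isClassFunction ζ g t]
  have h1 : ∑ g : G, N g = (Nat.card G : ℂ) * (Nat.card B : ℂ) := by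
    show ∑ g : G, ∑ ζ : IrrCharacter G, (if ζ ∈ B then (1 : ℂ) else 0) *
      ((ζ : G → ℂ) g * conj ((ζ : G → ℂ) g)) = _
    rw [Finset.sum_comm]
    have h0 : ∀ ζ : IrrCharacter G, ∑ g : G, (if ζ ∈ B then (1 : ℂ) else 0) *
        ((ζ : G → ℂ) g * conj ((ζ : G → ℂ) g)) =
        (if ζ ∈ B then (1 : ℂ) else 0) * (Nat.card G : ℂ) := by
      intro ζ
      rw [← Finset.mul_sum]
      congr 1
      have := Helper79.classInner_irr_self ζ
      unfold classInner at this
      calc ∑ g : G, (ζ : G → ℂ) g * conj ((ζ : G → ℂ) g)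
          = (Nat.card G : ℂ) * ((Nat.card G : ℂ)⁻¹ *
            ∑ g : G, (ζ : G → ℂ) g * conj ((ζ : G → ℂ) g)) := by
            rw [← mul_assoc, mul_inv_cancel₀ hcard, one_mul]
        _ = (Nat.card G : ℂ) := by rw [this, mul_one]
    rw [Finset.sum_congr rfl (fun ζ _ => h0 ζ), ← Finset.sum_mul, mul_comm, sum_boole_block]
  have h2 := sum_eq_sum_pSections X hX hXrep hNcl
  rw [h1] at h2
  have h3 : ∀ x ∈ X, (Nat.card G : ℂ) *
      (Nat.card (Subgroup.centralizer ({x} : Set G)) : ℂ)⁻¹ *
      ∑ y : Subgroup.centralizer ({x} : Set G),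
        (if ¬ p ∣ orderOf y then N (x * (y : G)) else 0) =
      (Nat.card G : ℂ) *
      ∑ b ∈ (Helper77.blocksFinset M (Subgroup.centralizer ({x} : Set G))).filter
        (fun b => IsInducedBlock M (Subgroup.centralizer ({x} : Set G)) b B),
        (blockRank p b : ℂ) := by
    intro x hx
    have hCx : (Nat.card (Subgroup.centralizer ({x} : Set G)) : ℂ) ≠ 0 :=
      Helper79.card_ne_zero_complex
    rw [mul_assoc]
    congr 1
    have h4 : ∀ y : Subgroup.centralizer ({x} : Set G),
        (if ¬ p ∣ orderOf y then N (x * (y : G)) else 0) =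
        ∑ b ∈ (Helper77.blocksFinset M (Subgroup.centralizer ({x} : Set G))).filter
          (fun b => IsInducedBlock M (Subgroup.centralizer ({x} : Set G)) b B),
          ∑ᶠ χ ∈ b, pRegularPart p (χ : Subgroup.centralizer ({x} : Set G) → ℂ) y *
            (χ : Subgroup.centralizer ({x} : Set G) → ℂ) y⁻¹ := by
      intro y
      by_cases hy : p ∣ orderOf y
      · rw [if_neg (not_not.mpr hy)]
        symm
        refine Finset.sum_eq_zero (fun b _ => ?_)
        simp only [Helper77.pRegularPart_of_sing hy, zero_mul]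
        exact finsum_mem_zero (M := ℂ) _
      · rw [if_pos hy]
        show ∑ ζ : IrrCharacter G, (if ζ ∈ B then (1 : ℂ) else 0) *
          ((ζ : G → ℂ) (x * (y : G)) * conj ((ζ : G → ℂ) (x * (y : G)))) = _
        rw [block_norm_sum_eq hM x (hX x hx) hB y hy]
        refine Finset.sum_congr rfl (fun b _ => ?_)
        rw [finsum_mem_def, finsum_eq_sum_of_fintype]
        refine Finset.sum_congr rfl (fun χ _ => ?_)
        rw [Set.indicator_apply]
        by_cases hχ : χ ∈ b
        · rw [if_pos hχ, if_pos hχ, one_mul, Helper77.pRegularPart_of_reg hy, Helper79.irr_inv]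
        · rw [if_neg hχ, if_neg hχ, zero_mul]
    rw [Finset.sum_congr rfl (fun y _ => h4 y), Finset.sum_comm, Finset.mul_sum]
    refine Finset.sum_congr rfl (fun b hb => ?_)
    rw [Finset.mem_filter, Helper77.mem_blocksFinset] at hb
    rw [← Helper77.blockRank_formula hM hb.1, ← mul_assoc, inv_mul_cancel₀ hCx, one_mul]
  rw [Finset.sum_congr rfl h3, ← Finset.mul_sum] at h2
  exact mul_left_cancel₀ hcard h2

end Count

end Cfsg.Agent.Helper16
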