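import Cfsg.Agent.Helper78.IrrTransport
import Cfsg.Prelude.Def_Characters

/-!
# The action of `N_G(H)` on the irreducible characters of a subgroup `H`

`nconj H g θ c = θ (g⁻¹ c g)` (extended by zero), and for `g ∈ N_G(H)` this is an irreducible
character of `H` when `θ` is.  This gives a `MulAction (normalizer H) (IrrCharacter H)`.
-/

set_option autoImplicit false

namespace Cfsg.Agent.Helper16

open Cfsg

universe u

variable {G : Type u} [Group G]

/-- Conjugation by an element of the normalizer, as an automorphism of the subgroup. -/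
def normConj (H : Subgroup G) (g : Subgroup.normalizer (H : Set G)) : H ≃* H where
  toFun c := ⟨(g : G) * (c : G) * (g : G)⁻¹, (Subgroup.mem_normalizer_iff.mp g.2 (c : G)).mp c.2⟩
  invFun c := ⟨(g : G)⁻¹ * (c : G) * (g : G),
    (Subgroup.mem_normalizer_iff.mp g.2 ((g : G)⁻¹ * (c : G) * (g : G))).mpr (by
      have : (g : G) * ((g : G)⁻¹ * (c : G) * (g : G)) * (g : G)⁻¹ = (c : G) := by group
      rw [this]; exact c.2)⟩
  left_inv c := by
    apply Subtype.ext
    show (g : G)⁻¹ * ((g : G) * (c : G) * (g : G)⁻¹) * (g : G) = (c : G)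
    group
  right_inv c := by
    apply Subtype.ext
    show (g : G) * ((g : G)⁻¹ * (c : G) * (g : G)) * (g : G)⁻¹ = (c : G)
    group
  map_mul' a b := by
    apply Subtype.ext
    show (g : G) * ((a : G) * (b : G)) * (g : G)⁻¹ =
      ((g : G) * (a : G) * (g : G)⁻¹) * ((g : G) * (b : G) * (g : G)⁻¹)
    group

theorem coe_normConj (H : Subgroup G) (g : Subgroup.normalizer (H : Set G)) (c : H) :
    ((normConj H g c : H) : G) = (g : G) * (c : G) * (g : G)⁻¹ := rfl

theorem coe_normConj_symm (H : Subgroup G) (g : Subgroup.normalizer (H : Set G)) (c : H) :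
    (((normConj H g).symm c : H) : G) = (g : G)⁻¹ * (c : G) * (g : G) := rfl

/-- The conjugate of a function on `H` by `g`: `c ↦ θ (g⁻¹ c g)`, extended by zero (so it is
the honest conjugate when `g` normalizes `H`). -/
noncomputable def nconj (H : Subgroup G) (g : G) (θ : H → ℂ) : H → ℂ :=
  fun c => extendByZero H θ (g⁻¹ * (c : G) * g)

theorem extendByZero_apply_mem (H : Subgroup G) (θ : H → ℂ) (c : H) :
    extendByZero H θ (c : G) = θ c := by
  unfold extendByZero
  exact Subtype.val_injective.extend_apply θ 0 c

theorem extendByZero_apply_not_mem (H : Subgroup G) (θ : H → ℂ) {x : G} (hx : x ∉ H) :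
    extendByZero H θ x = 0 := by
  unfold extendByZero
  rw [Function.extend_apply']
  · rfl
  · rintro ⟨c, rfl⟩
    exact hx c.2

theorem nconj_apply_of_mem (H : Subgroup G) (g : Subgroup.normalizer (H : Set G)) (θ : H → ℂ)
    (c : H) : nconj H (g : G) θ c = θ ((normConj H g).symm c) := by
  unfold nconj
  rw [← coe_normConj_symm, extendByZero_apply_mem]

/-- The action of `N_G(H)` on `Irr(H)`. -/
noncomputable def irrNconj (H : Subgroup G) (g : Subgroup.normalizer (H : Set G))
    (θ : IrrCharacter H) : IrrCharacter H :=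
  Helper78.irrMap (normConj H g) θ

theorem irrNconj_apply (H : Subgroup G) (g : Subgroup.normalizer (H : Set G))
    (θ : IrrCharacter H) (c : H) :
    (irrNconj H g θ : H → ℂ) c = (θ : H → ℂ) ((normConj H g).symm c) := rfl

theorem irrNconj_coe (H : Subgroup G) (g : Subgroup.normalizer (H : Set G))
    (θ : IrrCharacter H) : (irrNconj H g θ : H → ℂ) = nconj H (g : G) (θ : H → ℂ) := by
  funext c
  rw [irrNconj_apply, nconj_apply_of_mem]

theorem irrNconj_one (H : Subgroup G) (θ : IrrCharacter H) : irrNconj H 1 θ = θ := by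
  apply Subtype.ext
  funext c
  rw [irrNconj_apply]
  have : (normConj H 1).symm c = c := by
    apply Subtype.ext
    rw [coe_normConj_symm]
    simp
  rw [this]

theorem irrNconj_mul (H : Subgroup G) (g h : Subgroup.normalizer (H : Set G))
    (θ : IrrCharacter H) : irrNconj H (g * h) θ = irrNconj H g (irrNconj H h θ) := by
  apply Subtype.ext
  funext c
  rw [irrNconj_apply, irrNconj_apply, irrNconj_apply]
  have : (normConj H (g * h)).symm c = (normConj H h).symm ((normConj H g).symm c) := by
    apply Subtype.ext
    rw [coe_normConj_symm, coe_normConj_symm, coe_normConj_symm]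
    simp only [Subgroup.coe_mul]
    group
  rw [this]

noncomputable instance irrNconjAction (H : Subgroup G) :
    MulAction (Subgroup.normalizer (H : Set G)) (IrrCharacter H) where
  smul g θ := irrNconj H g θ
  one_smul θ := irrNconj_one H θ
  mul_smul g h θ := irrNconj_mul H g h θ

theorem smul_irr_apply (H : Subgroup G) (g : Subgroup.normalizer (H : Set G))
    (θ : IrrCharacter H) (c : H) :
    ((g • θ : IrrCharacter H) : H → ℂ) c = (θ : H → ℂ) ((normConj H g).symm c) := rfl

theorem smul_irr_coe (H : Subgroup G) (g : Subgroup.normalizer (H : Set G))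
    (θ : IrrCharacter H) : ((g • θ : IrrCharacter H) : H → ℂ) = nconj H (g : G) (θ : H → ℂ) :=
  irrNconj_coe H g θ

end Cfsg.Agent.Helper16
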