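import Cfsg.Agent.Helper16.Osima

set_option autoImplicit false
set_option linter.unusedSectionVars false

namespace Cfsg.Agent.Helper16

open Cfsg
open scoped ComplexConjugate

section

variable {G : Type*} [Group G] [Fintype G] {M : Ideal AlgInt}

theorem sameBlock_refl [M.IsPrime] (χ : G → ℂ) : SameBlock M χ χ := by
  intro g
  rw [sub_self]
  exact memLocalIdeal_zero

theorem sameBlock_symm {χ ψ : G → ℂ} (h : SameBlock M χ ψ) : SameBlock M ψ χ := by
  intro g
  have := memLocalIdeal_neg (h g)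
  rwa [neg_sub] at this

theorem sameBlock_trans [M.IsPrime] {χ ψ φ : G → ℂ} (h1 : SameBlock M χ ψ) (h2 : SameBlock M ψ φ) :
    SameBlock M χ φ := by
  intro g
  have := memLocalIdeal_add (h1 g) (h2 g)
  rwa [sub_add_sub_cancel] at this

open Classical in
/-- The indicator of a block lies in `Λ`: the block idempotent has coefficients in the local
ring. -/
theorem inLambda_indicator [M.IsPrime] (χ₀ : IrrCharacter G) :
    InLambda M (fun χ : IrrCharacter G =>
      if SameBlock M (χ₀ : G → ℂ) (χ : G → ℂ) then (1 : ℂ) else 0) := by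
  classical
  -- the block
  let B : Finset (IrrCharacter G) :=
    Finset.univ.filter (fun χ => SameBlock M (χ₀ : G → ℂ) (χ : G → ℂ))
  let Bc : Finset (IrrCharacter G) :=
    Finset.univ.filter (fun χ => ¬ SameBlock M (χ₀ : G → ℂ) (χ : G → ℂ))
  -- separating elements
  have hsep : ∀ ψ : IrrCharacter G, ∃ g : G, ¬ SameBlock M (χ₀ : G → ℂ) (ψ : G → ℂ) →
      ¬ MemLocalIdeal M (centralChar (χ₀ : G → ℂ) g - centralChar (ψ : G → ℂ) g) := by
    intro ψ
    by_cases h : SameBlock M (χ₀ : G → ℂ) (ψ : G → ℂ)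
    · exact ⟨1, fun h' => absurd h h'⟩
    · unfold SameBlock at h
      obtain ⟨g, hg⟩ := not_forall.mp h
      exact ⟨g, fun _ => hg⟩
  choose gsel hgsel using hsep
  -- y ψ
  let y : IrrCharacter G → IrrCharacter G → ℂ := fun ψ χ =>
    centralChar (χ : G → ℂ) (gsel ψ) - centralChar (ψ : G → ℂ) (gsel ψ)
  have hy : ∀ ψ, InLambda M (y ψ) := by
    intro ψ
    exact inLambda_sub (inLambda_centralChar (gsel ψ))
      (inLambda_const (memLocalRing_of_isIntegral (irr_isIntegral_centralChar ψ _)))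
  have hy_unit : ∀ ψ ∈ Bc, ∀ χ ∈ B, ¬ MemLocalIdeal M (y ψ χ) := by
    intro ψ hψ χ hχ
    simp only [Bc, B, Finset.mem_filter, Finset.mem_univ, true_and] at hψ hχ
    have h1 := hgsel ψ hψ
    have h2 : MemLocalIdeal M (centralChar (χ : G → ℂ) (gsel ψ) - centralChar (χ₀ : G → ℂ) (gsel ψ)) :=
      sameBlock_symm hχ (gsel ψ)
    have h3 := not_memLocalIdeal_add h1 h2
    have h4 : centralChar (χ₀ : G → ℂ) (gsel ψ) - centralChar (ψ : G → ℂ) (gsel ψ) +
        (centralChar (χ : G → ℂ) (gsel ψ) - centralChar (χ₀ : G → ℂ) (gsel ψ)) = y ψ χ := by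
      simp only [y]; ring
    rwa [h4] at h3
  -- z
  let z : IrrCharacter G → ℂ := fun χ => ∏ ψ ∈ Bc, y ψ χ
  have hz : InLambda M z := inLambda_prod Bc y (fun ψ _ => hy ψ)
  have hz0 : ∀ ψ ∈ Bc, z ψ = 0 := by
    intro ψ hψ
    exact Finset.prod_eq_zero hψ (by simp only [y]; ring)
  have hz_unit : ∀ χ ∈ B, ¬ MemLocalIdeal M (z χ) := by
    intro χ hχ
    exact not_memLocalIdeal_prod _ _ (fun ψ _ => (hy ψ).memLocalRing χ)
      (fun ψ hψ => hy_unit ψ hψ χ hχ)
  -- c = g(0)
  let c : ℂ := ∏ χ ∈ B, (0 - z χ)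
  have hcS : MemLocalRing M c :=
    memLocalRing_prod _ _ (fun χ _ => memLocalRing_sub memLocalRing_zero (hz.memLocalRing χ))
  have hc_unit : ¬ MemLocalIdeal M c := by
    refine not_memLocalIdeal_prod _ _
      (fun χ _ => memLocalRing_sub memLocalRing_zero (hz.memLocalRing χ)) ?_
    intro χ hχ
    rw [zero_sub]
    exact not_memLocalIdeal_neg (hz_unit χ hχ)
  have hc0 : c ≠ 0 := by
    intro h
    rw [h] at hc_unit
    exact hc_unit memLocalIdeal_zero
  -- g(z)
  let gz : IrrCharacter G → ℂ := fun ψ => ∏ χ ∈ B, (z ψ - z χ)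
  have hgz : InLambda M gz :=
    inLambda_prod B (fun χ ψ => z ψ - z χ)
      (fun χ _ => inLambda_sub hz (inLambda_const (hz.memLocalRing χ)))
  -- e
  have he : InLambda M (fun ψ => 1 - c⁻¹ * gz ψ) :=
    inLambda_sub inLambda_one (inLambda_smul (memLocalRing_inv hcS hc_unit) hgz)
  have heq : (fun ψ : IrrCharacter G => 1 - c⁻¹ * gz ψ) =
      (fun χ : IrrCharacter G => if SameBlock M (χ₀ : G → ℂ) (χ : G → ℂ) then (1 : ℂ) else 0) := by
    funext ψ
    by_cases h : SameBlock M (χ₀ : G → ℂ) (ψ : G → ℂ)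
    · rw [if_pos h]
      have hψB : ψ ∈ B := by simp only [B, Finset.mem_filter, Finset.mem_univ, true_and]; exact h
      have : gz ψ = 0 := Finset.prod_eq_zero hψB (sub_self _)
      rw [this, mul_zero, sub_zero]
    · rw [if_neg h]
      have hψB : ψ ∈ Bc := by simp only [Bc, Finset.mem_filter, Finset.mem_univ, true_and]; exact h
      have : gz ψ = c := by
        simp only [gz, c, hz0 ψ hψB]
      rw [this, inv_mul_cancel₀ hc0, sub_self]
  rw [← heq]
  exact he

/-- The block coefficient function, written as a sum over all irreducible characters. -/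
theorem blockCoeff_eq_sum (B : Set (IrrCharacter G)) [DecidablePred (· ∈ B)] (g : G) :
    blockCoeff B g = (Nat.card G : ℂ)⁻¹ *
      ∑ χ : IrrCharacter G, (if χ ∈ B then (1 : ℂ) else 0) * (χ : G → ℂ) 1 * conj ((χ : G → ℂ) g) := by
  unfold blockCoeff
  congr 1
  rw [finsum_mem_def, finsum_eq_sum_of_fintype]
  refine Finset.sum_congr rfl (fun χ _ => ?_)
  rw [Set.indicator_apply]
  by_cases h : χ ∈ B
  · rw [if_pos h, if_pos h, one_mul]
  · rw [if_neg h, if_neg h, zero_mul, zero_mul]

open Classical in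
/-- **Osima's theorem**, strong form: the block coefficient function of a block is a class function
with values in the local ring whose `omega`-transform is the indicator of the block. -/
theorem osima_strong [M.IsPrime] (χ₀ : IrrCharacter G) :
    IsClassFunction G (blockCoeff (blockOf M (χ₀ : G → ℂ))) ∧
    (∀ g, MemLocalRing M (blockCoeff (blockOf M (χ₀ : G → ℂ)) g)) ∧
    ∀ χ : IrrCharacter G, omega (χ : G → ℂ) (blockCoeff (blockOf M (χ₀ : G → ℂ))) =
      if SameBlock M (χ₀ : G → ℂ) (χ : G → ℂ) then (1 : ℂ) else 0 := by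
  classical
  obtain ⟨s, hs, hsS, hsl⟩ := inLambda_indicator (M := M) χ₀
  have hfun : blockCoeff (blockOf M (χ₀ : G → ℂ)) = s := by
    funext g
    rw [blockCoeff_eq_sum, classFunction_eq_sum_omega hs g]
    congr 1
    refine Finset.sum_congr rfl (fun χ _ => ?_)
    rw [← hsl χ]
    rfl
  rw [hfun]
  exact ⟨hs, hsS, fun χ => (hsl χ).symm⟩

/-- **Osima's theorem**. -/
theorem osima [M.IsPrime] {B : Set (IrrCharacter G)} (hB : IsPBlock M B) (g : G) :
    MemLocalRing M (blockCoeff B g) := by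
  obtain ⟨χ₀, rfl⟩ := hB
  exact (osima_strong χ₀).2.1 g

end

end Cfsg.Agent.Helper16
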