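import Cfsg.Agent.Helper16.CanonicalChar
import Cfsg.Agent.Helper16.SubsectionCount

/-!
# The characters of a block with defect group `D`, `G = D · C_G(D)`: `θ = ζ · χ`
-/

set_option autoImplicit false
set_option linter.unusedSectionVars false
set_option linter.unusedVariables false

namespace Cfsg.Agent.Helper16

open Cfsg
open scoped ComplexConjugate

universe u

section CC2

variable {G : Type u} [Group G] [Fintype G] {M : Ideal AlgInt} {p : ℕ} (D : Subgroup G)

/-- Irreducible characters with the same central character are equal. -/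
theorem irr_eq_of_centralChar_eq {H : Type*} [Group H] [Fintype H] (ζ ζ' : IrrCharacter H)
    (h : ∀ u : H, centralChar (ζ : H → ℂ) u = centralChar (ζ' : H → ℂ) u) : ζ = ζ' := by
  classical
  by_contra hne
  have h1 := Helper79.classInner_irr_ne hne
  have hζ1 := irr_one_ne_zero ζ
  have hζ'1 := irr_one_ne_zero ζ'
  have hprop : ∀ u : H, (ζ : H → ℂ) u = ((ζ : H → ℂ) 1 / (ζ' : H → ℂ) 1) * (ζ' : H → ℂ) u := by
    intro u
    have hu := h u
    unfold centralChar at hu
    have hidx : ((Subgroup.centralizer ({u} : Set H)).index : ℂ) ≠ 0 := by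
      have : (Subgroup.centralizer ({u} : Set H)).index ≠ 0 := Subgroup.index_ne_zero_of_finite
      exact_mod_cast this
    field_simp at hu ⊢
    linear_combination hu
  have h2 : classInner (ζ : H → ℂ) (ζ' : H → ℂ) =
      ((ζ : H → ℂ) 1 / (ζ' : H → ℂ) 1) * classInner (ζ' : H → ℂ) (ζ' : H → ℂ) := by
    rw [← Helper79.classInner_smul_left]
    congr 1
    funext u
    rw [Pi.smul_apply, smul_eq_mul]
    exact hprop u
  rw [h1, Helper79.classInner_irr_self, mul_one] at h2
  exact div_ne_zero hζ1 hζ'1 h2.symm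


/-- In `G = D · C_G(D)` the restriction of an irreducible character to `D` is homogeneous. -/
theorem exists_homogeneous_restrict (hG : D ⊔ Subgroup.centralizer (D : Set G) = ⊤) [Fintype D]
    (θ : IrrCharacter G) :
    ∃ ζ : IrrCharacter D, ∃ m : ℕ, m ≠ 0 ∧
      ∀ y : D, (θ : G → ℂ) (y : G) = (m : ℂ) * (ζ : D → ℂ) y := by
  classical
  have hcomm := comm_of_mem_centralizer D
  have hres : IsCharacter D (fun h : D => (θ : G → ℂ) h) :=
    Helper74.isCharacter_restrict D (Helper74.irr_isCharacter θ)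
  have hm : ∀ ξ : IrrCharacter D, ∃ m : ℕ,
      classInner (fun h : D => (θ : G → ℂ) h) (ξ : D → ℂ) = (m : ℂ) :=
    fun ξ => Helper15.isCharacter_inner_nat hres (Helper74.irr_isCharacter ξ)
  choose m hm using hm
  have hexp : ∀ h : D, (θ : G → ℂ) h = ∑ ξ : IrrCharacter D, (m ξ : ℂ) * (ξ : D → ℂ) h := by
    intro h
    have := congrFun (Helper79.classFunction_expansion
      (Helper74.isClassFunction_of_isCharacter hres)) h
    simp only [Finset.sum_apply, Pi.smul_apply, smul_eq_mul] at this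
    rw [this]
    refine Finset.sum_congr rfl (fun ξ _ => ?_)
    rw [hm ξ]
  -- some constituent
  have hex : ∃ ζ : IrrCharacter D, m ζ ≠ 0 := by
    by_contra hnone
    push_neg at hnone
    have h1 := hexp 1
    rw [Finset.sum_eq_zero (fun ξ _ => by rw [hnone ξ, Nat.cast_zero, zero_mul])] at h1
    exact irr_one_ne_zero θ h1
  obtain ⟨ζ, hζ⟩ := hex
  refine ⟨ζ, m ζ, hζ, fun y => ?_⟩
  rw [hexp y, Finset.sum_eq_single ζ]
  · intro ξ _ hne
    have hmξ : m ξ = 0 := by
      by_contra h0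
      apply hne
      apply irr_eq_of_centralChar_eq
      intro u
      have h1 : classInner (fun h : D => (θ : G → ℂ) h) (ξ : D → ℂ) ≠ 0 := by
        rw [hm ξ]; exact_mod_cast h0
      have h2 : classInner (fun h : D => (θ : G → ℂ) h) (ζ : D → ℂ) ≠ 0 := by
        rw [hm ζ]; exact_mod_cast hζ
      rw [← centralChar_eq_centralChar_left D _ hcomm hG θ ξ h1 u,
        ← centralChar_eq_centralChar_left D _ hcomm hG θ ζ h2 u]
    rw [hmξ, Nat.cast_zero, zero_mul]
  · intro h; exact absurd (Finset.mem_univ _) h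


open Classical in
/-- Summation over the `p`-sections of the elements of `D`, for a function vanishing off them. -/
theorem sum_eq_sum_section_of_vanish [hp : Fact p.Prime] (hP : IsPGroup p D)
    (hG : D ⊔ Subgroup.centralizer (D : Set G) = ⊤) [Fintype D] (F : G → ℂ)
    (hF : ∀ g : G, pPartOf p g ∉ D → F g = 0) :
    ∑ g : G, F g = ∑ y : D, ∑ x : G, (if ¬ p ∣ orderOf x then F ((y : G) * x) else 0) := by
  haveI : ∀ x : G, Fintype (Subgroup.centralizer ({x} : Set G)) := fun x => Fintype.ofFinite _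
  have hreg := pRegular_mem_centralizer D hP hG
  have hpe : ∀ y : D, ∃ k : ℕ, orderOf (y : G) = p ^ k := by
    intro y
    obtain ⟨n, hn⟩ := hP y
    have hn' : (y : G) ^ p ^ n = 1 := by
      have := congrArg (fun t : D => (t : G)) hn
      simpa using this
    obtain ⟨m, -, hm⟩ := (Nat.dvd_prime_pow hp.out).mp (orderOf_dvd_of_pow_eq_one hn')
    exact ⟨m, hm⟩
  -- step 1
  have h1 : ∀ g : G, F g = ∑ y : D, (if pPartOf p g = (y : G) then F g else 0) := by
    intro g
    by_cases hg : pPartOf p g ∈ D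
    · rw [Finset.sum_eq_single (⟨pPartOf p g, hg⟩ : D)]
      · rw [if_pos rfl]
      · intro y _ hne
        rw [if_neg]
        intro h
        apply hne
        exact Subtype.ext h.symm
      · intro h; exact absurd (Finset.mem_univ _) h
    · rw [hF g hg]
      symm
      refine Finset.sum_eq_zero (fun y _ => ?_)
      rw [ite_self]
  rw [Finset.sum_congr rfl (fun g _ => h1 g), Finset.sum_comm]
  refine Finset.sum_congr rfl (fun y _ => ?_)
  rw [sum_pPartOf_eq (y : G) (hpe y) F]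
  -- step 2: from the centralizer to the group
  have h2 := sum_subgroup_eq_sum_ite (Subgroup.centralizer ({(y : G)} : Set G))
    (fun x => if ¬ p ∣ orderOf x then F ((y : G) * x) else 0)
  have h3 : ∑ c : Subgroup.centralizer ({(y : G)} : Set G),
      (if ¬ p ∣ orderOf c then F ((y : G) * (c : G)) else 0) =
      ∑ c : Subgroup.centralizer ({(y : G)} : Set G),
      (fun x => if ¬ p ∣ orderOf x then F ((y : G) * x) else 0) (c : G) := by
    refine Finset.sum_congr rfl (fun c _ => ?_)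
    show _ = if ¬ p ∣ orderOf (c : G) then F ((y : G) * (c : G)) else 0
    rw [Subgroup.orderOf_coe]
  rw [h3, h2]
  refine Finset.sum_congr rfl (fun x _ => ?_)
  by_cases hx : p ∣ orderOf x
  · simp only [if_neg (not_not.mpr hx), mul_zero]
  · have hxC : x ∈ Subgroup.centralizer ({(y : G)} : Set G) := by
      have := hreg x hx
      rw [Subgroup.mem_centralizer_iff] at this ⊢
      intro t ht
      rw [Set.mem_singleton_iff] at ht
      rw [ht]
      exact this (y : G) y.2
    rw [if_pos hxC, one_mul]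


/-- Members of `B` vanish off the `p`-sections of the elements of the normal defect group `D`. -/
theorem irr_eq_zero_of_pPartOf_not_mem [hp : Fact p.Prime] (hM : IsPModular p M)
    [hDn : D.Normal] {B : Set (IrrCharacter G)} (hB : IsPBlock M B)
    (hD : IsDefectGroup p M B D) (θ : IrrCharacter G) (hθ : θ ∈ B) (g : G)
    (hg : pPartOf p g ∉ D) : (θ : G → ℂ) g = 0 := by
  haveI hMp : M.IsPrime := IsPModular.isPrime hM
  apply irr_eq_zero_of_pPart_not_mem_defectGroup hM θ g (pPartOf p g) (pPartOf_spec g)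
  intro D' hD'
  have hBθ : B = blockOf M (θ : G → ℂ) := Helper78.isPBlock_eq_blockOf_of_mem hMp hB hθ
  rw [← hBθ] at hD'
  obtain ⟨t, ht⟩ := exists_conj_eq_of_isDefectGroup hM hB hD hD'
  have hmap : D.map (MulAut.conj t).toMonoidHom = D := by
    ext z
    constructor
    · rintro ⟨u, hu, rfl⟩
      exact hDn.conj_mem u hu t
    · intro hz
      refine ⟨t⁻¹ * z * t, ?_, ?_⟩
      · have := hDn.conj_mem z hz t⁻¹
        simpa using this
      · simp [mul_assoc]
  rw [ht, hmap]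
  exact hg

/-- Values of the members of `B` on `D × (p-regular elements)` through the canonical character. -/
theorem irr_mul_pRegular_eq [hp : Fact p.Prime] (hM : IsPModular p M) (hP : IsPGroup p D)
    (hG : D ⊔ Subgroup.centralizer (D : Set G) = ⊤)
    {B : Set (IrrCharacter G)} (hB : IsPBlock M B) (hD : IsDefectGroup p M B D)
    (χ : IrrCharacter G) (hχ : χ ∈ B)
    (hχk : ∀ u ∈ D, (χ : G → ℂ) u = (χ : G → ℂ) 1) (θ : IrrCharacter G) (hθ : θ ∈ B)
    {y x : G} (hy : y ∈ D) (hx : ¬ p ∣ orderOf x) :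
    (θ : G → ℂ) (y * x) * (χ : G → ℂ) 1 = (θ : G → ℂ) y * (χ : G → ℂ) x := by
  haveI hDn : D.Normal := normal_of_sup_centralizer D hG
  have hcomm := comm_of_mem_centralizer D
  have hreg := pRegular_mem_centralizer D hP hG
  have hPC : ∀ z ∈ D, ∀ x : G, ¬ p ∣ orderOf x → z * x = x * z :=
    fun z hz x hx => hcomm z hz x (hreg x hx)
  have huniq : ∀ ψ ∈ B, (∀ u ∈ D, (ψ : G → ℂ) u = (ψ : G → ℂ) 1) → ψ = χ :=
    fun ψ hψ hk => eq_of_mem_of_ker_normal_defect hM hB D hD hreg hψ hχ hk hχk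
  obtain ⟨c, hc⟩ := exists_smul_pRegular_of_unique_ker hM hB D hP hPC χ huniq θ hθ
  have h1 : ¬ p ∣ orderOf (1 : G) := by
    rw [orderOf_one]
    exact hp.out.one_lt.ne' ∘ Nat.dvd_one.mp
  have hθ1 := irr_one_ne_zero θ
  have e1 := irr_mul_of_sup_centralizer D hG θ hy (hreg x hx)
  have e2 : (θ : G → ℂ) x * (χ : G → ℂ) 1 = (θ : G → ℂ) 1 * (χ : G → ℂ) x := by
    rw [hc x hx, hc 1 h1]; ring
  have : ((θ : G → ℂ) (y * x) * (χ : G → ℂ) 1) * (θ : G → ℂ) 1 =
      ((θ : G → ℂ) y * (χ : G → ℂ) x) * (θ : G → ℂ) 1 := by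
    linear_combination (χ : G → ℂ) 1 * e1 + (θ : G → ℂ) y * e2
  exact mul_right_cancel₀ hθ1 this

open Classical in
/-- The norm identity. -/
theorem norm_section_identity [hp : Fact p.Prime] (hM : IsPModular p M) (hP : IsPGroup p D)
    (hG : D ⊔ Subgroup.centralizer (D : Set G) = ⊤) [Fintype D]
    {B : Set (IrrCharacter G)} (hB : IsPBlock M B) (hD : IsDefectGroup p M B D)
    (χ : IrrCharacter G) (hχ : χ ∈ B)
    (hχk : ∀ u ∈ D, (χ : G → ℂ) u = (χ : G → ℂ) 1) (θ : IrrCharacter G) (hθ : θ ∈ B) :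
    (Nat.card G : ℂ) * ((χ : G → ℂ) 1 * (χ : G → ℂ) 1) =
      (∑ y : D, (θ : G → ℂ) (y : G) * conj ((θ : G → ℂ) (y : G))) *
      ∑ x : G, (if ¬ p ∣ orderOf x then (χ : G → ℂ) x * conj ((χ : G → ℂ) x) else 0) := by
  haveI hDn : D.Normal := normal_of_sup_centralizer D hG
  have hcard : (Nat.card G : ℂ) ≠ 0 := Helper79.card_ne_zero_complex
  have hχ1 := irr_one_ne_zero χ
  have hχreal : conj ((χ : G → ℂ) 1) = (χ : G → ℂ) 1 := by
    rw [← Helper74.charDegree_cast (Helper74.irr_isCharacter χ), Complex.conj_natCast]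
  have h1 : ∑ g : G, (θ : G → ℂ) g * conj ((θ : G → ℂ) g) = (Nat.card G : ℂ) := by
    have := Helper79.classInner_irr_self θ
    unfold classInner at this
    calc ∑ g : G, (θ : G → ℂ) g * conj ((θ : G → ℂ) g)
        = (Nat.card G : ℂ) * ((Nat.card G : ℂ)⁻¹ *
          ∑ g : G, (θ : G → ℂ) g * conj ((θ : G → ℂ) g)) := by
          rw [← mul_assoc, mul_inv_cancel₀ hcard, one_mul]
      _ = (Nat.card G : ℂ) := by rw [this, mul_one]
  have h2 := sum_eq_sum_section_of_vanish D hP hG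
    (fun g => (θ : G → ℂ) g * conj ((θ : G → ℂ) g)) (by
      intro g hg
      show (θ : G → ℂ) g * conj ((θ : G → ℂ) g) = 0
      rw [irr_eq_zero_of_pPartOf_not_mem D hM hB hD θ hθ g hg, zero_mul])
  rw [h1] at h2
  rw [h2, Finset.sum_mul (s := Finset.univ) (a := (χ : G → ℂ) 1 * (χ : G → ℂ) 1),
    Finset.sum_mul (s := (Finset.univ : Finset D))]
  refine Finset.sum_congr rfl (fun y _ => ?_)
  rw [Finset.sum_mul, Finset.mul_sum]
  refine Finset.sum_congr rfl (fun x _ => ?_)
  by_cases hx : p ∣ orderOf x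
  · simp only [if_neg (not_not.mpr hx), mul_zero, zero_mul]
  · simp only [if_pos hx]
    have e := irr_mul_pRegular_eq D hM hP hG hB hD χ hχ hχk θ hθ y.2 hx
    have e' : conj ((θ : G → ℂ) ((y : G) * x)) * (χ : G → ℂ) 1 =
        conj ((θ : G → ℂ) (y : G)) * conj ((χ : G → ℂ) x) := by
      have := congrArg conj e
      rw [map_mul, map_mul, hχreal] at this
      exact this
    linear_combination (conj ((θ : G → ℂ) ((y : G) * x)) * (χ : G → ℂ) 1) * e +
      ((θ : G → ℂ) (y : G) * (χ : G → ℂ) x) * e'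


open Classical in
/-- **Structure of the members of `B`**: `θ (y x) = ζ y χ x`. -/
theorem exists_irr_factor [hp : Fact p.Prime] (hM : IsPModular p M) (hP : IsPGroup p D)
    (hG : D ⊔ Subgroup.centralizer (D : Set G) = ⊤)
    {B : Set (IrrCharacter G)} (hB : IsPBlock M B) (hD : IsDefectGroup p M B D)
    (χ : IrrCharacter G) (hχ : χ ∈ B)
    (hχk : ∀ u ∈ D, (χ : G → ℂ) u = (χ : G → ℂ) 1) (θ : IrrCharacter G) (hθ : θ ∈ B) :
    ∃ ζ : IrrCharacter D, ∀ (y : D) (x : G), ¬ p ∣ orderOf x →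
      (θ : G → ℂ) ((y : G) * x) = (ζ : D → ℂ) y * (χ : G → ℂ) x := by
  haveI : Fintype D := Fintype.ofFinite D
  have hχ1 := irr_one_ne_zero χ
  have hDne : (Nat.card D : ℂ) ≠ 0 := by
    have : 0 < Nat.card D := Nat.card_pos
    exact_mod_cast this.ne'
  have hcard : (Nat.card G : ℂ) ≠ 0 := Helper79.card_ne_zero_complex
  obtain ⟨ζ, m, hm0, hζ⟩ := exists_homogeneous_restrict D hG θ
  refine ⟨ζ, fun y x hx => ?_⟩
  -- the norm identities
  have hNθ := norm_section_identity D hM hP hG hB hD χ hχ hχk θ hθ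
  have hNχ := norm_section_identity D hM hP hG hB hD χ hχ hχk χ hχ
  set R : ℂ := ∑ x : G, (if ¬ p ∣ orderOf x then (χ : G → ℂ) x * conj ((χ : G → ℂ) x) else 0)
    with hR
  have hχreal : conj ((χ : G → ℂ) 1) = (χ : G → ℂ) 1 := by
    rw [← Helper74.charDegree_cast (Helper74.irr_isCharacter χ), Complex.conj_natCast]
  have hSχ : ∑ y : D, (χ : G → ℂ) (y : G) * conj ((χ : G → ℂ) (y : G)) =
      (Nat.card D : ℂ) * ((χ : G → ℂ) 1 * (χ : G → ℂ) 1) := by
    rw [Finset.sum_congr rfl (fun y _ => by rw [hχk y y.2, hχreal]), Finset.sum_const,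
      Finset.card_univ, nsmul_eq_mul, Nat.card_eq_fintype_card]
  have hζnorm : ∑ y : D, (ζ : D → ℂ) y * conj ((ζ : D → ℂ) y) = (Nat.card D : ℂ) := by
    have := Helper79.classInner_irr_self ζ
    unfold classInner at this
    calc ∑ y : D, (ζ : D → ℂ) y * conj ((ζ : D → ℂ) y)
        = (Nat.card D : ℂ) * ((Nat.card D : ℂ)⁻¹ *
          ∑ y : D, (ζ : D → ℂ) y * conj ((ζ : D → ℂ) y)) := by
          rw [← mul_assoc, mul_inv_cancel₀ hDne, one_mul]
      _ = (Nat.card D : ℂ) := by rw [this, mul_one]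
  have hSθ : ∑ y : D, (θ : G → ℂ) (y : G) * conj ((θ : G → ℂ) (y : G)) =
      ((m : ℂ) * (m : ℂ)) * (Nat.card D : ℂ) := by
    rw [← hζnorm, Finset.mul_sum]
    refine Finset.sum_congr rfl (fun y _ => ?_)
    rw [hζ y, map_mul, Complex.conj_natCast]
    ring
  rw [hSθ] at hNθ
  rw [hSχ] at hNχ
  have hRne : R ≠ 0 := by
    intro h0
    rw [h0, mul_zero] at hNχ
    exact (mul_ne_zero hcard (mul_ne_zero hχ1 hχ1)) hNχ
  have hmm : (m : ℂ) * (m : ℂ) = (χ : G → ℂ) 1 * (χ : G → ℂ) 1 := by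
    have h1 : ((m : ℂ) * (m : ℂ)) * (Nat.card D : ℂ) * R =
        (Nat.card D : ℂ) * ((χ : G → ℂ) 1 * (χ : G → ℂ) 1) * R := by
      rw [← hNθ, ← hNχ]
    have h2 := mul_right_cancel₀ hRne h1
    have h3 : ((m : ℂ) * (m : ℂ)) * (Nat.card D : ℂ) =
        ((χ : G → ℂ) 1 * (χ : G → ℂ) 1) * (Nat.card D : ℂ) := by
      rw [h2]; ring
    exact mul_right_cancel₀ hDne h3
  have hmχ : (m : ℂ) = (χ : G → ℂ) 1 := by
    rw [← Helper74.charDegree_cast (Helper74.irr_isCharacter χ)] at hmm ⊢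
    have h4 : m * m = charDegree (χ : G → ℂ) * charDegree (χ : G → ℂ) := by
      exact_mod_cast hmm
    have h5 : m = charDegree (χ : G → ℂ) := Nat.mul_self_inj.mp h4
    rw [h5]
  have e := irr_mul_pRegular_eq D hM hP hG hB hD χ hχ hχk θ hθ y.2 hx
  rw [hζ y, hmχ] at e
  have : ((θ : G → ℂ) ((y : G) * x)) * (χ : G → ℂ) 1 =
      ((ζ : D → ℂ) y * (χ : G → ℂ) x) * (χ : G → ℂ) 1 := by
    linear_combination e
  exact mul_right_cancel₀ hχ1 this

/-- Two irreducible characters with the same factorisation data are equal. -/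
theorem irr_eq_of_factor [hp : Fact p.Prime] (hP : IsPGroup p D)
    (hG : D ⊔ Subgroup.centralizer (D : Set G) = ⊤) (χ : IrrCharacter G) (ζ : IrrCharacter D)
    (θ θ' : IrrCharacter G)
    (h1 : ∀ (y : D) (x : G), ¬ p ∣ orderOf x →
      (θ : G → ℂ) ((y : G) * x) = (ζ : D → ℂ) y * (χ : G → ℂ) x)
    (h1' : ∀ (y : D) (x : G), ¬ p ∣ orderOf x →
      (θ' : G → ℂ) ((y : G) * x) = (ζ : D → ℂ) y * (χ : G → ℂ) x)
    (h2 : ∀ z : G, pPartOf p z ∉ D → (θ : G → ℂ) z = 0)
    (h2' : ∀ z : G, pPartOf p z ∉ D → (θ' : G → ℂ) z = 0) : θ = θ' := by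
  apply Subtype.ext
  funext g
  by_cases hg : pPartOf p g ∈ D
  · obtain ⟨x, hyx, -, -, hx⟩ := pPartOf_spec (p := p) g
    rw [← hyx]
    have a := h1 ⟨pPartOf p g, hg⟩ x hx
    have b := h1' ⟨pPartOf p g, hg⟩ x hx
    exact a.trans b.symm
  · rw [h2 g hg, h2' g hg]


open Classical in
/-- Every irreducible character of `D` occurs. -/
theorem exists_irr_of_factor [hp : Fact p.Prime] (hM : IsPModular p M) (hP : IsPGroup p D)
    (hG : D ⊔ Subgroup.centralizer (D : Set G) = ⊤)
    {B : Set (IrrCharacter G)} (hB : IsPBlock M B) (hD : IsDefectGroup p M B D)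
    (χ : IrrCharacter G) (hχ : χ ∈ B)
    (hχk : ∀ u ∈ D, (χ : G → ℂ) u = (χ : G → ℂ) 1) (ζ : IrrCharacter D) :
    ∃ θ ∈ B, ∀ (y : D) (x : G), ¬ p ∣ orderOf x →
      (θ : G → ℂ) ((y : G) * x) = (ζ : D → ℂ) y * (χ : G → ℂ) x := by
  haveI hDn : D.Normal := normal_of_sup_centralizer D hG
  haveI : Fintype D := Fintype.ofFinite D
  haveI : Fintype ↥B := Fintype.ofFinite _
  have hex : ∀ θ : ↥B, ∃ ζ' : IrrCharacter D, ∀ (y : D) (x : G), ¬ p ∣ orderOf x →
      ((θ : IrrCharacter G) : G → ℂ) ((y : G) * x) = (ζ' : D → ℂ) y * (χ : G → ℂ) x :=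
    fun θ => exists_irr_factor D hM hP hG hB hD χ hχ hχk θ θ.2
  choose f hf using hex
  have hinj : Function.Injective f := by
    intro θ θ' hff
    apply Subtype.ext
    apply irr_eq_of_factor D hP hG χ (f θ) (θ : IrrCharacter G) (θ' : IrrCharacter G) (hf θ)
      (by rw [hff]; exact hf θ')
      (fun z hz => irr_eq_zero_of_pPartOf_not_mem D hM hB hD θ θ.2 z hz)
      (fun z hz => irr_eq_zero_of_pPartOf_not_mem D hM hB hD θ' θ'.2 z hz)
  have hcard : Fintype.card ↥B = Fintype.card (IrrCharacter D) := by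
    rw [← Nat.card_eq_fintype_card, ← Nat.card_eq_fintype_card,
      card_block_eq_card_conjClasses D hM hP hG hB hD, Helper79.card_irr_eq_card_conjClasses]
  have hbij := (Fintype.bijective_iff_injective_and_card f).mpr ⟨hinj, hcard⟩
  obtain ⟨θ, hθ⟩ := hbij.2 ζ
  refine ⟨θ, θ.2, ?_⟩
  rw [← hθ]
  exact hf θ

end CC2

end Cfsg.Agent.Helper16
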