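import Cfsg.Agent.Helper16.DefectClasses
import Cfsg.Agent.Helper16.BlockPart

/-!
# Heights and defects: elementary bookkeeping (helper16)
-/

set_option autoImplicit false

namespace Cfsg.Agent.Helper16

open Cfsg

variable {G : Type*} [Group G] [Fintype G]

/-- The least `p`-exponent of a degree in `B`. -/
noncomputable def minExp (p : ℕ) (B : Set (IrrCharacter G)) : ℕ :=
  sInf ((fun χ : IrrCharacter G => (charDegree (χ : G → ℂ)).factorization p) '' B)

theorem blockDefect_eq (p : ℕ) (B : Set (IrrCharacter G)) :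
    blockDefect p B = (Nat.card G).factorization p - minExp p B := rfl

theorem blockHeight_eq (p : ℕ) (B : Set (IrrCharacter G)) (χ : G → ℂ) :
    blockHeight p B χ = (charDegree χ).factorization p - minExp p B := rfl

theorem minExp_le_of_mem (p : ℕ) {B : Set (IrrCharacter G)} {ψ : IrrCharacter G} (hψ : ψ ∈ B) :
    minExp p B ≤ (charDegree (ψ : G → ℂ)).factorization p :=
  Nat.sInf_le ⟨ψ, hψ, rfl⟩

theorem minExp_le_card (p : ℕ) {B : Set (IrrCharacter G)} (hne : B.Nonempty) :
    minExp p B ≤ (Nat.card G).factorization p := by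
  obtain ⟨ψ, hψ⟩ := hne
  exact (minExp_le_of_mem p hψ).trans (factorization_charDegree_le p ψ)

theorem blockHeight_eq_zero_iff (p : ℕ) {B : Set (IrrCharacter G)} {ψ : IrrCharacter G}
    (hψ : ψ ∈ B) :
    blockHeight p B (ψ : G → ℂ) = 0 ↔ (charDegree (ψ : G → ℂ)).factorization p = minExp p B := by
  rw [blockHeight_eq]
  have := minExp_le_of_mem p hψ
  omega

theorem pow_minExp_dvd {p : ℕ} [hp : Fact p.Prime] {B : Set (IrrCharacter G)}
    {ψ : IrrCharacter G} (hψ : ψ ∈ B) : p ^ minExp p B ∣ charDegree (ψ : G → ℂ) := by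
  rw [hp.out.pow_dvd_iff_le_factorization (irr_charDegree_ne_zero ψ)]
  exact minExp_le_of_mem p hψ

/-- The value at `1` of the block part of a character, with explicit multiplicities. -/
theorem blockPart_one_eq_natSum (B : Set (IrrCharacter G)) [DecidablePred (· ∈ B)] {ϑ : G → ℂ}
    (m : IrrCharacter G → ℕ) (hm : ∀ χ : IrrCharacter G, classInner ϑ (χ : G → ℂ) = (m χ : ℂ)) :
    blockPart B ϑ 1 =
      ((∑ χ : IrrCharacter G, (if χ ∈ B then m χ * charDegree (χ : G → ℂ) else 0) : ℕ) : ℂ) := by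
  rw [blockPart_eq_sum]
  push_cast
  refine Finset.sum_congr rfl (fun χ _ => ?_)
  rw [hm χ, Helper74.charDegree_cast (Helper74.irr_isCharacter χ)]
  by_cases h : χ ∈ B
  · rw [if_pos h, if_pos h, one_mul]
  · rw [if_neg h, if_neg h, zero_mul]

end Cfsg.Agent.Helper16
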