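import Cfsg.Agent.Helper16.Defect
import Cfsg.Agent.Helper80.Pullback

set_option autoImplicit false
set_option linter.unusedSectionVars false

namespace Cfsg.Agent.Helper16

open Cfsg
open scoped ComplexConjugate

section Units

variable {M : Ideal AlgInt}

/-- Natural numbers prime to `p` are not in `M`. -/
theorem natCast_not_mem {p : ℕ} (hM : IsPModular p M) {n : ℕ} (hn : ¬ p ∣ n) :
    (n : AlgInt) ∉ M := by
  have hMp : M.IsPrime := IsPModular.isPrime hM
  intro hmem
  have hcop : IsCoprime (n : ℤ) (p : ℤ) := by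
    rw [Int.isCoprime_iff_gcd_eq_one]
    have : Nat.Coprime n p := (Nat.Coprime.symm ((Nat.Prime.coprime_iff_not_dvd hM.1).mpr hn))
    simpa [Int.gcd] using this
  obtain ⟨a, b, hab⟩ := hcop
  have h1 : (a : AlgInt) * (n : AlgInt) + (b : AlgInt) * (p : AlgInt) = 1 := by
    have := congrArg (fun z : ℤ => (z : AlgInt)) hab
    simpa using this
  have h2 : (1 : AlgInt) ∈ M := by
    rw [← h1]
    exact M.add_mem (M.mul_mem_left _ hmem) (M.mul_mem_left _ hM.2.2)
  exact one_not_mem h2

theorem memLocalRing_inv_natCast {p : ℕ} (hM : IsPModular p M) {n : ℕ} (hn : ¬ p ∣ n) :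
    MemLocalRing M ((n : ℂ)⁻¹) := by
  refine ⟨1, (n : AlgInt), natCast_not_mem hM hn, ?_⟩
  simp

theorem not_memLocalIdeal_natCast {p : ℕ} (hM : IsPModular p M) {n : ℕ} (hn : ¬ p ∣ n) :
    ¬ MemLocalIdeal M (n : ℂ) := by
  have hMp : M.IsPrime := IsPModular.isPrime hM
  intro h
  have h' : MemLocalIdeal M (((n : AlgInt) : AlgInt) : ℂ) := by simpa using h
  exact natCast_not_mem hM hn ((memLocalIdeal_algInt_iff _).mp h')

end Units

section Idem

variable {G : Type*} [Group G] [Fintype G] {M : Ideal AlgInt}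

theorem omega_idempotent (χ : IrrCharacter G) {s : G → ℂ} (hs : IsClassFunction G s)
    (hss : conv s s = s) : omega (χ : G → ℂ) s = 0 ∨ omega (χ : G → ℂ) s = 1 := by
  have h := irr_omega_conv χ hs hs
  rw [hss] at h
  have h2 : omega (χ : G → ℂ) s * (omega (χ : G → ℂ) s - 1) = 0 := by
    rw [mul_sub, ← h]; ring
  rcases mul_eq_zero.mp h2 with h3 | h3
  · exact Or.inl h3
  · exact Or.inr (sub_eq_zero.mp h3)

/-- A central idempotent of the local group ring takes the same value on all characters of a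
block. -/
theorem omega_idempotent_eq_of_sameBlock [M.IsPrime] {χ ψ : IrrCharacter G}
    (h : SameBlock M (χ : G → ℂ) (ψ : G → ℂ)) {s : G → ℂ} (hs : IsClassFunction G s)
    (hsS : ∀ g, MemLocalRing M (s g)) (hss : conv s s = s) :
    omega (χ : G → ℂ) s = omega (ψ : G → ℂ) s := by
  have hd := omega_sub_memLocalIdeal h hs hsS
  rcases omega_idempotent χ hs hss with h1 | h1 <;> rcases omega_idempotent ψ hs hss with h2 | h2
  · rw [h1, h2]
  · rw [h1, h2, zero_sub] at hd
    have := memLocalIdeal_neg hd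
    rw [neg_neg] at this
    exact absurd this not_memLocalIdeal_one
  · rw [h1, h2, sub_zero] at hd
    exact absurd hd not_memLocalIdeal_one
  · rw [h1, h2]

end Idem

section NormalIdem

variable {G : Type*} [Group G] [Fintype G] {M : Ideal AlgInt}

/-- The idempotent `|N|⁻¹ ∑_{n ∈ N} n` as a function on `G`. -/
noncomputable def subgroupIdem (N : Subgroup G) : G → ℂ := by
  classical
  exact fun g => if g ∈ N then (Nat.card N : ℂ)⁻¹ else 0

theorem isClassFunction_subgroupIdem (N : Subgroup G) [hN : N.Normal] :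
    IsClassFunction G (subgroupIdem N) := by
  classical
  intro g h
  unfold subgroupIdem
  have : h * g * h⁻¹ ∈ N ↔ g ∈ N := by
    constructor
    · intro hh
      have := hN.conj_mem _ hh h⁻¹
      simpa [mul_assoc] using this
    · intro hh
      exact hN.conj_mem _ hh h
  by_cases hg : g ∈ N
  · rw [if_pos hg, if_pos (this.mpr hg)]
  · rw [if_neg hg, if_neg (fun h' => hg (this.mp h'))]

theorem subgroupIdem_memLocalRing {p : ℕ} (hM : IsPModular p M) (N : Subgroup G)
    (hN : ¬ p ∣ Nat.card N) (g : G) : MemLocalRing M (subgroupIdem N g) := by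
  classical
  have hMp : M.IsPrime := IsPModular.isPrime hM
  unfold subgroupIdem
  by_cases hg : g ∈ N
  · rw [if_pos hg]; exact memLocalRing_inv_natCast hM hN
  · rw [if_neg hg]; exact memLocalRing_zero

theorem sum_subgroupIdem_mul (N : Subgroup G) [Fintype N] (f : G → ℂ) :
    ∑ x : G, subgroupIdem N x * f x = (Nat.card N : ℂ)⁻¹ * ∑ n : N, f (n : G) := by
  classical
  unfold subgroupIdem
  have h1 : ∑ x : G, (if x ∈ N then (Nat.card N : ℂ)⁻¹ else 0) * f x =
      ∑ x ∈ Finset.univ.filter (fun x => x ∈ N), (Nat.card N : ℂ)⁻¹ * f x := by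
    rw [Finset.sum_filter]
    refine Finset.sum_congr rfl (fun x _ => ?_)
    by_cases hx : x ∈ N
    · rw [if_pos hx, if_pos hx]
    · rw [if_neg hx, if_neg hx, zero_mul]
  rw [h1, ← Finset.mul_sum]
  congr 1
  rw [← Finset.sum_subtype (Finset.univ.filter (fun x => x ∈ N)) (fun x => by simp) f]

theorem conv_subgroupIdem (N : Subgroup G) [Fintype N] : conv (subgroupIdem N) (subgroupIdem N) = subgroupIdem N := by
  classical
  funext g
  rw [conv_apply, sum_subgroupIdem_mul N (fun x => subgroupIdem N (x⁻¹ * g))]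
  have hN0 : (Nat.card N : ℂ) ≠ 0 := by exact_mod_cast Nat.card_pos.ne'
  by_cases hg : g ∈ N
  · have : ∀ n : N, subgroupIdem N ((n : G)⁻¹ * g) = (Nat.card N : ℂ)⁻¹ := by
      intro n
      unfold subgroupIdem
      rw [if_pos (N.mul_mem (N.inv_mem n.2) hg)]
    simp only [this, Finset.sum_const, Finset.card_univ, nsmul_eq_mul]
    unfold subgroupIdem
    rw [if_pos hg, ← Nat.card_eq_fintype_card]
    field_simp
  · have : ∀ n : N, subgroupIdem N ((n : G)⁻¹ * g) = 0 := by
      intro n
      unfold subgroupIdem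
      rw [if_neg]
      intro h
      apply hg
      have := N.mul_mem n.2 h
      simpa using this
    simp only [this, Finset.sum_const_zero, mul_zero]
    unfold subgroupIdem
    rw [if_neg hg]

theorem omega_subgroupIdem (χ : G → ℂ) (N : Subgroup G) [Fintype N] :
    omega χ (subgroupIdem N) = (Nat.card N : ℂ)⁻¹ * (∑ n : N, χ (n : G)) / χ 1 := by
  unfold omega
  rw [sum_subgroupIdem_mul]

/-- A character whose average over `N` is its degree is trivial on `N`. -/
theorem eq_one_of_sum_eq {χ : G → ℂ} (hχ : IsCharacter G χ) (N : Subgroup G) [Fintype N]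
    (h : ∑ n : N, χ (n : G) = (Nat.card N : ℂ) * χ 1) : ∀ n : N, χ (n : G) = χ 1 := by
  have hd : ((charDegree χ : ℕ) : ℂ) = χ 1 := Cfsg.Agent.Helper80.IsCharacter.charDegree_cast hχ
  set d : ℝ := (charDegree χ : ℝ) with hddef
  have hle : ∀ g : G, ‖χ g‖ ≤ d := fun g => Cfsg.Agent.Helper80.IsCharacter.norm_le hχ g
  have hre : ∀ g : G, (χ g).re ≤ d := fun g => le_trans (Complex.re_le_norm _) (hle g)
  -- sum of real parts
  have h1 : ∑ n : N, (χ (n : G)).re = (Nat.card N : ℝ) * d := by
    have := congrArg Complex.re h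
    rw [Complex.re_sum] at this
    rw [this, ← hd]
    simp [hddef]
  have h2 : ∑ n : N, (d - (χ (n : G)).re) = 0 := by
    rw [Finset.sum_sub_distrib, h1, Finset.sum_const, Finset.card_univ, nsmul_eq_mul,
      Nat.card_eq_fintype_card]
    ring
  have h3 : ∀ n : N, d - (χ (n : G)).re = 0 := by
    intro n
    exact (Finset.sum_eq_zero_iff_of_nonneg (fun i _ => sub_nonneg.mpr (hre _))).mp h2 n
      (Finset.mem_univ _)
  intro n
  have hren : (χ (n : G)).re = d := by linarith [h3 n]
  have him : (χ (n : G)).im = 0 := by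
    have hn := hle (n : G)
    have hsq : ‖χ (n : G)‖ ^ 2 = (χ (n : G)).re ^ 2 + (χ (n : G)).im ^ 2 := by
      rw [Complex.sq_norm, Complex.normSq_apply]; ring
    have hd0 : 0 ≤ d := by rw [hddef]; exact Nat.cast_nonneg _
    have h4 : ‖χ (n : G)‖ ^ 2 ≤ d ^ 2 := by
      exact pow_le_pow_left₀ (norm_nonneg _) hn 2
    rw [hsq, hren] at h4
    have h5 : (χ (n : G)).im ^ 2 ≤ 0 := by linarith
    have h6 : (χ (n : G)).im ^ 2 = 0 := le_antisymm h5 (sq_nonneg _)
    exact pow_eq_zero_iff (two_ne_zero) |>.mp h6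
  rw [← hd]
  apply Complex.ext
  · rw [hren]; simp [hddef]
  · rw [him]; simp

theorem omega_subgroupIdem_eq_one_iff (χ : IrrCharacter G) (N : Subgroup G) [Fintype N] :
    omega (χ : G → ℂ) (subgroupIdem N) = 1 ↔ ∀ n : N, (χ : G → ℂ) (n : G) = (χ : G → ℂ) 1 := by
  have hN0 : (Nat.card N : ℂ) ≠ 0 := by exact_mod_cast Nat.card_pos.ne'
  have h1 := irr_one_ne_zero χ
  rw [omega_subgroupIdem]
  constructor
  · intro h
    apply eq_one_of_sum_eq (Cfsg.Agent.Helper79.irr_isCharacter χ)
    field_simp at h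
    linear_combination h
  · intro h
    simp only [h, Finset.sum_const, Finset.card_univ, nsmul_eq_mul, ← Nat.card_eq_fintype_card]
    field_simp

end NormalIdem

end Cfsg.Agent.Helper16
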