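import Cfsg.Prelude.Def_Characters
import Mathlib.RepresentationTheory.Character
import Mathlib.RepresentationTheory.Irreducible
import Mathlib.Algebra.BigOperators.Field
import Mathlib.Analysis.Complex.Polynomial.Basic

set_option autoImplicit false

namespace Cfsg.Agent.Helper16

open Representation

section Schur

variable {G V : Type*} [Group G] [AddCommGroup V] [Module ℂ V] [FiniteDimensional ℂ V]

/-- Schur's lemma: an endomorphism commuting with an irreducible complex representation is a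
scalar. -/
theorem schur_scalar (ρ : Representation ℂ G V) [ρ.IsIrreducible] (f : V →ₗ[ℂ] V)
    (hf : ∀ g : G, f ∘ₗ ρ g = ρ g ∘ₗ f) : ∃ c : ℂ, f = c • (1 : V →ₗ[ℂ] V) := by
  let F : IntertwiningMap ρ ρ := ⟨f, hf⟩
  obtain ⟨c, hc⟩ :=
    (IsIrreducible.algebraMap_intertwiningMap_bijective_of_isAlgClosed (ρ := ρ)).2 F
  refine ⟨c, ?_⟩
  have : F.toLinearMap = (c • (1 : IntertwiningMap ρ ρ)).toLinearMap := by
    rw [← hc]; rfl
  exact this

theorem finrank_pos_of_irreducible (ρ : Representation ℂ G V) [ρ.IsIrreducible] :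
    0 < Module.finrank ℂ V := by
  have : Nontrivial (Subrepresentation ρ) := IsSimpleOrder.toNontrivial
  rw [Module.finrank_pos_iff]
  by_contra h
  rw [not_nontrivial_iff_subsingleton] at h
  obtain ⟨a, b, hab⟩ := exists_pair_ne (Subrepresentation ρ)
  apply hab
  ext x
  have hx : x = 0 := Subsingleton.elim _ _
  rw [hx]
  exact ⟨fun _ => b.toSubmodule.zero_mem, fun _ => a.toSubmodule.zero_mem⟩

/-- The class sum `∑ t, ρ (t v t⁻¹)` acts as the scalar `|G| χ(v) / χ(1)`. -/
theorem classSum_scalar [Fintype G] (ρ : Representation ℂ G V) [ρ.IsIrreducible] (v : G) :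
    ∑ t : G, ρ (t * v * t⁻¹) =
      ((Nat.card G : ℂ) * ρ.character v / (Module.finrank ℂ V : ℂ)) • (1 : V →ₗ[ℂ] V) := by
  set A : V →ₗ[ℂ] V := ∑ t : G, ρ (t * v * t⁻¹) with hA
  have hcomm : ∀ g : G, A ∘ₗ ρ g = ρ g ∘ₗ A := by
    intro g
    have h1 : A ∘ₗ ρ g = ∑ t : G, ρ (t * v * t⁻¹ * g) := by
      rw [hA]
      show (∑ t : G, ρ (t * v * t⁻¹)) * ρ g = _
      rw [Finset.sum_mul]
      refine Finset.sum_congr rfl (fun t _ => ?_)
      rw [← map_mul]
    have h2 : ρ g ∘ₗ A = ∑ t : G, ρ (g * (t * v * t⁻¹)) := by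
      rw [hA]
      show ρ g * (∑ t : G, ρ (t * v * t⁻¹)) = _
      rw [Finset.mul_sum]
      refine Finset.sum_congr rfl (fun t _ => ?_)
      rw [← map_mul]
    rw [h1, h2]
    -- reindex t ↦ g * t
    rw [← Equiv.sum_comp (Equiv.mulLeft g) (fun t => ρ (t * v * t⁻¹ * g))]
    refine Finset.sum_congr rfl (fun t _ => ?_)
    congr 1
    simp [mul_assoc]
  obtain ⟨c, hc⟩ := schur_scalar ρ A hcomm
  have hn : (Module.finrank ℂ V : ℂ) ≠ 0 := by
    exact_mod_cast (finrank_pos_of_irreducible ρ).ne'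
  have htr : LinearMap.trace ℂ V A = (Nat.card G : ℂ) * ρ.character v := by
    rw [hA, map_sum]
    have : ∀ t : G, LinearMap.trace ℂ V (ρ (t * v * t⁻¹)) = ρ.character v := by
      intro t
      exact ρ.char_conj v t
    simp only [this, Finset.sum_const, Finset.card_univ, nsmul_eq_mul, Nat.card_eq_fintype_card]
  rw [hc, map_smul, LinearMap.trace_one, smul_eq_mul] at htr
  rw [hc]
  congr 1
  field_simp
  exact htr

/-- The class-multiplication formula for an irreducible representation. -/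
theorem sum_char_mul_conj [Fintype G] (ρ : Representation ℂ G V) [ρ.IsIrreducible] (u v : G) :
    ∑ t : G, ρ.character (u * (t * v * t⁻¹)) =
      (Nat.card G : ℂ) * ρ.character v / (Module.finrank ℂ V : ℂ) * ρ.character u := by
  have h := classSum_scalar ρ v
  have h1 : ∑ t : G, ρ.character (u * (t * v * t⁻¹)) =
      LinearMap.trace ℂ V (ρ u * ∑ t : G, ρ (t * v * t⁻¹)) := by
    rw [Finset.mul_sum, map_sum]
    refine Finset.sum_congr rfl (fun t _ => ?_)
    unfold Representation.character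
    rw [map_mul]
  rw [h1, h, mul_smul_comm, map_smul, mul_one, smul_eq_mul]
  rfl

end Schur

end Cfsg.Agent.Helper16
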