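import Cfsg.Agent.Helper16.UnionBlocks
import Cfsg.Agent.Helper16.CharBasic
import Cfsg.Agent.Helper77.NormalP
import Cfsg.Agent.Helper77.BlockOrth
import Cfsg.Agent.Helper77.RootsUnity
import Cfsg.Agent.Helper80.Pullback

/-!
# Blocks and quotients (helper16)

* `pushQ N s`: push-forward of a function along `G → G ⧸ N`; `omega_comp_mk`;
* `sameBlock_comp_mk`: inflation preserves `SameBlock`;
* `sameBlock_of_isPGroup`: a `p`-group has a single block;
* `sameBlock_of_forall_pRegular`: blocks are detected on `p`-regular classes.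
-/

set_option autoImplicit false
set_option linter.unusedSectionVars false

namespace Cfsg.Agent.Helper16

open Cfsg
open scoped ComplexConjugate

variable {G : Type*} [Group G] [Fintype G] {M : Ideal AlgInt}

section Push

variable (N : Subgroup G) [N.Normal]

open Classical in
/-- Push-forward of a function on `G` to `G ⧸ N`: sum over the fibres. -/
noncomputable def pushQ (s : G → ℂ) : G ⧸ N → ℂ :=
  fun q => ∑ x : G, if (QuotientGroup.mk x : G ⧸ N) = q then s x else 0

variable [Fintype (G ⧸ N)]

theorem sum_pushQ_mul (s : G → ℂ) (φ : G ⧸ N → ℂ) :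
    ∑ q : G ⧸ N, pushQ N s q * φ q = ∑ x : G, s x * φ (QuotientGroup.mk x) := by
  classical
  unfold pushQ
  simp_rw [Finset.sum_mul]
  rw [Finset.sum_comm]
  refine Finset.sum_congr rfl (fun x _ => ?_)
  rw [Finset.sum_eq_single (QuotientGroup.mk x : G ⧸ N)]
  · rw [if_pos rfl]
  · intro q _ hq
    rw [if_neg (Ne.symm hq), zero_mul]
  · intro h
    exact absurd (Finset.mem_univ _) h

theorem omega_comp_mk (φ : G ⧸ N → ℂ) (s : G → ℂ) :
    omega (fun g : G => φ (QuotientGroup.mk g)) s = omega φ (pushQ N s) := by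
  unfold omega
  rw [sum_pushQ_mul]
  rfl

theorem isClassFunction_pushQ {s : G → ℂ} (hs : IsClassFunction G s) :
    IsClassFunction (G ⧸ N) (pushQ N s) := by
  classical
  intro q h
  obtain ⟨y, rfl⟩ := QuotientGroup.mk_surjective h
  unfold pushQ
  rw [← Equiv.sum_comp (MulAut.conj y).toEquiv]
  refine Finset.sum_congr rfl (fun x _ => ?_)
  have h1 : (MulAut.conj y).toEquiv x = y * x * y⁻¹ := rfl
  rw [h1, hs x y]
  have h2 : (QuotientGroup.mk (y * x * y⁻¹) : G ⧸ N) =
      QuotientGroup.mk y * QuotientGroup.mk x * (QuotientGroup.mk y)⁻¹ := by simp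
  rw [h2]
  by_cases hx : (QuotientGroup.mk x : G ⧸ N) = q
  · rw [if_pos hx, if_pos (by rw [hx])]
  · rw [if_neg hx, if_neg]
    intro h3
    apply hx
    have := mul_left_cancel (mul_right_cancel h3)
    exact this

theorem memLocalRing_pushQ [M.IsPrime] {s : G → ℂ} (hs : ∀ g, MemLocalRing M (s g)) (q : G ⧸ N) :
    MemLocalRing M (pushQ N s q) := by
  classical
  unfold pushQ
  refine memLocalRing_sum _ _ (fun x _ => ?_)
  by_cases hx : (QuotientGroup.mk x : G ⧸ N) = q
  · rw [if_pos hx]; exact hs x
  · rw [if_neg hx]; exact memLocalRing_zero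

/-- The inflation of an irreducible character of `G ⧸ N` to `G`. -/
noncomputable def inflate (χ : IrrCharacter (G ⧸ N)) : IrrCharacter G :=
  ⟨fun g => (χ : G ⧸ N → ℂ) (QuotientGroup.mk g),
    Helper80.IsIrrCharacter.comp_surjective χ.2 (QuotientGroup.mk' N)
      (QuotientGroup.mk'_surjective N)⟩

theorem inflate_coe (χ : IrrCharacter (G ⧸ N)) :
    ((inflate N χ : IrrCharacter G) : G → ℂ) = (χ : G ⧸ N → ℂ) ∘ QuotientGroup.mk := rfl

/-- Inflation preserves blocks: characters of `G ⧸ N` in the same block inflate to characters of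
`G` in the same block. -/
theorem sameBlock_comp_mk [M.IsPrime] {χ ψ : IrrCharacter (G ⧸ N)}
    (h : SameBlock M (χ : G ⧸ N → ℂ) (ψ : G ⧸ N → ℂ)) :
    SameBlock M ((χ : G ⧸ N → ℂ) ∘ QuotientGroup.mk) ((ψ : G ⧸ N → ℂ) ∘ QuotientGroup.mk) := by
  classical
  intro g
  have h1 : ∀ η : IrrCharacter (G ⧸ N),
      centralChar ((η : G ⧸ N → ℂ) ∘ QuotientGroup.mk) g =
        omega (η : G ⧸ N → ℂ) (pushQ N (classInd g)) := by
    intro η
    rw [← omega_comp_mk]
    exact (omega_classInd _ (irr_isClassFunction (inflate N η)) g).symm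
  rw [h1 χ, h1 ψ]
  exact omega_sub_memLocalIdeal h (isClassFunction_pushQ N (isClassFunction_classInd g))
    (fun q => memLocalRing_pushQ N (fun x => by
      unfold classInd
      by_cases hc : IsConj g x
      · rw [if_pos hc]; exact memLocalRing_one
      · rw [if_neg hc]; exact memLocalRing_zero) q)

end Push

section PRegular

/-- Blocks are detected on `p`-regular classes. -/
theorem sameBlock_of_forall_pRegular {p : ℕ} (hM : IsPModular p M) {χ ψ : IrrCharacter G}
    (h : ∀ g : G, ¬ p ∣ orderOf g →
      MemLocalIdeal M (centralChar (χ : G → ℂ) g - centralChar (ψ : G → ℂ) g)) :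
    SameBlock M (χ : G → ℂ) (ψ : G → ℂ) := by
  classical
  haveI hMp : M.IsPrime := IsPModular.isPrime hM
  obtain ⟨hcf, hR, hom⟩ := osima_strong (M := M) χ
  have h1 := omega_eq_sum_classes (χ : G → ℂ) _ (irr_isClassFunction χ) hcf
  have h2 := omega_eq_sum_classes (ψ : G → ℂ) _ (irr_isClassFunction ψ) hcf
  have hdiff : MemLocalIdeal M (omega (χ : G → ℂ) (blockCoeff (blockOf M (χ : G → ℂ))) -
      omega (ψ : G → ℂ) (blockCoeff (blockOf M (χ : G → ℂ)))) := by
    rw [h1, h2, ← Finset.sum_sub_distrib]
    refine memLocalIdeal_sum _ _ (fun C _ => ?_)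
    rw [← mul_sub]
    by_cases hC : p ∣ orderOf (classRep C)
    · rw [Helper77.blockCoeff_eq_zero_of_dvd_orderOf hM ⟨χ, rfl⟩ _ hC, zero_mul]
      exact memLocalIdeal_zero
    · exact memLocalIdeal_mul_left (hR _) (h _ hC)
  rw [hom χ, hom ψ, if_pos (sameBlock_refl _)] at hdiff
  by_contra hns
  rw [if_neg hns, sub_zero] at hdiff
  exact not_memLocalIdeal_one hdiff

end PRegular

section PGroup

/-- The central character at a central element of `p`-power order is congruent to `1`. -/
theorem centralChar_sub_one_memLocalIdeal_of_mem_center {p : ℕ} (hM : IsPModular p M)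
    (χ : IrrCharacter G) {z : G} (hz : z ∈ Subgroup.center G) {k : ℕ} (hk : z ^ p ^ k = 1) :
    MemLocalIdeal M (centralChar (χ : G → ℂ) z - 1) := by
  obtain ⟨χ, n, ρ, hirr, rfl⟩ := χ
  haveI : ρ.IsIrreducible := hirr
  have hcomm : ∀ g : G, ρ z ∘ₗ ρ g = ρ g ∘ₗ ρ z := by
    intro g
    show ρ z * ρ g = ρ g * ρ z
    rw [← map_mul, ← map_mul, (Subgroup.mem_center_iff.mp hz g)]
  obtain ⟨c, hc⟩ := schur_scalar ρ (ρ z) hcomm
  have hdim : (Module.finrank ℂ (Fin n → ℂ) : ℂ) ≠ 0 := by
    have := finrank_pos_of_irreducible ρ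
    exact_mod_cast this.ne'
  have hcent : Subgroup.centralizer ({z} : Set G) = ⊤ := by
    ext x
    simp only [Subgroup.mem_centralizer_singleton_iff, Subgroup.mem_top, iff_true]
    first
    | exact (Subgroup.mem_center_iff.mp hz x)
    | exact (Subgroup.mem_center_iff.mp hz x).symm
  have hval : centralChar ρ.character z = c := by
    unfold centralChar
    rw [hcent, Subgroup.index_top, Representation.char_one]
    unfold Representation.character
    rw [hc]
    simp only [map_smul, LinearMap.trace_one, smul_eq_mul, Nat.cast_one, one_mul]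
    field_simp
  have hpow : c ^ p ^ k = 1 := by
    have h1 : ρ (z ^ p ^ k) = (c ^ p ^ k) • (1 : (Fin n → ℂ) →ₗ[ℂ] (Fin n → ℂ)) := by
      rw [map_pow, hc, smul_pow, one_pow]
    rw [hk, map_one] at h1
    have h2 := congrArg (LinearMap.trace ℂ (Fin n → ℂ)) h1
    simp only [map_smul, LinearMap.trace_one, smul_eq_mul] at h2
    have h3 : (1 - c ^ p ^ k) * (Module.finrank ℂ (Fin n → ℂ) : ℂ) = 0 := by
      linear_combination h2
    rcases mul_eq_zero.mp h3 with h4 | h4
    · linear_combination -h4
    · exact absurd h4 hdim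
  show MemLocalIdeal M (centralChar ρ.character z - 1)
  rw [hval]
  exact Helper77.memLocalIdeal_sub_one_of_pow_eq_one hM hpow

/-- A `p`-group has a single block. -/
theorem sameBlock_of_isPGroup {p : ℕ} [hp : Fact p.Prime] (hM : IsPModular p M)
    (hG : IsPGroup p G) (χ ψ : IrrCharacter G) :
    SameBlock M (χ : G → ℂ) (ψ : G → ℂ) := by
  classical
  haveI hMp : M.IsPrime := IsPModular.isPrime hM
  have key : ∀ (η : IrrCharacter G) (g : G), MemLocalIdeal M (centralChar (η : G → ℂ) g -
      ((Subgroup.centralizer ({g} : Set G)).index : ℂ)) := by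
    intro η g
    by_cases hg : g ∈ Subgroup.center G
    · have hcent : Subgroup.centralizer ({g} : Set G) = ⊤ := by
        ext x
        simp only [Subgroup.mem_centralizer_singleton_iff, Subgroup.mem_top, iff_true]
        first
        | exact (Subgroup.mem_center_iff.mp hg x)
        | exact (Subgroup.mem_center_iff.mp hg x).symm
      obtain ⟨k, hk⟩ := hG g
      rw [hcent, Subgroup.index_top, Nat.cast_one]
      exact centralChar_sub_one_memLocalIdeal_of_mem_center hM η hg hk
    · have hPtop : IsPGroup p (⊤ : Subgroup G) := hG.to_subgroup ⊤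
      have hg' : g ∉ Subgroup.centralizer ((⊤ : Subgroup G) : Set G) := by
        rw [Subgroup.coe_top, Subgroup.centralizer_univ]
        exact hg
      have h1 := Helper77.centralChar_memLocalIdeal_of_not_mem_centralizer hM ⊤ hPtop g hg' η
      have h2 : MemLocalIdeal M ((Subgroup.centralizer ({g} : Set G)).index : ℂ) := by
        rw [Helper77.memLocalIdeal_natCast_iff hM]
        have hidx : (Subgroup.centralizer ({g} : Set G)).index ≠ 1 := by
          intro h1'
          apply hg
          rw [Subgroup.index_eq_one] at h1'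
          rw [Subgroup.mem_center_iff]
          intro x
          have hx : x ∈ Subgroup.centralizer ({g} : Set G) := by rw [h1']; trivial
          rw [Subgroup.mem_centralizer_singleton_iff] at hx
          first
          | exact hx
          | exact hx.symm
        obtain ⟨n, hn⟩ := IsPGroup.iff_card.mp hG
        have hdvd : (Subgroup.centralizer ({g} : Set G)).index ∣ p ^ n := by
          rw [← hn]
          exact Subgroup.index_dvd_card _
        obtain ⟨j, _, hj⟩ := (Nat.dvd_prime_pow hp.out).mp hdvd
        rw [hj]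
        rcases Nat.eq_zero_or_pos j with h0 | h0
        · exfalso
          apply hidx
          rw [hj, h0, pow_zero]
        · exact dvd_pow_self p h0.ne'
      exact memLocalIdeal_sub h1 h2
  intro g
  have := memLocalIdeal_sub (key χ g) (key ψ g)
  rwa [sub_sub_sub_cancel_right] at this

end PGroup

end Cfsg.Agent.Helper16
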