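import Cfsg.Agent.Helper16.Quotient
import Cfsg.Agent.Helper16.Height
import Cfsg.Agent.Helper77.BlockRank
import Cfsg.Agent.Helper77.DefectOrder
import Cfsg.Agent.Helper78.BlockBasic
import Cfsg.Agent.Helper80.Pullback
import Cfsg.Agent.Helper80.Degree
import Cfsg.Agent.S0941
import Cfsg.Agent.S0914

/-!
# Blocks with a central defect group (helper16)

For a block `B` with a defect group `P ≤ Z(G)`: the `p`-regular parts of the members of `B` are
all multiples of the `p`-regular part of the unique member of `B` having `P` in its kernel.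
-/

set_option autoImplicit false

namespace Cfsg.Agent.Helper16

open Cfsg
open scoped ComplexConjugate

variable {G : Type*} [Group G] [Fintype G] {M : Ideal AlgInt} {p : ℕ}

theorem normal_of_le_center {P : Subgroup G} (hPZ : P ≤ Subgroup.center G) : P.Normal := by
  refine ⟨fun n hn g => ?_⟩
  have h := Subgroup.mem_center_iff.mp (hPZ hn) g
  have : g * n * g⁻¹ = n := by
    rw [h, mul_assoc, mul_inv_cancel, mul_one]
  rw [this]
  exact hn

/-- Translation by a central element multiplies an irreducible character by a scalar. -/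
theorem irr_central_mul (χ : IrrCharacter G) {z : G} (hz : z ∈ Subgroup.center G) :
    ∃ c : ℂ, ∀ g : G, (χ : G → ℂ) (z * g) = c * (χ : G → ℂ) g := by
  obtain ⟨χ, n, ρ, hirr, rfl⟩ := χ
  haveI : ρ.IsIrreducible := hirr
  have hcomm : ∀ g : G, ρ z ∘ₗ ρ g = ρ g ∘ₗ ρ z := by
    intro g
    show ρ z * ρ g = ρ g * ρ z
    rw [← map_mul, ← map_mul, (Subgroup.mem_center_iff.mp hz g)]
  obtain ⟨c, hc⟩ := schur_scalar ρ (ρ z) hcomm
  refine ⟨c, fun g => ?_⟩
  show ρ.character (z * g) = c * ρ.character g
  unfold Representation.character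
  rw [map_mul, hc, smul_mul_assoc, one_mul, map_smul, smul_eq_mul]

/-- Summing an irreducible character over a coset of a central subgroup in its kernel. -/
theorem sum_central_translate_of_ker (χ : IrrCharacter G) (P : Subgroup G) [Fintype P]
    (hPZ : P ≤ Subgroup.center G) (hker : ∀ u ∈ P, (χ : G → ℂ) u = (χ : G → ℂ) 1) (g : G) :
    ∑ z : P, (χ : G → ℂ) ((z : G) * g) = (Nat.card P : ℂ) * (χ : G → ℂ) g := by
  have h1 : ∀ z : P, (χ : G → ℂ) ((z : G) * g) = (χ : G → ℂ) g := by
    intro z
    obtain ⟨c, hc⟩ := irr_central_mul χ (hPZ z.2)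
    have hz1 := hc 1
    rw [mul_one, hker z z.2] at hz1
    have hc1 : c = 1 := by
      have hne := irr_one_ne_zero χ
      have : (c - 1) * (χ : G → ℂ) 1 = 0 := by linear_combination -hz1
      rcases mul_eq_zero.mp this with h | h
      · linear_combination h
      · exact absurd h hne
    rw [hc g, hc1, one_mul]
  rw [Finset.sum_congr rfl (fun z _ => h1 z), Finset.sum_const, Finset.card_univ,
    Nat.card_eq_fintype_card, nsmul_eq_mul]

/-- Summing an irreducible character over a coset of a central subgroup not in its kernel. -/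
theorem sum_central_translate_of_not_ker (χ : IrrCharacter G) (P : Subgroup G) [Fintype P]
    (hPZ : P ≤ Subgroup.center G) (hker : ¬ ∀ u ∈ P, (χ : G → ℂ) u = (χ : G → ℂ) 1) (g : G) :
    ∑ z : P, (χ : G → ℂ) ((z : G) * g) = 0 := by
  push_neg at hker
  obtain ⟨u, hu, hne⟩ := hker
  obtain ⟨c, hc⟩ := irr_central_mul χ (hPZ hu)
  have hc1 : c ≠ 1 := by
    intro h1
    apply hne
    have := hc 1
    rwa [mul_one, h1, one_mul] at this
  have hS : ∑ z : P, (χ : G → ℂ) ((z : G) * g) = c * ∑ z : P, (χ : G → ℂ) ((z : G) * g) := by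
    rw [Finset.mul_sum, ← Equiv.sum_comp (Equiv.mulLeft (⟨u, hu⟩ : P))]
    refine Finset.sum_congr rfl (fun z _ => ?_)
    rw [← hc]
    congr 1
    simp [mul_assoc]
  have : (1 - c) * ∑ z : P, (χ : G → ℂ) ((z : G) * g) = 0 := by linear_combination hS
  rcases mul_eq_zero.mp this with h | h
  · exfalso
    apply hc1
    linear_combination -h
  · exact h


/-- The `B`-expansion of the `p`-regular part of a member of `B`, valid at every element. -/
theorem sum_inner_pRegularPart_full (hM : IsPModular p M) {B : Set (IrrCharacter G)}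
    (hB : IsPBlock M B) (ψ : IrrCharacter G) (hψ : ψ ∈ B) (y : G) :
    ∑ χ ∈ (Set.toFinite B).toFinset,
      classInner (pRegularPart p (ψ : G → ℂ)) (pRegularPart p (χ : G → ℂ)) * (χ : G → ℂ) y =
      pRegularPart p (ψ : G → ℂ) y := by
  classical
  by_cases hy : p ∣ orderOf y
  · rw [Helper77.pRegularPart_of_sing hy]
    simp only [classInner, mul_assoc, Finset.sum_mul]
    rw [← Finset.mul_sum, Finset.sum_comm]
    have hz : ∀ x : G, ∑ χ ∈ (Set.toFinite B).toFinset,
        pRegularPart p (ψ : G → ℂ) x * (conj (pRegularPart p (χ : G → ℂ) x) * (χ : G → ℂ) y) = 0 := by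
      intro x
      by_cases hx : p ∣ orderOf x
      · simp only [Helper77.pRegularPart_of_sing hx, zero_mul, Finset.sum_const_zero]
      · simp only [Helper77.pRegularPart_of_reg hx]
        rw [← Finset.mul_sum]
        have h2 := Helper77.weak_block_orthogonality' hM hB x y hx hy
        rw [finsum_mem_eq_finite_toFinset_sum _ (Set.toFinite B)] at h2
        have h3 := congrArg conj h2
        rw [map_sum, map_zero] at h3
        have h4 : ∑ χ ∈ (Set.toFinite B).toFinset, conj ((χ : G → ℂ) x) * (χ : G → ℂ) y = 0 := by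
          rw [← h3]
          refine Finset.sum_congr rfl (fun χ _ => ?_)
          rw [map_mul, Complex.conj_conj]
        rw [h4, mul_zero]
    rw [Finset.sum_congr rfl (fun x _ => hz x), Finset.sum_const_zero, mul_zero]
  · have h := Helper77.sum_inner_pRegularPart hM hB ψ hψ y
    simp only [Helper77.pRegularPart_of_reg hy] at h ⊢
    exact h

/-- For a central `p`-subgroup `P`, the `p`-regular part of a member of `B` lies in the span of
the `p`-regular parts of the members of `B` having `P` in their kernel. -/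
theorem pRegularPart_mem_span_ker [Fact p.Prime] (hM : IsPModular p M) {B : Set (IrrCharacter G)}
    (hB : IsPBlock M B) (P : Subgroup G) (hP : IsPGroup p P) (hPZ : P ≤ Subgroup.center G)
    (ψ : IrrCharacter G) (hψ : ψ ∈ B) :
    pRegularPart p (ψ : G → ℂ) ∈ Submodule.span ℂ
      ((fun χ : IrrCharacter G => pRegularPart p (χ : G → ℂ)) ''
        {χ | χ ∈ B ∧ ∀ u ∈ P, (χ : G → ℂ) u = (χ : G → ℂ) 1}) := by
  classical
  haveI : Fintype P := Fintype.ofFinite P
  set c : IrrCharacter G → ℂ := fun χ =>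
    classInner (pRegularPart p (ψ : G → ℂ)) (pRegularPart p (χ : G → ℂ)) with hc
  have hfun : pRegularPart p (ψ : G → ℂ) = ∑ χ ∈ (Set.toFinite B).toFinset,
      (if ∀ u ∈ P, (χ : G → ℂ) u = (χ : G → ℂ) 1 then (Nat.card P : ℂ) * c χ else 0) •
        pRegularPart p (χ : G → ℂ) := by
    funext x
    rw [Finset.sum_apply]
    by_cases hx : p ∣ orderOf x
    · simp only [Pi.smul_apply, Helper77.pRegularPart_of_sing hx, smul_zero, Finset.sum_const_zero]
    · simp only [Pi.smul_apply, Helper77.pRegularPart_of_reg hx, smul_eq_mul]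
      -- the sum over `P` of `ψ⁰ (z x)` is `ψ x`
      have h1 : ∑ z : P, pRegularPart p (ψ : G → ℂ) ((z : G) * x) = (ψ : G → ℂ) x := by
        rw [Finset.sum_eq_single (1 : P)]
        · rw [Subgroup.coe_one, one_mul, Helper77.pRegularPart_of_reg hx]
        · intro z _ hz
          apply Helper77.pRegularPart_of_sing
          have hz1 : (z : G) ≠ 1 := by
            intro h
            apply hz
            exact Subtype.ext h
          exact Helper77.dvd_orderOf_mul_of_isPGroup hP z.2 hz1
            (Subgroup.mem_center_iff.mp (hPZ z.2) x).symm hx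
        · intro h
          exact absurd (Finset.mem_univ _) h
      rw [← h1]
      have h2 : ∀ z : P, pRegularPart p (ψ : G → ℂ) ((z : G) * x) =
          ∑ χ ∈ (Set.toFinite B).toFinset, c χ * (χ : G → ℂ) ((z : G) * x) := fun z =>
        (sum_inner_pRegularPart_full hM hB ψ hψ _).symm
      rw [Finset.sum_congr rfl (fun z _ => h2 z), Finset.sum_comm]
      refine Finset.sum_congr rfl (fun χ _ => ?_)
      rw [← Finset.mul_sum]
      by_cases hk : ∀ u ∈ P, (χ : G → ℂ) u = (χ : G → ℂ) 1
      · rw [if_pos hk, sum_central_translate_of_ker χ P hPZ hk]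
        ring
      · rw [if_neg hk, sum_central_translate_of_not_ker χ P hPZ hk, mul_zero, zero_mul]
  rw [hfun]
  refine Submodule.sum_mem _ (fun χ hχ => ?_)
  by_cases hk : ∀ u ∈ P, (χ : G → ℂ) u = (χ : G → ℂ) 1
  · refine Submodule.smul_mem _ _ (Submodule.subset_span ⟨χ, ⟨?_, hk⟩, rfl⟩)
    simpa using hχ
  · rw [if_neg hk, zero_smul]
    exact Submodule.zero_mem _


/-- A block with a central defect group `P` has at most one member with `P` in its kernel. -/
theorem eq_of_mem_of_ker_central_defect [hp : Fact p.Prime] (hM : IsPModular p M)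
    {B : Set (IrrCharacter G)} (hB : IsPBlock M B) (P : Subgroup G)
    (hD : IsDefectGroup p M B P) (hPZ : P ≤ Subgroup.center G) {χ χ' : IrrCharacter G}
    (hχ : χ ∈ B) (hχ' : χ' ∈ B) (hk : ∀ u ∈ P, (χ : G → ℂ) u = (χ : G → ℂ) 1)
    (hk' : ∀ u ∈ P, (χ' : G → ℂ) u = (χ' : G → ℂ) 1) : χ = χ' := by
  classical
  haveI hMp : M.IsPrime := IsPModular.isPrime hM
  haveI hPn : P.Normal := normal_of_le_center hPZ
  haveI : Fintype (G ⧸ P) := Fintype.ofFinite _
  have hcardP : Nat.card P = p ^ blockDefect p B := Helper77.card_defectGroup hM hB P hD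
  have hPp : IsPGroup p P := IsPGroup.of_card hcardP
  -- descend to the quotient
  have hdesc : ∀ η : IrrCharacter G, (∀ u ∈ P, (η : G → ℂ) u = (η : G → ℂ) 1) →
      ∃ η' : IrrCharacter (G ⧸ P), ∀ g : G, (η : G → ℂ) g = (η' : G ⧸ P → ℂ) (QuotientGroup.mk g) := by
    intro η hη
    obtain ⟨ψ, hψirr, hψ⟩ := Helper80.IsIrrCharacter.exists_descend η.2
      (QuotientGroup.mk' P) (QuotientGroup.mk'_surjective P) (by
        intro g hg
        have hgP : g ∈ P := by
          rw [← QuotientGroup.eq_one_iff]; exact hg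
        exact hη g hgP)
    exact ⟨⟨ψ, hψirr⟩, hψ⟩
  obtain ⟨ψ, hψ⟩ := hdesc χ hk
  obtain ⟨ψ', hψ'⟩ := hdesc χ' hk'
  -- the descended characters lie in the same block
  have hsame : SameBlock M (χ : G → ℂ) (χ' : G → ℂ) := Helper78.sameBlock_of_mem_of_mem hMp hB hχ hχ'
  have hcc : ∀ (η : IrrCharacter G) (η' : IrrCharacter (G ⧸ P)),
      (∀ g : G, (η : G → ℂ) g = (η' : G ⧸ P → ℂ) (QuotientGroup.mk g)) → ∀ x : G, ¬ p ∣ orderOf x →
      centralChar (η' : G ⧸ P → ℂ) (QuotientGroup.mk x) = centralChar (η : G → ℂ) x := by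
    intro η η' h x hx
    have hxP : x ∈ Subgroup.centralizer (P : Set G) := by
      rw [Subgroup.mem_centralizer_iff]
      intro u hu
      exact (Subgroup.mem_center_iff.mp (hPZ hu) x).symm
    unfold centralChar
    rw [Cfsg.Agent.S0941.index_centralizer_mk p P hPp x hxP hx, h x, h 1]
    rfl
  have hsameQ : SameBlock M (ψ : G ⧸ P → ℂ) (ψ' : G ⧸ P → ℂ) := by
    apply sameBlock_of_forall_pRegular hM
    intro q hq
    obtain ⟨x, rfl, hx⟩ := Cfsg.Agent.S0941.exists_pRegular_lift p P q hq
    rw [hcc χ ψ hψ x hx, hcc χ' ψ' hψ' x hx]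
    exact hsame x
  -- `ψ` has defect zero
  have hdeg : charDegree (ψ : G ⧸ P → ℂ) = charDegree (χ : G → ℂ) := by
    unfold charDegree
    rw [hψ 1]
    rfl
  have hdz : ¬ p ∣ Nat.card (G ⧸ P) / charDegree (ψ : G ⧸ P → ℂ) := by
    intro hdvd
    have hdvd1 : charDegree (ψ : G ⧸ P → ℂ) ∣ Nat.card (G ⧸ P) :=
      Helper80.IsIrrCharacter.charDegree_dvd_card ψ.2
    obtain ⟨t, ht⟩ := hdvd1
    have hψ0 : charDegree (ψ : G ⧸ P → ℂ) ≠ 0 := irr_charDegree_ne_zero ψ
    have ht0 : t ≠ 0 := by
      rintro rfl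
      rw [mul_zero] at ht
      exact Nat.card_pos.ne' ht
    have hquot : Nat.card (G ⧸ P) / charDegree (ψ : G ⧸ P → ℂ) = t := by
      rw [ht, Nat.mul_div_cancel_left _ (Nat.pos_of_ne_zero hψ0)]
    rw [hquot] at hdvd
    have hG : Nat.card G = Nat.card (G ⧸ P) * Nat.card P := by
      rw [← Subgroup.index_eq_card, Subgroup.index_mul_card]
    have hfacG : (Nat.card G).factorization p =
        (Nat.card (G ⧸ P)).factorization p + blockDefect p B := by
      rw [hG, Nat.factorization_mul Nat.card_pos.ne' Nat.card_pos.ne', hcardP]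
      simp only [Finsupp.coe_add, Pi.add_apply]
      rw [hp.out.factorization_pow]
      simp
    have hfacQ : (Nat.card (G ⧸ P)).factorization p =
        (charDegree (ψ : G ⧸ P → ℂ)).factorization p + t.factorization p := by
      rw [ht, Nat.factorization_mul hψ0 ht0]
      simp only [Finsupp.coe_add, Pi.add_apply]
    have hpow := pow_dvd_charDegree_of_mem (p := p) hχ
    rw [← hdeg, hp.out.pow_dvd_iff_le_factorization hψ0] at hpow
    have htpos : 1 ≤ t.factorization p :=
      (hp.out.dvd_iff_one_le_factorization ht0).mp hdvd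
    omega
  have hsingle := (Cfsg.Agent.S0914.result p M hM ψ).mp hdz
  have hmem : ψ' ∈ blockOf M (ψ : G ⧸ P → ℂ) := hsameQ
  rw [hsingle] at hmem
  have heq : ψ' = ψ := hmem
  apply Subtype.ext
  funext g
  rw [hψ g, hψ' g, heq]

end Cfsg.Agent.Helper16
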