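import Mathlib.GroupTheory.Sylow
import Mathlib.GroupTheory.Nilpotent
import Mathlib.GroupTheory.Subgroup.Centralizer

set_option autoImplicit false

namespace Cfsg.Agent.Helper16

variable {G : Type*} [Group G]

/-- `P` is (the image in `G` of) a Sylow `p`-subgroup of the subgroup `K`, stated by cardinality. -/
theorem sylowIn_iff [Finite G] (p : ℕ) [Fact p.Prime] (K P : Subgroup G) :
    (∃ S : Sylow p K, (S : Subgroup K).map K.subtype = P) ↔
      P ≤ K ∧ Nat.card P = p ^ (Nat.card K).factorization p := by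
  constructor
  · rintro ⟨S, rfl⟩
    refine ⟨Subgroup.map_subtype_le _, ?_⟩
    rw [Subgroup.card_map_of_injective K.subtype_injective]
    exact S.card_eq_multiplicity
  · rintro ⟨hle, hcard⟩
    have hc : Nat.card (P.subgroupOf K) = p ^ (Nat.card K).factorization p := by
      rw [← hcard]
      exact Nat.card_congr (Subgroup.subgroupOfEquivOfLe hle).toEquiv
    refine ⟨Sylow.ofCard (P.subgroupOf K) hc, ?_⟩
    rw [Sylow.coe_ofCard]
    exact Subgroup.map_subgroupOf_eq_of_le hle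

/-- Conjugate elements have centralizers of the same order. -/
theorem card_centralizer_conj [Finite G] (g x : G) :
    Nat.card (Subgroup.centralizer ({x * g * x⁻¹} : Set G)) =
      Nat.card (Subgroup.centralizer ({g} : Set G)) := by
  refine Nat.card_congr ?_
  refine ⟨fun u => ⟨x⁻¹ * u.1 * x, ?_⟩, fun u => ⟨x * u.1 * x⁻¹, ?_⟩, ?_, ?_⟩
  · have hu := u.2
    rw [Subgroup.mem_centralizer_singleton_iff] at hu ⊢
    have h2 : x⁻¹ * (u.1 * (x * g * x⁻¹)) * x = x⁻¹ * (x * g * x⁻¹ * u.1) * x := by rw [hu]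
    simpa [mul_assoc] using h2
  · have hu := u.2
    rw [Subgroup.mem_centralizer_singleton_iff] at hu ⊢
    have h2 : x * (u.1 * g) * x⁻¹ = x * (g * u.1) * x⁻¹ := by rw [hu]
    simpa [mul_assoc] using h2
  · intro u
    ext
    simp [mul_assoc]
  · intro u
    ext
    simp [mul_assoc]

theorem card_centralizer_of_isConj [Finite G] {g c : G} (h : IsConj g c) :
    Nat.card (Subgroup.centralizer ({c} : Set G)) =
      Nat.card (Subgroup.centralizer ({g} : Set G)) := by
  obtain ⟨x, rfl⟩ := isConj_iff.mp h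
  exact card_centralizer_conj g x

/-- Two subgroups of `K` of Sylow order are conjugate by an element of `K`. -/
theorem exists_conj_of_card [Finite G] (p : ℕ) [Fact p.Prime] (K P Q : Subgroup G)
    (hP : P ≤ K) (hQ : Q ≤ K)
    (cP : Nat.card P = p ^ (Nat.card K).factorization p)
    (cQ : Nat.card Q = p ^ (Nat.card K).factorization p) :
    ∃ t ∈ K, Q.map (MulAut.conj t).toMonoidHom = P := by
  obtain ⟨S, hS⟩ := (sylowIn_iff p K P).mpr ⟨hP, cP⟩
  obtain ⟨T, hT⟩ := (sylowIn_iff p K Q).mpr ⟨hQ, cQ⟩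
  obtain ⟨t, ht⟩ := MulAction.exists_smul_eq K T S
  refine ⟨t.1, t.2, ?_⟩
  rw [← hS, ← hT, ← ht]
  ext x
  simp only [Subgroup.mem_map, Sylow.coe_subgroup_smul, Subgroup.mem_smul_pointwise_iff_exists,
    MulAut.smul_def, MulAut.conj_apply, Subgroup.coe_subtype, MulEquiv.coe_toMonoidHom]
  constructor
  · rintro ⟨_, ⟨s, hs, rfl⟩, rfl⟩
    exact ⟨t * s * t⁻¹, ⟨s, hs, rfl⟩, by simp⟩
  · rintro ⟨_, ⟨s, hs, rfl⟩, rfl⟩
    exact ⟨s.1, ⟨s, hs, rfl⟩, by simp⟩

/-- In a finite `p`-group, a proper subgroup is properly contained in its normalizer; stated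
inside an ambient group. -/
theorem exists_normalizing_not_mem [Finite G] (p : ℕ) [Fact p.Prime] (P Q : Subgroup G)
    (hQ : IsPGroup p Q) (hPQ : P < Q) :
    ∃ x ∈ Q, x ∉ P ∧ x ∈ Subgroup.normalizer (P : Set G) := by
  have : Group.IsNilpotent Q := hQ.isNilpotent
  have hnc : NormalizerCondition Q := Group.normalizerCondition_of_isNilpotent
  have hlt : P.subgroupOf Q < ⊤ := by
    rw [lt_top_iff_ne_top]
    intro h
    rw [Subgroup.subgroupOf_eq_top] at h
    exact (not_le_of_gt hPQ) h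
  obtain ⟨_, hne⟩ := (SetLike.lt_iff_le_and_exists.mp (hnc _ hlt))
  obtain ⟨x, hxn, hxP⟩ := hne
  refine ⟨x.1, x.2, ?_, ?_⟩
  · intro hx
    exact hxP (Subgroup.mem_subgroupOf.mpr hx)
  · rw [Subgroup.mem_normalizer_iff]
    rw [Subgroup.mem_normalizer_iff] at hxn
    intro h
    constructor
    · intro hh
      have := (hxn ⟨h, hPQ.le hh⟩).mp (Subgroup.mem_subgroupOf.mpr hh)
      exact Subgroup.mem_subgroupOf.mp this
    · intro hh
      have hhQ : h ∈ Q := by
        have h1 : x.1 * h * x.1⁻¹ ∈ Q := hPQ.le hh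
        have h2 : x.1⁻¹ * (x.1 * h * x.1⁻¹) * x.1 ∈ Q := Q.mul_mem (Q.mul_mem (Q.inv_mem x.2) h1) x.2
        simpa [mul_assoc] using h2
      have := (hxn ⟨h, hhQ⟩).mpr (Subgroup.mem_subgroupOf.mpr hh)
      exact Subgroup.mem_subgroupOf.mp this

end Cfsg.Agent.Helper16
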