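import Cfsg.Agent.Helper16.MinMax
import Cfsg.Agent.Helper16.Induced
import Cfsg.Agent.Helper16.SylowIn

set_option autoImplicit false
set_option linter.unusedSectionVars false

namespace Cfsg.Agent.Helper16

open Cfsg
open scoped ComplexConjugate

section

variable {G : Type*} [Group G] [Fintype G] {M : Ideal AlgInt}

theorem classInd_conj (g x : G) : classInd (x * g * x⁻¹) = classInd g := by
  classical
  funext y
  unfold classInd
  have : IsConj (x * g * x⁻¹) y ↔ IsConj g y := by
    constructor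
    · intro h
      exact (isConj_iff.mpr ⟨x, rfl⟩ : IsConj g (x * g * x⁻¹)).trans h
    · intro h
      exact (isConj_iff.mpr ⟨x, rfl⟩ : IsConj g (x * g * x⁻¹)).symm.trans h
  by_cases h : IsConj g y
  · rw [if_pos h, if_pos (this.mpr h)]
  · rw [if_neg h, if_neg (fun h' => h (this.mp h'))]

theorem centralChar_conj {χ : G → ℂ} (hχ : IsClassFunction G χ) (g x : G) :
    centralChar χ (x * g * x⁻¹) = centralChar χ g := by
  rw [← omega_classInd χ hχ, ← omega_classInd χ hχ, classInd_conj]

theorem centralChar_of_isConj {χ : G → ℂ} (hχ : IsClassFunction G χ) {g h : G} (hc : IsConj g h) :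
    centralChar χ h = centralChar χ g := by
  obtain ⟨x, rfl⟩ := isConj_iff.mp hc
  exact centralChar_conj hχ g x

theorem blockCoeff_of_isConj [M.IsPrime] (χ₀ : IrrCharacter G) {g h : G} (hc : IsConj g h) :
    blockCoeff (blockOf M (χ₀ : G → ℂ)) h = blockCoeff (blockOf M (χ₀ : G → ℂ)) g :=
  (isClassFunction_eq_of_isConj (osima_strong (M := M) χ₀).1 hc).symm

/-- Units of the central character at one member of a block are units at every member. -/
theorem not_memLocalIdeal_centralChar_of_mem [M.IsPrime] {χ ψ : IrrCharacter G}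
    (h : SameBlock M (χ : G → ℂ) (ψ : G → ℂ)) {g : G}
    (hg : ¬ MemLocalIdeal M (centralChar (χ : G → ℂ) g)) :
    ¬ MemLocalIdeal M (centralChar (ψ : G → ℂ) g) := by
  intro hcon
  apply hg
  have := memLocalIdeal_add (h g) hcon
  simpa using this

/-- Every block has a defect class. -/
theorem exists_defectClass [M.IsPrime] (χ₀ : IrrCharacter G) :
    ∃ g : G, IsDefectClass M (blockOf M (χ₀ : G → ℂ)) g := by
  classical
  obtain ⟨hb, hbS, hbo⟩ := osima_strong (M := M) χ₀
  have h1 : omega (χ₀ : G → ℂ) (blockCoeff (blockOf M (χ₀ : G → ℂ))) = 1 := by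
    rw [hbo χ₀, if_pos (sameBlock_refl _)]
  rw [omega_eq_sum_classes _ _ (irr_isClassFunction χ₀) hb] at h1
  have hex : ∃ C : ConjClasses G, ¬ MemLocalIdeal M
      (blockCoeff (blockOf M (χ₀ : G → ℂ)) (classRep C) * centralChar (χ₀ : G → ℂ) (classRep C)) := by
    by_contra hcon
    have hall : ∀ C : ConjClasses G, MemLocalIdeal M
        (blockCoeff (blockOf M (χ₀ : G → ℂ)) (classRep C) * centralChar (χ₀ : G → ℂ) (classRep C)) := by
      intro C
      by_contra h
      exact hcon ⟨C, h⟩
    have := memLocalIdeal_sum Finset.univ _ (fun C _ => hall C)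
    rw [h1] at this
    exact not_memLocalIdeal_one this
  obtain ⟨C, hC⟩ := hex
  refine ⟨classRep C, hbS _, ?_, ?_⟩
  · intro h
    exact hC (memLocalIdeal_mul_right h (centralChar_memLocalRing χ₀ _))
  · intro χ hχ
    have h0 : ¬ MemLocalIdeal M (centralChar (χ₀ : G → ℂ) (classRep C)) := by
      intro h
      exact hC (memLocalIdeal_mul_left (hbS _) h)
    exact not_memLocalIdeal_centralChar_of_mem hχ h0

theorem isDefectClass_of_isConj [M.IsPrime] (χ₀ : IrrCharacter G) {g h : G} (hc : IsConj g h)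
    (hg : IsDefectClass M (blockOf M (χ₀ : G → ℂ)) g) :
    IsDefectClass M (blockOf M (χ₀ : G → ℂ)) h := by
  obtain ⟨h1, h2, h3⟩ := hg
  refine ⟨?_, ?_, ?_⟩
  · rw [blockCoeff_of_isConj χ₀ hc]; exact h1
  · rw [blockCoeff_of_isConj χ₀ hc]; exact h2
  · intro χ hχ
    rw [centralChar_of_isConj (irr_isClassFunction χ) hc]
    exact h3 χ hχ

/-- Reformulation of `IsDefectGroup` by cardinality. -/
theorem isDefectGroup_iff [Finite G] (p : ℕ) [Fact p.Prime] (B : Set (IrrCharacter G))
    (D : Subgroup G) :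
    IsDefectGroup p M B D ↔ ∃ g : G, IsDefectClass M B g ∧
      D ≤ Subgroup.centralizer ({g} : Set G) ∧
      Nat.card D = p ^ (Nat.card (Subgroup.centralizer ({g} : Set G))).factorization p := by
  unfold IsDefectGroup
  constructor
  · rintro ⟨g, hg, P, hP⟩
    exact ⟨g, hg, (sylowIn_iff p _ D).mp ⟨P, hP.symm⟩⟩
  · rintro ⟨g, hg, h1, h2⟩
    obtain ⟨P, hP⟩ := (sylowIn_iff p _ D).mpr ⟨h1, h2⟩
    exact ⟨g, hg, P, hP.symm⟩

/-- Every block has a defect group. -/
theorem exists_defectGroup [M.IsPrime] (p : ℕ) [Fact p.Prime] (χ₀ : IrrCharacter G) :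
    ∃ D : Subgroup G, IsDefectGroup p M (blockOf M (χ₀ : G → ℂ)) D := by
  obtain ⟨g, hg⟩ := exists_defectClass (M := M) χ₀
  obtain ⟨P⟩ : Nonempty (Sylow p (Subgroup.centralizer ({g} : Set G))) := inferInstance
  exact ⟨_, g, hg, P, rfl⟩

end

end Cfsg.Agent.Helper16
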