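import Cfsg.Agent.Helper16.UnionBlocks
import Cfsg.Agent.Helper16.Induced
import Cfsg.Agent.Helper15.Clifford
import Cfsg.Agent.S0932

/-!
# Characters and blocks of a normal subgroup (helper16)

* `omega_restrict_eq_sum_classes`: `ω_ξ(S|_H) = ∑_C S(C) λ_ξ^G(C)` for a class function `S` of `G`;
* `conjSum N θ = ∑_g θ^g`, Clifford in the form `χ_N = c • conjSum N θ`;
* `centralChar_eq_of_constituent`, `constituent_of_centralChar_eq` (statement S0963);
* `LiesOver`, `omega_ext_blockCoeff`, `liesOver_iff_of_sameBlock` (covering of blocks).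
-/

set_option autoImplicit false
set_option linter.unusedSectionVars false

namespace Cfsg.Agent.Helper16

open Cfsg Cfsg.Agent.Helper15
open scoped ComplexConjugate

universe u

variable {G : Type u} [Group G] [Fintype G]

section General

open Classical in
/-- A class function is the combination of the class indicators. -/
theorem classFunction_eq_sum_classInd {S : G → ℂ} (hS : IsClassFunction G S) (x : G) :
    S x = ∑ C : ConjClasses G, S (classRep C) * classInd (classRep C) x := by
  rw [Finset.sum_eq_single (ConjClasses.mk x)]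
  · unfold classInd
    rw [if_pos (isConj_classRep_mk x), mul_one]
    exact (isClassFunction_eq_of_isConj hS (isConj_classRep_mk x)).symm
  · intro C _ hne
    unfold classInd
    rw [if_neg, mul_zero]
    intro hc
    apply hne
    rw [← mk_classRep C]
    exact ConjClasses.mk_eq_mk_iff_isConj.mpr hc
  · intro h
    exact absurd (Finset.mem_univ _) h

open Classical in
/-- The induced central character evaluated on an arbitrary central element: `ω_ξ(S|_H)` is the
combination of the induced central characters of `ξ` with the coefficients of `S`. -/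
theorem omega_restrict_eq_sum_classes (H : Subgroup G) [Fintype H] (ξ : H → ℂ) {S : G → ℂ}
    (hS : IsClassFunction G S) :
    omega ξ (fun h : H => S h) =
      ∑ C : ConjClasses G, S (classRep C) * inducedCentralChar H ξ (classRep C) := by
  have hfun : (fun h : H => S h) =
      ∑ C : ConjClasses G, S (classRep C) • classIndRes H (classRep C) := by
    funext h
    rw [Finset.sum_apply]
    simp only [Pi.smul_apply, smul_eq_mul]
    exact classFunction_eq_sum_classInd hS (h : G)
  rw [hfun, omega_sum]
  refine Finset.sum_congr rfl (fun C _ => ?_)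
  rw [omega_smul, inducedCentralChar_eq_omega]

theorem index_centralizer_mulEquiv {H : Type*} [Group H] (e : H ≃* H) (n : H) :
    (Subgroup.centralizer ({e n} : Set H)).index = (Subgroup.centralizer ({n} : Set H)).index := by
  have : Subgroup.centralizer ({e n} : Set H) =
      (Subgroup.centralizer ({n} : Set H)).map (e : H →* H) := by
    ext x
    simp only [Subgroup.mem_map, Subgroup.mem_centralizer_singleton_iff]
    constructor
    · intro hx
      refine ⟨e.symm x, ?_, by simp⟩
      apply e.injective
      simpa using hx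
    · rintro ⟨y, hy, rfl⟩
      have h2 := congrArg e hy
      simp only [map_mul] at h2
      first | exact h2 | exact h2.symm
  rw [this, Subgroup.index_map_equiv]

end General

section Normal

variable (N : Subgroup G) [hN : N.Normal]

/-- The sum of all `G`-conjugates of a function on a normal subgroup. -/
noncomputable def conjSum (θ : N → ℂ) : N → ℂ := ∑ g : G, conjFun N g θ

theorem conjSum_apply (θ : N → ℂ) (n : N) : conjSum N θ n = ∑ g : G, conjFun N g θ n := by
  unfold conjSum
  rw [Finset.sum_apply]

theorem conjSum_conjFun (h : G) (θ : N → ℂ) : conjSum N (conjFun N h θ) = conjSum N θ := by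
  unfold conjSum
  have : ∀ g : G, conjFun N g (conjFun N h θ) = conjFun N (h * g) θ := fun g =>
    (conjFun_mul N h g θ).symm
  simp_rw [this]
  exact Fintype.sum_equiv (Equiv.mulLeft h) _ _ (fun g => rfl)

theorem conjSum_smul (c : ℂ) (θ : N → ℂ) : conjSum N (c • θ) = c • conjSum N θ := by
  unfold conjSum
  simp_rw [conjFun_smul]
  rw [Finset.smul_sum]

theorem conjSum_finset_sum {ι : Type*} (s : Finset ι) (θ : ι → N → ℂ) :
    conjSum N (∑ i ∈ s, θ i) = ∑ i ∈ s, conjSum N (θ i) := by
  unfold conjSum
  simp_rw [conjFun_finset_sum]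
  rw [Finset.sum_comm]

theorem conjSum_restrict {χ : G → ℂ} (hχ : IsClassFunction G χ) :
    conjSum N (fun n : N => χ n) = (Nat.card G : ℂ) • (fun n : N => χ n) := by
  funext n
  rw [conjSum_apply]
  simp_rw [conjFun_restrict N hχ]
  rw [Finset.sum_const, Finset.card_univ, Nat.card_eq_fintype_card]
  simp

theorem conjSum_one (θ : N → ℂ) : conjSum N θ 1 = (Nat.card G : ℂ) * θ 1 := by
  rw [conjSum_apply]
  have : ∀ g : G, conjFun N g θ 1 = θ 1 := by
    intro g
    rw [conjFun_apply]
    congr 1
    apply Subtype.ext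
    simp
  simp_rw [this]
  rw [Finset.sum_const, Finset.card_univ, Nat.card_eq_fintype_card]
  simp

theorem indFun_eq_conjSum (θ : N → ℂ) (n : N) :
    indFun N θ (n : G) = (Nat.card N : ℂ)⁻¹ * conjSum N θ n := by
  rw [indFun_normal_apply, conjSum_apply]

variable [Fintype N]

/-- **Clifford**, in averaged form: if `θ` is a constituent of `χ_N` then `χ_N` is a multiple of
the sum of all conjugates of `θ`. -/
theorem restrict_eq_smul_conjSum {χ : G → ℂ} (hχ : IsIrrCharacter G χ) {θ : N → ℂ}
    (hθ : IsIrrCharacter N θ) (h : classInner (fun n : N => χ n) θ ≠ 0) :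
    ∃ c : ℂ, ∀ n : N, χ n = c * conjSum N θ n := by
  classical
  have hχcf : IsClassFunction G χ := irr_isClassFunction ⟨χ, hχ⟩
  have hcl := clifford_restrict N hχ hθ h
  have h1 := congrArg (conjSum N) hcl
  rw [conjSum_restrict N hχcf, conjSum_smul, conjSum_finset_sum] at h1
  have h2 : ∀ φ ∈ conjOrbit N θ, conjSum N φ = conjSum N θ := by
    intro φ hφ
    obtain ⟨g, rfl⟩ := (mem_conjOrbit N).mp hφ
    exact conjSum_conjFun N g θ
  rw [Finset.sum_congr rfl h2, Finset.sum_const] at h1
  have hcard : (Nat.card G : ℂ) ≠ 0 := card_ne_zero'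
  refine ⟨(Nat.card G : ℂ)⁻¹ * (classInner (fun n : N => χ n) θ * ((conjOrbit N θ).card : ℂ)), ?_⟩
  intro n
  have h3 := congrFun h1 n
  simp only [Pi.smul_apply, smul_eq_mul, nsmul_eq_mul, Pi.mul_apply, Pi.natCast_apply] at h3
  rw [mul_assoc, mul_assoc, ← h3, ← mul_assoc, inv_mul_cancel₀ hcard, one_mul]

theorem index_centralizer_ne_zero (g : G) :
    ((Subgroup.centralizer ({g} : Set G)).index : ℂ) ≠ 0 := by
  have : (Subgroup.centralizer ({g} : Set G)).index ≠ 0 := Subgroup.index_ne_zero_of_finite
  exact_mod_cast this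

/-- The induced central character from a normal subgroup, through `conjSum`. -/
theorem inducedCentralChar_normal {θ : N → ℂ} (hθ : IsCharacter N θ) (h1 : θ 1 ≠ 0) (n : N) :
    inducedCentralChar N θ (n : G) =
      ((Subgroup.centralizer ({(n : G)} : Set G)).index : ℂ) * conjSum N θ n / conjSum N θ 1 := by
  rw [Cfsg.Agent.S0932.result N θ hθ (n : G)]
  unfold centralChar
  have h1' : indFun N θ 1 = (Nat.card N : ℂ)⁻¹ * conjSum N θ 1 := by
    have := indFun_eq_conjSum N θ 1
    simpa using this
  rw [indFun_eq_conjSum, h1']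
  have hN0 : (Nat.card N : ℂ) ≠ 0 := card_ne_zero'
  have hT1 : conjSum N θ 1 ≠ 0 := by
    rw [conjSum_one]
    exact mul_ne_zero card_ne_zero' h1
  field_simp

/-- One half of S0963: a constituent of `χ_N` has induced central character `ω_χ` on `N`. -/
theorem centralChar_eq_of_constituent (χ : IrrCharacter G) (θ : IrrCharacter N)
    (h : classInner (fun n : N => (χ : G → ℂ) n) (θ : N → ℂ) ≠ 0) (n : N) :
    centralChar (χ : G → ℂ) (n : G) = inducedCentralChar N (θ : N → ℂ) (n : G) := by
  obtain ⟨c, hc⟩ := restrict_eq_smul_conjSum N χ.2 θ.2 h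
  have hθ1 : (θ : N → ℂ) 1 ≠ 0 := irr_one_ne_zero θ
  have hχ1 : (χ : G → ℂ) 1 ≠ 0 := irr_one_ne_zero χ
  rw [inducedCentralChar_normal N (Helper79.irr_isCharacter θ) hθ1]
  unfold centralChar
  have hc1 : (χ : G → ℂ) 1 = c * conjSum N (θ : N → ℂ) 1 := by
    have := hc 1
    simpa using this
  have hc0 : c ≠ 0 := by
    intro h0
    apply hχ1
    rw [hc1, h0, zero_mul]
  have hT1 : conjSum N (θ : N → ℂ) 1 ≠ 0 := by
    intro h0
    apply hχ1
    rw [hc1, h0, mul_zero]
  rw [hc n, hc1]
  field_simp

open Classical in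
/-- The other half of S0963. -/
theorem constituent_of_centralChar_eq (χ : IrrCharacter G) (θ : IrrCharacter N)
    (h : ∀ n : N, centralChar (χ : G → ℂ) (n : G) = inducedCentralChar N (θ : N → ℂ) (n : G)) :
    classInner (fun n : N => (χ : G → ℂ) n) (θ : N → ℂ) ≠ 0 := by
  have hθ1 : (θ : N → ℂ) 1 ≠ 0 := irr_one_ne_zero θ
  have hχ1 : (χ : G → ℂ) 1 ≠ 0 := irr_one_ne_zero χ
  have hT1 : conjSum N (θ : N → ℂ) 1 ≠ 0 := by
    rw [conjSum_one]
    exact mul_ne_zero card_ne_zero' hθ1
  have hres : (fun n : N => (χ : G → ℂ) n) =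
      ((χ : G → ℂ) 1 / conjSum N (θ : N → ℂ) 1) • conjSum N (θ : N → ℂ) := by
    funext n
    have hn := h n
    rw [inducedCentralChar_normal N (Helper79.irr_isCharacter θ) hθ1] at hn
    unfold centralChar at hn
    have hidx := index_centralizer_ne_zero (n : G)
    simp only [Pi.smul_apply, smul_eq_mul]
    rw [div_eq_div_iff hχ1 hT1] at hn
    have key := mul_left_cancel₀ hidx (by linear_combination hn :
      ((Subgroup.centralizer ({(n : G)} : Set G)).index : ℂ) *
        ((χ : G → ℂ) n * conjSum N (θ : N → ℂ) 1) =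
      ((Subgroup.centralizer ({(n : G)} : Set G)).index : ℂ) *
        ((χ : G → ℂ) 1 * conjSum N (θ : N → ℂ) n))
    rw [div_mul_eq_mul_div, eq_div_iff hT1]
    exact key
  rw [hres, classInner_smul_left]
  refine mul_ne_zero (div_ne_zero hχ1 hT1) ?_
  unfold conjSum
  rw [classInner_finset_sum_left]
  have hterm : ∀ g : G, classInner (conjFun N g (θ : N → ℂ)) (θ : N → ℂ) =
      if conjFun N g (θ : N → ℂ) = (θ : N → ℂ) then 1 else 0 := by
    intro g
    let θg : IrrCharacter N := ⟨conjFun N g (θ : N → ℂ), isIrrCharacter_conjFun N θ.2 g⟩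
    by_cases hg : conjFun N g (θ : N → ℂ) = (θ : N → ℂ)
    · rw [if_pos hg, hg]
      exact Helper79.classInner_irr_self θ
    · rw [if_neg hg]
      have hne : θg ≠ θ := fun he => hg (congrArg Subtype.val he)
      exact Helper79.classInner_irr_ne hne
  simp_rw [hterm]
  rw [Finset.sum_boole]
  have : (Finset.univ.filter (fun g : G => conjFun N g (θ : N → ℂ) = (θ : N → ℂ))).card ≠ 0 := by
    apply Finset.card_ne_zero_of_mem (a := (1 : G))
    simp
  exact_mod_cast this

end Normal

end Cfsg.Agent.Helper16
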