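import Cfsg.Agent.Helper77.LocalRing
import Mathlib.LinearAlgebra.Matrix.Determinant.Basic
import Mathlib.LinearAlgebra.Matrix.NonsingularInverse
import Mathlib.LinearAlgebra.Matrix.Rank
import Mathlib.RingTheory.Ideal.Quotient.Operations

/-!
# Matrices congruent to the identity modulo the local ideal (helper16)

A square matrix over `ℂ` with local-integer entries which is congruent to the identity modulo the
local ideal has non-zero determinant.  Consequence: if `U * Vᵀ` is such a matrix for `U V : m × n`
matrices, then `|m| ≤ |n|`.
-/

set_option autoImplicit false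

namespace Cfsg.Agent.Helper16

open Cfsg Cfsg.Agent.Helper77

variable {M : Ideal AlgInt} [hMp : M.IsPrime]

include hMp in
theorem det_ne_zero_of_congr_one {n : Type*} [Fintype n] [DecidableEq n] (A : Matrix n n ℂ)
    (hA : ∀ i j, MemLocalRing M (A i j))
    (hA1 : ∀ i j, MemLocalIdeal M (A i j - (1 : Matrix n n ℂ) i j)) : A.det ≠ 0 := by
  -- lift to the local ring
  let A' : Matrix n n (localRing M) := fun i j => ⟨A i j, hA i j⟩
  have hAA' : A = (localRing M).subtype.mapMatrix A' := by
    ext i j
    rfl
  let π : localRing M →+* localRing M ⧸ localIdeal M := Ideal.Quotient.mk (localIdeal M)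
  have hπ : π.mapMatrix A' = 1 := by
    ext i j
    show π (A' i j) = (1 : Matrix n n (localRing M ⧸ localIdeal M)) i j
    by_cases hij : i = j
    · subst hij
      rw [Matrix.one_apply_eq]
      have : A' i i - 1 ∈ localIdeal M := by
        have := hA1 i i
        rw [Matrix.one_apply_eq] at this
        exact this
      have h2 := (Ideal.Quotient.eq (I := localIdeal M)).mpr this
      rw [map_one] at h2
      exact h2
    · rw [Matrix.one_apply_ne hij]
      have : A' i j ∈ localIdeal M := by
        have := hA1 i j
        rw [Matrix.one_apply_ne hij, sub_zero] at this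
        exact this
      exact (Ideal.Quotient.eq_zero_iff_mem (I := localIdeal M)).mpr this
  intro hdet
  have h1 : A'.det = 0 := by
    have h2 : (localRing M).subtype A'.det = 0 := by
      rw [RingHom.map_det, ← hAA', hdet]
    exact Subtype.ext h2
  have h3 : π A'.det = 1 := by
    rw [RingHom.map_det, hπ, Matrix.det_one]
  rw [h1, map_zero] at h3
  -- so `1 ∈ localIdeal`
  have h4 : (1 : localRing M) ∈ localIdeal M := by
    rw [← Ideal.Quotient.eq_zero_iff_mem]
    exact h3.symm
  exact localIdeal_ne_top M ((Ideal.eq_top_iff_one _).mpr h4)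

include hMp in
/-- If `U * Vᵀ ≡ 1` modulo the local ideal then there are at least as many columns as rows. -/
theorem card_le_card_of_mul_transpose_congr_one {m n : Type*} [Fintype m] [Fintype n]
    [DecidableEq m] (U V : Matrix m n ℂ)
    (hR : ∀ i j, MemLocalRing M ((U * V.transpose) i j))
    (h1 : ∀ i j, MemLocalIdeal M ((U * V.transpose) i j - (1 : Matrix m m ℂ) i j)) :
    Fintype.card m ≤ Fintype.card n := by
  have hdet := det_ne_zero_of_congr_one (M := M) (U * V.transpose) hR h1
  have hunit : IsUnit (U * V.transpose) := by
    rw [Matrix.isUnit_iff_isUnit_det]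
    exact isUnit_iff_ne_zero.mpr hdet
  have hrank := Matrix.rank_of_isUnit _ hunit
  have h2 := Matrix.rank_mul_le_left U V.transpose
  have h3 := Matrix.rank_le_card_width U
  omega

end Cfsg.Agent.Helper16
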