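import Cfsg.Agent.Helper16.Covering3
import Cfsg.Agent.Helper16.Quotient
import Cfsg.Agent.Helper16.MinMax
import Cfsg.Agent.Helper16.Defect
import Cfsg.Agent.Helper78.BlockBasic
import Cfsg.Agent.S0966
import Cfsg.Prelude.Def_BrauerPairs

/-!
# Stable blocks of a normal subgroup of `p`-power index (helper16)

`N ⊴ G` of `p`-power index, `c` a `G`-stable block of `N`.  The irreducible characters of `G`
lying over `c` form a single block `B`, whose idempotent is that of `c`; every defect group `P`
of `B` satisfies `G = N P` and `P ∩ N` is a defect group of `c`.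
-/

set_option autoImplicit false
set_option linter.unusedSectionVars false

namespace Cfsg.Agent.Helper16

open Cfsg Cfsg.Agent.Helper15
open scoped ComplexConjugate

universe u

variable {G : Type u} [Group G] [Fintype G] {M : Ideal AlgInt} {p : ℕ}

/-- `omega_eq_sum_classes` for an arbitrary `Fintype` instance on the conjugacy classes. -/
theorem omega_eq_sum_classes' {H : Type*} [Group H] [Fintype H] [Fintype (ConjClasses H)]
    (χ s : H → ℂ) (hχ : IsClassFunction H χ) (hs : IsClassFunction H s) :
    omega χ s = ∑ C : ConjClasses H, s (classRep C) * centralChar χ (classRep C) := by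
  classical
  convert omega_eq_sum_classes χ s hχ hs

section Normal

variable (N : Subgroup G) [hN : N.Normal]

/-- The class indicator of an element of a normal subgroup vanishes outside it. -/
theorem classInd_eq_zero_of_not_mem {g : G} (hg : g ∈ N) {x : G} (hx : x ∉ N) :
    classInd g x = 0 := by
  classical
  unfold classInd
  rw [if_neg]
  intro hc
  obtain ⟨y, rfl⟩ := isConj_iff.mp hc
  exact hx (hN.conj_mem g hg y)

theorem subgroupBlockCoeff_eq_extendByZero (c : Set (IrrCharacter N)) :
    subgroupBlockCoeff N c = extendByZero N (blockCoeff c) := by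
  funext g
  unfold subgroupBlockCoeff
  by_cases hg : g ∈ N
  · rw [dif_pos hg, extendByZero_of_mem N _ hg]
  · rw [dif_neg hg, extendByZero_of_not_mem N _ hg]

/-- `StabilizesBlock` for all elements gives `GStable`. -/
theorem gStable_of_stabilizesBlock {c : Set (IrrCharacter N)}
    (hst : ∀ x : G, StabilizesBlock N c x) : GStable N c := by
  intro θ hθ g
  obtain ⟨_, h⟩ := hst g⁻¹
  obtain ⟨θ', hθ', hconj⟩ := h θ hθ
  have : irrConj N g θ = θ' := by
    apply Subtype.ext
    funext n
    rw [irrConj_coe, conjFun_apply]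
    symm
    have := hconj ⟨g * n * g⁻¹, hN.conj_mem (n : G) n.2 g⟩ n (by simp [mul_assoc])
    exact this
  rw [this]
  exact hθ'

variable [Fintype N]

/-- Characters of `G` lying over the same block of a normal subgroup of `p`-power index lie in the
same block. -/
theorem sameBlock_of_liesOver_of_index [hp : Fact p.Prime] (hM : IsPModular p M)
    (hidx : ∃ k : ℕ, N.index = p ^ k) {c : Set (IrrCharacter N)} (hc : IsPBlock M c)
    {χ χ' : IrrCharacter G} (h : LiesOver N (χ : G → ℂ) c) (h' : LiesOver N (χ' : G → ℂ) c) :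
    SameBlock M (χ : G → ℂ) (χ' : G → ℂ) := by
  classical
  haveI hMp : M.IsPrime := IsPModular.isPrime hM
  obtain ⟨θ, hθ, hθχ⟩ := h
  obtain ⟨θ', hθ', hθχ'⟩ := h'
  apply sameBlock_of_forall_pRegular hM
  intro g hg
  have hgN : g ∈ N := by
    by_contra hgN
    exact hg (Cfsg.Agent.S0966.dvd_orderOf_of_not_mem N hidx hgN)
  rw [← omega_classInd _ (irr_isClassFunction χ) g, ← omega_classInd _ (irr_isClassFunction χ') g,
    omega_eq_omega_restrict_of_constituent N χ θ hθχ (isClassFunction_classInd g)
      (fun x hx => classInd_eq_zero_of_not_mem N hgN hx),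
    omega_eq_omega_restrict_of_constituent N χ' θ' hθχ' (isClassFunction_classInd g)
      (fun x hx => classInd_eq_zero_of_not_mem N hgN hx)]
  exact omega_sub_memLocalIdeal (Helper78.sameBlock_of_mem_of_mem hMp hc hθ hθ')
    (isClassFunction_classIndRes N g) (classIndRes_memLocalRing N g)

/-- **The block of `G` over a `G`-stable block of a normal subgroup of `p`-power index.** -/
theorem exists_block_over_stable [hp : Fact p.Prime] (hM : IsPModular p M)
    (hidx : ∃ k : ℕ, N.index = p ^ k) {c : Set (IrrCharacter N)} (hc : IsPBlock M c)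
    (hst : GStable N c) :
    ∃ B : Set (IrrCharacter G), IsPBlock M B ∧
      (∀ χ : IrrCharacter G, χ ∈ B ↔ LiesOver N (χ : G → ℂ) c) ∧
      blockCoeff B = extendByZero N (blockCoeff c) := by
  classical
  haveI hMp : M.IsPrime := IsPModular.isPrime hM
  obtain ⟨θ₀, hθ₀⟩ := Helper78.isPBlock_nonempty hMp hc
  obtain ⟨χ₀, hχ₀⟩ := exists_irr_over N θ₀
  have hχ₀c : LiesOver N (χ₀ : G → ℂ) c := ⟨θ₀, hθ₀, hχ₀⟩
  have hmem : ∀ χ : IrrCharacter G,
      χ ∈ blockOf M (χ₀ : G → ℂ) ↔ LiesOver N (χ : G → ℂ) c := by
    intro χ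
    constructor
    · intro hχ
      exact (liesOver_iff_of_sameBlock N hst (fun n => osima hc n) hχ).mp hχ₀c
    · intro hχ
      exact sameBlock_of_liesOver_of_index N hM hidx hc hχ₀c hχ
  refine ⟨blockOf M (χ₀ : G → ℂ), ⟨χ₀, rfl⟩, hmem, ?_⟩
  apply classFunction_ext_omega (isClassFunction_blockCoeff _)
    (isClassFunction_extendByZero N (blockCoeff_conj_of_gStable N hst))
  intro χ
  rw [omega_blockCoeff, omega_ext_blockCoeff N χ hst]
  by_cases h : LiesOver N (χ : G → ℂ) c
  · rw [if_pos h, if_pos ((hmem χ).mpr h)]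
  · rw [if_neg h, if_neg (fun h' => h ((hmem χ).mp h'))]


/-- The central character of `χ` at an element of `N`, as a sum over the `N`-classes in its
`G`-class of the central character of a constituent `θ` of `χ_N`. -/
theorem centralChar_eq_sum_classes_of_constituent [Fintype (ConjClasses N)] (χ : IrrCharacter G) (θ : IrrCharacter N)
    (h : classInner (fun n : N => (χ : G → ℂ) n) (θ : N → ℂ) ≠ 0) (n : N) :
    centralChar (χ : G → ℂ) (n : G) = ∑ C : ConjClasses N,
      classInd (n : G) ((classRep C : N) : G) * centralChar (θ : N → ℂ) (classRep C) := by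
  rw [centralChar_eq_of_constituent N χ θ h n, inducedCentralChar_eq_omega,
    omega_eq_sum_classes' _ _ (irr_isClassFunction θ) (isClassFunction_classIndRes N (n : G))]
  exact Finset.sum_congr rfl (fun C _ => rfl)

/-- For a `G`-stable block `c` of `N`, `θ ∈ c` under `χ`: the central character of `χ` at `n ∈ N`
is congruent to the number of `N`-classes in the `G`-class of `n` times the central character of
`θ` at `n`. -/
theorem centralChar_sub_memLocalIdeal_of_stable [Fintype (ConjClasses N)] [M.IsPrime] {c : Set (IrrCharacter N)}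
    (hc : IsPBlock M c) (hst : GStable N c) (χ : IrrCharacter G) (θ : IrrCharacter N) (hθ : θ ∈ c)
    (h : classInner (fun n : N => (χ : G → ℂ) n) (θ : N → ℂ) ≠ 0) (n : N) :
    MemLocalIdeal M (centralChar (χ : G → ℂ) (n : G) -
      (∑ C : ConjClasses N, classInd (n : G) ((classRep C : N) : G)) *
        centralChar (θ : N → ℂ) n) := by
  have hMp : M.IsPrime := inferInstance
  rw [centralChar_eq_sum_classes_of_constituent N χ θ h n, Finset.sum_mul,
    ← Finset.sum_sub_distrib]
  refine memLocalIdeal_sum _ _ (fun C _ => ?_)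
  rw [← mul_sub]
  by_cases hconj : IsConj (n : G) ((classRep C : N) : G)
  · obtain ⟨x, hx⟩ := isConj_iff.mp hconj
    have hrep : classRep C = ⟨x * n * x⁻¹, hN.conj_mem (n : G) n.2 x⟩ := Subtype.ext hx.symm
    have hcc := centralChar_conjFun N x (θ : N → ℂ) n
    rw [← hrep] at hcc
    rw [← hcc]
    have hsame : SameBlock M ((irrConj N x θ : IrrCharacter N) : N → ℂ) (θ : N → ℂ) :=
      Helper78.sameBlock_of_mem_of_mem hMp hc (hst θ hθ x) hθ
    have hmem := hsame n
    rw [irrConj_coe] at hmem
    unfold classInd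
    rw [if_pos hconj, one_mul]
    exact hmem
  · unfold classInd
    rw [if_neg hconj, zero_mul]
    exact memLocalIdeal_zero

/-- Class counting: the `G`-class of `n ∈ N` is the union of the `N`-classes it contains, all of
the same size. -/
theorem index_centralizer_eq_sum_classes_mul [Fintype (ConjClasses N)] (n : N) :
    ((Subgroup.centralizer ({(n : G)} : Set G)).index : ℂ) =
      (∑ C : ConjClasses N, classInd (n : G) ((classRep C : N) : G)) *
        ((Subgroup.centralizer ({n} : Set N)).index : ℂ) := by
  -- the `G`-side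
  have h1 : ∑ x : G, classInd (n : G) x = ((Subgroup.centralizer ({(n : G)} : Set G)).index : ℂ) := by
    have := omega_classInd (fun _ : G => (1 : ℂ)) (fun _ _ => rfl) (n : G)
    unfold omega centralChar at this
    simpa using this
  -- the `N`-side
  have h2 : ∑ m : N, classIndRes N (n : G) m = ∑ C : ConjClasses N,
      classInd (n : G) ((classRep C : N) : G) *
        ((Subgroup.centralizer ({classRep C} : Set N)).index : ℂ) := by
    have := omega_eq_sum_classes' (fun _ : N => (1 : ℂ)) (classIndRes N (n : G)) (fun _ _ => rfl)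
      (isClassFunction_classIndRes N (n : G))
    unfold omega centralChar at this
    simp only [mul_one, div_one] at this
    rw [this]
    exact Finset.sum_congr rfl (fun C _ => rfl)
  have h3 : ∑ x : G, classInd (n : G) x = ∑ m : N, classIndRes N (n : G) m := by
    have hfun : classInd (n : G) = extendByZero N (classIndRes N (n : G)) := by
      funext x
      by_cases hx : x ∈ N
      · rw [extendByZero_of_mem N _ hx]
        rfl
      · rw [extendByZero_of_not_mem N _ hx, classInd_eq_zero_of_not_mem N n.2 hx]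
    have := sum_extendByZero_mul N (classIndRes N (n : G)) (fun _ : G => (1 : ℂ))
    simp only [mul_one] at this
    rw [hfun, this]
  rw [← h1, h3, h2, Finset.sum_mul]
  refine Finset.sum_congr rfl (fun C _ => ?_)
  by_cases hconj : IsConj (n : G) ((classRep C : N) : G)
  · obtain ⟨x, hx⟩ := isConj_iff.mp hconj
    have hrep : classRep C = (MulAut.conjNormal x : N ≃* N) n := by
      apply Subtype.ext
      rw [MulAut.conjNormal_apply]
      exact hx.symm
    rw [hrep, index_centralizer_mulEquiv]
  · unfold classInd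
    rw [if_neg hconj, zero_mul, zero_mul]


omit [Fintype G] [Fintype N] hN in
/-- `|K| = [K : K ∩ N] |K ∩ N|`. -/
theorem card_eq_relIndex_mul_card_inf [Finite G] (K : Subgroup G) :
    Nat.card K = N.relIndex K * Nat.card (K ⊓ N : Subgroup G) := by
  have h1 := Subgroup.card_mul_index (N.subgroupOf K)
  have h2 : Nat.card (N.subgroupOf K) = Nat.card (K ⊓ N : Subgroup G) := by
    rw [← Subgroup.inf_subgroupOf_right N K, inf_comm]
    exact Nat.card_congr (Subgroup.subgroupOfEquivOfLe inf_le_left).toEquiv
  rw [← h1, h2, mul_comm]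
  rfl

omit [Fintype G] [Fintype N] hN in
/-- The centralizer of `n` in `N` has the order of `C_G(n) ∩ N`. -/
theorem card_centralizer_subgroup (n : N) :
    Nat.card (Subgroup.centralizer ({n} : Set N)) =
      Nat.card (Subgroup.centralizer ({(n : G)} : Set G) ⊓ N : Subgroup G) := by
  have hmap : (Subgroup.centralizer ({n} : Set N)).map N.subtype =
      Subgroup.centralizer ({(n : G)} : Set G) ⊓ N := by
    ext x
    simp only [Subgroup.mem_map, Subgroup.mem_inf, Subgroup.mem_centralizer_singleton_iff,
      Subgroup.coe_subtype]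
    constructor
    · rintro ⟨y, hy, rfl⟩
      refine ⟨?_, y.2⟩
      have := congrArg (fun z : N => (z : G)) hy
      simpa using this
    · rintro ⟨hx, hxN⟩
      refine ⟨⟨x, hxN⟩, ?_, rfl⟩
      apply Subtype.ext
      simpa using hx
  rw [← hmap, Subgroup.card_map_of_injective N.subtype_injective]


/-- **Defect groups of the block over a stable block of a normal subgroup of `p`-power index.** -/
theorem defect_of_stable_block [hp : Fact p.Prime] (hM : IsPModular p M)
    (hidx : ∃ k : ℕ, N.index = p ^ k) {c : Set (IrrCharacter N)} (hc : IsPBlock M c)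
    (hst : GStable N c) {B : Set (IrrCharacter G)}
    (hBc : blockCoeff B = extendByZero N (blockCoeff c)) {P : Subgroup G}
    (hP : IsDefectGroup p M B P) :
    N ⊔ P = ⊤ ∧ IsDefectGroup p M c ((P ⊓ N).subgroupOf N) := by
  classical
  haveI hMp : M.IsPrime := IsPModular.isPrime hM
  have hpp : p.Prime := hp.out
  obtain ⟨k, hk⟩ := hidx
  obtain ⟨g, hdc, hPle, hPcard⟩ := (isDefectGroup_iff p B P).mp hP
  obtain ⟨hR, hnI, hcen⟩ := hdc
  -- `g ∈ N`
  have hgN : g ∈ N := by
    by_contra hgN
    apply hnI
    rw [hBc, extendByZero_of_not_mem N _ hgN]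
    exact memLocalIdeal_zero
  have hcoeff : blockCoeff c ⟨g, hgN⟩ = blockCoeff B g := by
    rw [hBc, extendByZero_of_mem N _ hgN]
  -- membership in `B`
  have hmemB : ∀ χ : IrrCharacter G, LiesOver N (χ : G → ℂ) c → χ ∈ B := by
    intro χ hχ
    have h1 := omega_blockCoeff B χ
    rw [hBc, omega_ext_blockCoeff N χ hst, if_pos hχ] at h1
    by_contra hne
    rw [if_neg hne] at h1
    exact one_ne_zero h1
  -- the number of `N`-classes in the class of `g`
  obtain ⟨m, hm⟩ : ∃ m : ℕ, (∑ C : ConjClasses N,
      classInd g ((classRep C : N) : G)) = (m : ℂ) := by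
    refine ⟨(Finset.univ.filter
      (fun C : ConjClasses N => IsConj g ((classRep C : N) : G))).card, ?_⟩
    unfold classInd
    rw [Finset.card_eq_sum_ones, Finset.sum_filter]
    push_cast
    refine Finset.sum_congr rfl (fun C _ => ?_)
    by_cases h : IsConj g ((classRep C : N) : G)
    · rw [if_pos h, if_pos h]
    · rw [if_neg h, if_neg h]
  set C : Subgroup G := Subgroup.centralizer ({g} : Set G) with hCdef
  set C' : Subgroup N := Subgroup.centralizer ({(⟨g, hgN⟩ : N)} : Set N) with hC'def
  have hidxeq : C.index = m * C'.index := by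
    have := index_centralizer_eq_sum_classes_mul N (⟨g, hgN⟩ : N)
    rw [hm] at this
    exact_mod_cast this
  have hCcard : Nat.card C * C.index = Nat.card G := Subgroup.card_mul_index C
  have hC'card : Nat.card C' * C'.index = Nat.card N := Subgroup.card_mul_index C'
  have hNcard : Nat.card N * N.index = Nat.card G := Subgroup.card_mul_index N
  have hCr : Nat.card C = N.relIndex C * Nat.card (C ⊓ N : Subgroup G) :=
    card_eq_relIndex_mul_card_inf N C
  have hC'eq : Nat.card C' = Nat.card (C ⊓ N : Subgroup G) :=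
    card_centralizer_subgroup N (⟨g, hgN⟩ : N)
  have hC'pos : 0 < Nat.card C' * C'.index := by
    rw [hC'card]; exact Nat.card_pos
  have hmr : m * N.relIndex C = p ^ k := by
    apply Nat.eq_of_mul_eq_mul_left hC'pos
    calc Nat.card C' * C'.index * (m * N.relIndex C)
        = (N.relIndex C * Nat.card C') * (m * C'.index) := by ring
      _ = Nat.card C * C.index := by rw [hC'eq, ← hCr, ← hidxeq]
      _ = Nat.card G := hCcard
      _ = Nat.card N * N.index := hNcard.symm
      _ = Nat.card C' * C'.index * p ^ k := by rw [hC'card, hk]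
  -- a pair `θ₀ ∈ c`, `χ₀` over `θ₀`
  obtain ⟨θ₀, hθ₀⟩ := Helper78.isPBlock_nonempty hMp hc
  obtain ⟨χ₀, hχ₀⟩ := exists_irr_over N θ₀
  have hχ₀B : χ₀ ∈ B := hmemB χ₀ ⟨θ₀, hθ₀, hχ₀⟩
  -- `m = 1`
  have hm1 : m = 1 := by
    obtain ⟨j, _, hj⟩ := (Nat.dvd_prime_pow hpp).mp (Dvd.intro _ hmr)
    rcases Nat.eq_zero_or_pos j with hj0 | hjpos
    · rw [hj, hj0, pow_zero]
    · exfalso
      have hpm : p ∣ m := by
        rw [hj]
        exact dvd_pow_self p hjpos.ne'
      have hcong := centralChar_sub_memLocalIdeal_of_stable N hc hst χ₀ θ₀ hθ₀ hχ₀ ⟨g, hgN⟩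
      rw [hm] at hcong
      have hmI : MemLocalIdeal M ((m : ℂ) * centralChar (θ₀ : N → ℂ) ⟨g, hgN⟩) :=
        memLocalIdeal_mul_right ((Helper77.memLocalIdeal_natCast_iff hM m).mpr hpm)
          (centralChar_memLocalRing θ₀ _)
      have := memLocalIdeal_add hcong hmI
      rw [sub_add_cancel] at this
      exact hcen χ₀ hχ₀B this
  have hr : N.relIndex C = p ^ k := by
    rw [hm1, one_mul] at hmr
    exact hmr
  -- the defect class of `c`
  have hdc' : IsDefectClass M c (⟨g, hgN⟩ : N) := by
    refine ⟨by rw [hcoeff]; exact hR, by rw [hcoeff]; exact hnI, fun θ hθ hθI => ?_⟩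
    obtain ⟨χ, hχ⟩ := exists_irr_over N θ
    have hχB : χ ∈ B := hmemB χ ⟨θ, hθ, hχ⟩
    have hcong := centralChar_sub_memLocalIdeal_of_stable N hc hst χ θ hθ hχ ⟨g, hgN⟩
    rw [hm, hm1, Nat.cast_one, one_mul] at hcong
    have := memLocalIdeal_add hcong hθI
    rw [sub_add_cancel] at this
    exact hcen χ hχB this
  -- Sylow arithmetic
  have hC'ne : Nat.card C' ≠ 0 := Nat.card_pos.ne'
  have hfacC : (Nat.card C).factorization p = k + (Nat.card C').factorization p := by
    rw [hCr, hr, ← hC'eq, Nat.factorization_mul (pow_ne_zero _ hpp.ne_zero) hC'ne]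
    simp only [Finsupp.coe_add, Pi.add_apply]
    rw [hpp.factorization_pow]
    simp
  have hPr : Nat.card P = N.relIndex P * Nat.card (P ⊓ N : Subgroup G) :=
    card_eq_relIndex_mul_card_inf N P
  have hrel_dvd : N.relIndex P ∣ p ^ k := by
    rw [← hk]
    exact Subgroup.relIndex_dvd_index_of_normal N P
  have hinf_dvd : Nat.card (P ⊓ N : Subgroup G) ∣ Nat.card C' := by
    rw [hC'eq]
    exact Subgroup.card_dvd_of_le (inf_le_inf_right N hPle)
  have hinf_dvdP : Nat.card (P ⊓ N : Subgroup G) ∣ p ^ (Nat.card C).factorization p := by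
    rw [← hPcard]
    exact Subgroup.card_dvd_of_le inf_le_left
  obtain ⟨i, hik, hi⟩ := (Nat.dvd_prime_pow hpp).mp hrel_dvd
  obtain ⟨j, _, hj⟩ := (Nat.dvd_prime_pow hpp).mp hinf_dvdP
  have hjle : j ≤ (Nat.card C').factorization p := by
    rw [hj] at hinf_dvd
    exact (hpp.pow_dvd_iff_le_factorization hC'ne).mp hinf_dvd
  have hsum : i + j = k + (Nat.card C').factorization p := by
    have h1 : p ^ (i + j) = p ^ (k + (Nat.card C').factorization p) := by
      rw [pow_add, ← hi, ← hj, ← hPr, hPcard, hfacC]
    exact Nat.pow_right_injective hpp.two_le h1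
  have hi_eq : i = k := by omega
  have hj_eq : j = (Nat.card C').factorization p := by omega
  refine ⟨?_, ?_⟩
  · -- `N ⊔ P = ⊤`
    have h1 : N.relIndex (P ⊔ N) = N.index := by
      rw [Subgroup.relIndex_sup_right, hi, hi_eq, hk]
    have h2 := Subgroup.relIndex_mul_index (le_sup_right : N ≤ P ⊔ N)
    rw [h1] at h2
    have hidx0 : N.index ≠ 0 := Subgroup.index_ne_zero_of_finite
    have h3 : (P ⊔ N).index = 1 := by
      have : N.index * (P ⊔ N).index = N.index * 1 := by rw [h2, mul_one]
      exact Nat.eq_of_mul_eq_mul_left (Nat.pos_of_ne_zero hidx0) this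
    rw [sup_comm]
    exact Subgroup.index_eq_one.mp h3
  · -- the defect group of `c`
    refine (isDefectGroup_iff p c _).mpr ⟨⟨g, hgN⟩, hdc', ?_, ?_⟩
    · intro q hq
      rw [Subgroup.mem_subgroupOf] at hq
      have hqC : (q : G) ∈ C := hPle hq.1
      rw [hCdef, Subgroup.mem_centralizer_singleton_iff] at hqC
      rw [Subgroup.mem_centralizer_singleton_iff]
      apply Subtype.ext
      simpa using hqC
    · have hcardQ : Nat.card ((P ⊓ N).subgroupOf N) = Nat.card (P ⊓ N : Subgroup G) :=
        Nat.card_congr (Subgroup.subgroupOfEquivOfLe inf_le_right).toEquiv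
      rw [hcardQ, hj, hj_eq]

end Normal

end Cfsg.Agent.Helper16
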