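import Cfsg.Agent.Helper16.Covering3
import Cfsg.Agent.Helper16.StableBlock
import Cfsg.Agent.Helper16.DetLocal
import Cfsg.Agent.Helper16.Idempotent
import Cfsg.Agent.Helper78.BlockBasic
import Cfsg.Agent.Helper80.CharLevel
import Mathlib.GroupTheory.SchurZassenhaus

/-!
# Counting blocks of a group with a normal Sylow `p`-subgroup
-/

set_option autoImplicit false
set_option linter.unusedSectionVars false
set_option linter.unusedVariables false

namespace Cfsg.Agent.Helper16

open Cfsg
open scoped ComplexConjugate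

universe u

theorem classInd_of_isConj'' {H : Type*} [Group H] {g x : H} (h : IsConj g x) :
    classInd g x = 1 := by
  classical
  unfold classInd
  rw [if_pos h]

theorem classInd_of_not_isConj'' {H : Type*} [Group H] {g x : H} (h : ¬ IsConj g x) :
    classInd g x = 0 := by
  classical
  unfold classInd
  rw [if_neg h]

section Core

variable {H : Type u} [Group H] [Finite H]

/-- If `P` is a normal `p`-subgroup of index prime to `p`, the `p`-regular elements of `C_H(P)`
lie in a normal subgroup of order prime to `p`. -/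
theorem exists_pRegular_core (p : ℕ) [Fact p.Prime] (P : Subgroup H) [P.Normal]
    (hP : IsPGroup p P) (hidx : ¬ p ∣ P.index) :
    ∃ K : Subgroup H, K.Normal ∧ ¬ p ∣ Nat.card K ∧
      (∀ x ∈ Subgroup.centralizer (P : Set H), ¬ p ∣ orderOf x → x ∈ K) ∧
      K ≤ Subgroup.centralizer (P : Set H) := by
  have hp : p.Prime := Fact.out
  have hZp : IsPGroup p (P.subgroupOf (Subgroup.centralizer (P : Set H))) := hP.comap_subtype
  have hZidx : ¬ p ∣ (P.subgroupOf (Subgroup.centralizer (P : Set H))).index := by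
    intro h
    apply hidx
    exact h.trans (Subgroup.relIndex_dvd_index_of_normal P _)
  obtain ⟨k, hk⟩ := hZp.exists_card_eq
  have hcop : Nat.Coprime (Nat.card (P.subgroupOf (Subgroup.centralizer (P : Set H))))
      (P.subgroupOf (Subgroup.centralizer (P : Set H))).index := by
    rw [hk]
    exact Nat.Coprime.pow_left k ((Nat.Prime.coprime_iff_not_dvd hp).mpr hZidx)
  obtain ⟨K₀, hK₀⟩ := Subgroup.exists_right_complement'_of_coprime hcop
  have hcardK₀ : Nat.card K₀ = (P.subgroupOf (Subgroup.centralizer (P : Set H))).index := by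
    have h1 : Nat.card (P.subgroupOf (Subgroup.centralizer (P : Set H))) * Nat.card K₀ =
        Nat.card (Subgroup.centralizer (P : Set H)) := hK₀.card_mul_card
    have h2 := Subgroup.card_mul_index (P.subgroupOf (Subgroup.centralizer (P : Set H)))
    have hpos : 0 < Nat.card (P.subgroupOf (Subgroup.centralizer (P : Set H))) := Nat.card_pos
    exact Nat.eq_of_mul_eq_mul_left hpos (h1.trans h2.symm)
  have hK₀p : ¬ p ∣ Nat.card K₀ := by rw [hcardK₀]; exact hZidx
  -- the key property
  have key : ∀ x : Subgroup.centralizer (P : Set H), ¬ p ∣ orderOf x → x ∈ K₀ := by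
    intro x hx
    obtain ⟨⟨z, c⟩, hzc, -⟩ := hK₀.existsUnique x
    simp only at hzc
    -- `z` is central
    have hzcomm : Commute (z : Subgroup.centralizer (P : Set H)) (c : Subgroup.centralizer (P : Set H)) := by
      have hzP : ((z : Subgroup.centralizer (P : Set H)) : H) ∈ P := Subgroup.mem_subgroupOf.mp z.2
      have hc := (c : Subgroup.centralizer (P : Set H)).2
      rw [Subgroup.mem_centralizer_iff] at hc
      have := hc _ hzP
      exact Subtype.ext this
    have hcpow : (c : Subgroup.centralizer (P : Set H)) ^ Nat.card K₀ = 1 := by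
      have h2 : orderOf (⟨c.1, c.2⟩ : K₀) = orderOf c.1 := Subgroup.orderOf_mk c.1 c.2
      have h3 : orderOf c.1 ∣ Nat.card K₀ := h2 ▸ orderOf_dvd_natCard (⟨c.1, c.2⟩ : K₀)
      exact orderOf_dvd_iff_pow_eq_one.mp h3
    have hxpow : x ^ Nat.card K₀ = (z : Subgroup.centralizer (P : Set H)) ^ Nat.card K₀ := by
      rw [← hzc, hzcomm.mul_pow, hcpow, mul_one]
    have hzpow : (z : Subgroup.centralizer (P : Set H)) ^ (Nat.card K₀ * orderOf x) = 1 := by
      rw [pow_mul, ← hxpow, ← pow_mul, mul_comm, pow_mul, pow_orderOf_eq_one, one_pow]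
    obtain ⟨j, hj⟩ := hZp ⟨z.1, z.2⟩
    have hj' : (z : Subgroup.centralizer (P : Set H)) ^ p ^ j = 1 := by
      have h2 := congrArg (Subtype.val : (P.subgroupOf (Subgroup.centralizer (P : Set H))) →
        Subgroup.centralizer (P : Set H)) hj
      simpa using h2
    have hd1 : orderOf (z : Subgroup.centralizer (P : Set H)) ∣ Nat.card K₀ * orderOf x :=
      orderOf_dvd_of_pow_eq_one hzpow
    have hd2 : orderOf (z : Subgroup.centralizer (P : Set H)) ∣ p ^ j :=
      orderOf_dvd_of_pow_eq_one hj'
    have hcop2 : Nat.Coprime (Nat.card K₀ * orderOf x) (p ^ j) := by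
      apply Nat.Coprime.pow_right
      apply Nat.Coprime.mul_left
      · exact ((Nat.Prime.coprime_iff_not_dvd hp).mpr hK₀p).symm
      · exact ((Nat.Prime.coprime_iff_not_dvd hp).mpr hx).symm
    have hz1 : (z : Subgroup.centralizer (P : Set H)) = 1 :=
      orderOf_eq_one_iff.mp (Nat.eq_one_of_dvd_coprimes hcop2 hd1 hd2)
    rw [hz1, one_mul] at hzc
    rw [← hzc]
    exact c.2
  refine ⟨K₀.map (Subgroup.centralizer (P : Set H)).subtype, ?_, ?_, ?_,
    Subgroup.map_subtype_le _⟩
  · refine ⟨fun n hn g => ?_⟩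
    obtain ⟨c, hc, rfl⟩ := hn
    have hmem : g * (c : H) * g⁻¹ ∈ Subgroup.centralizer (P : Set H) :=
      (inferInstance : (Subgroup.centralizer (P : Set H)).Normal).conj_mem _ c.2 g
    have hord : ¬ p ∣ orderOf (⟨g * (c : H) * g⁻¹, hmem⟩ : Subgroup.centralizer (P : Set H)) := by
      have h1 : orderOf (⟨g * (c : H) * g⁻¹, hmem⟩ : Subgroup.centralizer (P : Set H)) =
          orderOf c := by
        rw [← Subgroup.orderOf_coe, ← Subgroup.orderOf_coe c]
        exact MulEquiv.orderOf_eq (MulAut.conj g) (c : H)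
      rw [h1]
      intro hd
      apply hK₀p
      have h2 : orderOf (⟨c, hc⟩ : K₀) = orderOf c := Subgroup.orderOf_mk c hc
      exact hd.trans (h2 ▸ orderOf_dvd_natCard (⟨c, hc⟩ : K₀))
    exact ⟨⟨g * (c : H) * g⁻¹, hmem⟩, key _ hord, rfl⟩
  · rw [Subgroup.card_map_of_injective (Subgroup.subtype_injective _)]
    exact hK₀p
  · intro x hx hxreg
    have hord : ¬ p ∣ orderOf (⟨x, hx⟩ : Subgroup.centralizer (P : Set H)) := by
      rw [Subgroup.orderOf_mk]; exact hxreg
    exact ⟨⟨x, hx⟩, key _ hord, rfl⟩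

end Core

section Count

variable {H : Type u} [Group H] [Fintype H] {M : Ideal AlgInt}

/-- In a group with a normal Sylow `p`-subgroup `P`, there are at least as many blocks as there are
`p`-regular classes contained in `C_H(P)`. -/
theorem card_pRegular_classes_le_card_blocks (p : ℕ) [Fact p.Prime] (hM : IsPModular p M)
    (P : Subgroup H) [P.Normal] (hP : IsPGroup p P) (hidx : ¬ p ∣ P.index) :
    Nat.card {C : ConjClasses H // ∀ n : H, ConjClasses.mk n = C →
        ¬ p ∣ orderOf n ∧ n ∈ Subgroup.centralizer (P : Set H)} ≤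
      Nat.card {B : Set (IrrCharacter H) // IsPBlock M B} := by
  classical
  haveI hMp : M.IsPrime := IsPModular.isPrime hM
  obtain ⟨K, hKn, hKp, hK3, -⟩ := exists_pRegular_core p P hP hidx
  haveI : K.Normal := hKn
  haveI : Fintype K := Fintype.ofFinite K
  rw [Nat.card_eq_fintype_card, Nat.card_eq_fintype_card]
  -- representatives in `K`
  let kk : {C : ConjClasses H // ∀ n : H, ConjClasses.mk n = C →
      ¬ p ∣ orderOf n ∧ n ∈ Subgroup.centralizer (P : Set H)} → K :=
    fun i => ⟨classRep i.1, hK3 _ (i.2 _ (mk_classRep _)).2 (i.2 _ (mk_classRep _)).1⟩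
  have hkk : ∀ i, ((kk i : K) : H) = classRep i.1 := fun i => rfl
  -- characters over characters of `K`
  have hover : ∀ θ : IrrCharacter K, ∃ ξ : IrrCharacter H,
      classInner (fun k : K => (ξ : H → ℂ) k) (θ : K → ℂ) ≠ 0 := fun θ => exists_irr_over K θ
  choose ξ hξ using hover
  let Bθ : IrrCharacter K → {B : Set (IrrCharacter H) // IsPBlock M B} :=
    fun θ => ⟨blockOf M (ξ θ : H → ℂ), ⟨ξ θ, rfl⟩⟩
  have hsel : ∀ B : {B : Set (IrrCharacter H) // IsPBlock M B}, ∃ χ : IrrCharacter H, χ ∈ B.1 :=
    fun B => Helper78.isPBlock_nonempty hMp B.2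
  choose χsel hχsel using hsel
  let t : IrrCharacter K → {C : ConjClasses H // ∀ n : H, ConjClasses.mk n = C →
      ¬ p ∣ orderOf n ∧ n ∈ Subgroup.centralizer (P : Set H)} → ℂ :=
    fun θ j => (θ : K → ℂ) 1 * conj ((θ : K → ℂ) (kk j))
  let U : Matrix {C : ConjClasses H // ∀ n : H, ConjClasses.mk n = C →
      ¬ p ∣ orderOf n ∧ n ∈ Subgroup.centralizer (P : Set H)}
      {B : Set (IrrCharacter H) // IsPBlock M B} ℂ :=
    fun i B => centralChar (χsel B : H → ℂ) (kk i : H)
  let V : Matrix {C : ConjClasses H // ∀ n : H, ConjClasses.mk n = C →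
      ¬ p ∣ orderOf n ∧ n ∈ Subgroup.centralizer (P : Set H)}
      {B : Set (IrrCharacter H) // IsPBlock M B} ℂ :=
    fun j B => (Nat.card K : ℂ)⁻¹ * ∑ θ : IrrCharacter K, if Bθ θ = B then t θ j else 0
  have htR : ∀ θ j, MemLocalRing M (t θ j) := by
    intro θ j
    refine memLocalRing_mul (memLocalRing_of_isIntegral
      (Helper80.IsCharacter.isIntegral (Helper79.irr_isCharacter θ) 1)) ?_
    have h1 := Helper80.IsCharacter.isIntegral (Helper79.irr_isCharacter θ) (kk j)
    have h2 : IsIntegral ℤ (conj ((θ : K → ℂ) (kk j))) := by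
      have := h1.map (starRingEnd ℂ).toIntAlgHom
      simpa using this
    exact memLocalRing_of_isIntegral h2
  have hKinv : MemLocalRing M ((Nat.card K : ℂ)⁻¹) := memLocalRing_inv_natCast hM hKp
  -- the product matrix
  have hprod : ∀ i j, (U * V.transpose) i j = (Nat.card K : ℂ)⁻¹ *
      ∑ θ : IrrCharacter K, centralChar (χsel (Bθ θ) : H → ℂ) (kk i : H) * t θ j := by
    intro i j
    rw [Matrix.mul_apply]
    simp only [Matrix.transpose_apply]
    show ∑ B, centralChar (χsel B : H → ℂ) (kk i : H) *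
      ((Nat.card K : ℂ)⁻¹ * ∑ θ : IrrCharacter K, if Bθ θ = B then t θ j else 0) = _
    simp_rw [Finset.mul_sum]
    rw [Finset.sum_comm]
    refine Finset.sum_congr rfl (fun θ _ => ?_)
    rw [Finset.sum_eq_single (Bθ θ)]
    · rw [if_pos rfl]; ring
    · intro B _ hne
      rw [if_neg (fun h => hne h.symm), mul_zero, mul_zero]
    · intro h; exact absurd (Finset.mem_univ _) h
  -- the identity matrix
  have hone : ∀ i j, (1 : Matrix {C : ConjClasses H // ∀ n : H, ConjClasses.mk n = C →
      ¬ p ∣ orderOf n ∧ n ∈ Subgroup.centralizer (P : Set H)} _ ℂ) i j = (Nat.card K : ℂ)⁻¹ *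
      ∑ θ : IrrCharacter K, centralChar (ξ θ : H → ℂ) (kk i : H) * t θ j := by
    intro i j
    have hcf : IsClassFunction K (fun k : K => classInd ((kk i : K) : H) (k : H)) := by
      intro k h
      exact isClassFunction_classInd ((kk i : K) : H) (k : H) (h : H)
    have h1 := classFunction_eq_sum_omega hcf (kk j)
    have h2 : (fun k : K => classInd ((kk i : K) : H) (k : H)) (kk j) =
        (1 : Matrix {C : ConjClasses H // ∀ n : H, ConjClasses.mk n = C →
          ¬ p ∣ orderOf n ∧ n ∈ Subgroup.centralizer (P : Set H)} _ ℂ) i j := by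
      rw [Matrix.one_apply]
      by_cases hij : i = j
      · rw [if_pos hij, hij]
        exact classInd_of_isConj'' (IsConj.refl _)
      · rw [if_neg hij]
        apply classInd_of_not_isConj''
        intro hc
        apply hij
        apply Subtype.ext
        rw [← mk_classRep i.1, ← mk_classRep j.1]
        exact ConjClasses.mk_eq_mk_iff_isConj.mpr hc
    rw [← h2]
    refine h1.trans ?_
    congr 1
    refine Finset.sum_congr rfl (fun θ _ => ?_)
    rw [← omega_eq_omega_restrict_of_constituent K (ξ θ) θ (hξ θ)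
      (isClassFunction_classInd _) (fun x hx => classInd_eq_zero_of_not_mem K (kk i).2 hx),
      omega_classInd _ (irr_isClassFunction (ξ θ)), mul_assoc]
  refine card_le_card_of_mul_transpose_congr_one (M := M) U V ?_ ?_
  · intro i j
    rw [hprod]
    refine memLocalRing_mul hKinv (memLocalRing_sum _ _ (fun θ _ => ?_))
    exact memLocalRing_mul (memLocalRing_of_isIntegral (irr_isIntegral_centralChar _ _)) (htR θ j)
  · intro i j
    rw [hprod, hone, ← mul_sub, ← Finset.sum_sub_distrib]
    refine memLocalIdeal_mul_left hKinv (memLocalIdeal_sum _ _ (fun θ _ => ?_))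
    rw [← sub_mul]
    refine memLocalIdeal_mul_right ?_ (htR θ j)
    have hsb : SameBlock M (ξ θ : H → ℂ) (χsel (Bθ θ) : H → ℂ) := hχsel (Bθ θ)
    have := memLocalIdeal_neg (hsb (kk i : H))
    rwa [neg_sub] at this

end Count

end Cfsg.Agent.Helper16
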