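import Cfsg.Agent.S0952
import Cfsg.Agent.Helper16.SylowBlocks
import Cfsg.Agent.Helper16.Covering
import Cfsg.Agent.Helper78.IrrTransport
import Cfsg.Agent.Helper78.BrauerHom

/-!
# Towards Brauer's third main theorem: the indicator of the `p`-regular elements
-/

set_option autoImplicit false
set_option linter.unusedSectionVars false
set_option linter.unusedVariables false

namespace Cfsg.Agent.Helper16

open Cfsg
open scoped ComplexConjugate

universe u

section Count

variable {G : Type u} [Group G] [Finite G]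

/-- The number of `p`-regular elements of a finite group is prime to `p`. -/
theorem not_dvd_card_pRegular (p : ℕ) [Fact p.Prime] :
    ¬ p ∣ Nat.card {x : G // ¬ p ∣ orderOf x} := by
  classical
  haveI : Fintype G := Fintype.ofFinite G
  obtain ⟨P⟩ : Nonempty (Sylow p G) := inferInstance
  letI : MulAction (P : Subgroup G) {x : G // ¬ p ∣ orderOf x} :=
    { smul := fun u x => ⟨(u : G) * x.1 * (u : G)⁻¹, by
        have ho : orderOf ((u : G) * x.1 * (u : G)⁻¹) = orderOf x.1 :=
          MulEquiv.orderOf_eq (MulAut.conj (u : G)) x.1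
        rw [ho]; exact x.2⟩
      one_smul := fun x => Subtype.ext (by
        show ((1 : (P : Subgroup G)) : G) * x.1 * ((1 : (P : Subgroup G)) : G)⁻¹ = x.1
        simp)
      mul_smul := fun u v x => Subtype.ext (by
        show ((u * v : (P : Subgroup G)) : G) * x.1 * ((u * v : (P : Subgroup G)) : G)⁻¹ =
          (u : G) * ((v : G) * x.1 * (v : G)⁻¹) * (u : G)⁻¹
        simp [mul_assoc]) }
  have hsmul : ∀ (u : (P : Subgroup G)) (x : {x : G // ¬ p ∣ orderOf x}),
      ((u • x : {x : G // ¬ p ∣ orderOf x}) : G) = (u : G) * x.1 * (u : G)⁻¹ := fun u x => rfl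
  have hmod := P.2.card_modEq_card_fixedPoints {x : G // ¬ p ∣ orderOf x}
  -- the normalizer and the `p`-complement of the centralizer
  have hPN : (P : Subgroup G) ≤ Subgroup.normalizer ((P : Subgroup G) : Set G) :=
    Subgroup.le_normalizer
  have hP' : IsPGroup p ((P : Subgroup G).subgroupOf
      (Subgroup.normalizer ((P : Subgroup G) : Set G))) := P.isPGroup'.comap_subtype
  have hidx' : ¬ p ∣ ((P : Subgroup G).subgroupOf
      (Subgroup.normalizer ((P : Subgroup G) : Set G))).index := by
    intro h
    exact P.not_dvd_index (h.trans (Subgroup.relIndex_dvd_index_of_le hPN))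
  obtain ⟨K, -, hKp, hK3, hKC⟩ := exists_pRegular_core p ((P : Subgroup G).subgroupOf
      (Subgroup.normalizer ((P : Subgroup G) : Set G))) hP' hidx'
  have hfix : ∀ x : {x : G // ¬ p ∣ orderOf x},
      x ∈ MulAction.fixedPoints (P : Subgroup G) {x : G // ¬ p ∣ orderOf x} ↔
        x.1 ∈ Subgroup.centralizer ((P : Subgroup G) : Set G) := by
    intro x
    rw [MulAction.mem_fixedPoints, Subgroup.mem_centralizer_iff]
    constructor
    · intro h u hu
      have h1 := congrArg Subtype.val (h ⟨u, hu⟩)
      rw [hsmul] at h1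
      have h2 : u * x.1 = (u * x.1 * u⁻¹) * u := by group
      rw [h2]
      exact congrArg (· * u) h1
    · intro h u
      apply Subtype.ext
      rw [hsmul, h (u : G) u.2]
      group
  have hcard : Nat.card (MulAction.fixedPoints (P : Subgroup G) {x : G // ¬ p ∣ orderOf x}) =
      Nat.card K := by
    refine Nat.card_congr ⟨fun a => ⟨⟨a.1.1, Subgroup.centralizer_le_normalizer _
        ((hfix a.1).mp a.2)⟩, ?_⟩, fun k => ⟨⟨((k : K) : Subgroup.normalizer
        ((P : Subgroup G) : Set G)).1, ?_⟩, ?_⟩, ?_, ?_⟩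
    · apply hK3
      · exact (Helper78.mem_centralizer_subgroupOf_iff hPN _).mpr ((hfix a.1).mp a.2)
      · rw [Subgroup.orderOf_mk]
        exact a.1.2
    · intro hdvd
      apply hKp
      have h1 : orderOf (((k : K) : Subgroup.normalizer ((P : Subgroup G) : Set G)) : G) =
          orderOf k := by
        rw [Subgroup.orderOf_coe, Subgroup.orderOf_coe]
      rw [h1] at hdvd
      exact hdvd.trans (orderOf_dvd_natCard k)
    · rw [hfix]
      exact (Helper78.mem_centralizer_subgroupOf_iff hPN _).mp (hKC k.2)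
    · intro a; rfl
    · intro k; rfl
  intro hdvd
  apply hKp
  rw [← hcard]
  exact (Nat.ModEq.dvd_iff hmod dvd_rfl).mp hdvd

end Count

section PReg

variable {G : Type u} [Group G]

/-- The indicator function of the `p`-regular elements. -/
noncomputable def pReg (p : ℕ) : G → ℂ := fun x => Cfsg.Agent.S0952.reg p x

theorem pReg_of_not_dvd {p : ℕ} {x : G} (h : ¬ p ∣ orderOf x) : pReg p x = 1 := by
  unfold pReg Cfsg.Agent.S0952.reg
  rw [if_neg h]

theorem pReg_of_dvd {p : ℕ} {x : G} (h : p ∣ orderOf x) : pReg p x = 0 := by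
  unfold pReg Cfsg.Agent.S0952.reg
  rw [if_pos h]

theorem isClassFunction_pReg (p : ℕ) : IsClassFunction G (pReg p : G → ℂ) := by
  intro g h
  have ho : orderOf (h * g * h⁻¹) = orderOf g := MulEquiv.orderOf_eq (MulAut.conj h) g
  by_cases hd : p ∣ orderOf g
  · rw [pReg_of_dvd hd, pReg_of_dvd (by rw [ho]; exact hd)]
  · rw [pReg_of_not_dvd hd, pReg_of_not_dvd (by rw [ho]; exact hd)]

theorem pReg_memLocalRing {M : Ideal AlgInt} [M.IsPrime] (p : ℕ) (x : G) :
    MemLocalRing M (pReg p x) := by
  by_cases hd : p ∣ orderOf x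
  · rw [pReg_of_dvd hd]; exact memLocalRing_zero
  · rw [pReg_of_not_dvd hd]; exact memLocalRing_one

theorem pReg_restrict (p : ℕ) (H : Subgroup G) :
    (fun h : H => pReg p (h : G)) = (pReg p : H → ℂ) := by
  funext h
  by_cases hd : p ∣ orderOf h
  · rw [pReg_of_dvd hd, pReg_of_dvd (by rw [Subgroup.orderOf_coe]; exact hd)]
  · rw [pReg_of_not_dvd hd, pReg_of_not_dvd (by rw [Subgroup.orderOf_coe]; exact hd)]

end PReg

section Ind

variable {G : Type u} [Group G] [Fintype G] {M : Ideal AlgInt}

/-- The sum of the `p`-regular elements lies in the principal block. -/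
theorem omega_pReg_eq_zero {p : ℕ} (hM : IsPModular p M) (χ : IrrCharacter G)
    (h : χ ∉ principalBlock M G) : omega (χ : G → ℂ) (pReg p) = 0 := by
  have hMp : M.IsPrime := IsPModular.isPrime hM
  have h' : ¬ SameBlock M (χ : G → ℂ) ((Helper79.principalIrr G : IrrCharacter G) : G → ℂ) := by
    intro hs
    exact h (sameBlock_symm hs)
  have hmain := Cfsg.Agent.S0952.main p M hM χ (Helper79.principalIrr G) h'
  unfold omega
  have : ∑ x : G, pReg p x * (χ : G → ℂ) x = 0 := by
    rw [← hmain]
    refine Finset.sum_congr rfl (fun x _ => ?_)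
    show pReg p x * (χ : G → ℂ) x = Cfsg.Agent.S0952.reg p x * ((χ : G → ℂ) x * conj (1 : ℂ))
    rw [map_one, mul_one]
    rfl
  rw [this, zero_div]

/-- The central character of the principal character at the sum of the `p`-regular elements is
the number of `p`-regular elements. -/
theorem omega_principal_pReg (p : ℕ) :
    omega ((Helper79.principalIrr G : IrrCharacter G) : G → ℂ) (pReg p) =
      (Nat.card {x : G // ¬ p ∣ orderOf x} : ℂ) := by
  classical
  unfold omega
  show (∑ x : G, pReg p x * (1 : ℂ)) / 1 = _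
  rw [div_one]
  simp only [mul_one]
  have h1 : ∑ x : G, pReg p x = ∑ x ∈ Finset.univ.filter (fun x : G => ¬ p ∣ orderOf x), (1 : ℂ) := by
    rw [Finset.sum_filter]
    refine Finset.sum_congr rfl (fun x _ => ?_)
    by_cases hd : p ∣ orderOf x
    · rw [pReg_of_dvd hd, if_neg (not_not.mpr hd)]
    · rw [pReg_of_not_dvd hd, if_pos hd]
  rw [h1, Finset.sum_const, nsmul_eq_mul, mul_one, Nat.card_eq_fintype_card,
    Fintype.card_subtype]

/-- The central character of the principal block at the sum of the `p`-regular elements is a unit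
of the local ring. -/
theorem omega_pReg_not_memLocalIdeal {p : ℕ} [Fact p.Prime] (hM : IsPModular p M)
    (χ : IrrCharacter G) (h : χ ∈ principalBlock M G) :
    ¬ MemLocalIdeal M (omega (χ : G → ℂ) (pReg p)) := by
  haveI hMp : M.IsPrime := IsPModular.isPrime hM
  intro hcon
  have h1 : SameBlock M ((Helper79.principalIrr G : IrrCharacter G) : G → ℂ) (χ : G → ℂ) := h
  have h2 := omega_sub_memLocalIdeal h1 (isClassFunction_pReg p) (pReg_memLocalRing (M := M) p)
  have h3 := memLocalIdeal_add h2 hcon
  rw [sub_add_cancel, omega_principal_pReg] at h3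
  exact not_dvd_card_pRegular (G := G) p ((Helper77.memLocalIdeal_natCast_iff hM _).mp h3)

/-- Block induction on arbitrary central elements of the local group ring. -/
theorem omega_restrict_sub_memLocalIdeal [M.IsPrime] (H : Subgroup G) [Fintype H]
    {b : Set (IrrCharacter H)} {B : Set (IrrCharacter G)} (hind : IsInducedBlock M H b B)
    {ξ : IrrCharacter H} (hξ : ξ ∈ b) {χ : IrrCharacter G} (hχ : χ ∈ B) {S : G → ℂ}
    (hS : IsClassFunction G S) (hSR : ∀ g, MemLocalRing M (S g)) :
    MemLocalIdeal M (omega (ξ : H → ℂ) (fun h : H => S h) - omega (χ : G → ℂ) S) := by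
  classical
  rw [omega_restrict_eq_sum_classes H (ξ : H → ℂ) hS,
    omega_eq_sum_classes (χ : G → ℂ) S (irr_isClassFunction χ) hS, ← Finset.sum_sub_distrib]
  refine memLocalIdeal_sum _ _ (fun C _ => ?_)
  rw [← mul_sub]
  exact memLocalIdeal_mul_left (hSR _) (hind.2.2 ξ hξ χ hχ _)

end Ind

end Cfsg.Agent.Helper16
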