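import Mathlib
import Cfsg.Agent.Helper22.Coprime
import Cfsg.Agent.Helper63.Frattini

/-!
# A `p'`-element acting trivially on `D / D'` centralizes the `p`-group `D` (helper16)
-/

set_option autoImplicit false

namespace Cfsg.Agent.Helper16

open scoped commutatorElement

variable {G : Type*} [Group G]

/-- The elements of `G` acting trivially (by conjugation) on `D / D'`, `D ⊴ G`. -/
def derivedStab (D : Subgroup G) [hD : D.Normal] : Subgroup G where
  carrier := {y | ∀ d ∈ D, y * d * y⁻¹ * d⁻¹ ∈ ⁅D, D⁆}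
  one_mem' := by
    intro d _
    simp
  mul_mem' := by
    intro y z hy hz d hd
    have h1 : z * d * z⁻¹ * d⁻¹ ∈ ⁅D, D⁆ := hz d hd
    have h2 : y * (z * d * z⁻¹ * d⁻¹) * y⁻¹ ∈ ⁅D, D⁆ :=
      (Subgroup.commutator_normal D D).conj_mem _ h1 y
    have h3 : y * d * y⁻¹ * d⁻¹ ∈ ⁅D, D⁆ := hy d hd
    have : y * z * d * (y * z)⁻¹ * d⁻¹ =
        (y * (z * d * z⁻¹ * d⁻¹) * y⁻¹) * (y * d * y⁻¹ * d⁻¹) := by group
    show y * z * d * (y * z)⁻¹ * d⁻¹ ∈ ⁅D, D⁆
    rw [this]
    exact Subgroup.mul_mem _ h2 h3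
  inv_mem' := by
    intro y hy d hd
    have hd' : y⁻¹ * d * y ∈ D := by
      have := hD.conj_mem d hd y⁻¹
      simpa using this
    have h1 : y * (y⁻¹ * d * y) * y⁻¹ * (y⁻¹ * d * y)⁻¹ ∈ ⁅D, D⁆ := hy _ hd'
    have : y⁻¹ * d * y⁻¹⁻¹ * d⁻¹ = (y * (y⁻¹ * d * y) * y⁻¹ * (y⁻¹ * d * y)⁻¹)⁻¹ := by group
    show y⁻¹ * d * y⁻¹⁻¹ * d⁻¹ ∈ ⁅D, D⁆
    rw [this]
    exact Subgroup.inv_mem _ h1

theorem mem_derivedStab {D : Subgroup G} [D.Normal] {y : G} :
    y ∈ derivedStab D ↔ ∀ d ∈ D, y * d * y⁻¹ * d⁻¹ ∈ ⁅D, D⁆ := Iff.rfl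

/-- In a finite `p`-group, a subgroup generating together with the derived subgroup is the whole
group. -/
theorem eq_top_of_sup_commutator_eq_top {P : Type*} [Group P] [Finite P] {p : ℕ} [Fact p.Prime]
    (hP : IsPGroup p P) (H : Subgroup P) (h : H ⊔ commutator P = ⊤) : H = ⊤ := by
  by_contra hne
  obtain ⟨M, hM, hHM⟩ := (eq_top_or_exists_le_coatom H).resolve_left hne
  haveI : M.Normal := Helper63.normal_of_isCoatom_of_isPGroup hP M hM
  have hidx : M.index = p := Helper63.index_of_isCoatom_of_isPGroup hP M hM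
  have hcard : Nat.card (P ⧸ M) = p := by rw [← hidx]; rfl
  haveI : IsCyclic (P ⧸ M) := isCyclic_of_prime_card hcard
  letI : CommGroup (P ⧸ M) := IsCyclic.commGroup
  have hcomm : commutator P ≤ M := by
    have := Abelianization.commutator_subset_ker (QuotientGroup.mk' M)
    rwa [QuotientGroup.ker_mk'] at this
  have : (⊤ : Subgroup P) ≤ M := by
    rw [← h]
    exact sup_le hHM hcomm
  exact hM.1 (top_le_iff.mp this)


/-- Version inside an ambient group: a subgroup `C ≤ D` of the `p`-group `D` meeting every coset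
of `D'` is `D`. -/
theorem le_of_forall_exists_mul_mem [Finite G] {p : ℕ} [Fact p.Prime] {D C : Subgroup G}
    (hD : IsPGroup p D) (h : ∀ d ∈ D, ∃ c ∈ ⁅D, D⁆, d * c ∈ C) : D ≤ C := by
  have htop : C.subgroupOf D = ⊤ := by
    apply eq_top_of_sup_commutator_eq_top hD
    rw [eq_top_iff]
    intro u _
    obtain ⟨c, hc, hdc⟩ := h u u.2
    rw [← Subgroup.map_subtype_commutator D] at hc
    obtain ⟨c', hc', rfl⟩ := hc
    have hu : u = (u * c') * c'⁻¹ := by group
    rw [hu]
    refine Subgroup.mul_mem _ (Subgroup.mem_sup_left ?_)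
      (Subgroup.mem_sup_right (Subgroup.inv_mem _ hc'))
    rw [Subgroup.mem_subgroupOf]
    exact hdc
  intro d hd
  have : (⟨d, hd⟩ : D) ∈ C.subgroupOf D := by rw [htop]; exact Subgroup.mem_top _
  exact Subgroup.mem_subgroupOf.mp this

/-- An element of prime power order `q ^ e`, `q ≠ p`, acting trivially on `D / D'` centralizes
the normal `p`-subgroup `D`. -/
theorem commute_of_mem_derivedStab_of_orderOf_eq_prime_pow [Finite G] {p q : ℕ} [hp : Fact p.Prime]
    [hq : Fact q.Prime] (hpq : q ≠ p) {D : Subgroup G} [hDn : D.Normal] (hD : IsPGroup p D)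
    {x : G} (hx : x ∈ derivedStab D) {e : ℕ} (hxe : orderOf x = q ^ e) :
    ∀ d ∈ D, x * d * x⁻¹ = d := by
  have hA : IsPGroup q (Subgroup.zpowers x) := by
    apply IsPGroup.of_card (n := e)
    rw [Nat.card_zpowers, hxe]
  have hAle : Subgroup.zpowers x ≤ derivedStab D := Subgroup.zpowers_le.mpr hx
  have hH : ¬ q ∣ Nat.card (⁅D, D⁆ : Subgroup G) := by
    intro hdvd
    obtain ⟨k, hk⟩ := IsPGroup.iff_card.mp hD
    have h1 : Nat.card (⁅D, D⁆ : Subgroup G) ∣ p ^ k := by
      rw [← hk]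
      exact Subgroup.card_dvd_of_le (Subgroup.commutator_le_right D D)
    have h2 : q ∣ p ^ k := dvd_trans hdvd h1
    have h3 : q ∣ p := hq.out.dvd_of_dvd_pow h2
    exact hpq ((Nat.prime_dvd_prime_iff_eq hq.out hp.out).mp h3)
  have hnorm : (⁅D, D⁆ : Subgroup G).Normal := Subgroup.commutator_normal D D
  -- the fixed points of `x` in `D`
  let C : Subgroup G :=
    { carrier := {u | x * u * x⁻¹ = u}
      one_mem' := by simp
      mul_mem' := by
        intro a b ha hb
        have ha' : x * a * x⁻¹ = a := ha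
        have hb' : x * b * x⁻¹ = b := hb
        show x * (a * b) * x⁻¹ = a * b
        calc x * (a * b) * x⁻¹ = (x * a * x⁻¹) * (x * b * x⁻¹) := by group
          _ = a * b := by rw [ha', hb']
      inv_mem' := by
        intro a ha
        have ha' : x * a * x⁻¹ = a := ha
        show x * a⁻¹ * x⁻¹ = a⁻¹
        calc x * a⁻¹ * x⁻¹ = (x * a * x⁻¹)⁻¹ := by group
          _ = a⁻¹ := by rw [ha'] }
  have hDC : D ≤ C := by
    apply le_of_forall_exists_mul_mem hD
    intro d hd
    have hinv : ∀ z ∈ Subgroup.zpowers x, ∀ h ∈ (⁅D, D⁆ : Subgroup G),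
        d⁻¹ * (z * (d * h) * z⁻¹) ∈ (⁅D, D⁆ : Subgroup G) := by
      intro z hz h hh
      have h1 : z * d * z⁻¹ * d⁻¹ ∈ (⁅D, D⁆ : Subgroup G) := hAle hz d hd
      have h2 : d⁻¹ * (z * d * z⁻¹ * d⁻¹) * d⁻¹⁻¹ ∈ (⁅D, D⁆ : Subgroup G) :=
        hnorm.conj_mem _ h1 d⁻¹
      have h3 : z * h * z⁻¹ ∈ (⁅D, D⁆ : Subgroup G) := hnorm.conj_mem _ hh z
      have : d⁻¹ * (z * (d * h) * z⁻¹) =
          (d⁻¹ * (z * d * z⁻¹ * d⁻¹) * d⁻¹⁻¹) * (z * h * z⁻¹) := by group
      rw [this]
      exact Subgroup.mul_mem _ h2 h3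
    obtain ⟨h, hh, hfix⟩ := Helper22.exists_fixed_in_coset q (Subgroup.zpowers x)
      (⁅D, D⁆ : Subgroup G) hA hH d hinv
    exact ⟨h, hh, hfix x (Subgroup.mem_zpowers x)⟩
  intro d hd
  exact hDC hd


theorem mem_of_pow_mem_of_coprime {H : Subgroup G} {x : G} {a b : ℕ} (hab : Nat.Coprime a b)
    (ha : x ^ a ∈ H) (hb : x ^ b ∈ H) : x ∈ H := by
  have h1 : ((Nat.gcd a b : ℕ) : ℤ) = a * Nat.gcdA a b + b * Nat.gcdB a b := Nat.gcd_eq_gcd_ab a b
  rw [hab.gcd_eq_one] at h1
  have h2 : x = (x ^ a) ^ (Nat.gcdA a b) * (x ^ b) ^ (Nat.gcdB a b) := by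
    rw [← zpow_natCast x a, ← zpow_natCast x b, ← zpow_mul, ← zpow_mul, ← zpow_add, ← h1]
    simp
  rw [h2]
  exact H.mul_mem (H.zpow_mem ha _) (H.zpow_mem hb _)

/-- **A `p'`-element acting trivially on `D / D'` centralizes the normal `p`-subgroup `D`.** -/
theorem mem_centralizer_of_mem_derivedStab [Finite G] {p : ℕ} [hp : Fact p.Prime]
    {D : Subgroup G} [hDn : D.Normal] (hD : IsPGroup p D) :
    ∀ (n : ℕ) (x : G), orderOf x = n → x ∈ derivedStab D → ¬ p ∣ n →
      x ∈ Subgroup.centralizer (D : Set G) := by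
  intro n
  induction n using Nat.strong_induction_on with
  | _ n ih =>
    intro x hxn hx hpn
    have hn0 : n ≠ 0 := by
      rw [← hxn]
      exact (orderOf_pos x).ne'
    by_cases hn1 : n = 1
    · rw [hn1, orderOf_eq_one_iff] at hxn
      rw [hxn]
      exact Subgroup.one_mem _
    set q := n.minFac with hqdef
    have hqp : q.Prime := Nat.minFac_prime hn1
    haveI : Fact q.Prime := ⟨hqp⟩
    have hqn : q ∣ n := Nat.minFac_dvd n
    have hqne : q ≠ p := by
      intro h
      exact hpn (h ▸ hqn)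
    set e := n.factorization q with hedef
    set a := q ^ e with hadef
    set b := n / q ^ e with hbdef
    have hab : a * b = n := Nat.ordProj_mul_ordCompl_eq_self n q
    have hcop : Nat.Coprime a b := (Nat.coprime_ordCompl hqp hn0).pow_left e
    have he1 : 1 ≤ e := (hqp.dvd_iff_one_le_factorization hn0).mp hqn
    have ha2 : 2 ≤ a := by
      calc 2 ≤ q := hqp.two_le
        _ = q ^ 1 := (pow_one q).symm
        _ ≤ q ^ e := Nat.pow_le_pow_right hqp.pos he1
    have ha0 : a ≠ 0 := by omega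
    have hapos : 0 < a := by omega
    by_cases hb1 : b = 1
    · -- prime power order
      have hxe : orderOf x = q ^ e := by
        rw [hxn, ← hab, hb1, mul_one]
      rw [Subgroup.mem_centralizer_iff]
      intro d hd
      have := commute_of_mem_derivedStab_of_orderOf_eq_prime_pow hqne hD hx hxe d hd
      calc d * x = (x * d * x⁻¹) * x := by rw [this]
        _ = x * d := by group
    · have hb0 : b ≠ 0 := by
        rintro h0
        rw [h0, mul_zero] at hab
        exact hn0 hab.symm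
      have hb2 : 2 ≤ b := (Nat.two_le_iff b).mpr ⟨hb0, hb1⟩
      have hord_a : orderOf (x ^ a) = b := by
        rw [orderOf_pow_of_dvd ha0 (by rw [hxn]; exact Dvd.intro _ hab), hxn, ← hab]
        exact Nat.mul_div_cancel_left b hapos
      have hord_b : orderOf (x ^ b) = a := by
        rw [orderOf_pow_of_dvd hb0 (by rw [hxn]; exact Dvd.intro_left _ hab), hxn, ← hab]
        exact Nat.mul_div_cancel a (Nat.pos_of_ne_zero hb0)
      have hblt : b < n := by
        rw [← hab]
        nlinarith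
      have halt : a < n := by
        rw [← hab]
        nlinarith
      have hpb : ¬ p ∣ b := fun h => hpn (dvd_trans h (Dvd.intro_left _ hab))
      have hpa : ¬ p ∣ a := fun h => hpn (dvd_trans h (Dvd.intro _ hab))
      have h1 := ih b hblt (x ^ a) hord_a (Subgroup.pow_mem _ hx a) hpb
      have h2 := ih a halt (x ^ b) hord_b (Subgroup.pow_mem _ hx b) hpa
      exact mem_of_pow_mem_of_coprime hcop h1 h2

end Cfsg.Agent.Helper16
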