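import Cfsg.Agent.Helper16.CharBasic
import Cfsg.Prelude.Def_Blocks

set_option autoImplicit false

namespace Cfsg.Agent.Helper16

open Cfsg Representation

section Conv

variable {G : Type*} [Group G] [Fintype G]

/-- Convolution of complex functions on a finite group (multiplication in the group algebra). -/
noncomputable def conv (s t : G → ℂ) : G → ℂ := fun g => ∑ x : G, s x * t (x⁻¹ * g)

theorem conv_apply (s t : G → ℂ) (g : G) : conv s t g = ∑ x : G, s x * t (x⁻¹ * g) := rfl

/-- The indicator function of the conjugacy class of `g`. -/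
noncomputable def classInd (g : G) : G → ℂ := by
  classical
  exact fun x => if IsConj g x then 1 else 0

/-- The delta function at the identity. -/
noncomputable def deltaOne : G → ℂ := by
  classical
  exact fun x => if x = 1 then 1 else 0

theorem isClassFunction_classInd (g : G) : IsClassFunction G (classInd g) := by
  classical
  intro x h
  unfold classInd
  have : IsConj g (h * x * h⁻¹) ↔ IsConj g x := by
    constructor
    · intro hh
      exact hh.trans (isConj_iff.mpr ⟨h, rfl⟩).symm
    · intro hh
      exact hh.trans (isConj_iff.mpr ⟨h, rfl⟩)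
  simp only [this]

theorem isClassFunction_deltaOne : IsClassFunction G (deltaOne : G → ℂ) := by
  classical
  intro x h
  unfold deltaOne
  have : h * x * h⁻¹ = 1 ↔ x = 1 := by
    constructor
    · intro hh
      have h2 : h⁻¹ * (h * x * h⁻¹) * h = h⁻¹ * 1 * h := by rw [hh]
      simpa [mul_assoc] using h2
    · rintro rfl
      simp
  simp only [this]

theorem isClassFunction_conv {s t : G → ℂ} (hs : IsClassFunction G s) (ht : IsClassFunction G t) :
    IsClassFunction G (conv s t) := by
  intro g h
  unfold conv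
  rw [← Equiv.sum_comp (MulAut.conj h).toEquiv]
  refine Finset.sum_congr rfl (fun x _ => ?_)
  have h1 : s ((MulAut.conj h).toEquiv x) = s x := by
    show s (h * x * h⁻¹) = s x
    exact hs x h
  have h2 : t (((MulAut.conj h).toEquiv x)⁻¹ * (h * g * h⁻¹)) = t (x⁻¹ * g) := by
    show t ((h * x * h⁻¹)⁻¹ * (h * g * h⁻¹)) = t (x⁻¹ * g)
    have : (h * x * h⁻¹)⁻¹ * (h * g * h⁻¹) = h * (x⁻¹ * g) * h⁻¹ := by
      simp [mul_assoc]
    rw [this]
    exact ht _ h
  rw [h1, h2]

theorem isClassFunction_add {s t : G → ℂ} (hs : IsClassFunction G s) (ht : IsClassFunction G t) :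
    IsClassFunction G (s + t) := by
  intro g h
  simp only [Pi.add_apply, hs g h, ht g h]

theorem isClassFunction_smul (c : ℂ) {s : G → ℂ} (hs : IsClassFunction G s) :
    IsClassFunction G (c • s) := by
  intro g h
  simp only [Pi.smul_apply, hs g h]

theorem isClassFunction_sub {s t : G → ℂ} (hs : IsClassFunction G s) (ht : IsClassFunction G t) :
    IsClassFunction G (s - t) := by
  intro g h
  simp only [Pi.sub_apply, hs g h, ht g h]

theorem isClassFunction_zero : IsClassFunction G (0 : G → ℂ) := by
  intro g h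
  rfl

theorem isClassFunction_sum {ι : Type*} (I : Finset ι) (f : ι → G → ℂ)
    (h : ∀ i ∈ I, IsClassFunction G (f i)) : IsClassFunction G (∑ i ∈ I, f i) := by
  intro g x
  simp only [Finset.sum_apply]
  exact Finset.sum_congr rfl (fun i hi => h i hi g x)

end Conv

section RepSum

variable {G V : Type*} [Group G] [Fintype G] [AddCommGroup V] [Module ℂ V]

/-- The action of the group-algebra element `∑ s(x) x` in a representation. -/
noncomputable def repSum (ρ : Representation ℂ G V) (s : G → ℂ) : V →ₗ[ℂ] V :=
  ∑ x : G, s x • ρ x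

theorem repSum_mul (ρ : Representation ℂ G V) (s t : G → ℂ) :
    repSum ρ s * repSum ρ t = repSum ρ (conv s t) := by
  have hL : repSum ρ s * repSum ρ t = ∑ x : G, ∑ y : G, (s x * t y) • ρ (x * y) := by
    unfold repSum
    rw [Finset.sum_mul]
    refine Finset.sum_congr rfl (fun x _ => ?_)
    rw [Finset.mul_sum]
    refine Finset.sum_congr rfl (fun y _ => ?_)
    rw [smul_mul_smul_comm, map_mul]
  have hR : repSum ρ (conv s t) = ∑ x : G, ∑ g : G, (s x * t (x⁻¹ * g)) • ρ g := by
    unfold repSum conv
    rw [Finset.sum_comm]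
    refine Finset.sum_congr rfl (fun g _ => ?_)
    rw [Finset.sum_smul]
  rw [hL, hR]
  refine Finset.sum_congr rfl (fun x _ => ?_)
  rw [← Equiv.sum_comp (Equiv.mulLeft x) (fun g => (s x * t (x⁻¹ * g)) • ρ g)]
  refine Finset.sum_congr rfl (fun y _ => ?_)
  simp only [Equiv.coe_mulLeft, inv_mul_cancel_left]

theorem repSum_comm_of_isClassFunction (ρ : Representation ℂ G V) {s : G → ℂ}
    (hs : IsClassFunction G s) (g : G) : repSum ρ s ∘ₗ ρ g = ρ g ∘ₗ repSum ρ s := by
  show repSum ρ s * ρ g = ρ g * repSum ρ s
  unfold repSum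
  rw [Finset.sum_mul, Finset.mul_sum]
  rw [← Equiv.sum_comp (MulAut.conj g).toEquiv (fun x => s x • ρ x * ρ g)]
  refine Finset.sum_congr rfl (fun x _ => ?_)
  show s (g * x * g⁻¹) • ρ (g * x * g⁻¹) * ρ g = ρ g * s x • ρ x
  rw [hs x g, smul_mul_assoc, mul_smul_comm, ← map_mul, ← map_mul]
  congr 2
  simp [mul_assoc]

theorem repSum_add (ρ : Representation ℂ G V) (s t : G → ℂ) :
    repSum ρ (s + t) = repSum ρ s + repSum ρ t := by
  unfold repSum
  simp only [Pi.add_apply, add_smul, Finset.sum_add_distrib]

theorem repSum_smul (ρ : Representation ℂ G V) (c : ℂ) (s : G → ℂ) :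
    repSum ρ (c • s) = c • repSum ρ s := by
  unfold repSum
  simp only [Pi.smul_apply, smul_eq_mul, mul_smul, Finset.smul_sum]

theorem repSum_deltaOne (ρ : Representation ℂ G V) : repSum ρ (deltaOne : G → ℂ) = 1 := by
  classical
  unfold repSum deltaOne
  rw [Finset.sum_eq_single (1 : G)]
  · simp
  · intro b _ hb
    simp [hb]
  · intro h
    exact absurd (Finset.mem_univ _) h

end RepSum

section Omega

variable {G : Type*} [Group G] [Fintype G]

/-- The central character of `χ`, evaluated at the central element `∑ s(x) x` of the group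
algebra (`s` a class function). -/
noncomputable def omega (χ : G → ℂ) (s : G → ℂ) : ℂ := (∑ x : G, s x * χ x) / χ 1

theorem omega_add (χ s t : G → ℂ) : omega χ (s + t) = omega χ s + omega χ t := by
  unfold omega
  simp only [Pi.add_apply, add_mul, Finset.sum_add_distrib, add_div]

theorem omega_smul (χ : G → ℂ) (c : ℂ) (s : G → ℂ) : omega χ (c • s) = c * omega χ s := by
  unfold omega
  simp only [Pi.smul_apply, smul_eq_mul, mul_assoc, ← Finset.mul_sum, mul_div_assoc]

theorem omega_zero (χ : G → ℂ) : omega χ 0 = 0 := by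
  unfold omega
  simp

theorem omega_neg (χ s : G → ℂ) : omega χ (-s) = - omega χ s := by
  unfold omega
  simp only [Pi.neg_apply, neg_mul, Finset.sum_neg_distrib, neg_div]

theorem omega_sub (χ s t : G → ℂ) : omega χ (s - t) = omega χ s - omega χ t := by
  rw [sub_eq_add_neg, omega_add, omega_neg, sub_eq_add_neg]

theorem omega_sum (χ : G → ℂ) {ι : Type*} (I : Finset ι) (f : ι → G → ℂ) :
    omega χ (∑ i ∈ I, f i) = ∑ i ∈ I, omega χ (f i) := by
  classical
  induction I using Finset.induction_on with
  | empty => simp [omega_zero]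
  | insert a I ha ih => rw [Finset.sum_insert ha, Finset.sum_insert ha, omega_add, ih]

variable {V : Type*} [AddCommGroup V] [Module ℂ V] [FiniteDimensional ℂ V]

/-- For an irreducible representation, a class function acts by the scalar `omega χ s`. -/
theorem repSum_eq_omega (ρ : Representation ℂ G V) [ρ.IsIrreducible] {s : G → ℂ}
    (hs : IsClassFunction G s) : repSum ρ s = omega ρ.character s • (1 : V →ₗ[ℂ] V) := by
  obtain ⟨c, hc⟩ := schur_scalar ρ (repSum ρ s) (repSum_comm_of_isClassFunction ρ hs)
  have hn : (Module.finrank ℂ V : ℂ) ≠ 0 := by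
    exact_mod_cast (finrank_pos_of_irreducible ρ).ne'
  have htr : LinearMap.trace ℂ V (repSum ρ s) = ∑ x : G, s x * ρ.character x := by
    unfold repSum
    rw [map_sum]
    refine Finset.sum_congr rfl (fun x _ => ?_)
    rw [map_smul, smul_eq_mul]
    rfl
  rw [hc, map_smul, LinearMap.trace_one, smul_eq_mul] at htr
  rw [hc]
  congr 1
  unfold omega
  rw [Representation.char_one, ← htr]
  field_simp

theorem one_ne_zero_of_irreducible (ρ : Representation ℂ G V) [ρ.IsIrreducible] :
    (1 : V →ₗ[ℂ] V) ≠ 0 := by
  have hpos := finrank_pos_of_irreducible ρ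
  have : Nontrivial V := Module.finrank_pos_iff.mp hpos
  exact one_ne_zero

/-- `omega` is multiplicative with respect to convolution of class functions. -/
theorem omega_conv (ρ : Representation ℂ G V) [ρ.IsIrreducible] {s t : G → ℂ}
    (hs : IsClassFunction G s) (ht : IsClassFunction G t) :
    omega ρ.character (conv s t) = omega ρ.character s * omega ρ.character t := by
  have h1 := repSum_eq_omega ρ (isClassFunction_conv hs ht)
  rw [← repSum_mul, repSum_eq_omega ρ hs, repSum_eq_omega ρ ht, smul_mul_smul_comm, mul_one] at h1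
  have hne := one_ne_zero_of_irreducible ρ
  have h2 : (omega ρ.character s * omega ρ.character t - omega ρ.character (conv s t)) •
      (1 : V →ₗ[ℂ] V) = 0 := by
    rw [sub_smul, h1, sub_self]
  rcases smul_eq_zero.mp h2 with h | h
  · exact (sub_eq_zero.mp h).symm
  · exact absurd h hne

theorem omega_deltaOne (χ : G → ℂ) (h1 : χ 1 ≠ 0) : omega χ (deltaOne : G → ℂ) = 1 := by
  classical
  unfold omega deltaOne
  rw [Finset.sum_eq_single (1 : G)]
  · simp [h1]
  · intro b _ hb
    simp [hb]
  · intro h
    exact absurd (Finset.mem_univ _) h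

open Classical in
/-- Summing a function over all conjugates `x⁻¹ g x`, `x : G`, counts each element of the class
`|C_G(g)|` times. -/
theorem sum_conj_eq_card_mul (g : G) (f : G → ℂ) :
    ∑ x : G, f (x⁻¹ * g * x) =
      (Nat.card (Subgroup.centralizer ({g} : Set G)) : ℂ) *
        ∑ c ∈ Finset.univ.filter (fun c => IsConj g c), f c := by
  have hmaps : ∀ x ∈ (Finset.univ : Finset G), x⁻¹ * g * x ∈ Finset.univ.filter (fun c => IsConj g c) := by
    intro x _
    simp only [Finset.mem_filter, Finset.mem_univ, true_and]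
    rw [isConj_iff]
    exact ⟨x⁻¹, by simp⟩
  rw [← Finset.sum_fiberwise_of_maps_to hmaps, Finset.mul_sum]
  refine Finset.sum_congr rfl ?_
  intro c hc
  simp only [Finset.mem_filter, Finset.mem_univ, true_and] at hc
  rw [isConj_iff] at hc
  obtain ⟨y, hy⟩ := hc
  have hsum : ∑ x ∈ Finset.univ.filter (fun x => x⁻¹ * g * x = c), f (x⁻¹ * g * x)
      = ∑ x ∈ Finset.univ.filter (fun x => x⁻¹ * g * x = c), f c := by
    refine Finset.sum_congr rfl ?_
    intro x hx
    simp only [Finset.mem_filter, Finset.mem_univ, true_and] at hx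
    rw [hx]
  rw [hsum, Finset.sum_const, nsmul_eq_mul]
  congr 1
  norm_cast
  rw [Nat.card_eq_fintype_card, ← Fintype.card_subtype]
  refine Fintype.card_congr ?_
  refine ⟨fun x => ⟨x.1 * y, ?_⟩, fun z => ⟨z.1 * y⁻¹, ?_⟩, ?_, ?_⟩
  · rw [Subgroup.mem_centralizer_singleton_iff]
    have hx : (x.1)⁻¹ * g * x.1 = y * g * y⁻¹ := x.2.trans hy.symm
    have : g * (x.1 * y) = x.1 * y * g := by
      have h2 : x.1 * ((x.1)⁻¹ * g * x.1) * y = x.1 * (y * g * y⁻¹) * y := by rw [hx]
      simpa [mul_assoc] using h2
    exact this.symm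
  · have hz := z.2
    rw [Subgroup.mem_centralizer_singleton_iff] at hz
    show (z.1 * y⁻¹)⁻¹ * g * (z.1 * y⁻¹) = c
    rw [← hy]
    have : (z.1 * y⁻¹)⁻¹ * g * (z.1 * y⁻¹) = y * (z.1⁻¹ * (g * z.1)) * y⁻¹ := by
      simp [mul_assoc]
    rw [this, ← hz]
    simp [mul_assoc]
  · intro x
    ext
    simp
  · intro z
    ext
    simp

theorem card_ne_zero' : (Nat.card G : ℂ) ≠ 0 := by
  exact_mod_cast Nat.card_pos.ne'

theorem card_centralizer_ne_zero (g : G) :
    (Nat.card (Subgroup.centralizer ({g} : Set G)) : ℂ) ≠ 0 := by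
  exact_mod_cast Nat.card_pos.ne'

open Classical in
/-- The number of conjugates of `g` is the index of its centralizer. -/
theorem card_filter_isConj (g : G) :
    ((Finset.univ.filter (fun x => IsConj g x)).card : ℂ) =
      ((Subgroup.centralizer ({g} : Set G)).index : ℂ) := by
  have h := sum_conj_eq_card_mul g (fun _ => (1 : ℂ))
  simp only [Finset.sum_const, Finset.card_univ, nsmul_eq_mul, mul_one] at h
  have hidx : (Nat.card (Subgroup.centralizer ({g} : Set G)) : ℂ) *
      ((Subgroup.centralizer ({g} : Set G)).index : ℂ) = (Nat.card G : ℂ) := by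
    exact_mod_cast Subgroup.card_mul_index _
  rw [← Nat.card_eq_fintype_card, ← hidx] at h
  exact (mul_left_cancel₀ (card_centralizer_ne_zero g) h).symm

/-- Version of `card_filter_isConj` for an arbitrary decidability instance. -/
theorem card_filter_isConj' (g : G) [DecidablePred (fun x => IsConj g x)] :
    ((Finset.univ.filter (fun x => IsConj g x)).card : ℂ) =
      ((Subgroup.centralizer ({g} : Set G)).index : ℂ) := by
  convert card_filter_isConj g

open Classical in
/-- `omega` of a class indicator is the central character of the Prelude. -/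
theorem omega_classInd (χ : G → ℂ) (hχ : IsClassFunction G χ) (g : G) :
    omega χ (classInd g) = centralChar χ g := by
  unfold omega centralChar classInd
  congr 1
  have h1 : ∑ x : G, (if IsConj g x then (1 : ℂ) else 0) * χ x =
      ∑ x ∈ Finset.univ.filter (fun x => IsConj g x), χ g := by
    rw [Finset.sum_filter]
    refine Finset.sum_congr rfl (fun x _ => ?_)
    by_cases h : IsConj g x
    · rw [if_pos h, if_pos h, one_mul]
      obtain ⟨c, rfl⟩ := isConj_iff.mp h
      exact hχ g c
    · rw [if_neg h, if_neg h, zero_mul]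
  rw [h1, Finset.sum_const, nsmul_eq_mul, card_filter_isConj]

end Omega

end Cfsg.Agent.Helper16
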