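import Mathlib
import Cfsg.Prelude.Def_Blocks

/-!
# Conjugation by the powers of an element: orbit representatives and a twisted indicator

Used for the second main theorem.
-/

set_option autoImplicit false
set_option linter.unusedSectionVars false
set_option linter.unusedVariables false

namespace Cfsg.Agent.Helper16

open Cfsg

section Kappa

variable {G : Type*} [Group G]

/-- The orbit relation of conjugation by the powers of `h`. -/
def conjPowSetoid (h : G) : Setoid G where
  r y y' := ∃ k : ℤ, h ^ k * y * h ^ (-k) = y'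
  iseqv :=
    { refl := fun y => ⟨0, by simp⟩
      symm := by
        rintro y y' ⟨k, hk⟩
        exact ⟨-k, by rw [← hk]; group⟩
      trans := by
        rintro y y' y'' ⟨k, hk⟩ ⟨l, hl⟩
        exact ⟨l + k, by rw [← hl, ← hk]; group⟩ }

/-- A representative of the orbit of `y` under conjugation by the powers of `h`. -/
noncomputable def orbRep (h y : G) : G := (Quotient.mk (conjPowSetoid h) y).out

theorem orbRep_spec (h y : G) : ∃ k : ℤ, h ^ k * orbRep h y * h ^ (-k) = y :=
  Quotient.mk_out (s := conjPowSetoid h) y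

theorem orbRep_conj (h y : G) : orbRep h (h * y * h⁻¹) = orbRep h y := by
  unfold orbRep
  congr 1
  apply Quotient.sound
  exact ⟨-1, by group⟩

/-- An exponent `k` with `h ^ k * orbRep h y * h ^ (-k) = y`. -/
noncomputable def orbExp (h y : G) : ℤ := Classical.choose (orbRep_spec h y)

theorem orbExp_spec (h y : G) : h ^ orbExp h y * orbRep h y * h ^ (-orbExp h y) = y :=
  Classical.choose_spec (orbRep_spec h y)

/-- If `h ^ d` centralizes an element that the `p`-part of `h` does not centralize, then `p ∣ d`. -/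
theorem dvd_of_conj_zpow_eq {p : ℕ} (hp : p.Prime) {h π y : G} (hπ : IsPPart p h π)
    (hy : ¬ Commute π y) {d : ℤ} (hd : h ^ d * y * h ^ (-d) = y) : (p : ℤ) ∣ d := by
  by_contra hnd
  obtain ⟨y', hπy', hcomm, ⟨k, hk⟩, hy'⟩ := hπ
  set m := orderOf y' with hm
  have hpZ : Irreducible (p : ℤ) := (Nat.prime_iff_prime_int.mp hp).irreducible
  have hc1 : IsCoprime (p : ℤ) d := (Irreducible.coprime_iff_not_dvd hpZ).mpr hnd
  have hc2 : IsCoprime (p : ℤ) (m : ℤ) := by
    apply (Irreducible.coprime_iff_not_dvd hpZ).mpr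
    intro h'
    exact hy' (Int.natCast_dvd_natCast.mp h')
  have hc3 : IsCoprime ((p : ℤ) ^ k) (d * m) := (hc1.mul_right hc2).pow_left
  obtain ⟨a, c, hac⟩ := hc3
  -- `π = (h ^ d) ^ (m * c)`
  have hπpow : π ^ ((p : ℤ) ^ k) = 1 := by
    have : π ^ (p ^ k) = 1 := by rw [← hk]; exact pow_orderOf_eq_one π
    rw [← this, ← zpow_natCast]
    push_cast
    rfl
  have hy'pow : y' ^ (m : ℤ) = 1 := by
    rw [zpow_natCast]; exact pow_orderOf_eq_one y'
  have hhdm : h ^ (d * m) = π ^ (d * m) := by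
    rw [← hπy', hcomm.mul_zpow, zpow_mul y', zpow_comm, hy'pow, one_zpow, mul_one]
  have hπeq : π = (h ^ d) ^ ((m : ℤ) * c) := by
    have h1 : π = π ^ (a * (p : ℤ) ^ k + c * (d * m)) := by rw [hac, zpow_one]
    rw [zpow_add, mul_comm a, zpow_mul, hπpow, one_zpow, one_mul, mul_comm c, zpow_mul, ← hhdm] at h1
    rw [h1, ← zpow_mul, ← zpow_mul, mul_assoc]
  have hcd : Commute (h ^ d) y := by
    have h1 : h ^ d * y = y * h ^ d := by
      have : h ^ d * y * h ^ (-d) * h ^ d = y * h ^ d := by rw [hd]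
      rw [← this]; group
    exact h1
  apply hy
  rw [hπeq]
  exact hcd.zpow_left _

/-- The twisted indicator: `ζ` to the power the orbit exponent. -/
noncomputable def kappa (ζ : ℂ) (h y : G) : ℂ := ζ ^ orbExp h y

theorem kappa_pow {p : ℕ} {ζ : ℂ} (hζ : ζ ^ p = 1) (h y : G) : kappa ζ h y ^ p = 1 := by
  unfold kappa
  rw [← zpow_natCast, ← zpow_mul, mul_comm, zpow_mul, zpow_natCast, hζ, one_zpow]

theorem kappa_conj {p : ℕ} (hp : p.Prime) {ζ : ℂ} (hζ : ζ ^ p = 1) {h π : G} (hπ : IsPPart p h π)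
    {y : G} (hy : ¬ Commute π y) : kappa ζ h (h * y * h⁻¹) = ζ * kappa ζ h y := by
  have hζ0 : ζ ≠ 0 := by
    intro h0
    rw [h0, zero_pow hp.ne_zero] at hζ
    exact zero_ne_one hζ
  have hπh : Commute π h := by
    obtain ⟨y', hπy', hcomm, -, -⟩ := hπ
    rw [← hπy']
    exact (Commute.refl π).mul_right hcomm
  set r := orbRep h y with hr
  set n := orbExp h y with hn
  set n' := orbExp h (h * y * h⁻¹) with hn'
  have h1 : h ^ n * r * h ^ (-n) = y := orbExp_spec h y
  have h2 : h ^ n' * r * h ^ (-n') = h * y * h⁻¹ := by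
    have := orbExp_spec h (h * y * h⁻¹)
    rw [orbRep_conj] at this
    exact this
  have hr' : ¬ Commute π r := by
    intro hc
    apply hy
    rw [← h1]
    exact ((hπh.zpow_right n).mul_right hc).mul_right (hπh.zpow_right (-n))
  have h3 : h ^ (n' - n - 1) * r * h ^ (-(n' - n - 1)) = r := by
    have e : h ^ (n' - n - 1) * r * h ^ (-(n' - n - 1)) =
        h ^ (-n) * (h⁻¹ * (h ^ n' * r * h ^ (-n')) * h) * h ^ n := by group
    rw [e, h2, ← h1]
    group
  obtain ⟨t, ht⟩ := dvd_of_conj_zpow_eq hp hπ hr' h3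
  have hn'eq : n' = n + 1 + p * t := by linarith
  unfold kappa
  rw [← hn', ← hn, hn'eq, zpow_add₀ hζ0, zpow_add₀ hζ0, zpow_one, zpow_mul, zpow_natCast, hζ,
    one_zpow, mul_one, mul_comm]

end Kappa

section PPartExists

variable {G : Type*} [Group G] [Finite G]

/-- Every element of a finite group has a `p`-part. -/
theorem exists_isPPart (p : ℕ) (hp : p.Prime) (g : G) : ∃ z : G, IsPPart p g z := by
  set n := orderOf g with hn
  have hnpos : 0 < n := orderOf_pos g
  set a := n.factorization p with ha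
  set m := n / p ^ a with hm
  have hnm : p ^ a * m = n := Nat.ordProj_mul_ordCompl_eq_self n p
  have hcop : Nat.Coprime (p ^ a) m :=
    Nat.Coprime.pow_left _ (Nat.coprime_ordCompl hp hnpos.ne')
  have hpm : ¬ p ∣ m := Nat.not_dvd_ordCompl hp hnpos.ne'
  obtain ⟨c, hc1, hc2⟩ := Nat.chineseRemainder hcop 1 0
  obtain ⟨c', hc1', hc2'⟩ := Nat.chineseRemainder hcop 0 1
  have hmc : m ∣ c := (Nat.modEq_zero_iff_dvd).mp hc2
  have hpc' : p ^ a ∣ c' := (Nat.modEq_zero_iff_dvd).mp hc1'
  refine ⟨g ^ c, g ^ c', ?_, (Commute.refl g).pow_pow c c', ?_, ?_⟩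
  · rw [← pow_add]
    have h1 : c + c' ≡ 1 [MOD n] := by
      rw [← hnm]
      apply (Nat.modEq_and_modEq_iff_modEq_mul hcop).mp
      constructor
      · have := hc1.add hc1'
        simpa using this
      · have := hc2.add hc2'
        simpa using this
    have : g ^ (c + c') = g ^ 1 := by
      rw [pow_eq_pow_iff_modEq]
      exact h1
    rw [this, pow_one]
  · have h1 : (g ^ c) ^ (p ^ a) = 1 := by
      obtain ⟨c₁, rfl⟩ := hmc
      rw [← pow_mul, mul_comm, ← mul_assoc, hnm, pow_mul, pow_orderOf_eq_one, one_pow]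
    have h2 := orderOf_dvd_of_pow_eq_one h1
    obtain ⟨j, -, hj⟩ := (Nat.dvd_prime_pow hp).mp h2
    exact ⟨j, hj⟩
  · have h1 : (g ^ c') ^ m = 1 := by
      obtain ⟨c₁, rfl⟩ := hpc'
      rw [← pow_mul, mul_comm, ← mul_assoc, mul_comm m, hnm, pow_mul, pow_orderOf_eq_one, one_pow]
    have h2 := orderOf_dvd_of_pow_eq_one h1
    intro h3
    exact hpm (h3.trans h2)

end PPartExists

end Cfsg.Agent.Helper16
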