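import Cfsg.Agent.Helper16.BlockIdem

/-!
# Idempotents of unions of blocks (helper16)

For any set `A` of irreducible characters, `blockCoeff A` is a class function whose `omega`
transform is the indicator of `A`.  When `A` is a union of blocks, `blockCoeff A` takes values in
the local ring.
-/

set_option autoImplicit false
set_option linter.unusedSectionVars false

namespace Cfsg.Agent.Helper16

open Cfsg
open scoped ComplexConjugate

variable {G : Type*} [Group G] [Fintype G] {M : Ideal AlgInt}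

/-- `blockCoeff A` is a class function. -/
theorem isClassFunction_blockCoeff (A : Set (IrrCharacter G)) :
    IsClassFunction G (blockCoeff A) := by
  classical
  intro g h
  rw [blockCoeff_eq_sum, blockCoeff_eq_sum]
  congr 1
  refine Finset.sum_congr rfl (fun χ _ => ?_)
  rw [irr_isClassFunction χ g h]

open Classical in
/-- First orthogonality, in `omega` form. -/
theorem omega_irr_conj (χ ψ : IrrCharacter G) :
    omega (χ : G → ℂ) (fun g => (Nat.card G : ℂ)⁻¹ * ((ψ : G → ℂ) 1 * conj ((ψ : G → ℂ) g))) =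
      if ψ = χ then 1 else 0 := by
  have hcard : (Nat.card G : ℂ) ≠ 0 := card_ne_zero'
  have hψ1 : (ψ : G → ℂ) 1 ≠ 0 := irr_one_ne_zero ψ
  have hχ1 : (χ : G → ℂ) 1 ≠ 0 := irr_one_ne_zero χ
  have h1 : ∑ x : G, (Nat.card G : ℂ)⁻¹ * ((ψ : G → ℂ) 1 * conj ((ψ : G → ℂ) x)) * (χ : G → ℂ) x =
      (ψ : G → ℂ) 1 * classInner (χ : G → ℂ) (ψ : G → ℂ) := by
    unfold classInner
    rw [Finset.mul_sum, Finset.mul_sum]
    refine Finset.sum_congr rfl (fun x _ => ?_)
    ring
  unfold omega
  rw [h1]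
  by_cases h : ψ = χ
  · rw [if_pos h, h, Helper79.classInner_irr_self, mul_one, div_self hχ1]
  · rw [if_neg h, Helper79.classInner_irr_ne (Ne.symm h), mul_zero, zero_div]

open Classical in
/-- The `omega` transform of `blockCoeff A` is the indicator of `A`. -/
theorem omega_blockCoeff (A : Set (IrrCharacter G)) (χ : IrrCharacter G) :
    omega (χ : G → ℂ) (blockCoeff A) = if χ ∈ A then 1 else 0 := by
  have hfun : blockCoeff A = ∑ ψ : IrrCharacter G, (if ψ ∈ A then (1 : ℂ) else 0) •
      (fun g => (Nat.card G : ℂ)⁻¹ * ((ψ : G → ℂ) 1 * conj ((ψ : G → ℂ) g))) := by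
    funext g
    rw [blockCoeff_eq_sum, Finset.sum_apply, Finset.mul_sum]
    refine Finset.sum_congr rfl (fun ψ _ => ?_)
    simp only [Pi.smul_apply, smul_eq_mul]
    ring
  rw [hfun, omega_sum]
  simp_rw [omega_smul, omega_irr_conj]
  rw [Finset.sum_eq_single χ]
  · simp
  · intro ψ _ hne
    rw [if_neg hne, mul_zero]
  · intro h
    exact absurd (Finset.mem_univ _) h

open Classical in
/-- The indicator of a union of blocks lies in `Λ`. -/
theorem inLambda_indicator_of_closed [M.IsPrime] (A : Set (IrrCharacter G))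
    (hA : ∀ χ ∈ A, ∀ ψ : IrrCharacter G, SameBlock M (χ : G → ℂ) (ψ : G → ℂ) → ψ ∈ A) :
    InLambda M (fun χ : IrrCharacter G => if χ ∈ A then (1 : ℂ) else 0) := by
  classical
  let I : Finset (IrrCharacter G) := Finset.univ.filter (fun χ => χ ∈ A)
  have hprod : InLambda M (fun ψ : IrrCharacter G => ∏ χ₀ ∈ I,
      (1 - if SameBlock M (χ₀ : G → ℂ) (ψ : G → ℂ) then (1 : ℂ) else 0)) :=
    inLambda_prod I _ (fun χ₀ _ => inLambda_sub inLambda_one (inLambda_indicator χ₀))
  have h := inLambda_sub (M := M) inLambda_one hprod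
  have heq : (fun ψ : IrrCharacter G => (1 : ℂ) - ∏ χ₀ ∈ I,
      (1 - if SameBlock M (χ₀ : G → ℂ) (ψ : G → ℂ) then (1 : ℂ) else 0)) =
      (fun χ : IrrCharacter G => if χ ∈ A then (1 : ℂ) else 0) := by
    funext ψ
    by_cases hψ : ψ ∈ A
    · rw [if_pos hψ]
      have hψI : ψ ∈ I := by simp only [I, Finset.mem_filter, Finset.mem_univ, true_and]; exact hψ
      have : ∏ χ₀ ∈ I, (1 - if SameBlock M (χ₀ : G → ℂ) (ψ : G → ℂ) then (1 : ℂ) else 0) = 0 := by
        refine Finset.prod_eq_zero hψI ?_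
        rw [if_pos (sameBlock_refl _), sub_self]
      rw [this, sub_zero]
    · rw [if_neg hψ]
      have : ∏ χ₀ ∈ I, (1 - if SameBlock M (χ₀ : G → ℂ) (ψ : G → ℂ) then (1 : ℂ) else 0) = 1 := by
        refine Finset.prod_eq_one (fun χ₀ hχ₀ => ?_)
        have hχ₀A : χ₀ ∈ A := by
          simpa only [I, Finset.mem_filter, Finset.mem_univ, true_and] using hχ₀
        have : ¬ SameBlock M (χ₀ : G → ℂ) (ψ : G → ℂ) := fun hs => hψ (hA χ₀ hχ₀A ψ hs)
        rw [if_neg this, sub_zero]
      rw [this, sub_self]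
  rw [← heq]
  exact h

/-- The idempotent of a union of blocks has coefficients in the local ring. -/
theorem memLocalRing_blockCoeff_of_closed [M.IsPrime] (A : Set (IrrCharacter G))
    (hA : ∀ χ ∈ A, ∀ ψ : IrrCharacter G, SameBlock M (χ : G → ℂ) (ψ : G → ℂ) → ψ ∈ A) (g : G) :
    MemLocalRing M (blockCoeff A g) := by
  classical
  obtain ⟨s, hs, hsS, hsl⟩ := inLambda_indicator_of_closed (M := M) A hA
  have hfun : blockCoeff A = s := by
    funext g
    rw [blockCoeff_eq_sum, classFunction_eq_sum_omega hs g]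
    congr 1
    refine Finset.sum_congr rfl (fun χ _ => ?_)
    rw [← hsl χ]
  rw [hfun]
  exact hsS g

end Cfsg.Agent.Helper16
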