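import Cfsg.Agent.Helper16.SecondMainVanish
import Cfsg.Agent.Helper77.MaxPair
import Cfsg.Agent.Helper78.PPart
import Cfsg.Agent.Helper79.CharComplete

/-!
# Block orthogonality (from the second main theorem)
-/

set_option autoImplicit false
set_option linter.unusedSectionVars false
set_option linter.unusedVariables false

namespace Cfsg.Agent.Helper16

open Cfsg
open scoped ComplexConjugate

section PPartUnique

variable {G : Type*} [Group G] [Finite G] {p : ℕ}

/-- The `p`-part of an element is unique. -/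
theorem isPPart_unique (hp : p.Prime) {u z z' : G} (h : IsPPart p u z) (h' : IsPPart p u z') :
    z = z' := by
  obtain ⟨a, ha⟩ := Helper78.exists_pow_eq_of_isPPart hp h
  obtain ⟨a', ha'⟩ := Helper78.exists_pow_eq_of_isPPart hp h'
  obtain ⟨w, hzw, hcomm, ⟨k, hk⟩, hw⟩ := h
  obtain ⟨w', hzw', hcomm', ⟨k', hk'⟩, hw'⟩ := h'
  have hzz' : Commute z z' := by
    rw [← ha, ← ha']; exact (Commute.refl u).pow_pow a a'
  have hwu : w = z⁻¹ * u := by rw [← hzw]; group
  have hw'u : w' = z'⁻¹ * u := by rw [← hzw']; group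
  have hzu : Commute z u := by rw [← ha]; exact (Commute.refl u).pow_left a
  have hz'u : Commute z' u := by rw [← ha']; exact (Commute.refl u).pow_left a'
  have hww' : Commute w w' := by
    rw [hwu, hw'u]
    exact (hzz'.inv_inv.mul_right hzu.inv_left).mul_left (hz'u.symm.inv_right.mul_right
      (Commute.refl u))
  -- d = z⁻¹ z' = w w'⁻¹
  have hd : z⁻¹ * z' = w * w'⁻¹ := by
    rw [hwu, hw'u]
    have : (z'⁻¹ * u)⁻¹ = u⁻¹ * z' := by group
    rw [this]
    group
  have h1 : orderOf (z⁻¹ * z') ∣ p ^ (max k k') := by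
    have := (hzz'.inv_left).orderOf_mul_dvd_lcm
    rw [orderOf_inv, hk, hk'] at this
    refine this.trans ?_
    apply Nat.lcm_dvd
    · exact pow_dvd_pow p (le_max_left k k')
    · exact pow_dvd_pow p (le_max_right k k')
  have h2 : orderOf (z⁻¹ * z') ∣ Nat.lcm (orderOf w) (orderOf w') := by
    rw [hd]
    have := (hww'.inv_right).orderOf_mul_dvd_lcm
    rwa [orderOf_inv] at this
  have hcop : Nat.Coprime (p ^ (max k k')) (Nat.lcm (orderOf w) (orderOf w')) := by
    apply Nat.Coprime.pow_left
    rw [Nat.Prime.coprime_iff_not_dvd hp]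
    intro hdvd
    rcases (Nat.Prime.dvd_mul hp).mp (hdvd.trans (Nat.lcm_dvd_mul _ _)) with h3 | h3
    · exact hw h3
    · exact hw' h3
  have h3 : orderOf (z⁻¹ * z') = 1 :=
    Nat.Coprime.eq_one_of_dvd (hcop.coprime_dvd_left h1) h2
  rw [orderOf_eq_one_iff] at h3
  calc z = z * (z⁻¹ * z') := by rw [h3, mul_one]
    _ = z' := by group

end PPartUnique

section BO

variable {G : Type*} [Group G] [Fintype G] {M : Ideal AlgInt} {p : ℕ}

/-- The `b`-component of the shifted function `c ↦ φ (x c)` at `y`, in idempotent form. -/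
noncomputable def shiftPart (x : G) (b : Set (IrrCharacter (Subgroup.centralizer ({x} : Set G))))
    (φ : G → ℂ) (y : Subgroup.centralizer ({x} : Set G)) : ℂ :=
  haveI : Fintype (Subgroup.centralizer ({x} : Set G)) := Fintype.ofFinite _
  ∑ k : Subgroup.centralizer ({x} : Set G), blockCoeff b k *
    φ (x * ((k * y : Subgroup.centralizer ({x} : Set G)) : G))

theorem shiftPart_def (x : G) [Fintype (Subgroup.centralizer ({x} : Set G))]
    (b : Set (IrrCharacter (Subgroup.centralizer ({x} : Set G)))) (φ : G → ℂ)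
    (y : Subgroup.centralizer ({x} : Set G)) :
    shiftPart x b φ y = ∑ k : Subgroup.centralizer ({x} : Set G), blockCoeff b k *
      φ (x * ((k * y : Subgroup.centralizer ({x} : Set G)) : G)) := by
  unfold shiftPart
  rw [Subsingleton.elim (Fintype.ofFinite (Subgroup.centralizer ({x} : Set G))) ‹_›]

/-- (1) the second main theorem. -/
theorem shiftPart_irr_eq_zero [Fact p.Prime] (hM : IsPModular p M) (x : G)
    (hx : ∃ k : ℕ, orderOf x = p ^ k) (χ : IrrCharacter G)
    (b : Set (IrrCharacter (Subgroup.centralizer ({x} : Set G)))) (hb : IsPBlock M b)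
    (hnot : ¬ IsInducedBlock M (Subgroup.centralizer ({x} : Set G)) b (blockOf M (χ : G → ℂ)))
    (y : Subgroup.centralizer ({x} : Set G)) (hy : ¬ p ∣ orderOf y) :
    shiftPart x b (χ : G → ℂ) y = 0 := by
  classical
  haveI hMp : M.IsPrime := IsPModular.isPrime hM
  haveI : Fintype (Subgroup.centralizer ({x} : Set G)) := Fintype.ofFinite _
  have h := second_main_character hM x hx ⟨χ, rfl⟩ χ (sameBlock_refl _) b hb hnot y hy
  rw [blockPart_eq_sum_blockCoeff_mul b (isClassFunction_shift χ x) y] at h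
  rw [shiftPart_def]
  exact h

/-- (2) the `B`-part of a function has no `b`-component unless `b` induces `B`. -/
theorem shiftPart_blockPart_eq_zero [Fact p.Prime] (hM : IsPModular p M) (x : G)
    (hx : ∃ k : ℕ, orderOf x = p ^ k) {B : Set (IrrCharacter G)} (hB : IsPBlock M B) (ϑ : G → ℂ)
    (b : Set (IrrCharacter (Subgroup.centralizer ({x} : Set G)))) (hb : IsPBlock M b)
    (hnot : ¬ IsInducedBlock M (Subgroup.centralizer ({x} : Set G)) b B)
    (y : Subgroup.centralizer ({x} : Set G)) (hy : ¬ p ∣ orderOf y) :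
    shiftPart x b (blockPart B ϑ) y = 0 := by
  classical
  haveI hMp : M.IsPrime := IsPModular.isPrime hM
  haveI : Fintype (Subgroup.centralizer ({x} : Set G)) := Fintype.ofFinite _
  rw [shiftPart_def]
  simp_rw [blockPart_eq_sum, Finset.mul_sum]
  rw [Finset.sum_comm]
  refine Finset.sum_eq_zero (fun χ _ => ?_)
  by_cases hχ : χ ∈ B
  · have hBχ : B = blockOf M (χ : G → ℂ) := Helper78.isPBlock_eq_blockOf_of_mem hMp hB hχ
    have h1 := shiftPart_irr_eq_zero hM x hx χ b hb (by rw [← hBχ]; exact hnot) y hy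
    rw [shiftPart_def] at h1
    have h2 : ∀ k : Subgroup.centralizer ({x} : Set G),
        blockCoeff b k * ((if χ ∈ B then (1 : ℂ) else 0) * (classInner ϑ (χ : G → ℂ) *
          (χ : G → ℂ) (x * ((k * y : Subgroup.centralizer ({x} : Set G)) : G)))) =
        classInner ϑ (χ : G → ℂ) * (blockCoeff b k *
          (χ : G → ℂ) (x * ((k * y : Subgroup.centralizer ({x} : Set G)) : G))) := by
      intro k
      rw [if_pos hχ]
      ring
    rw [Finset.sum_congr rfl (fun k _ => h2 k), ← Finset.mul_sum, h1, mul_zero]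
  · refine Finset.sum_eq_zero (fun k _ => ?_)
    rw [if_neg hχ, zero_mul, mul_zero]

/-- linearity in the function -/
theorem shiftPart_sum (x : G) (b : Set (IrrCharacter (Subgroup.centralizer ({x} : Set G))))
    {ι : Type*} (I : Finset ι) (φ : ι → G → ℂ) (y : Subgroup.centralizer ({x} : Set G)) :
    shiftPart x b (fun u => ∑ i ∈ I, φ i u) y = ∑ i ∈ I, shiftPart x b (φ i) y := by
  classical
  haveI : Fintype (Subgroup.centralizer ({x} : Set G)) := Fintype.ofFinite _
  rw [shiftPart_def]
  simp_rw [shiftPart_def, Finset.mul_sum]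
  rw [Finset.sum_comm]

/-- (5) the components add up. -/
theorem sum_shiftPart [hMp : M.IsPrime] (x : G) [Fintype (Subgroup.centralizer ({x} : Set G))]
    (φ : G → ℂ) (y : Subgroup.centralizer ({x} : Set G)) :
    ∑ b ∈ Helper77.blocksFinset M (Subgroup.centralizer ({x} : Set G)), shiftPart x b φ y =
      φ (x * (y : G)) := by
  classical
  simp_rw [shiftPart_def]
  rw [Finset.sum_comm]
  have h2 : ∀ k : Subgroup.centralizer ({x} : Set G),
      ∑ b ∈ Helper77.blocksFinset M (Subgroup.centralizer ({x} : Set G)), blockCoeff b k *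
        φ (x * ((k * y : Subgroup.centralizer ({x} : Set G)) : G)) =
      (deltaOne : Subgroup.centralizer ({x} : Set G) → ℂ) k *
        φ (x * ((k * y : Subgroup.centralizer ({x} : Set G)) : G)) := by
    intro k
    rw [← Finset.sum_mul]
    congr 1
    have := congrFun (Helper77.sum_blockCoeff_blocks (M := M)
      (G := Subgroup.centralizer ({x} : Set G))) k
    rw [Finset.sum_apply] at this
    exact this
  rw [Finset.sum_congr rfl (fun k _ => h2 k),
    Finset.sum_eq_single (1 : Subgroup.centralizer ({x} : Set G))]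
  · unfold deltaOne
    rw [if_pos rfl, one_mul, one_mul]
  · intro k _ hk
    unfold deltaOne
    rw [if_neg hk, zero_mul]
  · intro h; exact absurd (Finset.mem_univ _) h

/-- (4) a class function vanishing on the `p`-regular elements has block parts vanishing on the
`p`-regular elements. -/
theorem blockPart_eq_zero_of_vanish_pRegular (hM : IsPModular p M) {B : Set (IrrCharacter G)}
    (hB : IsPBlock M B) (φ : G → ℂ) (hφ : ∀ c : G, ¬ p ∣ orderOf c → φ c = 0) (y : G)
    (hy : ¬ p ∣ orderOf y) : blockPart B φ y = 0 := by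
  classical
  rw [blockPart_eq_sum]
  unfold classInner
  have h1 : ∑ χ : IrrCharacter G, (if χ ∈ B then (1 : ℂ) else 0) *
      ((Nat.card G : ℂ)⁻¹ * ∑ c : G, φ c * conj ((χ : G → ℂ) c) * (χ : G → ℂ) y) =
      (Nat.card G : ℂ)⁻¹ * ∑ c : G, φ c * ∑ χ : IrrCharacter G,
        (if χ ∈ B then (1 : ℂ) else 0) * ((χ : G → ℂ) y * conj ((χ : G → ℂ) c)) := by
    simp_rw [Finset.mul_sum]
    rw [Finset.sum_comm]
    refine Finset.sum_congr rfl (fun c _ => ?_)
    refine Finset.sum_congr rfl (fun χ _ => ?_)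
    ring
  have h0 : ∑ χ : IrrCharacter G, (if χ ∈ B then (1 : ℂ) else 0) *
      (((Nat.card G : ℂ)⁻¹ * ∑ c : G, φ c * conj ((χ : G → ℂ) c)) * (χ : G → ℂ) y) =
      ∑ χ : IrrCharacter G, (if χ ∈ B then (1 : ℂ) else 0) *
      ((Nat.card G : ℂ)⁻¹ * ∑ c : G, φ c * conj ((χ : G → ℂ) c) * (χ : G → ℂ) y) := by
    refine Finset.sum_congr rfl (fun χ _ => ?_)
    rw [mul_assoc, Finset.sum_mul]
  rw [h0, h1]
  have h2 : ∀ c : G, φ c * ∑ χ : IrrCharacter G,
        (if χ ∈ B then (1 : ℂ) else 0) * ((χ : G → ℂ) y * conj ((χ : G → ℂ) c)) = 0 := by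
    intro c
    by_cases hc : p ∣ orderOf c
    · have := Helper77.weak_block_orthogonality' hM hB y c hy hc
      rw [finsum_mem_def, finsum_eq_sum_of_fintype] at this
      have e : ∑ χ : IrrCharacter G,
          (if χ ∈ B then (1 : ℂ) else 0) * ((χ : G → ℂ) y * conj ((χ : G → ℂ) c)) =
          ∑ χ : IrrCharacter G, Set.indicator B
            (fun χ : IrrCharacter G => (χ : G → ℂ) y * conj ((χ : G → ℂ) c)) χ := by
        refine Finset.sum_congr rfl (fun χ _ => ?_)
        rw [Set.indicator_apply]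
        by_cases h : χ ∈ B
        · rw [if_pos h, if_pos h, one_mul]
        · rw [if_neg h, if_neg h, zero_mul]
      rw [e, this, mul_zero]
    · rw [hφ c hc, zero_mul]
  rw [Finset.sum_eq_zero (fun c _ => h2 c), mul_zero]

/-- `c ↦ ϑ (x c)` is a class function on `C_G(x)` for a class function `ϑ`. -/
theorem isClassFunction_shift' {ϑ : G → ℂ} (hϑ : IsClassFunction G ϑ) (x : G) :
    IsClassFunction (Subgroup.centralizer ({x} : Set G))
      (fun c : Subgroup.centralizer ({x} : Set G) => ϑ (x * (c : G))) := by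
  have hcomm : ∀ c : Subgroup.centralizer ({x} : Set G), x * (c : G) = (c : G) * x := by
    intro c
    have := c.2
    rw [Subgroup.mem_centralizer_iff] at this
    exact this x (Set.mem_singleton x)
  intro c t
  show ϑ (x * ((t * c * t⁻¹ : Subgroup.centralizer ({x} : Set G)) : G)) = ϑ (x * (c : G))
  rw [Subgroup.coe_mul, Subgroup.coe_mul, Subgroup.coe_inv]
  have e1 : x * ((t : G) * (c : G) * (t : G)⁻¹) = (t : G) * (x * (c : G)) * (t : G)⁻¹ := by
    rw [← mul_assoc, ← mul_assoc, hcomm t]
    simp only [mul_assoc]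
  rw [e1]
  exact hϑ _ _

theorem blockPart_conj (B : Set (IrrCharacter G)) (ϑ : G → ℂ) (g t : G) :
    blockPart B ϑ (t * g * t⁻¹) = blockPart B ϑ g := by
  classical
  rw [blockPart_eq_sum, blockPart_eq_sum]
  refine Finset.sum_congr rfl (fun χ _ => ?_)
  rw [irr_isClassFunction χ g t]

/-- **Block parts vanish on `p`-sections where the function vanishes.** -/
theorem blockPart_eq_zero_on_section [Fact p.Prime] (hM : IsPModular p M) (ϑ : G → ℂ)
    (hϑ : IsClassFunction G ϑ) (x : G) (hx : ∃ k : ℕ, orderOf x = p ^ k)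
    (hvan : ∀ u z : G, IsPPart p u z → IsConj x z → ϑ u = 0)
    (B : Set (IrrCharacter G)) (hB : IsPBlock M B) (u z : G) (hz : IsPPart p u z)
    (hxz : IsConj x z) : blockPart B ϑ u = 0 := by
  classical
  haveI hMp : M.IsPrime := IsPModular.isPrime hM
  haveI : Fintype (Subgroup.centralizer ({x} : Set G)) := Fintype.ofFinite _
  -- reduce to `z = x`
  obtain ⟨t, ht⟩ := isConj_iff.mp hxz
  have hz' : IsPPart p (t⁻¹ * u * t⁻¹⁻¹) x := by
    have := Helper78.isPPart_conj hz t⁻¹
    have e : t⁻¹ * z * t⁻¹⁻¹ = x := by rw [← ht]; group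
    rwa [e] at this
  rw [← blockPart_conj B ϑ u t⁻¹]
  set u' := t⁻¹ * u * t⁻¹⁻¹ with hu'
  obtain ⟨y, hxy, hcomm, -, hyo⟩ := hz'
  have hyC : y ∈ Subgroup.centralizer ({x} : Set G) := by
    rw [Subgroup.mem_centralizer_iff]
    intro s hs
    rw [Set.mem_singleton_iff] at hs
    rw [hs]
    exact hcomm.eq
  set yC : Subgroup.centralizer ({x} : Set G) := ⟨y, hyC⟩ with hyCdef
  have hyo' : ¬ p ∣ orderOf yC := by
    rw [← Subgroup.orderOf_coe]; exact hyo
  have hsum := sum_shiftPart (M := M) x (blockPart B ϑ) yC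
  rw [← hxy, ← hsum]
  refine Finset.sum_eq_zero (fun b hb => ?_)
  rw [Helper77.mem_blocksFinset] at hb
  by_cases hind : IsInducedBlock M (Subgroup.centralizer ({x} : Set G)) b B
  · have e0 : (fun u => ∑ B' ∈ Helper77.blocksFinset M G, blockPart B' ϑ u) = ϑ := by
      funext u
      exact sum_blockPart_eq (M := M) hϑ u
    have e1 : shiftPart x b ϑ yC =
        ∑ B' ∈ Helper77.blocksFinset M G, shiftPart x b (blockPart B' ϑ) yC := by
      rw [← shiftPart_sum, e0]
    have e2 : ∑ B' ∈ Helper77.blocksFinset M G, shiftPart x b (blockPart B' ϑ) yC =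
        shiftPart x b (blockPart B ϑ) yC := by
      apply Finset.sum_eq_single B
      · intro B' hB' hne
        rw [Helper77.mem_blocksFinset] at hB'
        refine shiftPart_blockPart_eq_zero hM x hx hB' ϑ b hb ?_ yC hyo'
        intro hind'
        exact hne (Helper77.isInducedBlock_unique _ hind' hind)
      · intro hBn
        exact absurd (Helper77.mem_blocksFinset.mpr hB) hBn
    have e3 : shiftPart x b ϑ yC = 0 := by
      rw [shiftPart_def]
      have hcl := isClassFunction_shift' hϑ x
      have := blockPart_eq_sum_blockCoeff_mul b hcl yC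
      rw [← this]
      apply blockPart_eq_zero_of_vanish_pRegular hM hb _ _ yC hyo'
      intro c hc
      apply hvan (x * (c : G)) x _ (IsConj.refl x)
      refine ⟨(c : G), rfl, ?_, hx, ?_⟩
      · have := c.2
        rw [Subgroup.mem_centralizer_iff] at this
        exact this x (Set.mem_singleton x)
      · rw [Subgroup.orderOf_coe]; exact hc
    rw [← e2, ← e1, e3]
  · exact shiftPart_blockPart_eq_zero hM x hx hB ϑ b hb hind yC hyo'

/-- **Block orthogonality.** -/
theorem block_orthogonality [Fact p.Prime] (hM : IsPModular p M) (g h x y : G)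
    (hgx : IsPPart p g x) (hhy : IsPPart p h y) (hne : ¬ IsConj x y)
    (B : Set (IrrCharacter G)) (hB : IsPBlock M B) :
    ∑ᶠ χ ∈ B, (χ : G → ℂ) g * (χ : G → ℂ) h⁻¹ = 0 := by
  classical
  have hp : p.Prime := Fact.out
  haveI hMp : M.IsPrime := IsPModular.isPrime hM
  have hx : ∃ k : ℕ, orderOf x = p ^ k := by
    obtain ⟨_, _, _, hx, _⟩ := hgx
    exact hx
  set ϑ : G → ℂ := fun u => if IsConj h u then (1 : ℂ) else 0 with hϑdef
  have hϑ : IsClassFunction G ϑ := by
    intro u t
    show (if IsConj h (t * u * t⁻¹) then (1 : ℂ) else 0) = if IsConj h u then (1 : ℂ) else 0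
    have : IsConj h (t * u * t⁻¹) ↔ IsConj h u := by
      constructor
      · intro hc
        exact hc.trans (isConj_iff.mpr ⟨t⁻¹, by group⟩)
      · intro hc
        exact hc.trans (isConj_iff.mpr ⟨t, rfl⟩)
    simp only [this]
  have hvan : ∀ u z : G, IsPPart p u z → IsConj x z → ϑ u = 0 := by
    intro u z hz hxz
    show (if IsConj h u then (1 : ℂ) else 0) = 0
    rw [if_neg]
    intro hc
    obtain ⟨t, ht⟩ := isConj_iff.mp hc
    have h1 := Helper78.isPPart_conj hhy t
    rw [ht] at h1
    have h2 := isPPart_unique hp hz h1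
    apply hne
    refine hxz.trans ?_
    rw [h2]
    exact (isConj_iff.mpr ⟨t, rfl⟩ : IsConj y (t * y * t⁻¹)).symm
  have key := blockPart_eq_zero_on_section hM ϑ hϑ x hx hvan B hB g x hgx (IsConj.refl x)
  rw [blockPart_eq_sum] at key
  rw [finsum_mem_def, finsum_eq_sum_of_fintype]
  have hc : (Nat.card (Subgroup.centralizer ({h} : Set G)) : ℂ) ≠ 0 := by
    have : 0 < Nat.card (Subgroup.centralizer ({h} : Set G)) := Nat.card_pos
    exact_mod_cast this.ne'
  have e : ∑ χ : IrrCharacter G, (if χ ∈ B then (1 : ℂ) else 0) *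
      (classInner ϑ (χ : G → ℂ) * (χ : G → ℂ) g) =
      (Nat.card (Subgroup.centralizer ({h} : Set G)) : ℂ)⁻¹ *
      ∑ χ : IrrCharacter G, Set.indicator B
        (fun χ : IrrCharacter G => (χ : G → ℂ) g * (χ : G → ℂ) h⁻¹) χ := by
    rw [Finset.mul_sum]
    refine Finset.sum_congr rfl (fun χ _ => ?_)
    rw [Helper79.classInner_indicator_class h (irr_isClassFunction χ), Set.indicator_apply,
      Helper79.irr_inv]
    by_cases hχ : χ ∈ B
    · rw [if_pos hχ, if_pos hχ]; ring
    · rw [if_neg hχ, if_neg hχ]; ring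
  rw [e] at key
  exact (mul_eq_zero.mp key).resolve_left (inv_ne_zero hc)

end BO

end Cfsg.Agent.Helper16
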