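import Cfsg.Agent.Helper16.BlockOrthogonality
import Cfsg.Agent.S0936
import Cfsg.Agent.S0938
import Cfsg.Agent.Lib.Cores

/-!
# The principal block on `p`-sections (second + third main theorems)
-/

set_option autoImplicit false
set_option linter.unusedSectionVars false
set_option linter.unusedVariables false

namespace Cfsg.Agent.Helper16

open Cfsg
open scoped ComplexConjugate

section PS

variable {G : Type*} [Group G] [Fintype G] {M : Ideal AlgInt} {p : ℕ}

/-- For `χ` in the principal block, only the principal block of `C_G(x)` contributes to `χ (x y)`. -/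
theorem principal_shift_eq [Fact p.Prime] (hM : IsPModular p M) (x : G)
    (hx : ∃ k : ℕ, orderOf x = p ^ k) (χ : IrrCharacter G) (hχ : χ ∈ principalBlock M G)
    (y : Subgroup.centralizer ({x} : Set G)) (hy : ¬ p ∣ orderOf y) :
    (χ : G → ℂ) (x * (y : G)) =
      shiftPart x (principalBlock M (Subgroup.centralizer ({x} : Set G))) (χ : G → ℂ) y := by
  classical
  haveI hMp : M.IsPrime := IsPModular.isPrime hM
  haveI : Fintype (Subgroup.centralizer ({x} : Set G)) := Fintype.ofFinite _
  rw [← sum_shiftPart (M := M) x (χ : G → ℂ) y]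
  apply Finset.sum_eq_single (principalBlock M (Subgroup.centralizer ({x} : Set G)))
  · intro b hb hne
    rw [Helper77.mem_blocksFinset] at hb
    refine shiftPart_irr_eq_zero hM x hx χ b hb ?_ y hy
    intro hind
    apply hne
    have hBχ : principalBlock M G = blockOf M (χ : G → ℂ) :=
      Helper78.isPBlock_eq_blockOf_of_mem hMp (Helper78.isPBlock_principalBlock M G) hχ
    rw [← hBχ] at hind
    exact (Cfsg.Agent.S0936.result p M hM _ b
      (inducedBlockDefined_centralizer hM x hx b hb)).mp hind
  · intro hn
    exact absurd (Helper77.mem_blocksFinset.mpr (Helper78.isPBlock_principalBlock M _)) hn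

/-- The `p'`-core lies in the kernel of every character of the principal block. -/
theorem principalBlock_pPrimeCore [Fact p.Prime] (hM : IsPModular p M) (ψ : IrrCharacter G)
    (hψ : ψ ∈ principalBlock M G) (n : G) (hn : n ∈ Cfsg.pPrimeCore p G) :
    (ψ : G → ℂ) n = (ψ : G → ℂ) 1 := by
  classical
  haveI hMp : M.IsPrime := IsPModular.isPrime hM
  have hp : p.Prime := Fact.out
  obtain ⟨K, hKn, hKker, -, -, hKmax⟩ := Cfsg.Agent.S0938.result p M hM (principalBlock M G)
    (Helper78.isPBlock_principalBlock M G) (Helper79.principalIrr G)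
    (Helper78.principalIrr_mem_principalBlock M hMp G)
  have hchar : (Cfsg.pPrimeCore p G).Normal :=
    @Subgroup.normal_of_characteristic _ _ _ (Cfsg.Agent.Lib.pPrimeCore_characteristic p)
  have hcop := Cfsg.Agent.Lib.card_pPrimeCore_coprime (G := G) p
  have hle := hKmax (Cfsg.pPrimeCore p G) hchar
    (fun hdvd => by
      have := Nat.Coprime.eq_one_of_dvd hcop.symm hdvd
      exact hp.one_lt.ne' this)
    (fun g _ => rfl)
  have hnK : n ∈ (K : Set G) := hle hn
  rw [hKker] at hnK
  exact hnK ψ hψ

end PS

end Cfsg.Agent.Helper16
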