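import Cfsg.Agent.Helper16.PrincipalSection
import Cfsg.Agent.Helper16.Quotient
import Cfsg.Agent.S0939

/-!
# Norm sums of the principal block on a `p`-section
-/

set_option autoImplicit false
set_option linter.unusedSectionVars false
set_option linter.unusedVariables false

namespace Cfsg.Agent.Helper16

open Cfsg
open scoped ComplexConjugate

section PN

variable {G : Type*} [Group G] [Fintype G] {M : Ideal AlgInt} {p : ℕ}

theorem classInner_sub (φ₁ φ₂ ψ : G → ℂ) :
    classInner (φ₁ - φ₂) ψ = classInner φ₁ ψ - classInner φ₂ ψ := by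
  unfold classInner
  rw [← mul_sub, ← Finset.sum_sub_distrib]
  congr 1
  refine Finset.sum_congr rfl (fun g _ => ?_)
  rw [Pi.sub_apply, sub_mul]

theorem blockPart_sub (B : Set (IrrCharacter G)) (φ₁ φ₂ : G → ℂ) (g : G) :
    blockPart B (φ₁ - φ₂) g = blockPart B φ₁ g - blockPart B φ₂ g := by
  classical
  rw [blockPart_eq_sum, blockPart_eq_sum, blockPart_eq_sum, ← Finset.sum_sub_distrib]
  refine Finset.sum_congr rfl (fun χ _ => ?_)
  rw [classInner_sub]
  ring

/-- The `B`-part of the indicator function of a class. -/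
theorem blockPart_classInd (B : Set (IrrCharacter G)) [DecidablePred (· ∈ B)] (h g : G) :
    blockPart B (classInd h) g =
      (Nat.card (Subgroup.centralizer ({h} : Set G)) : ℂ)⁻¹ *
        ∑ χ : IrrCharacter G, (if χ ∈ B then (1 : ℂ) else 0) *
          ((χ : G → ℂ) g * conj ((χ : G → ℂ) h)) := by
  classical
  rw [blockPart_eq_sum, Finset.mul_sum]
  refine Finset.sum_congr rfl (fun χ _ => ?_)
  have h1 : classInner (classInd h) (χ : G → ℂ) =
      (Nat.card (Subgroup.centralizer ({h} : Set G)) : ℂ)⁻¹ * conj ((χ : G → ℂ) h) := by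
    unfold classInd
    exact @Helper79.classInner_indicator_class G _ _ _ h _ (irr_isClassFunction χ)
      (fun x => Classical.propDecidable _)
  rw [h1]
  by_cases hχ : χ ∈ B
  · simp only [if_pos hχ]; ring
  · simp only [if_neg hχ]; ring

/-- The principal-block part of a class function at `z y` is the `B₀(C_G(z))`-component. -/
theorem principal_blockPart_shift [Fact p.Prime] (hM : IsPModular p M) (z : G)
    (hz : ∃ k : ℕ, orderOf z = p ^ k) {θ : G → ℂ} (hθ : IsClassFunction G θ)
    (y : Subgroup.centralizer ({z} : Set G)) (hy : ¬ p ∣ orderOf y) :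
    blockPart (principalBlock M G) θ (z * (y : G)) =
      shiftPart z (principalBlock M (Subgroup.centralizer ({z} : Set G))) θ y := by
  classical
  haveI hMp : M.IsPrime := IsPModular.isPrime hM
  haveI : Fintype (Subgroup.centralizer ({z} : Set G)) := Fintype.ofFinite _
  set b₀ := principalBlock M (Subgroup.centralizer ({z} : Set G)) with hb₀
  have hb₀b : IsPBlock M b₀ := Helper78.isPBlock_principalBlock M _
  have hB₀ : IsPBlock M (principalBlock M G) := Helper78.isPBlock_principalBlock M G
  have hdef := inducedBlockDefined_centralizer hM z hz b₀ hb₀b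
  have hind₀ : IsInducedBlock M (Subgroup.centralizer ({z} : Set G)) b₀ (principalBlock M G) :=
    (Cfsg.Agent.S0936.result p M hM _ b₀ hdef).mpr rfl
  -- B1
  have B1 : blockPart (principalBlock M G) θ (z * (y : G)) =
      shiftPart z b₀ (blockPart (principalBlock M G) θ) y := by
    rw [← sum_shiftPart (M := M) z (blockPart (principalBlock M G) θ) y]
    apply Finset.sum_eq_single b₀
    · intro b hb hne
      rw [Helper77.mem_blocksFinset] at hb
      refine shiftPart_blockPart_eq_zero hM z hz hB₀ θ b hb ?_ y hy
      intro hind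
      exact hne ((Cfsg.Agent.S0936.result p M hM _ b
        (inducedBlockDefined_centralizer hM z hz b hb)).mp hind)
    · intro hn
      exact absurd (Helper77.mem_blocksFinset.mpr hb₀b) hn
  -- B2
  have e0 : (fun u => ∑ B' ∈ Helper77.blocksFinset M G, blockPart B' θ u) = θ := by
    funext u
    exact sum_blockPart_eq (M := M) hθ u
  have e1 : shiftPart z b₀ θ y =
      ∑ B' ∈ Helper77.blocksFinset M G, shiftPart z b₀ (blockPart B' θ) y := by
    rw [← shiftPart_sum, e0]
  have e2 : ∑ B' ∈ Helper77.blocksFinset M G, shiftPart z b₀ (blockPart B' θ) y =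
      shiftPart z b₀ (blockPart (principalBlock M G) θ) y := by
    apply Finset.sum_eq_single (principalBlock M G)
    · intro B' hB' hne
      rw [Helper77.mem_blocksFinset] at hB'
      refine shiftPart_blockPart_eq_zero hM z hz hB' θ b₀ hb₀b ?_ y hy
      intro hind'
      exact hne (Helper77.isInducedBlock_unique _ hind' hind₀)
    · intro hBn
      exact absurd (Helper77.mem_blocksFinset.mpr hB₀) hBn
  rw [B1, ← e2, ← e1]

/-- `C_G(z y) = C_{C_G(z)}(y)` for a `p`-element `z` and a commuting `p`-regular `y`. -/
theorem card_centralizer_mul [Fact p.Prime] (z : G) (hz : ∃ k : ℕ, orderOf z = p ^ k)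
    (y : Subgroup.centralizer ({z} : Set G)) (hy : ¬ p ∣ orderOf y) :
    Nat.card (Subgroup.centralizer ({z * (y : G)} : Set G)) =
      Nat.card (Subgroup.centralizer ({y} : Set (Subgroup.centralizer ({z} : Set G)))) := by
  classical
  have hp : p.Prime := Fact.out
  have hzy : z * (y : G) = (y : G) * z := by
    have := y.2
    rw [Subgroup.mem_centralizer_iff] at this
    exact this z (Set.mem_singleton z)
  have hpp : IsPPart p (z * (y : G)) z :=
    ⟨(y : G), rfl, hzy, hz, by rw [Subgroup.orderOf_coe]; exact hy⟩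
  obtain ⟨a, ha⟩ := Helper78.exists_pow_eq_of_isPPart hp hpp
  have hmap : (Subgroup.centralizer ({y} : Set (Subgroup.centralizer ({z} : Set G)))).map
      (Subgroup.centralizer ({z} : Set G)).subtype = Subgroup.centralizer ({z * (y : G)} : Set G) := by
    ext g
    constructor
    · rintro ⟨c, hc, rfl⟩
      rw [Subgroup.mem_centralizer_iff]
      intro t ht
      rw [Set.mem_singleton_iff] at ht
      rw [ht]
      have hcz : z * (c : G) = (c : G) * z := by
        have := c.2
        rw [Subgroup.mem_centralizer_iff] at this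
        exact this z (Set.mem_singleton z)
      have hcy : (y : G) * (c : G) = (c : G) * (y : G) := by
        have h1 : c ∈ Subgroup.centralizer ({y} : Set (Subgroup.centralizer ({z} : Set G))) := hc
        rw [Subgroup.mem_centralizer_iff] at h1
        have := h1 y (Set.mem_singleton y)
        exact congrArg Subtype.val this
      show z * (y : G) * (c : G) = (c : G) * (z * (y : G))
      rw [mul_assoc, hcy, ← mul_assoc, hcz, mul_assoc]
    · intro hg
      rw [Subgroup.mem_centralizer_iff] at hg
      have h1 : z * (y : G) * g = g * (z * (y : G)) := hg _ (Set.mem_singleton _)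
      have hc1 : Commute (z * (y : G)) g := h1
      have hcz : Commute z g := by rw [← ha]; exact hc1.pow_left a
      have hcy : Commute (y : G) g := by
        have : (y : G) = z⁻¹ * (z * (y : G)) := by group
        rw [this]
        exact hcz.inv_left.mul_left hc1
      have hgC : g ∈ Subgroup.centralizer ({z} : Set G) := by
        rw [Subgroup.mem_centralizer_iff]
        intro t ht
        rw [Set.mem_singleton_iff] at ht
        rw [ht]
        exact hcz.eq
      refine ⟨⟨g, hgC⟩, ?_, rfl⟩
      show (⟨g, hgC⟩ : Subgroup.centralizer ({z} : Set G)) ∈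
        Subgroup.centralizer ({y} : Set (Subgroup.centralizer ({z} : Set G)))
      rw [Subgroup.mem_centralizer_iff]
      intro t ht
      rw [Set.mem_singleton_iff] at ht
      rw [ht]
      apply Subtype.ext
      exact hcy.eq
  rw [← hmap, Subgroup.card_map_of_injective (Subgroup.subtype_injective _)]

/-- Conjugacy on the `p`-section of `z`. -/
theorem isConj_mul_iff [Fact p.Prime] (z : G) (hz : ∃ k : ℕ, orderOf z = p ^ k)
    (y c : Subgroup.centralizer ({z} : Set G)) (hy : ¬ p ∣ orderOf y) (hc : ¬ p ∣ orderOf c) :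
    IsConj (z * (y : G)) (z * (c : G)) ↔ IsConj y c := by
  have hp : p.Prime := Fact.out
  have hcomm : ∀ t : Subgroup.centralizer ({z} : Set G), z * (t : G) = (t : G) * z := by
    intro t
    have := t.2
    rw [Subgroup.mem_centralizer_iff] at this
    exact this z (Set.mem_singleton z)
  constructor
  · intro h
    obtain ⟨t, ht⟩ := isConj_iff.mp h
    have hpy : IsPPart p (z * (y : G)) z :=
      ⟨(y : G), rfl, hcomm y, hz, by rw [Subgroup.orderOf_coe]; exact hy⟩
    have hpc : IsPPart p (z * (c : G)) z :=
      ⟨(c : G), rfl, hcomm c, hz, by rw [Subgroup.orderOf_coe]; exact hc⟩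
    have h1 := Helper78.isPPart_conj hpy t
    rw [ht] at h1
    have h2 : t * z * t⁻¹ = z := isPPart_unique hp h1 hpc
    have htz : z * t = t * z := by
      have : t * z = z * t := by
        calc t * z = (t * z * t⁻¹) * t := by group
          _ = z * t := by rw [h2]
      exact this.symm
    have htC : t ∈ Subgroup.centralizer ({z} : Set G) := by
      rw [Subgroup.mem_centralizer_iff]
      intro s hs
      rw [Set.mem_singleton_iff] at hs
      rw [hs]
      exact htz
    refine isConj_iff.mpr ⟨⟨t, htC⟩, ?_⟩
    apply Subtype.ext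
    rw [Subgroup.coe_mul, Subgroup.coe_mul, Subgroup.coe_inv]
    show t * (y : G) * t⁻¹ = (c : G)
    have h3 : t * (z * (y : G)) * t⁻¹ = z * (t * (y : G) * t⁻¹) := by
      calc t * (z * (y : G)) * t⁻¹ = (t * z) * (y : G) * t⁻¹ := by group
        _ = (z * t) * (y : G) * t⁻¹ := by rw [htz]
        _ = z * (t * (y : G) * t⁻¹) := by group
    rw [h3] at ht
    exact mul_left_cancel ht
  · intro h
    obtain ⟨t, ht⟩ := isConj_iff.mp h
    refine isConj_iff.mpr ⟨(t : G), ?_⟩
    have h1 : (t : G) * (y : G) * (t : G)⁻¹ = (c : G) := by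
      have := congrArg Subtype.val ht
      simpa using this
    calc (t : G) * (z * (y : G)) * (t : G)⁻¹ = ((t : G) * z) * (y : G) * (t : G)⁻¹ := by group
      _ = (z * (t : G)) * (y : G) * (t : G)⁻¹ := by rw [hcomm t]
      _ = z * ((t : G) * (y : G) * (t : G)⁻¹) := by group
      _ = z * (c : G) := by rw [h1]

open Classical in
/-- **Principal block norm sums on a `p`-section.** -/
theorem principal_norm_sum_eq [Fact p.Prime] (hM : IsPModular p M) (z : G)
    (hz : ∃ k : ℕ, orderOf z = p ^ k) [Fintype (Subgroup.centralizer ({z} : Set G))]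
    (y : Subgroup.centralizer ({z} : Set G))
    (hy : ¬ p ∣ orderOf y) :
    ∑ ζ : IrrCharacter G, (if ζ ∈ principalBlock M G then (1 : ℂ) else 0) *
      ((ζ : G → ℂ) (z * (y : G)) * conj ((ζ : G → ℂ) (z * (y : G)))) =
    ∑ χ : IrrCharacter (Subgroup.centralizer ({z} : Set G)),
      (if χ ∈ principalBlock M (Subgroup.centralizer ({z} : Set G)) then (1 : ℂ) else 0) *
      ((χ : Subgroup.centralizer ({z} : Set G) → ℂ) y *
        conj ((χ : Subgroup.centralizer ({z} : Set G) → ℂ) y)) := by
  haveI hMp : M.IsPrime := IsPModular.isPrime hM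
  have hb0b : IsPBlock M (principalBlock M (Subgroup.centralizer ({z} : Set G))) :=
    Helper78.isPBlock_principalBlock M _
  have hθ := isClassFunction_classInd (z * (y : G))
  have h1 := principal_blockPart_shift hM z hz hθ y hy
  -- C
  have hC : shiftPart z (principalBlock M (Subgroup.centralizer ({z} : Set G))) (classInd (z * (y : G))) y =
      blockPart (principalBlock M (Subgroup.centralizer ({z} : Set G))) (fun c : Subgroup.centralizer ({z} : Set G) =>
        classInd (z * (y : G)) (z * (c : G))) y := by
    rw [shiftPart_def, ← blockPart_eq_sum_blockCoeff_mul (principalBlock M (Subgroup.centralizer ({z} : Set G))) (isClassFunction_shift' hθ z) y]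
  -- D
  have hD : blockPart (principalBlock M (Subgroup.centralizer ({z} : Set G))) (fun c : Subgroup.centralizer ({z} : Set G) =>
        classInd (z * (y : G)) (z * (c : G))) y = blockPart (principalBlock M (Subgroup.centralizer ({z} : Set G))) (classInd y) y := by
    have hd := blockPart_eq_zero_of_vanish_pRegular hM hb0b
      ((fun c : Subgroup.centralizer ({z} : Set G) => classInd (z * (y : G)) (z * (c : G))) -
        classInd y) (by
        intro c hc
        rw [Pi.sub_apply]
        unfold classInd
        have := isConj_mul_iff z hz y c hy hc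
        by_cases hyc : IsConj y c
        · rw [if_pos hyc, if_pos (this.mpr hyc), sub_self]
        · rw [if_neg hyc, if_neg (fun h => hyc (this.mp h)), sub_self]) y hy
    rw [blockPart_sub] at hd
    exact sub_eq_zero.mp hd
  rw [hC, hD, blockPart_classInd, blockPart_classInd, card_centralizer_mul z hz y hy] at h1
  have hc : (Nat.card (Subgroup.centralizer ({y} : Set (Subgroup.centralizer ({z} : Set G)))) : ℂ)⁻¹
      ≠ 0 := by
    apply inv_ne_zero
    have : 0 < Nat.card (Subgroup.centralizer ({y} : Set (Subgroup.centralizer ({z} : Set G)))) :=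
      Nat.card_pos
    exact_mod_cast this.ne'
  exact mul_left_cancel₀ hc h1

open Classical in
/-- In a group with a normal `p`-complement, the principal block norm sum at a `p`-regular element
is the `p`-part of the group order. -/
theorem principal_norm_sum_of_normal_complement [Fact p.Prime] (hM : IsPModular p M)
    (hnc : ∃ k : ℕ, (Cfsg.pPrimeCore p G).index = p ^ k) (y : G) (hy : ¬ p ∣ orderOf y) :
    ∑ χ : IrrCharacter G, (if χ ∈ principalBlock M G then (1 : ℂ) else 0) *
      ((χ : G → ℂ) y * conj ((χ : G → ℂ) y)) =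
      ((p ^ (Nat.card G).factorization p : ℕ) : ℂ) := by
  haveI hMp : M.IsPrime := IsPModular.isPrime hM
  have hp : p.Prime := Fact.out
  haveI : (pPrimeCore p G).Characteristic := Cfsg.Agent.Lib.pPrimeCore_characteristic p
  haveI hKn : (pPrimeCore p G).Normal := Subgroup.normal_of_characteristic _
  have hB₀ := Cfsg.Agent.S0939.result p M hM hnc
  obtain ⟨k, hk⟩ := hnc
  set K := pPrimeCore p G with hK
  haveI : Fintype (G ⧸ K) := Fintype.ofFinite _
  have hcop := Cfsg.Agent.Lib.card_pPrimeCore_coprime (G := G) p
  -- `y ∈ K`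
  have hyK : y ∈ K := by
    rw [← QuotientGroup.eq_one_iff]
    have h1 : (QuotientGroup.mk y : G ⧸ K) ^ orderOf y = 1 := by
      rw [← QuotientGroup.mk_pow, pow_orderOf_eq_one, QuotientGroup.mk_one]
    have h2 : (QuotientGroup.mk y : G ⧸ K) ^ p ^ k = 1 := by
      have : Nat.card (G ⧸ K) = p ^ k := by rw [← hk]; rfl
      rw [← this]
      exact pow_card_eq_one'
    have h3 := orderOf_dvd_of_pow_eq_one h1
    have h4 := orderOf_dvd_of_pow_eq_one h2
    have hc : Nat.Coprime (orderOf y) (p ^ k) :=
      Nat.Coprime.pow_right _ ((Nat.Prime.coprime_iff_not_dvd hp).mpr hy).symm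
    have h5 : orderOf (QuotientGroup.mk y : G ⧸ K) = 1 :=
      Nat.Coprime.eq_one_of_dvd (hc.coprime_dvd_left h3) h4
    exact orderOf_eq_one_iff.mp h5
  -- values at `y`
  have hval : ∀ χ : IrrCharacter G, χ ∈ principalBlock M G → (χ : G → ℂ) y = (χ : G → ℂ) 1 := by
    intro χ hχ
    rw [hB₀] at hχ
    exact hχ y hyK
  have h1 : ∑ χ : IrrCharacter G, (if χ ∈ principalBlock M G then (1 : ℂ) else 0) *
      ((χ : G → ℂ) y * conj ((χ : G → ℂ) y)) =
      ∑ χ ∈ Finset.univ.filter (fun χ : IrrCharacter G => χ ∈ principalBlock M G),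
        (χ : G → ℂ) 1 ^ 2 := by
    rw [Finset.sum_filter]
    refine Finset.sum_congr rfl (fun χ _ => ?_)
    by_cases hχ : χ ∈ principalBlock M G
    · rw [if_pos hχ, if_pos hχ, one_mul, hval χ hχ, Helper79.irr_one, Complex.conj_natCast, sq]
    · rw [if_neg hχ, if_neg hχ, zero_mul]
  have hinj : Function.Injective (inflate K) := by
    intro χ₁ χ₂ h
    apply Subtype.ext
    funext q
    obtain ⟨g, rfl⟩ := QuotientGroup.mk_surjective q
    have := congrFun (congrArg Subtype.val h) g
    exact this
  have himg : Finset.univ.filter (fun χ : IrrCharacter G => χ ∈ principalBlock M G) =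
      Finset.univ.image (inflate K) := by
    ext χ
    rw [Finset.mem_filter, Finset.mem_image]
    constructor
    · rintro ⟨-, hχ⟩
      rw [hB₀] at hχ
      obtain ⟨ψ', hψ'irr, hψ'⟩ := Cfsg.Agent.Helper80.IsIrrCharacter.exists_descend χ.2
        (QuotientGroup.mk' K) (QuotientGroup.mk'_surjective K) (by
          intro g hg
          have hgK : g ∈ K := by
            rw [← QuotientGroup.eq_one_iff]; exact hg
          exact hχ g hgK)
      refine ⟨⟨ψ', hψ'irr⟩, Finset.mem_univ _, ?_⟩
      apply Subtype.ext
      funext g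
      exact (hψ' g).symm
    · rintro ⟨χ', -, rfl⟩
      refine ⟨Finset.mem_univ _, ?_⟩
      rw [hB₀]
      intro n hn
      show (χ' : G ⧸ K → ℂ) (QuotientGroup.mk n) = (χ' : G ⧸ K → ℂ) (QuotientGroup.mk 1)
      have : (QuotientGroup.mk n : G ⧸ K) = QuotientGroup.mk 1 := by
        rw [QuotientGroup.mk_one, QuotientGroup.eq_one_iff]
        exact hn
      rw [this]
  rw [h1, himg, Finset.sum_image (fun a _ b _ h => hinj h)]
  have h2 : ∑ χ' : IrrCharacter (G ⧸ K), ((inflate K χ' : IrrCharacter G) : G → ℂ) 1 ^ 2 =
      ∑ χ' : IrrCharacter (G ⧸ K), (χ' : G ⧸ K → ℂ) 1 ^ 2 := by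
    refine Finset.sum_congr rfl (fun χ' _ => ?_)
    rfl
  rw [h2, Helper79.sum_irr_one_sq]
  have hcardQ : Nat.card (G ⧸ K) = p ^ k := by rw [← hk]; rfl
  rw [hcardQ]
  congr 2
  -- the `p`-part of `|G|`
  have hKpos : Nat.card K ≠ 0 := Nat.card_pos.ne'
  have hcardG : Nat.card G = Nat.card K * p ^ k := by
    rw [← hk]; exact (Subgroup.card_mul_index K).symm
  rw [hcardG, Nat.factorization_mul hKpos (pow_ne_zero _ hp.ne_zero), Finsupp.add_apply,
    Nat.factorization_eq_zero_of_not_dvd, zero_add, hp.factorization_pow, Finsupp.single_eq_same]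
  intro hdvd
  have := Nat.Coprime.eq_one_of_dvd hcop.symm hdvd
  exact hp.one_lt.ne' this

end PN

end Cfsg.Agent.Helper16
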