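import Cfsg.Agent.Helper16.Omega
import Mathlib.RingTheory.IntegralClosure.Algebra.Basic
import Mathlib.Algebra.Group.ConjFinite

set_option autoImplicit false

namespace Cfsg.Agent.Helper16

open Cfsg Representation

section Classes

variable {G : Type*} [Group G]

/-- A chosen representative of a conjugacy class. -/
noncomputable def classRep (C : ConjClasses G) : G := Classical.choose C.exists_rep

theorem mk_classRep (C : ConjClasses G) : ConjClasses.mk (classRep C) = C :=
  Classical.choose_spec C.exists_rep

theorem isConj_classRep_mk (x : G) : IsConj (classRep (ConjClasses.mk x)) x :=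
  ConjClasses.mk_eq_mk_iff_isConj.mp (mk_classRep _)

theorem isClassFunction_eq_of_isConj {s : G → ℂ} (hs : IsClassFunction G s) {x y : G}
    (h : IsConj x y) : s x = s y := by
  obtain ⟨c, rfl⟩ := isConj_iff.mp h
  exact (hs x c).symm

variable [Fintype G]

open Classical in
/-- `omega χ s` as a sum over conjugacy classes. -/
theorem omega_eq_sum_classes (χ s : G → ℂ) (hχ : IsClassFunction G χ) (hs : IsClassFunction G s) :
    omega χ s = ∑ C : ConjClasses G, s (classRep C) * centralChar χ (classRep C) := by
  unfold omega centralChar
  rw [← Finset.sum_fiberwise (Finset.univ : Finset G) (ConjClasses.mk) (fun x => s x * χ x),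
    Finset.sum_div]
  refine Finset.sum_congr rfl (fun C _ => ?_)
  have h1 : ∑ x ∈ Finset.univ.filter (fun x => ConjClasses.mk x = C), s x * χ x =
      ∑ x ∈ Finset.univ.filter (fun x => IsConj (classRep C) x), s (classRep C) * χ (classRep C) := by
    refine Finset.sum_congr ?_ ?_
    · ext x
      simp only [Finset.mem_filter, Finset.mem_univ, true_and]
      rw [← ConjClasses.mk_eq_mk_iff_isConj, mk_classRep, eq_comm]
    · intro x hx
      simp only [Finset.mem_filter, Finset.mem_univ, true_and] at hx
      rw [isClassFunction_eq_of_isConj hs hx, isClassFunction_eq_of_isConj hχ hx]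
  have h2 : ((Finset.univ.filter (fun x => IsConj (classRep C) x)).card : ℂ) =
      ((Subgroup.centralizer ({classRep C} : Set G)).index : ℂ) := by
    convert card_filter_isConj (classRep C)
  rw [h1, Finset.sum_const, nsmul_eq_mul, h2]
  ring

end Classes

section Integral

variable {G V : Type*} [Group G] [Fintype G] [AddCommGroup V] [Module ℂ V] [FiniteDimensional ℂ V]

theorem isClassFunction_character (ρ : Representation ℂ G V) : IsClassFunction G ρ.character :=
  fun g h => ρ.char_conj g h

theorem centralChar_one (χ : G → ℂ) (h1 : χ 1 ≠ 0) : centralChar χ 1 = 1 := by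
  unfold centralChar
  have : Subgroup.centralizer ({1} : Set G) = ⊤ := by
    ext x
    simp [Subgroup.mem_centralizer_singleton_iff]
  rw [this, Subgroup.index_top]
  simp [h1]

open Classical in
/-- The convolution of two class indicators takes natural-number values. -/
theorem conv_classInd_nat (g h x : G) :
    ∃ k : ℕ, conv (classInd g) (classInd h) x = (k : ℂ) := by
  refine ⟨(Finset.univ.filter (fun y => IsConj g y ∧ IsConj h (y⁻¹ * x))).card, ?_⟩
  unfold conv classInd
  rw [Finset.card_filter, Nat.cast_sum]
  refine Finset.sum_congr rfl (fun y _ => ?_)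
  by_cases h1 : IsConj g y <;> by_cases h2 : IsConj h (y⁻¹ * x) <;>
    simp only [h1, h2, and_self, and_true, and_false, if_true, if_false, mul_one, mul_zero,
      Nat.cast_one, Nat.cast_zero]

/-- Central characters of irreducible characters take algebraic-integer values. -/
theorem isIntegral_centralChar (ρ : Representation ℂ G V) [ρ.IsIrreducible] (g : G) :
    IsIntegral ℤ (centralChar ρ.character g) := by
  classical
  set χ := ρ.character with hχdef
  have hχ : IsClassFunction G χ := isClassFunction_character ρ
  have hχ1 : χ 1 ≠ 0 := by
    rw [hχdef, Representation.char_one]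
    exact_mod_cast (finrank_pos_of_irreducible ρ).ne'
  let N : Submodule ℤ ℂ := Submodule.span ℤ (Set.range (fun x : G => centralChar χ x))
  have hN : N ≠ ⊥ := by
    intro h
    have h1 : (1 : ℂ) ∈ N := by
      rw [← centralChar_one χ hχ1]
      exact Submodule.subset_span ⟨1, rfl⟩
    rw [h] at h1
    exact one_ne_zero ((Submodule.mem_bot ℤ).mp h1)
  have hN' : N.FG := Submodule.fg_span (Set.finite_range _)
  refine isIntegral_of_smul_mem_submodule N hN hN' (centralChar χ g) ?_
  intro n hn
  induction hn using Submodule.span_induction with
  | mem y hy =>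
    obtain ⟨h, rfl⟩ := hy
    show centralChar χ g * centralChar χ h ∈ N
    rw [← omega_classInd χ hχ g, ← omega_classInd χ hχ h,
      ← omega_conv ρ (isClassFunction_classInd g) (isClassFunction_classInd h),
      omega_eq_sum_classes χ _ hχ
        (isClassFunction_conv (isClassFunction_classInd g) (isClassFunction_classInd h))]
    refine Submodule.sum_mem _ (fun C _ => ?_)
    obtain ⟨k, hk⟩ := conv_classInd_nat g h (classRep C)
    rw [hk]
    have : (k : ℂ) * centralChar χ (classRep C) = (k : ℤ) • centralChar χ (classRep C) := by
      simp
    rw [this]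
    exact N.smul_mem _ (Submodule.subset_span ⟨_, rfl⟩)
  | zero => simp
  | add a b _ _ ha hb =>
    rw [smul_add]
    exact N.add_mem ha hb
  | smul c a _ ha =>
    rw [smul_comm]
    exact N.smul_mem c ha

end Integral

end Cfsg.Agent.Helper16
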