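import Cfsg.Agent.Helper16.UnionBlocks
import Cfsg.Agent.Helper77.DefectOrder
import Cfsg.Agent.Helper77.BlockOrth
import Cfsg.Agent.Helper78.BlockBasic
import Cfsg.Agent.Helper80.CharLevel
import Cfsg.Agent.Helper80.Degree

/-!
# Central characters and idempotent coefficients versus defects of classes (helper16)

For a block `B` of defect `d` and an element `g` whose centralizer has `p`-part `p^c`:
* if `c < d` then `ω_χ(g)` lies in the local ideal for every `χ ∈ B`;
* if `c > d` then the coefficient `a_B(g)` of the block idempotent lies in the local ideal.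
-/

set_option autoImplicit false
set_option linter.unusedSectionVars false

namespace Cfsg.Agent.Helper16

open Cfsg

variable {G : Type*} [Group G] [Fintype G] {M : Ideal AlgInt} {p : ℕ}

theorem irr_charDegree_ne_zero (χ : IrrCharacter G) : charDegree (χ : G → ℂ) ≠ 0 := by
  have hd : ((charDegree (χ : G → ℂ) : ℕ) : ℂ) = (χ : G → ℂ) 1 :=
    Helper80.IsCharacter.charDegree_cast (Helper79.irr_isCharacter χ)
  intro h0
  apply irr_one_ne_zero χ
  rw [← hd, h0]
  simp

theorem factorization_charDegree_le (p : ℕ) (χ : IrrCharacter G) :
    (charDegree (χ : G → ℂ)).factorization p ≤ (Nat.card G).factorization p := by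
  have hdvd := Helper80.IsIrrCharacter.charDegree_dvd_card χ.2
  exact (Nat.factorization_le_iff_dvd (irr_charDegree_ne_zero χ) Nat.card_pos.ne').2 hdvd p

/-- Every nonempty set of irreducible characters contains a character of height zero. -/
theorem exists_height_zero' (p : ℕ) (B : Set (IrrCharacter G)) (hne : B.Nonempty) :
    ∃ χ ∈ B, blockDefect p B =
      (Nat.card G).factorization p - (charDegree (χ : G → ℂ)).factorization p ∧
      ∀ ψ ∈ B, (charDegree (χ : G → ℂ)).factorization p ≤
        (charDegree (ψ : G → ℂ)).factorization p := by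
  have hS : ((fun χ : IrrCharacter G => (charDegree (χ : G → ℂ)).factorization p) '' B).Nonempty :=
    hne.image _
  obtain ⟨χ, hχ, hχeq⟩ := Nat.sInf_mem hS
  refine ⟨χ, hχ, ?_, ?_⟩
  · unfold blockDefect
    rw [← hχeq]
  · intro ψ hψ
    have : sInf ((fun χ : IrrCharacter G => (charDegree (χ : G → ℂ)).factorization p) '' B) ≤
        (charDegree (ψ : G → ℂ)).factorization p := Nat.sInf_le ⟨ψ, hψ, rfl⟩
    have h2 : (charDegree (χ : G → ℂ)).factorization p =
        sInf ((fun χ : IrrCharacter G => (charDegree (χ : G → ℂ)).factorization p) '' B) := hχeq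
    omega

/-- All degrees in a block of defect `d` are divisible by `p^(a-d)`. -/
theorem pow_dvd_charDegree_of_mem [hp : Fact p.Prime] {B : Set (IrrCharacter G)} {ψ : IrrCharacter G}
    (hψ : ψ ∈ B) :
    p ^ ((Nat.card G).factorization p - blockDefect p B) ∣ charDegree (ψ : G → ℂ) := by
  obtain ⟨χ, hχ, hdef, hmin⟩ := exists_height_zero' p B ⟨ψ, hψ⟩
  have h1 := factorization_charDegree_le p χ
  have h2 := hmin ψ hψ
  rw [hp.out.pow_dvd_iff_le_factorization (irr_charDegree_ne_zero ψ)]
  omega

theorem factorization_card_eq (p : ℕ) (g : G) :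
    (Nat.card G).factorization p =
      (Subgroup.centralizer ({g} : Set G)).index.factorization p +
      (Nat.card (Subgroup.centralizer ({g} : Set G))).factorization p := by
  have hmul : Nat.card G = (Subgroup.centralizer ({g} : Set G)).index *
      Nat.card (Subgroup.centralizer ({g} : Set G)) :=
    (Subgroup.index_mul_card _).symm
  have hidx0 : (Subgroup.centralizer ({g} : Set G)).index ≠ 0 :=
    Subgroup.index_ne_zero_of_finite
  have hc0 : Nat.card (Subgroup.centralizer ({g} : Set G)) ≠ 0 := Nat.card_pos.ne'
  conv_lhs => rw [hmul, Nat.factorization_mul hidx0 hc0]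
  rfl

/-- The central characters of a block of defect `d` vanish modulo the local ideal on classes of
defect less than `d`. -/
theorem centralChar_memLocalIdeal_of_lt [hp : Fact p.Prime] (hM : IsPModular p M)
    {B : Set (IrrCharacter G)} (hB : IsPBlock M B) {χ : IrrCharacter G} (hχ : χ ∈ B) (g : G)
    (hlt : (Nat.card (Subgroup.centralizer ({g} : Set G))).factorization p < blockDefect p B) :
    MemLocalIdeal M (centralChar (χ : G → ℂ) g) := by
  haveI hMp : M.IsPrime := IsPModular.isPrime hM
  obtain ⟨χ₀, hχ₀, hdef, _⟩ := exists_height_zero' p B ⟨χ, hχ⟩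
  have h0 : MemLocalIdeal M (centralChar (χ₀ : G → ℂ) g) := by
    by_contra hunit
    have hdvd := Helper77.pow_dvd_charDegree_of_centralChar_unit hM χ₀ g hunit
    have h1 : (Subgroup.centralizer ({g} : Set G)).index.factorization p ≤
        (charDegree (χ₀ : G → ℂ)).factorization p :=
      (hp.out.pow_dvd_iff_le_factorization (irr_charDegree_ne_zero χ₀)).1 hdvd
    have hfac := factorization_card_eq p g
    omega
  have hsame : SameBlock M (χ : G → ℂ) (χ₀ : G → ℂ) :=
    Helper78.sameBlock_of_mem_of_mem hMp hB hχ hχ₀
  have := memLocalIdeal_add (hsame g) h0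
  rwa [sub_add_cancel] at this

/-- The coefficients of the idempotent of a block of defect `d` vanish modulo the local ideal on
classes of defect greater than `d`. -/
theorem blockCoeff_memLocalIdeal_of_gt [hp : Fact p.Prime] (hM : IsPModular p M)
    {B : Set (IrrCharacter G)} (hB : IsPBlock M B) (g : G)
    (hgt : blockDefect p B < (Nat.card (Subgroup.centralizer ({g} : Set G))).factorization p) :
    MemLocalIdeal M (blockCoeff B g) := by
  haveI hMp : M.IsPrime := IsPModular.isPrime hM
  by_contra hunit
  obtain P : Sylow p (Subgroup.centralizer ({g} : Set G)) := default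
  set D : Subgroup G := (P : Subgroup (Subgroup.centralizer ({g} : Set G))).map
    (Subgroup.centralizer ({g} : Set G)).subtype with hD
  have hDcard : Nat.card D =
      p ^ (Nat.card (Subgroup.centralizer ({g} : Set G))).factorization p := by
    rw [hD, Subgroup.card_map_of_injective (Subgroup.subtype_injective _)]
    exact P.card_eq_multiplicity
  have hDle : D ≤ Subgroup.centralizer ({g} : Set G) := by
    rw [hD]; exact Subgroup.map_subtype_le _
  have hDp : IsPGroup p D := IsPGroup.of_card hDcard
  have hdvd := Helper77.card_mul_pow_dvd_of_blockCoeff_unit hM hB g hunit D hDp hDle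
    ((Nat.card G).factorization p - blockDefect p B) (fun χ hχ => pow_dvd_charDegree_of_mem hχ)
  rw [hDcard, ← pow_add] at hdvd
  have hle := (hp.out.pow_dvd_iff_le_factorization Nat.card_pos.ne').1 hdvd
  have hdle : blockDefect p B ≤ (Nat.card G).factorization p := by
    unfold blockDefect
    exact Nat.sub_le _ _
  omega

end Cfsg.Agent.Helper16
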