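import Cfsg.Agent.Helper16.CycloIneq
import Cfsg.Agent.S4426
import Mathlib.RingTheory.Polynomial.Resultant.Basic
import Mathlib.RingTheory.Polynomial.Cyclotomic.Roots
import Mathlib.FieldTheory.IsAlgClosed.Basic
import Mathlib.Analysis.MeanInequalities

/-!
# The trace of a totally positive cyclotomic integer divisible by `p ^ h`

For integers `A i` and `p ^ n`-th roots of unity `μ i`, put `S γ = ∑ A i (μ i) ^ γ`.  The product of
the `S γ` over the units `γ` modulo `p ^ n` is a rational integer (a resultant).  If all the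
`S γ` (γ a unit) are positive reals and lie in `p ^ h` times the local ring, the sum of the `S γ`
over the units is at least `φ(p ^ n) p ^ h` (arithmetic and geometric means).
-/

set_option autoImplicit false

namespace Cfsg.Agent.Helper16

open Cfsg Polynomial

section Norm

/-- The product of the values of an integer polynomial at the primitive `N`-th roots of unity is a
rational integer. -/
theorem prod_eval_primitive_int {N : ℕ} (hN : 0 < N) {ζ : ℂ} (hζ : IsPrimitiveRoot ζ N)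
    (F : ℤ[X]) :
    ∃ m : ℤ, ∏ γ ∈ (Finset.range N).filter (fun γ => Nat.Coprime N γ),
      (F.map (Int.castRingHom ℂ)).eval (ζ ^ γ) = (m : ℂ) := by
  haveI : NeZero N := ⟨hN.ne'⟩
  haveI : NeZero (N : ℂ) := ⟨by exact_mod_cast hN.ne'⟩
  have h1 : ∏ γ ∈ (Finset.range N).filter (fun γ => Nat.Coprime N γ),
      (F.map (Int.castRingHom ℂ)).eval (ζ ^ γ) =
      ∏ r ∈ primitiveRoots N ℂ, (F.map (Int.castRingHom ℂ)).eval r := by
    refine Finset.prod_bij (fun i _ => ζ ^ i) ?_ ?_ ?_ ?_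
    · intro i hi
      rw [Finset.mem_filter] at hi
      rw [mem_primitiveRoots hN]
      exact hζ.pow_of_coprime i hi.2.symm
    · intro i hi j hj H
      rw [Finset.mem_filter, Finset.mem_range] at hi hj
      exact hζ.pow_inj hi.1 hj.1 H
    · intro ξ hξ
      rw [mem_primitiveRoots hN, hζ.isPrimitiveRoot_iff] at hξ
      obtain ⟨i, hin, hi, H⟩ := hξ
      refine ⟨i, ?_, H⟩
      rw [Finset.mem_filter, Finset.mem_range]
      exact ⟨hin, hi.symm⟩
    · intro i _
      rfl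
  have h2 : ∏ r ∈ primitiveRoots N ℂ, (F.map (Int.castRingHom ℂ)).eval r =
      ((cyclotomic N ℂ).roots.map (F.map (Int.castRingHom ℂ)).eval).prod := by
    rw [cyclotomic.roots_eq_primitiveRoots_val]
    rfl
  have h3 := resultant_eq_prod_eval (cyclotomic N ℂ) (F.map (Int.castRingHom ℂ)) F.natDegree
    natDegree_map_le (IsAlgClosed.splits _)
  rw [(cyclotomic.monic N ℂ).leadingCoeff, one_pow, one_mul] at h3
  refine ⟨resultant (cyclotomic N ℤ) F (cyclotomic N ℤ).natDegree F.natDegree, ?_⟩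
  rw [h1, h2, ← h3, natDegree_cyclotomic, ← natDegree_cyclotomic N ℤ, ← map_cyclotomic_int N ℂ,
    resultant_map_map]
  rfl

end Norm

section Trace

variable {ι : Type*}

open Classical in
/-- **The trace inequality.** -/
theorem sum_ge_totient_mul_pow {p : ℕ} (hp : p.Prime) {M : Ideal AlgInt} (hM : IsPModular p M)
    (n h : ℕ) (I : Finset ι) (A : ι → ℤ) (μ : ι → ℂ) (hμ : ∀ i ∈ I, μ i ^ (p ^ n) = 1)
    (r : ℕ → ℝ)
    (hr : ∀ γ ∈ (Finset.range (p ^ n)).filter (fun γ => Nat.Coprime (p ^ n) γ),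
      ∑ i ∈ I, (A i : ℂ) * μ i ^ γ = (r γ : ℂ))
    (hpos : ∀ γ ∈ (Finset.range (p ^ n)).filter (fun γ => Nat.Coprime (p ^ n) γ), 0 < r γ)
    (hloc : ∀ γ ∈ (Finset.range (p ^ n)).filter (fun γ => Nat.Coprime (p ^ n) γ),
      MemLocalRing M ((∑ i ∈ I, (A i : ℂ) * μ i ^ γ) / ((p ^ h : ℕ) : ℂ))) :
    ((p ^ n).totient : ℝ) * ((p ^ h : ℕ) : ℝ) ≤
      ∑ γ ∈ (Finset.range (p ^ n)).filter (fun γ => Nat.Coprime (p ^ n) γ), r γ := by
  haveI hMp : M.IsPrime := IsPModular.isPrime hM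
  set N := p ^ n with hNdef
  have hN : 0 < N := pow_pos hp.pos n
  set Γ := (Finset.range N).filter (fun γ => Nat.Coprime N γ) with hΓ
  have hΓcard : Γ.card = N.totient := (Nat.totient_eq_card_coprime N).symm
  have hφpos : 0 < N.totient := Nat.totient_pos.mpr hN
  have hζ : IsPrimitiveRoot (Complex.exp (2 * Real.pi * Complex.I / N)) N :=
    Complex.isPrimitiveRoot_exp N hN.ne'
  set ζ := Complex.exp (2 * Real.pi * Complex.I / N) with hζdef
  haveI : NeZero N := ⟨hN.ne'⟩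
  have hk : ∀ i : ι, ∃ k : ℕ, i ∈ I → ζ ^ k = μ i := by
    intro i
    by_cases hi : i ∈ I
    · obtain ⟨k, -, hk⟩ := hζ.eq_pow_of_pow_eq_one (hμ i hi)
      exact ⟨k, fun _ => hk⟩
    · exact ⟨0, fun h => absurd h hi⟩
  choose k hk using hk
  set F : ℤ[X] := ∑ i ∈ I, C (A i) * X ^ (k i) with hF
  have heval : ∀ γ : ℕ, (F.map (Int.castRingHom ℂ)).eval (ζ ^ γ) =
      ∑ i ∈ I, (A i : ℂ) * μ i ^ γ := by
    intro γ
    rw [hF, Polynomial.map_sum, eval_finset_sum]
    refine Finset.sum_congr rfl (fun i hi => ?_)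
    rw [Polynomial.map_mul, Polynomial.map_pow, map_C, map_X, eval_mul, eval_pow, eval_C, eval_X,
      ← pow_mul, mul_comm γ, pow_mul, hk i hi]
    rfl
  obtain ⟨m, hm⟩ := prod_eval_primitive_int hN hζ F
  rw [Finset.prod_congr rfl (fun γ _ => heval γ)] at hm
  have hmr : ((∏ γ ∈ Γ, r γ : ℝ) : ℂ) = (m : ℂ) := by
    rw [← hm, Complex.ofReal_prod]
    exact Finset.prod_congr rfl (fun γ hγ => (hr γ hγ).symm)
  have hmr' : (∏ γ ∈ Γ, r γ : ℝ) = (m : ℝ) := by
    apply Complex.ofReal_injective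
    rw [hmr]
    simp
  have hprodpos : 0 < ∏ γ ∈ Γ, r γ := Finset.prod_pos hpos
  have hmpos : 0 < m := by
    have : (0 : ℝ) < (m : ℝ) := by rw [← hmr']; exact hprodpos
    exact_mod_cast this
  -- divisibility
  have hpd0 : (p ^ (h * N.totient) : ℕ) ≠ 0 := (pow_pos hp.pos _).ne'
  have hlocm : MemLocalRing M ((m : ℂ) / ((p ^ (h * N.totient) : ℕ) : ℂ)) := by
    have h1 : (m : ℂ) / ((p ^ (h * N.totient) : ℕ) : ℂ) =
        ∏ γ ∈ Γ, (∑ i ∈ I, (A i : ℂ) * μ i ^ γ) / ((p ^ h : ℕ) : ℂ) := by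
      rw [Finset.prod_div_distrib, hm, Finset.prod_const, hΓcard]
      push_cast
      rw [pow_mul]
    rw [h1]
    exact memLocalRing_prod _ _ hloc
  have hdvd := Cfsg.Agent.S4426.pow_dvd_int_of_memLocalRing_div hM hpd0 hlocm
  rw [hp.factorization_pow, Finsupp.single_eq_same] at hdvd
  have hmge : ((p ^ (h * N.totient) : ℕ) : ℤ) ≤ m := by
    have := Int.le_of_dvd hmpos hdvd
    exact_mod_cast this
  have hprodge : (((p ^ h : ℕ) : ℝ)) ^ N.totient ≤ ∏ γ ∈ Γ, r γ := by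
    rw [hmr']
    have : (((p ^ (h * N.totient) : ℕ) : ℤ) : ℝ) ≤ (m : ℝ) := by exact_mod_cast hmge
    refine le_trans (le_of_eq ?_) this
    push_cast
    rw [pow_mul]
  -- AM-GM
  have hamgm := Real.geom_mean_le_arith_mean Γ (fun _ => (1 : ℝ)) r (fun _ _ => zero_le_one)
    (by
      rw [Finset.sum_const, hΓcard, nsmul_eq_mul, mul_one]
      exact_mod_cast hφpos)
    (fun γ hγ => (hpos γ hγ).le)
  simp only [Real.rpow_one, one_mul, Finset.sum_const, hΓcard, nsmul_eq_mul, mul_one] at hamgm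
  have hφR : (0 : ℝ) < (N.totient : ℝ) := by exact_mod_cast hφpos
  have hc0 : (0 : ℝ) ≤ ((p ^ h : ℕ) : ℝ) := by positivity
  have hge : ((p ^ h : ℕ) : ℝ) ≤ (∏ γ ∈ Γ, r γ) ^ ((N.totient : ℝ))⁻¹ := by
    have h1 : ((p ^ h : ℕ) : ℝ) = ((((p ^ h : ℕ) : ℝ)) ^ N.totient) ^ ((N.totient : ℝ))⁻¹ :=
      (Real.pow_rpow_inv_natCast hc0 hφpos.ne').symm
    rw [h1]
    exact Real.rpow_le_rpow (by positivity) hprodge (by positivity)
  have hfin := le_trans hge hamgm
  rw [le_div_iff₀ hφR] at hfin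
  rw [mul_comm]
  exact hfin

end Trace

end Cfsg.Agent.Helper16
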