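import Cfsg.Agent.Helper16.ContribCC
import Cfsg.Agent.Helper16.CycloNorm

/-!
# Major subsections: the lower bound for the diagonal contributions

For a subsection `(y, b)` of the block `B` with `b` of the same defect `d` as `B`, and a character
`χ` of `B` of height `h`, the numbers `p ^ d m_{χχ}^{(y^γ, b)}` (γ prime to `p`) are positive,
lie in `p ^ h` times the local ring, and their sum over the units `γ` modulo `p ^ n` is at least
`φ(p ^ n) p ^ h`.
-/

set_option autoImplicit false
set_option linter.unusedSectionVars false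
set_option linter.unusedVariables false

namespace Cfsg.Agent.Helper16

open Cfsg
open scoped ComplexConjugate
open Cfsg.Agent.S4426 (cut)

section Major

variable {G : Type*} [Group G] [Fintype G] {M : Ideal AlgInt} {p : ℕ}

/-- **(V1)** `p ^ d m_{χχ}` lies in `p ^ h` times the local ring. -/
theorem memLocalRing_contribE_div_height [Fact p.Prime] (hM : IsPModular p M) (x : G)
    (hx : ∃ k : ℕ, orderOf x = p ^ k) (H : Subgroup G) [Fintype H]
    (hH : H = Subgroup.centralizer ({x} : Set G))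
    {b : Set (IrrCharacter H)} (hb : IsPBlock M b) {B : Set (IrrCharacter G)}
    (χ : IrrCharacter G) (hχ : χ ∈ B) :
    MemLocalRing M (((p ^ blockDefect p B : ℕ) : ℂ) *
      contribE p H x b (χ : G → ℂ) (χ : G → ℂ) /
        ((p ^ blockHeight p B (χ : G → ℂ) : ℕ) : ℂ)) := by
  haveI hMp : M.IsPrime := IsPModular.isPrime hM
  have hpr : p.Prime := Fact.out
  have hX := memLocalRing_card_div_mul_contribE hM x hx H hH hb χ χ
  set a := (Nat.card G).factorization p with ha
  set e := (charDegree (χ : G → ℂ)).factorization p with he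
  have h1 : minExp p B ≤ e := minExp_le_of_mem p hχ
  have h2 : e ≤ a := factorization_charDegree_le p χ
  have hd : blockDefect p B = (a - e) + blockHeight p B (χ : G → ℂ) := by
    rw [blockDefect_eq, blockHeight_eq]; omega
  have hG0 : Nat.card G ≠ 0 := Nat.card_pos.ne'
  have hn0 : charDegree (χ : G → ℂ) * p ^ (a - e) ≠ 0 :=
    Nat.mul_ne_zero (charDegree_ne_zero' χ) (pow_pos hpr.pos _).ne'
  have hfac : (Nat.card G).factorization p ≤
      (charDegree (χ : G → ℂ) * p ^ (a - e)).factorization p := by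
    rw [Nat.factorization_mul (charDegree_ne_zero' χ) (pow_pos hpr.pos _).ne',
      hpr.factorization_pow]
    simp only [Finsupp.coe_add, Pi.add_apply, Finsupp.single_eq_same]
    omega
  have hratio := Helper78.memLocalRing_natCast_div hM hG0 hn0 hfac
  have hprod := memLocalRing_mul hratio hX
  convert hprod using 1
  have hχ1 : (χ : G → ℂ) 1 ≠ 0 := irr_one_ne_zero χ
  have hGC : (Nat.card G : ℂ) ≠ 0 := by exact_mod_cast hG0
  have hph : ((p ^ blockHeight p B (χ : G → ℂ) : ℕ) : ℂ) ≠ 0 := by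
    exact_mod_cast (pow_pos hpr.pos _).ne'
  rw [hd, pow_add]
  rw [irr_one_eq_natCast χ] at hχ1 ⊢
  push_cast at hph ⊢
  field_simp

/-- a power-form sum congruent to a unit is a unit -/
theorem pow_form_not_memLocalIdeal (hM : IsPModular p M) {ι : Type*} [Fintype ι] (A : ι → ℤ)
    (μ : ι → ℂ) {n : ℕ} (hμ : ∀ i, μ i ^ (p ^ n) = 1)
    (h0 : ¬ MemLocalIdeal M (∑ i, (A i : ℂ) * μ i ^ 0)) (γ : ℕ) :
    ¬ MemLocalIdeal M (∑ i, (A i : ℂ) * μ i ^ γ) := by
  haveI hMp : M.IsPrime := IsPModular.isPrime hM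
  intro hz
  apply h0
  have hdiff : MemLocalIdeal M (∑ i, (A i : ℂ) * μ i ^ γ - ∑ i, (A i : ℂ) * μ i ^ 0) := by
    rw [← Finset.sum_sub_distrib]
    refine memLocalIdeal_sum _ _ (fun i _ => ?_)
    rw [pow_zero, ← mul_sub]
    refine memLocalIdeal_mul_left (memLocalRing_intCast _)
      (Helper77.memLocalIdeal_sub_one_of_pow_eq_one hM (k := n) ?_)
    rw [← pow_mul, mul_comm, pow_mul, hμ i, one_pow]
  have := memLocalIdeal_sub hz hdiff
  rwa [sub_sub_cancel] at this

/-- **(V2)** a character of the block has a non-zero contribution with every character of height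
zero whose diagonal contribution is a unit. -/
theorem contribE_ne_zero_of_unit [Fact p.Prime] (hM : IsPModular p M) (x : G)
    (hx : ∃ k : ℕ, orderOf x = p ^ k) (H : Subgroup G) [Fintype H]
    (hH : H = Subgroup.centralizer ({x} : Set G))
    {b : Set (IrrCharacter H)} (hb : IsPBlock M b) {B : Set (IrrCharacter G)}
    (hB : IsPBlock M B) (χ ψ : IrrCharacter G) (hχ : χ ∈ B) (hψ : ψ ∈ B)
    (hψ0 : blockHeight p B (ψ : G → ℂ) = 0)
    (hunit : ¬ MemLocalIdeal M (((p ^ blockDefect p B : ℕ) : ℂ) *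
      contribE p H x b (ψ : G → ℂ) (ψ : G → ℂ))) :
    contribE p H x b (χ : G → ℂ) (ψ : G → ℂ) ≠ 0 := by
  haveI hMp : M.IsPrime := IsPModular.isPrime hM
  have hpr : p.Prime := Fact.out
  set a := (Nat.card G).factorization p with ha
  set e := (charDegree (ψ : G → ℂ)).factorization p with he
  have he0 : e = minExp p B := (blockHeight_eq_zero_iff p hψ).mp hψ0
  have h2 : e ≤ a := factorization_charDegree_le p ψ
  have hd : blockDefect p B = a - e := by rw [blockDefect_eq, he0]
  have hG0 : Nat.card G ≠ 0 := Nat.card_pos.ne'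
  have hn0 : charDegree (ψ : G → ℂ) * p ^ blockDefect p B ≠ 0 :=
    Nat.mul_ne_zero (charDegree_ne_zero' ψ) (pow_pos hpr.pos _).ne'
  have hfac : (charDegree (ψ : G → ℂ) * p ^ blockDefect p B).factorization p =
      (Nat.card G).factorization p := by
    rw [Nat.factorization_mul (charDegree_ne_zero' ψ) (pow_pos hpr.pos _).ne',
      hpr.factorization_pow]
    simp only [Finsupp.coe_add, Pi.add_apply, Finsupp.single_eq_same]
    omega
  -- the inverse ratio is a local integer
  have hratio := Helper78.memLocalRing_natCast_div hM hG0 hn0 hfac.ge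
  -- X_ψ is not in the ideal
  have hXψ : ¬ MemLocalIdeal M ((Nat.card G : ℂ) / (ψ : G → ℂ) 1 *
      contribE p H x b (ψ : G → ℂ) (ψ : G → ℂ)) := by
    intro hmem
    apply hunit
    have := memLocalIdeal_mul_left hratio hmem
    convert this using 1
    have hψ1 : (ψ : G → ℂ) 1 ≠ 0 := irr_one_ne_zero ψ
    have hGC : (Nat.card G : ℂ) ≠ 0 := by exact_mod_cast hG0
    rw [irr_one_eq_natCast ψ] at hψ1 ⊢
    push_cast
    field_simp
  have hsame : SameBlock M (ψ : G → ℂ) (χ : G → ℂ) :=
    Helper78.sameBlock_of_mem_of_mem hMp hB hψ hχ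
  have hsub := memLocalIdeal_card_div_mul_contribE_sub hM x hx H hH hb ψ ψ χ hsame
  have hne : contribE p H x b (ψ : G → ℂ) (χ : G → ℂ) ≠ 0 := by
    intro hz
    apply hXψ
    rw [hz, mul_zero, sub_zero] at hsub
    exact hsub
  rw [← contribE_conj_symm hM H x hb (ψ : G → ℂ) (χ : G → ℂ)]
  exact (map_ne_zero _).mpr hne

open Classical in
/-- **The lower bound for the diagonal contributions of a major subsection.** -/
theorem sum_contribE_major_ge [Fact p.Prime] (hM : IsPModular p M) {B : Set (IrrCharacter G)}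
    (hB : IsPBlock M B) (H : Subgroup G) [Fintype H] (yH : H)
    (hyc : yH ∈ Subgroup.center H) (hHy : H = Subgroup.centralizer ({(yH : G)} : Set G))
    (n : ℕ) (hy : orderOf (yH : G) ∣ p ^ n) {b : Set (IrrCharacter H)}
    (hind : IsInducedBlock M H b B) (hdef : blockDefect p b = blockDefect p B)
    (χ : IrrCharacter G) (hχ : χ ∈ B) :
    ((p ^ n).totient : ℝ) * ((p ^ blockHeight p B (χ : G → ℂ) : ℕ) : ℝ) ≤
      ∑ γ ∈ (Finset.range (p ^ n)).filter (fun γ => Nat.Coprime (p ^ n) γ),
        (((p ^ blockDefect p B : ℕ) : ℂ) *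
          contribE p H ((yH : G) ^ γ) b (χ : G → ℂ) (χ : G → ℂ)).re := by
  haveI hMp : M.IsPrime := IsPModular.isPrime hM
  have hpr : p.Prime := Fact.out
  have hb : IsPBlock M b := hind.1
  have hyHpow : yH ^ (p ^ n) = 1 := by
    apply Subtype.ext
    rw [SubmonoidClass.coe_pow]
    exact orderOf_dvd_iff_pow_eq_one.mp hy
  obtain ⟨k₀, hk₀⟩ : ∃ k : ℕ, orderOf (yH : G) = p ^ k := by
    obtain ⟨k, -, hk⟩ := (Nat.dvd_prime_pow hpr).1 hy
    exact ⟨k, hk⟩
  obtain ⟨A, μ, hμ, hform⟩ := exists_pow_form hM H yH hyc n hyHpow hb χ χ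
  rw [hdef] at hform
  obtain ⟨ψ, hψ, hψ0⟩ := Helper78.exists_height_zero (p := p) hMp hB
  obtain ⟨A', μ', hμ', hform'⟩ := exists_pow_form hM H yH hyc n hyHpow hb ψ ψ
  rw [hdef] at hform'
  have hnv := contribE_one_not_memLocalIdeal hM H hind ψ ψ hψ hψ hψ0 hψ0
  rw [hdef] at hnv
  have h0 := hform' 0
  rw [pow_zero] at h0
  rw [h0] at hnv
  -- facts for the units
  have hfacts : ∀ γ ∈ (Finset.range (p ^ n)).filter (fun γ => Nat.Coprime (p ^ n) γ),
      H = Subgroup.centralizer ({(yH : G) ^ γ} : Set G) ∧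
        ∃ k : ℕ, orderOf ((yH : G) ^ γ) = p ^ k := by
    intro γ hγ
    rw [Finset.mem_filter] at hγ
    have hcop : Nat.Coprime γ (orderOf (yH : G)) :=
      Nat.Coprime.coprime_dvd_right hy hγ.2.symm
    exact ⟨hHy.trans (centralizer_pow_eq_of_coprime (yH : G) hcop),
      exists_orderOf_pow_eq_prime_pow hpr (yH : G) hk₀ γ⟩
  have hreal : ∀ γ : ℕ, ((((p ^ blockDefect p B : ℕ) : ℂ) *
      contribE p H ((yH : G) ^ γ) b (χ : G → ℂ) (χ : G → ℂ)).re : ℂ) =
      ((p ^ blockDefect p B : ℕ) : ℂ) *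
        contribE p H ((yH : G) ^ γ) b (χ : G → ℂ) (χ : G → ℂ) := by
    intro γ
    apply Complex.conj_eq_iff_re.mp
    rw [map_mul, Complex.conj_natCast, contribE_self_conj hM H _ hb]
  refine sum_ge_totient_mul_pow hpr hM n (blockHeight p B (χ : G → ℂ)) Finset.univ A μ
    (fun i _ => hμ i) _ ?_ ?_ ?_
  · intro γ hγ
    rw [hreal γ, hform γ]
  · intro γ hγ
    obtain ⟨hH', hxγ⟩ := hfacts γ hγ
    -- the unit
    have hunit : ¬ MemLocalIdeal M (((p ^ blockDefect p B : ℕ) : ℂ) *
        contribE p H ((yH : G) ^ γ) b (ψ : G → ℂ) (ψ : G → ℂ)) := by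
      rw [hform' γ]
      exact pow_form_not_memLocalIdeal hM A' μ' hμ' hnv γ
    have hne := contribE_ne_zero_of_unit hM ((yH : G) ^ γ) hxγ H hH' hb hB χ ψ hχ hψ hψ0 hunit
    have hrow := sum_contribE_row' hM ((yH : G) ^ γ) hxγ H hH' hb χ
    have hpos : 0 < (contribE p H ((yH : G) ^ γ) b (χ : G → ℂ) (χ : G → ℂ)).re := by
      rw [← hrow, Complex.re_sum]
      have hnn : ∀ ζ : IrrCharacter G, 0 ≤
          (contribE p H ((yH : G) ^ γ) b (χ : G → ℂ) (ζ : G → ℂ) *
            conj (contribE p H ((yH : G) ^ γ) b (χ : G → ℂ) (ζ : G → ℂ))).re := by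
        intro ζ
        rw [Complex.mul_conj, Complex.ofReal_re]
        exact Complex.normSq_nonneg _
      refine lt_of_lt_of_le ?_ (Finset.single_le_sum (fun ζ _ => hnn ζ) (Finset.mem_univ ψ))
      rw [Complex.mul_conj, Complex.ofReal_re]
      exact Complex.normSq_pos.mpr hne
    have hre : (((p ^ blockDefect p B : ℕ) : ℂ) *
        contribE p H ((yH : G) ^ γ) b (χ : G → ℂ) (χ : G → ℂ)).re =
        ((p ^ blockDefect p B : ℕ) : ℝ) *
          (contribE p H ((yH : G) ^ γ) b (χ : G → ℂ) (χ : G → ℂ)).re := by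
      rw [← Complex.ofReal_natCast, Complex.re_ofReal_mul]
    rw [hre]
    exact mul_pos (by exact_mod_cast pow_pos hpr.pos _) hpos
  · intro γ hγ
    obtain ⟨hH', hxγ⟩ := hfacts γ hγ
    rw [← hform γ]
    exact memLocalRing_contribE_div_height hM ((yH : G) ^ γ) hxγ H hH' hb χ hχ

end Major

end Cfsg.Agent.Helper16
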