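import Cfsg.Agent.Helper16.SecondMainChar
import Cfsg.Agent.Helper16.Defect
import Cfsg.Agent.Helper77.BlockPartition
import Cfsg.Agent.Helper78.InducedDefect
import Cfsg.Agent.Helper78.FirstMain
import Cfsg.Agent.S0912

/-!
# Consequences of the second main theorem: vanishing off defect group sections
-/

set_option autoImplicit false
set_option linter.unusedSectionVars false
set_option linter.unusedVariables false

namespace Cfsg.Agent.Helper16

open Cfsg
open scoped ComplexConjugate

section SV

variable {G : Type*} [Group G] [Fintype G] {M : Ideal AlgInt} {p : ℕ}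

theorem mem_centralizer_singleton_self (x : G) : x ∈ Subgroup.centralizer ({x} : Set G) := by
  rw [Subgroup.mem_centralizer_iff]
  intro t ht
  rw [Set.mem_singleton_iff] at ht
  rw [ht]

/-- `c ↦ χ (x c)` is a class function on `C_G(x)`. -/
theorem isClassFunction_shift (χ : IrrCharacter G) (x : G) :
    IsClassFunction (Subgroup.centralizer ({x} : Set G))
      (fun c : Subgroup.centralizer ({x} : Set G) => (χ : G → ℂ) (x * (c : G))) := by
  have hcomm : ∀ c : Subgroup.centralizer ({x} : Set G), x * (c : G) = (c : G) * x := by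
    intro c
    have := c.2
    rw [Subgroup.mem_centralizer_iff] at this
    exact this x (Set.mem_singleton x)
  intro c t
  show (χ : G → ℂ) (x * ((t * c * t⁻¹ : Subgroup.centralizer ({x} : Set G)) : G)) =
    (χ : G → ℂ) (x * (c : G))
  rw [Subgroup.coe_mul, Subgroup.coe_mul, Subgroup.coe_inv]
  have e1 : x * ((t : G) * (c : G) * (t : G)⁻¹) = (t : G) * (x * (c : G)) * (t : G)⁻¹ := by
    rw [← mul_assoc, ← mul_assoc, hcomm t]
    simp only [mul_assoc]
  rw [e1]
  exact irr_isClassFunction χ _ _

/-- A class function is the sum of its block parts. -/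
theorem sum_blockPart_eq [hMp : M.IsPrime] {ϑ : G → ℂ} (hϑ : IsClassFunction G ϑ) (g : G) :
    ∑ B ∈ Helper77.blocksFinset M G, blockPart B ϑ g = ϑ g := by
  classical
  have h1 : ∀ B ∈ Helper77.blocksFinset M G,
      blockPart B ϑ g = ∑ k : G, blockCoeff B k * ϑ (k * g) :=
    fun B _ => blockPart_eq_sum_blockCoeff_mul B hϑ g
  rw [Finset.sum_congr rfl h1, Finset.sum_comm]
  have h2 : ∀ k : G, ∑ B ∈ Helper77.blocksFinset M G, blockCoeff B k * ϑ (k * g) =
      (deltaOne : G → ℂ) k * ϑ (k * g) := by
    intro k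
    rw [← Finset.sum_mul]
    congr 1
    have := congrFun (Helper77.sum_blockCoeff_blocks (M := M) (G := G)) k
    rw [Finset.sum_apply] at this
    exact this
  rw [Finset.sum_congr rfl (fun k _ => h2 k), Finset.sum_eq_single (1 : G)]
  · unfold deltaOne
    rw [if_pos rfl, one_mul, one_mul]
  · intro k _ hk
    unfold deltaOne
    rw [if_neg hk, zero_mul]
  · intro h; exact absurd (Finset.mem_univ _) h

/-- If a block `b` of `C_G(x)` (`x` a `p`-element) induces `B`, then `x` lies in a defect group
of `B`. -/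
theorem exists_defectGroup_mem_of_induced [Fact p.Prime] (hM : IsPModular p M) (x : G)
    (hx : ∃ k : ℕ, orderOf x = p ^ k) (χ : IrrCharacter G)
    (b : Set (IrrCharacter (Subgroup.centralizer ({x} : Set G))))
    (hind : IsInducedBlock M (Subgroup.centralizer ({x} : Set G)) b (blockOf M (χ : G → ℂ))) :
    ∃ D : Subgroup G, IsDefectGroup p M (blockOf M (χ : G → ℂ)) D ∧ x ∈ D := by
  classical
  haveI hMp : M.IsPrime := IsPModular.isPrime hM
  haveI : Fintype (Subgroup.centralizer ({x} : Set G)) := Fintype.ofFinite _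
  obtain ⟨ψ₀, hbψ₀⟩ := hind.1
  obtain ⟨Db, hDb⟩ := exists_defectGroup (M := M) p ψ₀
  rw [← hbψ₀] at hDb
  obtain ⟨D, hD⟩ := exists_defectGroup (M := M) p χ
  obtain ⟨t, ht⟩ := Helper78.defectGroup_le_of_induced hM _ b _ hind Db hDb D hD
  have hxC := mem_centralizer_singleton_self x
  set xC : Subgroup.centralizer ({x} : Set G) := ⟨x, hxC⟩ with hxCdef
  have hcomm : ∀ c : Subgroup.centralizer ({x} : Set G), xC * c = c * xC := by
    intro c
    apply Subtype.ext
    rw [Subgroup.coe_mul, Subgroup.coe_mul]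
    have := c.2
    rw [Subgroup.mem_centralizer_iff] at this
    exact this x (Set.mem_singleton x)
  have hnormal : (Subgroup.zpowers xC).Normal := by
    constructor
    intro n hn c
    obtain ⟨k, rfl⟩ := Subgroup.mem_zpowers_iff.mp hn
    have : Commute c (xC ^ k) := Commute.zpow_right (hcomm c).symm k
    rw [this.eq, mul_inv_cancel_right]
    exact Subgroup.zpow_mem_zpowers xC k
  have hpg : IsPGroup p (Subgroup.zpowers xC) := by
    obtain ⟨k, hk⟩ := hx
    apply IsPGroup.of_card (n := k)
    rw [Nat.card_zpowers, ← hk]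
    exact (Subgroup.orderOf_coe xC).symm
  have hcore : Subgroup.zpowers xC ≤ Cfsg.pCore p (Subgroup.centralizer ({x} : Set G)) :=
    Cfsg.Agent.Lib.le_pCore hnormal hpg
  have hDbcore := Cfsg.Agent.S0912.result p M hM b hind.1 Db hDb
  have hxDb : xC ∈ Db := hDbcore (hcore (Subgroup.mem_zpowers xC))
  have hxD : t * x * t⁻¹ ∈ D := by
    apply ht
    refine ⟨x, ⟨xC, hxDb, rfl⟩, ?_⟩
    simp
  refine ⟨D.map (MulAut.conj t⁻¹).toMonoidHom, Helper78.isDefectGroup_map_conj χ hD t⁻¹, ?_⟩
  refine ⟨t * x * t⁻¹, hxD, ?_⟩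
  simp [mul_assoc]

/-- **Characters vanish off the sections of the defect groups.** -/
theorem irr_eq_zero_of_pPart_not_mem_defectGroup [Fact p.Prime] (hM : IsPModular p M)
    (χ : IrrCharacter G) (g x : G) (hx : IsPPart p g x)
    (hD : ∀ D : Subgroup G, IsDefectGroup p M (blockOf M (χ : G → ℂ)) D → x ∉ D) :
    (χ : G → ℂ) g = 0 := by
  classical
  haveI hMp : M.IsPrime := IsPModular.isPrime hM
  haveI : Fintype (Subgroup.centralizer ({x} : Set G)) := Fintype.ofFinite _
  obtain ⟨y, hxy, hcomm, hxo, hyo⟩ := hx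
  have hyC : y ∈ Subgroup.centralizer ({x} : Set G) := by
    rw [Subgroup.mem_centralizer_iff]
    intro t ht
    rw [Set.mem_singleton_iff] at ht
    rw [ht]
    exact hcomm.eq
  set yC : Subgroup.centralizer ({x} : Set G) := ⟨y, hyC⟩ with hyCdef
  have hyo' : ¬ p ∣ orderOf yC := by
    rw [← Subgroup.orderOf_coe]; exact hyo
  have hsum := sum_blockPart_eq (M := M) (isClassFunction_shift χ x) yC
  have h0 : ∀ b ∈ Helper77.blocksFinset M (Subgroup.centralizer ({x} : Set G)),
      blockPart b (fun c : Subgroup.centralizer ({x} : Set G) => (χ : G → ℂ) (x * (c : G))) yC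
        = 0 := by
    intro b hb
    rw [Helper77.mem_blocksFinset] at hb
    refine second_main_character hM x hxo ⟨χ, rfl⟩ χ (sameBlock_refl _) b hb ?_ yC hyo'
    intro hind
    obtain ⟨D, hD1, hD2⟩ := exists_defectGroup_mem_of_induced hM x hxo χ b hind
    exact hD D hD1 hD2
  rw [Finset.sum_eq_zero h0] at hsum
  rw [← hxy]
  exact hsum.symm

end SV

end Cfsg.Agent.Helper16
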