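import Cfsg.Agent.Helper16.SecondMainMat
import Cfsg.Agent.Helper16.SecondMainKappa
import Cfsg.Agent.Helper16.ThirdMain
import Cfsg.Agent.Helper16.MinMax
import Cfsg.Agent.Helper77.ExtFun
import Cfsg.Agent.Helper77.BlockOrth
import Cfsg.Agent.Helper77.RootsUnity
import Cfsg.Agent.Helper78.BlockBasic

/-!
# Brauer's second main theorem, idempotent form
-/

set_option autoImplicit false
set_option linter.unusedSectionVars false
set_option linter.unusedVariables false

namespace Cfsg.Agent.Helper16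

open Cfsg Matrix
open Cfsg.Agent.Helper77 (extFun resFun InvUnder)

section Aux

variable {G : Type*} [Group G] [Fintype G]

theorem conv_comm_of_isClassFunction {a : G → ℂ} (ha : IsClassFunction G a) (b : G → ℂ) :
    conv a b = conv b a := by
  classical
  apply cmat_injective
  rw [cmat_conv, cmat_conv]
  exact cmat_comm_of_isClassFunction ha b

theorem extFun_sub' (H : Subgroup G) (s t : H → ℂ) :
    extFun H (s - t) = extFun H s - extFun H t := by
  funext g
  by_cases hg : g ∈ H
  · rw [Pi.sub_apply, Helper77.extFun_of_mem H _ hg, Helper77.extFun_of_mem H _ hg,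
      Helper77.extFun_of_mem H _ hg, Pi.sub_apply]
  · rw [Pi.sub_apply, Helper77.extFun_of_not_mem H _ hg, Helper77.extFun_of_not_mem H _ hg,
      Helper77.extFun_of_not_mem H _ hg, sub_zero]

theorem sum_extFun (H : Subgroup G) [Fintype H] (s : H → ℂ) (f : G → ℂ) :
    ∑ g : G, extFun H s g * f g = ∑ k : H, s k * f (k : G) := by
  classical
  have h0 : ∑ k : H, s k * f (k : G) = ∑ k : H, extFun H s (k : G) * f (k : G) := by
    refine Finset.sum_congr rfl (fun k _ => ?_)
    rw [Helper77.extFun_coe]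
  rw [h0, ← Finset.sum_subtype (Finset.univ.filter (fun x => x ∈ H)) (p := fun x => x ∈ H)
    (by intro x; simp) (fun x => extFun H s x * f x), Finset.sum_filter]
  refine Finset.sum_congr rfl (fun x _ => ?_)
  by_cases hx : x ∈ H
  · rw [if_pos hx]
  · rw [if_neg hx, Helper77.extFun_of_not_mem H s hx, zero_mul]

/-- A matrix `pmat g` commutes with `cmat a` if `a` is invariant under conjugation by `g`. -/
theorem pmat_comm_of_inv [DecidableEq G] (g : G) {a : G → ℂ} (ha : ∀ x, a (g * x * g⁻¹) = a x) :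
    Commute (pmat g) (cmat a) := by
  show pmat g * cmat a = cmat a * pmat g
  rw [pmat_mul_cmat, cmat_mul_pmat]
  congr 1
  funext x
  rw [← ha (g⁻¹ * x)]
  congr 1
  group

/-- For a class function `e` and an irreducible character `χ`: `∑ x, e x χ (x g) = ω_χ(e) χ g`. -/
theorem irr_sum_mul_eq_omega (χ : IrrCharacter G) {e : G → ℂ} (he : IsClassFunction G e) (g : G) :
    ∑ x : G, e x * (χ : G → ℂ) (x * g) = omega (χ : G → ℂ) e * (χ : G → ℂ) g := by
  obtain ⟨χ, n, ρ, hirr, rfl⟩ := χ
  have hirr' : ρ.IsIrreducible := hirr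
  show ∑ x : G, e x * ρ.character (x * g) = omega ρ.character e * ρ.character g
  have h1 : ∑ x : G, e x * ρ.character (x * g) =
      LinearMap.trace ℂ _ (repSum ρ e * ρ g) := by
    unfold repSum
    rw [Finset.sum_mul, map_sum]
    refine Finset.sum_congr rfl (fun x _ => ?_)
    rw [smul_mul_assoc, map_smul, smul_eq_mul, ← map_mul]
    rfl
  rw [h1, repSum_eq_omega ρ he, smul_mul_assoc, one_mul, map_smul, smul_eq_mul]
  rfl

end Aux

section Main

variable {G : Type*} [Group G] [Fintype G] {M : Ideal AlgInt} {p : ℕ}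

/-- **Brauer's second main theorem**, idempotent form. -/
theorem second_main_idempotent [Fact p.Prime] (hM : IsPModular p M) (H : Subgroup G) [Fintype H]
    {b : Set (IrrCharacter H)} {B : Set (IrrCharacter G)} (hind : IsInducedBlock M H b B)
    (h : H) {π : G} (hπ : IsPPart p (h : G) π)
    (hC : Subgroup.centralizer ({π} : Set G) ≤ H)
    (χ : IrrCharacter G) (hχ : χ ∉ B) :
    ∑ k : H, blockCoeff b k * (χ : G → ℂ) ((k : G) * (h : G)) = 0 := by
  classical
  haveI hMp : M.IsPrime := IsPModular.isPrime hM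
  have hp : p.Prime := Fact.out
  -- the block idempotent of the block of χ
  obtain ⟨he_cl, he_R, he_ω⟩ := osima_strong (M := M) χ
  set e : G → ℂ := blockCoeff (blockOf M (χ : G → ℂ)) with he
  have he_idem : conv e e = e := Helper77.blockCoeff_conv_self ⟨χ, rfl⟩
  have he_χ : omega (χ : G → ℂ) e = 1 := by
    rw [he_ω χ, if_pos (sameBlock_refl _)]
  -- a character of B
  obtain ⟨χ₁, hχ₁⟩ := Helper78.isPBlock_nonempty hMp hind.2.1
  have he_χ₁ : omega (χ₁ : G → ℂ) e = 0 := by
    rw [he_ω χ₁, if_neg]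
    intro hs
    apply hχ
    rw [Helper78.isPBlock_eq_blockOf_of_mem hMp hind.2.1 hχ₁]
    exact sameBlock_symm hs
  -- the block idempotent of b
  obtain ⟨ψ₀, hbψ₀⟩ := hind.1
  obtain ⟨hf_cl, hf_R, hf_ω⟩ := osima_strong (M := M) ψ₀
  rw [← hbψ₀] at hf_cl hf_R hf_ω
  set fb : H → ℂ := blockCoeff b with hfb
  have hf_idem : conv fb fb = fb := Helper77.blockCoeff_conv_self hind.1
  have hf_ω' : ∀ ψ : IrrCharacter H, omega (ψ : H → ℂ) fb = if ψ ∈ b then 1 else 0 := by
    intro ψ
    rw [hf_ω ψ]
    have : ψ ∈ b ↔ SameBlock M (ψ₀ : H → ℂ) (ψ : H → ℂ) := by rw [hbψ₀]; rfl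
    simp only [this]
  -- restriction of e to H
  set z : H → ℂ := resFun H e with hz
  have hz_cl : IsClassFunction H z :=
    Helper77.isClassFunction_resFun (Helper77.invUnder_of_isClassFunction he_cl _)
  have hz_R : ∀ k, MemLocalRing M (z k) := fun k => he_R _
  have hz_J : ∀ ψ ∈ b, MemLocalIdeal M (omega (ψ : H → ℂ) z) := by
    intro ψ hψ
    have := omega_restrict_sub_memLocalIdeal (M := M) H hind hψ hχ₁ he_cl he_R
    rw [he_χ₁, sub_zero] at this
    exact this
  -- the inverse of `1 - z` on `b`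
  have hv : InLambda M (fun ψ : IrrCharacter H => 1 - omega (ψ : H → ℂ) z) :=
    inLambda_sub inLambda_one ⟨z, hz_cl, hz_R, fun ψ => rfl⟩
  obtain ⟨w, ⟨q₀, hq_cl, hq_R, hq_ω⟩, hw⟩ := exists_inv_on_block hv b (by
    intro ψ hψ hcon
    have := memLocalIdeal_add hcon (hz_J ψ hψ)
    rw [sub_add_cancel] at this
    exact not_memLocalIdeal_one this)
  -- the identity (I)
  have hI : conv (fb - conv z fb) q₀ = fb := by
    apply classFunction_ext_omega
      (isClassFunction_conv (isClassFunction_sub hf_cl (isClassFunction_conv hz_cl hf_cl)) hq_cl)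
      hf_cl
    intro ψ
    rw [irr_omega_conv ψ (isClassFunction_sub hf_cl (isClassFunction_conv hz_cl hf_cl)) hq_cl,
      omega_sub, irr_omega_conv ψ hz_cl hf_cl, hf_ω' ψ, ← hq_ω ψ]
    by_cases hψ : ψ ∈ b
    · rw [if_pos hψ, mul_one]
      exact hw ψ hψ
    · rw [if_neg hψ, mul_zero, sub_zero, zero_mul]
  -- the root of unity
  set ξ : ℂ := Complex.exp (2 * Real.pi * Complex.I / p) with hξ
  have hξprim : IsPrimitiveRoot ξ p := Complex.isPrimitiveRoot_exp p hp.ne_zero
  have hξp : ξ ^ p = 1 := hξprim.pow_eq_one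
  have hξ1 : ξ ≠ 1 := hξprim.ne_one hp.one_lt
  have hξ0 : ξ ≠ 0 := by
    intro h0
    rw [h0, zero_pow hp.ne_zero] at hξp
    exact zero_ne_one hξp
  have hξinv : ξ⁻¹ ≠ 1 := by
    intro h1
    apply hξ1
    rw [← inv_inv ξ, h1, inv_one]
  -- the functions
  set ep : G → ℂ := fun g => if g ∈ H then 0 else e g with hep
  set ek : G → ℂ := fun g => if g ∈ H then 0 else kappa ξ (h : G) g * e g with hek
  have hnc : ∀ y : G, y ∉ H → ¬ Commute π y := by
    intro y hy hc
    apply hy
    apply hC
    rw [Subgroup.mem_centralizer_iff]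
    intro t ht
    rw [Set.mem_singleton_iff] at ht
    rw [ht]
    exact hc.eq
  have hconjH : ∀ y : G, y ∈ H ↔ (h : G) * y * (h : G)⁻¹ ∈ H := by
    intro y
    constructor
    · intro hy
      exact H.mul_mem (H.mul_mem h.2 hy) (H.inv_mem h.2)
    · intro hy
      have := H.mul_mem (H.mul_mem (H.inv_mem h.2) hy) h.2
      have e1 : (h : G)⁻¹ * ((h : G) * y * (h : G)⁻¹) * (h : G) = y := by group
      rwa [e1] at this
  -- the matrices
  have hinvF : ∀ {s : H → ℂ}, IsClassFunction H s →
      ∀ x, extFun H s ((h : G) * x * (h : G)⁻¹) = extFun H s x := by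
    intro s hs x
    exact Helper77.invUnder_extFun_of_isClassFunction H hs (h : G) h.2 x
  have hc_cl : IsClassFunction G (fun x => (χ : G → ℂ) x⁻¹) := by
    intro g t
    show (χ : G → ℂ) (t * g * t⁻¹)⁻¹ = (χ : G → ℂ) g⁻¹
    have : (t * g * t⁻¹)⁻¹ = t * g⁻¹ * t⁻¹ := by group
    rw [this]
    exact irr_isClassFunction χ g⁻¹ t
  have hextcomm : ∀ {s t : H → ℂ}, IsClassFunction H s →
      Commute (cmat (extFun H s)) (cmat (extFun H t)) := by
    intro s t hs
    show cmat (extFun H s) * cmat (extFun H t) = cmat (extFun H t) * cmat (extFun H s)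
    rw [← cmat_conv, ← cmat_conv, Helper77.extFun_conv, Helper77.extFun_conv,
      conv_comm_of_isClassFunction hs]
  have key := second_main_matrix (M := M) (cmat e) (cmat (extFun H fb)) (cmat (extFun H z))
    (cmat ep) (cmat ek) (cmat (extFun H q₀)) (pmat (h : G)) (cmat (fun x => (χ : G → ℂ) x⁻¹))
    ξ⁻¹ hξinv
    (by rw [← cmat_conv, he_idem])
    (by rw [← cmat_conv, Helper77.extFun_conv, hf_idem])
    (cmat_comm_of_isClassFunction he_cl _)
    (by
      rw [← cmat_add]
      congr 1
      funext g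
      by_cases hg : g ∈ H
      · rw [Pi.add_apply, Helper77.extFun_of_mem H _ hg, hep]
        simp only [if_pos hg, add_zero]
        rfl
      · rw [Pi.add_apply, Helper77.extFun_of_not_mem H _ hg, hep]
        simp only [if_neg hg, zero_add])
    (hextcomm hf_cl)
    (by
      rw [← cmat_conv, ← cmat_sub, ← cmat_conv, Helper77.extFun_conv, ← extFun_sub',
        Helper77.extFun_conv, hI])
    (cmat_comm_of_isClassFunction he_cl _).symm
    (pmat_comm_of_inv _ (hinvF hf_cl))
    (pmat_comm_of_inv _ (hinvF hq_cl))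
    (by
      rw [pmat_mul_cmat, cmat_mul_pmat, ← cmat_smul]
      congr 1
      funext x
      obtain ⟨y, rfl⟩ : ∃ y, x = (h : G) * y := ⟨(h : G)⁻¹ * x, by group⟩
      rw [inv_mul_cancel_left, Pi.smul_apply, smul_eq_mul]
      by_cases hy : y ∈ H
      · have hy' := (hconjH y).mp hy
        simp only [hek, if_pos hy, if_pos hy', mul_zero]
      · have hy' : ¬ (h : G) * y * (h : G)⁻¹ ∈ H := fun hh => hy ((hconjH y).mpr hh)
        simp only [hek, if_neg hy, if_neg hy']
        rw [kappa_conj hp hξp hπ (hnc y hy), he_cl y (h : G)]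
        field_simp)
    (cmat_comm_of_isClassFunction hc_cl _)
    (cmat_comm_of_isClassFunction hc_cl _)
    (cmat_comm_of_isClassFunction hc_cl _)
    (cmat_comm_of_isClassFunction hc_cl _)
    (fun i j => he_R _)
    (fun i j => Helper77.extFun_memLocalRing H hf_R _)
    (fun i j => Helper77.extFun_memLocalRing H hq_R _)
    (by
      intro i j
      rw [Matrix.sub_apply, cmat_apply, cmat_apply]
      by_cases hg : i * j⁻¹ ∈ H
      · simp only [hep, hek, if_pos hg, sub_zero]
        exact memLocalIdeal_zero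
      · simp only [hep, hek, if_neg hg]
        have h1 : e (i * j⁻¹) - kappa ξ (h : G) (i * j⁻¹) * e (i * j⁻¹) =
            -((kappa ξ (h : G) (i * j⁻¹) - 1) * e (i * j⁻¹)) := by ring
        rw [h1]
        apply memLocalIdeal_neg
        refine memLocalIdeal_mul_right ?_ (he_R _)
        apply Helper77.memLocalIdeal_sub_one_of_pow_eq_one hM (k := 1)
        rw [pow_one]
        exact kappa_pow hξp _ _)
  -- translate the trace
  rw [← cmat_conv, cmat_mul_pmat, ← cmat_conv, trace_cmat] at key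
  have hcard : (Fintype.card G : ℂ) ≠ 0 := by exact_mod_cast Fintype.card_ne_zero
  have key2 := (mul_eq_zero.mp key).resolve_left hcard
  rw [conv_apply] at key2
  -- key2 : ∑ x, conv e f (x h⁻¹) * χ ((x⁻¹ * 1)⁻¹) = 0
  have h1 : ∑ x : G, conv e (extFun H fb) (x * (h : G)⁻¹) * (χ : G → ℂ) (x⁻¹ * 1)⁻¹ =
      ∑ t : G, conv e (extFun H fb) t * (χ : G → ℂ) (t * (h : G)) := by
    refine Fintype.sum_equiv (Equiv.mulRight (h : G)⁻¹) _ _ (fun x => ?_)
    simp only [Equiv.coe_mulRight, mul_one, inv_inv, inv_mul_cancel_right]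
  rw [h1] at key2
  have h2 : ∑ t : G, conv e (extFun H fb) t * (χ : G → ℂ) (t * (h : G)) =
      ∑ s : G, extFun H fb s * (χ : G → ℂ) (s * (h : G)) := by
    calc ∑ t : G, conv e (extFun H fb) t * (χ : G → ℂ) (t * (h : G))
        = ∑ t : G, ∑ u : G, e u * extFun H fb (u⁻¹ * t) * (χ : G → ℂ) (t * (h : G)) := by
          refine Finset.sum_congr rfl (fun t _ => ?_)
          rw [conv_apply, Finset.sum_mul]
      _ = ∑ u : G, ∑ t : G, e u * extFun H fb (u⁻¹ * t) * (χ : G → ℂ) (t * (h : G)) :=
          Finset.sum_comm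
      _ = ∑ u : G, ∑ s : G, e u * extFun H fb s * (χ : G → ℂ) (u * s * (h : G)) := by
          refine Finset.sum_congr rfl (fun u _ => ?_)
          refine Fintype.sum_equiv (Equiv.mulLeft u⁻¹) _ _ (fun t => ?_)
          simp only [Equiv.coe_mulLeft, mul_inv_cancel_left]
      _ = ∑ s : G, ∑ u : G, e u * extFun H fb s * (χ : G → ℂ) (u * s * (h : G)) :=
          Finset.sum_comm
      _ = ∑ s : G, extFun H fb s * (χ : G → ℂ) (s * (h : G)) := by
          refine Finset.sum_congr rfl (fun s _ => ?_)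
          have h3 := irr_sum_mul_eq_omega χ he_cl (s * (h : G))
          rw [he_χ, one_mul] at h3
          rw [← h3, Finset.mul_sum]
          refine Finset.sum_congr rfl (fun u _ => ?_)
          rw [mul_assoc u s]
          ring
  rw [h2, sum_extFun H fb (fun s => (χ : G → ℂ) (s * (h : G)))] at key2
  exact key2

end Main

end Cfsg.Agent.Helper16
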