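import Cfsg.Agent.Helper16.NilProduct
import Cfsg.Agent.Helper16.SecondMain
import Cfsg.Agent.Helper77.ConvPow

/-!
# The convolution algebra as a ring

(helper16.)  The type synonym `CAlg G` of `G → ℂ` carries the ring structure given by pointwise
addition and the convolution product `conv`.  Functions with values in the local ring form a
subring, which gives the Frobenius congruence `(x + y)^(p^m) ≡ x^(p^m) + y^(p^m)` modulo the local
ideal for commuting `x`, `y` with values in the local ring.
-/

set_option autoImplicit false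
set_option linter.unusedSectionVars false

namespace Cfsg.Agent.Helper16

open Cfsg

universe u

/-- The convolution algebra of complex functions on `G`. -/
def CAlg (G : Type u) : Type u := G → ℂ

namespace CAlg

variable {G : Type u} [Group G] [Fintype G] {M : Ideal AlgInt}

/-- A function as an element of the convolution algebra. -/
def of (f : G → ℂ) : CAlg G := f

/-- The function underlying an element of the convolution algebra. -/
def fn (a : CAlg G) : G → ℂ := a

@[simp] theorem fn_of (f : G → ℂ) : fn (of f) = f := rfl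
@[simp] theorem of_fn (a : CAlg G) : of (fn a) = a := rfl

@[ext] theorem ext {a b : CAlg G} (h : ∀ g, fn a g = fn b g) : a = b := funext h

noncomputable instance instAddCommGroup : AddCommGroup (CAlg G) :=
  inferInstanceAs (AddCommGroup (G → ℂ))

noncomputable instance instRing : Ring (CAlg G) :=
  { (instAddCommGroup : AddCommGroup (CAlg G)) with
    mul := fun a b => conv a b
    one := (deltaOne : G → ℂ)
    left_distrib := fun a b c => Helper78.conv_add_right a b c
    right_distrib := fun a b c => conv_add_left' a b c
    zero_mul := fun a => Helper77.conv_zero_left a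
    mul_zero := fun a => Helper77.conv_zero_right a
    mul_assoc := fun a b c => conv_assoc a b c
    one_mul := fun a => Helper78.conv_deltaOne_left a
    mul_one := fun a => Helper78.conv_deltaOne_right a }

theorem fn_mul (a b : CAlg G) : fn (a * b) = conv (fn a) (fn b) := rfl
theorem fn_one : fn (1 : CAlg G) = deltaOne := rfl
theorem fn_add (a b : CAlg G) : fn (a + b) = fn a + fn b := rfl
theorem fn_sub (a b : CAlg G) : fn (a - b) = fn a - fn b := rfl
theorem fn_neg (a : CAlg G) : fn (-a) = - fn a := rfl
theorem fn_zero : fn (0 : CAlg G) = 0 := rfl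
theorem of_conv (f g : G → ℂ) : of (conv f g) = of f * of g := rfl
theorem of_add (f g : G → ℂ) : of (f + g) = of f + of g := rfl
theorem of_sub (f g : G → ℂ) : of (f - g) = of f - of g := rfl
theorem of_deltaOne : of (deltaOne : G → ℂ) = 1 := rfl

theorem fn_nsmul (n : ℕ) (a : CAlg G) (g : G) : fn (n • a) g = (n : ℂ) * fn a g := by
  have h : ∀ f : G → ℂ, (n • f) g = (n : ℂ) * f g := fun f => by
    rw [Pi.smul_apply, nsmul_eq_mul]
  exact h (fn a)

theorem fn_natCast_mul (n : ℕ) (a : CAlg G) (g : G) : fn ((n : CAlg G) * a) g = (n : ℂ) * fn a g := by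
  rw [← nsmul_eq_mul, fn_nsmul]

theorem fn_pow (a : CAlg G) (n : ℕ) : fn (a ^ n) = Helper77.convPow (fn a) n := by
  induction n with
  | zero => rw [pow_zero, Helper77.convPow_zero]; rfl
  | succ n ih => rw [pow_succ, fn_mul, ih, Helper77.convPow_succ]

theorem commute_of_isClassFunction {a : CAlg G} (ha : IsClassFunction G (fn a)) (b : CAlg G) :
    Commute a b :=
  conv_comm_of_isClassFunction ha b

/-- The subring of functions with values in the local ring. -/
def rSub (M : Ideal AlgInt) [M.IsPrime] : Subring (CAlg G) where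
  carrier := {a | RValued M (fn a)}
  mul_mem' := fun ha hb => rValued_conv ha hb
  one_mem' := rValued_deltaOne
  add_mem' := fun ha hb g => memLocalRing_add (ha g) (hb g)
  zero_mem' := fun _ => memLocalRing_zero
  neg_mem' := fun ha g => memLocalRing_neg (ha g)

theorem mem_rSub [M.IsPrime] {a : CAlg G} : a ∈ rSub (G := G) M ↔ RValued M (fn a) := Iff.rfl

theorem rValued_pow [M.IsPrime] {a : CAlg G} (ha : RValued M (fn a)) (n : ℕ) :
    RValued M (fn (a ^ n)) :=
  mem_rSub.mp (pow_mem (mem_rSub.mpr ha) n)

/-- **Frobenius congruence** in the local group ring: for commuting `x`, `y` with values in the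
local ring, `(x + y)^(p^m) - x^(p^m) - y^(p^m)` has values in the local ideal. -/
theorem jValued_add_pow_sub {p : ℕ} [Fact p.Prime] (hM : IsPModular p M) {x y : CAlg G}
    (hx : RValued M (fn x)) (hy : RValued M (fn y)) (hxy : Commute x y) (m : ℕ) :
    Helper78.JValued M (fn ((x + y) ^ p ^ m - x ^ p ^ m - y ^ p ^ m)) := by
  haveI hMp : M.IsPrime := IsPModular.isPrime hM
  have hp : p.Prime := Fact.out
  let x' : rSub (G := G) M := ⟨x, mem_rSub.mpr hx⟩
  let y' : rSub (G := G) M := ⟨y, mem_rSub.mpr hy⟩
  have hc : Commute x' y' := Subtype.ext hxy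
  obtain ⟨r, hr⟩ := hc.exists_add_pow_prime_pow_eq hp m
  have hr' := congrArg Subtype.val hr
  simp only [Subring.coe_add, Subring.coe_mul, Subring.coe_pow, Subring.coe_natCast] at hr'
  have hx'v : (x' : CAlg G) = x := rfl
  have hy'v : (y' : CAlg G) = y := rfl
  rw [hx'v, hy'v] at hr'
  rw [hr']
  have e : x ^ p ^ m + y ^ p ^ m + (p : CAlg G) * x * y * (r : CAlg G) - x ^ p ^ m - y ^ p ^ m =
      (p : CAlg G) * (x * y * (r : CAlg G)) := by
    rw [mul_assoc (p : CAlg G) x y, mul_assoc (p : CAlg G) (x * y) (r : CAlg G)]
    abel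
  rw [e]
  intro g
  rw [fn_natCast_mul]
  have hR : RValued M (fn (x * y * (r : CAlg G))) :=
    mem_rSub.mp (mul_mem (mul_mem (mem_rSub.mpr hx) (mem_rSub.mpr hy)) r.2)
  exact memLocalIdeal_mul_right ((Helper77.memLocalIdeal_natCast_iff hM p).mpr dvd_rfl) (hR g)

end CAlg

end Cfsg.Agent.Helper16
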