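import Cfsg.Agent.Helper16.CoverUnder
import Cfsg.Agent.Helper16.ConvRing
import Cfsg.Agent.Helper16.Quotient
import Cfsg.Agent.Helper76.ADRigid
import Cfsg.Agent.Helper78.IrrTransport

/-!
# The graded commutant calculus behind the Alperin–Dade theorem (helper16)

Let `N ⊴ G`, `X` a central idempotent of the local group ring of `G`, `U γ` its pieces on the cosets
`γ ∈ G ⧸ N`.  The pieces commute with everything supported on `N` and invariant under `N`.  For an
irreducible character `θ` of `N` put `Λ_θ(a) = ω_θ(a|_N)`.  The complex matrices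
`E_θ[q,t] = Λ_θ(U(q t⁻¹) U(t) U(q⁻¹)) / Λ_θ(U(t⁻¹) U(t))` are idempotent, have entries in the local
ring, are congruent modulo the local ideal for characters `θ` in one block of `N`, and have trace
`|G:N| · Λ_θ(U 1)`.
-/

set_option autoImplicit false
set_option linter.unusedSectionVars false

namespace Cfsg.Agent.Helper16

open Cfsg

variable {G : Type*} [Group G] [Fintype G] {M : Ideal AlgInt} {p : ℕ}
variable (N : Subgroup G) [hN : N.Normal]

section PieceConv

/-- The piece of a product whose right factor is homogeneous. -/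
theorem piece_conv_right_homog (A : G → ℂ) {B : G → ℂ} {β : G ⧸ N} (hB : SuppCoset N β B)
    (γ : G ⧸ N) : piece N (conv A B) γ = conv (piece N A (γ * β⁻¹)) B := by
  funext g
  by_cases hg : (QuotientGroup.mk g : G ⧸ N) = γ
  · rw [piece_of_eq N _ hg, conv_apply, conv_apply]
    refine Finset.sum_congr rfl (fun x _ => ?_)
    by_cases hx : (QuotientGroup.mk x : G ⧸ N) = γ * β⁻¹
    · rw [piece_of_eq N A hx]
    · have : (QuotientGroup.mk (x⁻¹ * g) : G ⧸ N) ≠ β := by
        intro h
        apply hx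
        have e : (QuotientGroup.mk g : G ⧸ N) = QuotientGroup.mk x * QuotientGroup.mk (x⁻¹ * g) := by
          rw [← QuotientGroup.mk_mul, mul_inv_cancel_left]
        rw [← hg, e, h, mul_inv_cancel_right]
      rw [hB _ this, mul_zero, mul_zero]
  · rw [piece_of_ne N _ hg]
    have h1 : SuppCoset N (γ * β⁻¹ * β) (conv (piece N A (γ * β⁻¹)) B) :=
      suppCoset_conv N (suppCoset_piece N A _) hB
    rw [inv_mul_cancel_right] at h1
    exact (h1 g hg).symm

/-- The piece of a product whose left factor is homogeneous. -/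
theorem piece_conv_left_homog {A : G → ℂ} {α : G ⧸ N} (hA : SuppCoset N α A) (B : G → ℂ)
    (γ : G ⧸ N) : piece N (conv A B) γ = conv A (piece N B (α⁻¹ * γ)) := by
  funext g
  by_cases hg : (QuotientGroup.mk g : G ⧸ N) = γ
  · rw [piece_of_eq N _ hg, conv_apply, conv_apply]
    refine Finset.sum_congr rfl (fun x _ => ?_)
    by_cases hx : (QuotientGroup.mk x : G ⧸ N) = α
    · have : (QuotientGroup.mk (x⁻¹ * g) : G ⧸ N) = α⁻¹ * γ := by
        rw [QuotientGroup.mk_mul, QuotientGroup.mk_inv, hx, hg]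
      rw [piece_of_eq N B this]
    · rw [hA _ hx, zero_mul, zero_mul]
  · rw [piece_of_ne N _ hg]
    have h1 : SuppCoset N (α * (α⁻¹ * γ)) (conv A (piece N B (α⁻¹ * γ))) :=
      suppCoset_conv N hA (suppCoset_piece N B _)
    rw [mul_inv_cancel_left] at h1
    exact (h1 g hg).symm

end PieceConv

section Core

/-- The degree-`γ` part of the commutant of the functions on `N`: functions supported on the coset
`γ` and invariant under conjugation by `N`. -/
def IsCommDeg (γ : G ⧸ N) (a : CAlg G) : Prop :=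
  SuppCoset N γ (CAlg.fn a) ∧ Helper77.InvUnder (N : Set G) (CAlg.fn a)

variable {N}

theorem IsCommDeg.mul {γ γ' : G ⧸ N} {a b : CAlg G} (ha : IsCommDeg N γ a)
    (hb : IsCommDeg N γ' b) : IsCommDeg N (γ * γ') (a * b) :=
  ⟨suppCoset_conv N ha.1 hb.1, Helper77.invUnder_conv ha.2 hb.2⟩

theorem IsCommDeg.comm {a b : CAlg G} (ha : IsCommDeg N 1 a) {γ : G ⧸ N}
    (hb : IsCommDeg N γ b) : a * b = b * a :=
  conv_comm_of_supp N ha.1 hb.2

theorem IsCommDeg.congr {γ γ' : G ⧸ N} {a : CAlg G} (ha : IsCommDeg N γ a) (h : γ = γ') :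
    IsCommDeg N γ' a := h ▸ ha

variable (N)

/-- The pieces of `X` as elements of the convolution ring. -/
noncomputable def pc (X : G → ℂ) (γ : G ⧸ N) : CAlg G := CAlg.of (piece N X γ)

theorem isCommDeg_pc {X : G → ℂ} (hX : IsClassFunction G X) (γ : G ⧸ N) :
    IsCommDeg N γ (pc N X γ) :=
  ⟨suppCoset_piece N X γ,
    invUnder_piece N (Helper77.invUnder_of_isClassFunction hX _) γ⟩

theorem piece_finset_sum {ι : Type*} (I : Finset ι) (f : ι → G → ℂ) (γ : G ⧸ N) :
    piece N (∑ i ∈ I, f i) γ = ∑ i ∈ I, piece N (f i) γ := by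
  funext g
  by_cases hg : (QuotientGroup.mk g : G ⧸ N) = γ
  · rw [piece_of_eq N _ hg, Finset.sum_apply, Finset.sum_apply]
    exact Finset.sum_congr rfl (fun i _ => (piece_of_eq N (f i) hg).symm)
  · rw [piece_of_ne N _ hg, Finset.sum_apply]
    exact (Finset.sum_eq_zero (fun i _ => piece_of_ne N (f i) hg)).symm

theorem sum_pc_mul_pc [Fintype (G ⧸ N)] {X : G → ℂ} (hXX : conv X X = X) (q t : G ⧸ N) :
    ∑ r : G ⧸ N, pc N X (q * r⁻¹) * pc N X (r * t⁻¹) = pc N X (q * t⁻¹) := by
  have h2 : conv X X = ∑ β : G ⧸ N, conv X (piece N X β) := by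
    conv_lhs => rw [← sum_piece N X]
    rw [Helper77.conv_finset_sum_right, sum_piece N X]
  have h1 : piece N X (q * t⁻¹) =
      ∑ β : G ⧸ N, conv (piece N X (q * t⁻¹ * β⁻¹)) (piece N X β) := by
    conv_lhs => rw [← hXX, h2, piece_finset_sum]
    exact Finset.sum_congr rfl (fun β _ =>
      piece_conv_right_homog N X (suppCoset_piece N X β) _)
  have h3 : ∀ (I : Finset (G ⧸ N)) (f : G ⧸ N → G → ℂ),
      CAlg.of (∑ β ∈ I, f β) = ∑ β ∈ I, CAlg.of (f β) := fun I f => rfl
  show _ = CAlg.of (piece N X (q * t⁻¹))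
  rw [h1, h3, ← Equiv.sum_comp (Equiv.mulRight t)]
  refine Finset.sum_congr rfl (fun β _ => ?_)
  have e1 : q * ((Equiv.mulRight t) β)⁻¹ = q * t⁻¹ * β⁻¹ := by
    show q * (β * t)⁻¹ = _
    group
  have e2 : (Equiv.mulRight t) β * t⁻¹ = β := by
    show β * t * t⁻¹ = β
    group
  rw [e1, e2]
  rfl

theorem piece_piece (X : G → ℂ) (γ β : G ⧸ N) [Decidable (γ = β)] :
    piece N (piece N X γ) β = if γ = β then piece N X γ else 0 := by
  funext g
  by_cases hg : (QuotientGroup.mk g : G ⧸ N) = β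
  · rw [piece_of_eq N _ hg]
    by_cases h : γ = β
    · rw [if_pos h]
    · rw [if_neg h]
      exact piece_of_ne N X (fun h' => h (h'.symm.trans hg))
  · rw [piece_of_ne N _ hg]
    by_cases h : γ = β
    · rw [if_pos h, h]
      exact (piece_of_ne N X hg).symm
    · rw [if_neg h]; rfl

/-- The pieces of a central element in inverse degrees commute. -/
theorem pc_inv_mul_comm {X : G → ℂ} (hX : IsClassFunction G X) (s : G ⧸ N) :
    pc N X s⁻¹ * pc N X s = pc N X s * pc N X s⁻¹ := by
  classical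
  have hc : conv X (piece N X s) = conv (piece N X s) X :=
    CAlg.commute_of_isClassFunction (a := CAlg.of X) hX (CAlg.of (piece N X s))
  have h1 : piece N (conv X (piece N X s)) 1 = conv (piece N X s⁻¹) (piece N X s) := by
    rw [piece_conv_right_homog N X (suppCoset_piece N X s), one_mul]
  have h2 : piece N (conv (piece N X s) X) 1 = conv (piece N X s) (piece N X s⁻¹) := by
    rw [piece_conv_left_homog N (suppCoset_piece N X s), mul_one]
  show CAlg.of (conv (piece N X s⁻¹) (piece N X s)) = CAlg.of (conv (piece N X s) (piece N X s⁻¹))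
  rw [← h1, ← h2, hc]

/-- `Λ_θ(a) = ω_θ(a|_N)`. -/
noncomputable def lam [Fintype N] (θ : N → ℂ) (a : CAlg G) : ℂ :=
  omega θ (Helper77.resFun N (CAlg.fn a))

theorem lam_add [Fintype N] (θ : N → ℂ) (a b : CAlg G) :
    lam N θ (a + b) = lam N θ a + lam N θ b := by
  unfold lam
  rw [CAlg.fn_add]
  exact omega_add θ _ _

theorem lam_zero [Fintype N] (θ : N → ℂ) : lam N θ (0 : CAlg G) = 0 := by
  unfold lam
  exact omega_zero θ

theorem lam_sum [Fintype N] (θ : N → ℂ) {ι : Type*} (I : Finset ι) (f : ι → CAlg G) :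
    lam N θ (∑ i ∈ I, f i) = ∑ i ∈ I, lam N θ (f i) := by
  classical
  induction I using Finset.induction_on with
  | empty => simp [lam_zero]
  | insert i I hi ih => rw [Finset.sum_insert hi, Finset.sum_insert hi, lam_add, ih]

theorem resFun_conv_of_supp [Fintype N] {A B : G → ℂ} (hA : SuppCoset N 1 A)
    (hB : SuppCoset N 1 B) :
    Helper77.resFun N (conv A B) = conv (Helper77.resFun N A) (Helper77.resFun N B) := by
  have eA : Helper77.extFun N (Helper77.resFun N A) = A :=
    Helper77.extFun_resFun_of_support N A (fun g hg => eq_zero_of_suppCoset_one N hA hg)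
  have eB : Helper77.extFun N (Helper77.resFun N B) = B :=
    Helper77.extFun_resFun_of_support N B (fun g hg => eq_zero_of_suppCoset_one N hB hg)
  conv_lhs => rw [← eA, ← eB, Helper77.extFun_conv, Helper77.resFun_extFun]

theorem lam_mul [Fintype N] (θ : IrrCharacter N) {a b : CAlg G} (ha : IsCommDeg N 1 a)
    (hb : IsCommDeg N 1 b) : lam N (θ : N → ℂ) (a * b) = lam N (θ : N → ℂ) a * lam N (θ : N → ℂ) b := by
  unfold lam
  rw [CAlg.fn_mul, resFun_conv_of_supp N ha.1 hb.1]
  exact irr_omega_conv θ (Helper77.isClassFunction_resFun ha.2) (Helper77.isClassFunction_resFun hb.2)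

end Core

section Matrix

variable [Fintype N] [Fintype (G ⧸ N)] [DecidableEq (G ⧸ N)]

/-- Numerators of the matrix entries. -/
noncomputable def adNum (X : G → ℂ) (q t : G ⧸ N) : CAlg G :=
  pc N X (q * t⁻¹) * pc N X t * pc N X q⁻¹

/-- Denominators of the matrix entries. -/
noncomputable def adDen (X : G → ℂ) (t : G ⧸ N) : CAlg G := pc N X t⁻¹ * pc N X t

theorem isCommDeg_adNum {X : G → ℂ} (hX : IsClassFunction G X) (q t : G ⧸ N) :
    IsCommDeg N 1 (adNum N X q t) := by
  have h := ((isCommDeg_pc N hX (q * t⁻¹)).mul (isCommDeg_pc N hX t)).mul (isCommDeg_pc N hX q⁻¹)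
  exact h.congr (by group)

theorem isCommDeg_adDen {X : G → ℂ} (hX : IsClassFunction G X) (t : G ⧸ N) :
    IsCommDeg N 1 (adDen N X t) := by
  have h := (isCommDeg_pc N hX t⁻¹).mul (isCommDeg_pc N hX t)
  exact h.congr (by group)

/-- The key product formula. -/
theorem adNum_mul_adNum {X : G → ℂ} (hX : IsClassFunction G X) (q r t : G ⧸ N) :
    adNum N X q r * adNum N X r t =
      (pc N X (q * r⁻¹) * pc N X (r * t⁻¹) * pc N X t * pc N X q⁻¹) * adDen N X r := by
  have hz := isCommDeg_adNum N hX r t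
  have hd := isCommDeg_adDen N hX r
  have hBC : IsCommDeg N (r * q⁻¹) (pc N X r * pc N X q⁻¹) :=
    (isCommDeg_pc N hX r).mul (isCommDeg_pc N hX q⁻¹)
  have hC := isCommDeg_pc N hX q⁻¹
  have c1 : adNum N X r t * (pc N X r * pc N X q⁻¹) = (pc N X r * pc N X q⁻¹) * adNum N X r t :=
    hz.comm hBC
  have c2 : adDen N X r * pc N X q⁻¹ = pc N X q⁻¹ * adDen N X r := hd.comm hC
  calc adNum N X q r * adNum N X r t
      = pc N X (q * r⁻¹) * ((pc N X r * pc N X q⁻¹) * adNum N X r t) := by
        unfold adNum; simp only [mul_assoc]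
    _ = pc N X (q * r⁻¹) * (adNum N X r t * (pc N X r * pc N X q⁻¹)) := by rw [c1]
    _ = pc N X (q * r⁻¹) * pc N X (r * t⁻¹) * pc N X t * (adDen N X r * pc N X q⁻¹) := by
        unfold adNum adDen; simp only [mul_assoc]
    _ = pc N X (q * r⁻¹) * pc N X (r * t⁻¹) * pc N X t * (pc N X q⁻¹ * adDen N X r) := by rw [c2]
    _ = _ := by simp only [mul_assoc]

/-- The matrices `E_θ`. -/
noncomputable def adMat (X : G → ℂ) (θ : N → ℂ) : Matrix (G ⧸ N) (G ⧸ N) ℂ :=
  fun q t => lam N θ (adNum N X q t) / lam N θ (adDen N X t)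

theorem adMat_mul_self {X : G → ℂ} (hX : IsClassFunction G X) (hXX : conv X X = X)
    (θ : IrrCharacter N) (hne : ∀ t : G ⧸ N, lam N (θ : N → ℂ) (adDen N X t) ≠ 0) :
    adMat N X (θ : N → ℂ) * adMat N X (θ : N → ℂ) = adMat N X (θ : N → ℂ) := by
  ext q t
  rw [Matrix.mul_apply]
  unfold adMat
  have hW : ∀ r : G ⧸ N, IsCommDeg N 1
      (pc N X (q * r⁻¹) * pc N X (r * t⁻¹) * pc N X t * pc N X q⁻¹) := by
    intro r
    have h := (((isCommDeg_pc N hX (q * r⁻¹)).mul (isCommDeg_pc N hX (r * t⁻¹))).mul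
      (isCommDeg_pc N hX t)).mul (isCommDeg_pc N hX q⁻¹)
    exact h.congr (by group)
  have h1 : ∀ r : G ⧸ N,
      lam N (θ : N → ℂ) (adNum N X q r) / lam N (θ : N → ℂ) (adDen N X r) *
        (lam N (θ : N → ℂ) (adNum N X r t) / lam N (θ : N → ℂ) (adDen N X t)) =
      lam N (θ : N → ℂ) (pc N X (q * r⁻¹) * pc N X (r * t⁻¹) * pc N X t * pc N X q⁻¹) /
        lam N (θ : N → ℂ) (adDen N X t) := by
    intro r
    have e : lam N (θ : N → ℂ) (adNum N X q r) * lam N (θ : N → ℂ) (adNum N X r t) =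
        lam N (θ : N → ℂ) (pc N X (q * r⁻¹) * pc N X (r * t⁻¹) * pc N X t * pc N X q⁻¹) *
          lam N (θ : N → ℂ) (adDen N X r) := by
      rw [← lam_mul N θ (isCommDeg_adNum N hX q r) (isCommDeg_adNum N hX r t),
        adNum_mul_adNum N hX, lam_mul N θ (hW r) (isCommDeg_adDen N hX r)]
    have hr := hne r
    have ht := hne t
    field_simp
    linear_combination e
  rw [Finset.sum_congr rfl (fun r _ => h1 r), ← Finset.sum_div, ← lam_sum]
  congr 2
  unfold adNum
  rw [← sum_pc_mul_pc N hXX q t, Finset.sum_mul, Finset.sum_mul]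

/-- The diagonal entries. -/
theorem adNum_self {X : G → ℂ} (hX : IsClassFunction G X) (q : G ⧸ N) :
    adNum N X q q = pc N X 1 * adDen N X q := by
  unfold adNum adDen
  rw [mul_inv_cancel, mul_assoc, ← pc_inv_mul_comm N hX q]

theorem adMat_trace {X : G → ℂ} (hX : IsClassFunction G X) (θ : IrrCharacter N)
    (hne : ∀ t : G ⧸ N, lam N (θ : N → ℂ) (adDen N X t) ≠ 0) :
    (adMat N X (θ : N → ℂ)).trace =
      (Fintype.card (G ⧸ N) : ℂ) * lam N (θ : N → ℂ) (pc N X 1) := by
  have h0 : (adMat N X (θ : N → ℂ)).trace = ∑ q : G ⧸ N,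
      lam N (θ : N → ℂ) (adNum N X q q) / lam N (θ : N → ℂ) (adDen N X q) := rfl
  rw [h0]
  have h1 : ∀ q : G ⧸ N, lam N (θ : N → ℂ) (adNum N X q q) / lam N (θ : N → ℂ) (adDen N X q) =
      lam N (θ : N → ℂ) (pc N X 1) := by
    intro q
    rw [adNum_self N hX, lam_mul N θ (isCommDeg_pc N hX 1) (isCommDeg_adDen N hX q),
      mul_div_assoc, div_self (hne q), mul_one]
  rw [Finset.sum_congr rfl (fun q _ => h1 q), Finset.sum_const, Finset.card_univ, nsmul_eq_mul]

theorem lam_pc_one (X : G → ℂ) (θ : N → ℂ) :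
    lam N θ (pc N X 1) = omega θ (Helper77.resFun N X) := by
  unfold lam pc
  congr 1
  funext n
  show piece N X 1 (n : G) = X (n : G)
  exact piece_of_eq N X ((QuotientGroup.eq_one_iff (n : G)).mpr n.2)

section Local

variable [hMp : M.IsPrime]

theorem rValued_pc {X : G → ℂ} (hXR : RValued M X) (γ : G ⧸ N) :
    RValued M (CAlg.fn (pc N X γ)) := rValued_piece N hXR γ

theorem rValued_mul' {a b : CAlg G} (ha : RValued M (CAlg.fn a)) (hb : RValued M (CAlg.fn b)) :
    RValued M (CAlg.fn (a * b)) := rValued_conv ha hb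

theorem rValued_adNum {X : G → ℂ} (hXR : RValued M X) (q t : G ⧸ N) :
    RValued M (CAlg.fn (adNum N X q t)) :=
  rValued_mul' (rValued_mul' (rValued_pc N hXR _) (rValued_pc N hXR _)) (rValued_pc N hXR _)

theorem rValued_adDen {X : G → ℂ} (hXR : RValued M X) (t : G ⧸ N) :
    RValued M (CAlg.fn (adDen N X t)) :=
  rValued_mul' (rValued_pc N hXR _) (rValued_pc N hXR _)

theorem lam_memLocalRing (θ : IrrCharacter N) {a : CAlg G} (ha : IsCommDeg N 1 a)
    (haR : RValued M (CAlg.fn a)) : MemLocalRing M (lam N (θ : N → ℂ) a) :=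
  omega_memLocalRing θ (Helper77.isClassFunction_resFun ha.2) (fun n => haR (n : G))

theorem lam_sub_memLocalIdeal {θ θ' : IrrCharacter N}
    (h : SameBlock M (θ : N → ℂ) (θ' : N → ℂ)) {a : CAlg G} (ha : IsCommDeg N 1 a)
    (haR : RValued M (CAlg.fn a)) :
    MemLocalIdeal M (lam N (θ : N → ℂ) a - lam N (θ' : N → ℂ) a) :=
  omega_sub_memLocalIdeal h (Helper77.isClassFunction_resFun ha.2) (fun n => haR (n : G))

/-- Quotients with unit denominators, congruent numerators and denominators. -/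
theorem div_sub_div_memLocalIdeal {a b a' b' : ℂ} (ha : MemLocalRing M a) (hb : MemLocalRing M b)
    (ha' : MemLocalRing M a') (hb' : MemLocalRing M b') (hbu : ¬ MemLocalIdeal M b)
    (hbu' : ¬ MemLocalIdeal M b') (haa : MemLocalIdeal M (a - a')) (hbb : MemLocalIdeal M (b - b')) :
    MemLocalIdeal M (a / b - a' / b') := by
  have hb0 : b ≠ 0 := fun h => hbu (h ▸ Helper77.memLocalIdeal_zero M)
  have hb0' : b' ≠ 0 := fun h => hbu' (h ▸ Helper77.memLocalIdeal_zero M)
  have e : a / b - a' / b' = (b⁻¹ * b'⁻¹) * ((a - a') * b' - a' * (b - b')) := by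
    field_simp
    ring
  rw [e]
  refine Helper77.memLocalIdeal_mul_left M
    (Helper77.memLocalRing_mul M (Helper77.memLocalRing_inv M hb hbu)
      (Helper77.memLocalRing_inv M hb' hbu')) ?_
  refine Helper77.memLocalIdeal_sub M ?_ (Helper77.memLocalIdeal_mul_left M ha' hbb)
  rw [mul_comm]
  exact Helper77.memLocalIdeal_mul_left M hb' haa

end Local

/-- **The core of the Alperin–Dade theorem.**  Let `X` be a central idempotent of the local group
ring of `G` and `θ₁, θ` irreducible characters of `N` in the same block.  If the elements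
`U(t⁻¹) U(t)` (products of pieces of `X` in inverse degrees) are units at `θ₁`, then
`ω_θ(X|_N) = ω_θ₁(X|_N)` exactly (not only modulo the local ideal). -/
theorem omega_resFun_eq_of_sameBlock [hMp : M.IsPrime] {X : G → ℂ} (hX : IsClassFunction G X)
    (hXR : RValued M X) (hXX : conv X X = X) {θ₁ θ : IrrCharacter N}
    (hsb : SameBlock M (θ₁ : N → ℂ) (θ : N → ℂ))
    (hunit : ∀ t : G ⧸ N, ¬ MemLocalIdeal M (lam N (θ₁ : N → ℂ) (adDen N X t))) :
    omega (θ : N → ℂ) (Helper77.resFun N X) = omega (θ₁ : N → ℂ) (Helper77.resFun N X) := by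
  have hdR₁ : ∀ t, MemLocalRing M (lam N (θ₁ : N → ℂ) (adDen N X t)) := fun t =>
    lam_memLocalRing N θ₁ (isCommDeg_adDen N hX t) (rValued_adDen N hXR t)
  have hdR : ∀ t, MemLocalRing M (lam N (θ : N → ℂ) (adDen N X t)) := fun t =>
    lam_memLocalRing N θ (isCommDeg_adDen N hX t) (rValued_adDen N hXR t)
  have hnR₁ : ∀ q t, MemLocalRing M (lam N (θ₁ : N → ℂ) (adNum N X q t)) := fun q t =>
    lam_memLocalRing N θ₁ (isCommDeg_adNum N hX q t) (rValued_adNum N hXR q t)
  have hnR : ∀ q t, MemLocalRing M (lam N (θ : N → ℂ) (adNum N X q t)) := fun q t =>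
    lam_memLocalRing N θ (isCommDeg_adNum N hX q t) (rValued_adNum N hXR q t)
  have hdJ : ∀ t, MemLocalIdeal M
      (lam N (θ : N → ℂ) (adDen N X t) - lam N (θ₁ : N → ℂ) (adDen N X t)) := by
    intro t
    have := Helper77.memLocalIdeal_neg
      (lam_sub_memLocalIdeal N hsb (isCommDeg_adDen N hX t) (rValued_adDen N hXR t))
    rwa [neg_sub] at this
  have hnJ : ∀ q t, MemLocalIdeal M
      (lam N (θ : N → ℂ) (adNum N X q t) - lam N (θ₁ : N → ℂ) (adNum N X q t)) := by
    intro q t
    have := Helper77.memLocalIdeal_neg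
      (lam_sub_memLocalIdeal N hsb (isCommDeg_adNum N hX q t) (rValued_adNum N hXR q t))
    rwa [neg_sub] at this
  have hunit' : ∀ t : G ⧸ N, ¬ MemLocalIdeal M (lam N (θ : N → ℂ) (adDen N X t)) := by
    intro t h
    apply hunit t
    have := Helper77.memLocalIdeal_sub M h (hdJ t)
    rwa [sub_sub_cancel] at this
  have hne₁ : ∀ t : G ⧸ N, lam N (θ₁ : N → ℂ) (adDen N X t) ≠ 0 := fun t h =>
    hunit t (h ▸ Helper77.memLocalIdeal_zero M)
  have hne : ∀ t : G ⧸ N, lam N (θ : N → ℂ) (adDen N X t) ≠ 0 := fun t h =>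
    hunit' t (h ▸ Helper77.memLocalIdeal_zero M)
  have htr := Helper76.ADRigid.trace_eq_of_idem_congr M (adMat N X (θ₁ : N → ℂ))
    (adMat N X (θ : N → ℂ)) (adMat_mul_self N hX hXX θ₁ hne₁) (adMat_mul_self N hX hXX θ hne)
    (fun q t => by
      show MemLocalRing M (lam N (θ₁ : N → ℂ) (adNum N X q t) / lam N (θ₁ : N → ℂ) (adDen N X t))
      rw [div_eq_mul_inv]
      exact Helper77.memLocalRing_mul M (hnR₁ q t) (Helper77.memLocalRing_inv M (hdR₁ t) (hunit t)))
    (fun q t => div_sub_div_memLocalIdeal (hnR q t) (hdR t) (hnR₁ q t) (hdR₁ t) (hunit' t)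
      (hunit t) (hnJ q t) (hdJ t))
  rw [adMat_trace N hX θ hne, adMat_trace N hX θ₁ hne₁, lam_pc_one, lam_pc_one] at htr
  have hc : (Fintype.card (G ⧸ N) : ℂ) ≠ 0 := by
    have : Fintype.card (G ⧸ N) ≠ 0 := Fintype.card_ne_zero
    exact_mod_cast this
  exact mul_left_cancel₀ hc htr

end Matrix

section Aug

/-- The augmentation of the convolution ring. -/
noncomputable def aug (a : CAlg G) : ℂ := ∑ g : G, CAlg.fn a g

theorem aug_mul (a b : CAlg G) : aug (a * b) = aug a * aug b := by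
  unfold aug
  rw [CAlg.fn_mul]
  simp_rw [conv_apply]
  rw [Finset.sum_comm, Finset.sum_mul]
  refine Finset.sum_congr rfl (fun x _ => ?_)
  rw [← Finset.mul_sum]
  congr 1
  exact Equiv.sum_comp (Equiv.mulLeft x⁻¹) (CAlg.fn b)

theorem aug_pc [Fintype (G ⧸ N)] (X : G → ℂ) (γ : G ⧸ N) : aug (pc N X γ) = pushQ N X γ := by
  classical
  unfold aug pc pushQ
  refine Finset.sum_congr rfl (fun g _ => ?_)
  show piece N X γ g = _
  by_cases hg : (QuotientGroup.mk g : G ⧸ N) = γ
  · rw [piece_of_eq N X hg, if_pos hg]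
  · rw [piece_of_ne N X hg, if_neg hg]

/-- At the trivial character, `Λ` is the augmentation. -/
theorem lam_one_eq_aug [Fintype N] {a : CAlg G} (ha : SuppCoset N 1 (CAlg.fn a)) :
    lam N (fun _ : N => (1 : ℂ)) a = aug a := by
  unfold lam omega aug
  rw [div_one]
  have e : Helper77.extFun N (Helper77.resFun N (CAlg.fn a)) = CAlg.fn a :=
    Helper77.extFun_resFun_of_support N _ (fun g hg => eq_zero_of_suppCoset_one N ha hg)
  have h := sum_extFun N (Helper77.resFun N (CAlg.fn a)) (fun _ => (1 : ℂ))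
  rw [e] at h
  simp only [mul_one] at h ⊢
  exact h.symm

end Aug

section Principal

/-- If all coset sums of the principal block idempotent of `G` are `1 / |G:N|` (with `|G:N|` prime
to `p`), then `|G:N| · ω_θ(e_{B₀(G)}|_N) = 1` for every `θ` in the principal block of `N`. -/
theorem index_mul_omega_resFun_principalBlock [Fintype N] [Fintype (G ⧸ N)] [Fact p.Prime]
    (hM : IsPModular p M) (hidx : ¬ p ∣ N.index)
    (hpush : ∀ q : G ⧸ N, pushQ N (blockCoeff (principalBlock M G)) q = ((N.index : ℂ))⁻¹)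
    (θ : IrrCharacter N) (hθ : θ ∈ principalBlock M N) :
    (N.index : ℂ) * omega (θ : N → ℂ)
      (Helper77.resFun N (blockCoeff (principalBlock M G))) = 1 := by
  classical
  haveI hMp : M.IsPrime := IsPModular.isPrime hM
  set X : G → ℂ := blockCoeff (principalBlock M G) with hXdef
  have hB : IsPBlock M (principalBlock M G) := Helper78.isPBlock_principalBlock M G
  have hX : IsClassFunction G X := Helper77.blockCoeff_isClassFunction hB
  have hXR : RValued M X := Helper77.blockCoeff_memLocalRing hB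
  have hXX : conv X X = X := Helper77.blockCoeff_conv_self hB
  set θ₁ : IrrCharacter N := Helper79.principalIrr N with hθ₁
  have hsb : SameBlock M (θ₁ : N → ℂ) (θ : N → ℂ) := hθ
  have hm0 : (N.index : ℂ) ≠ 0 := by
    have : N.index ≠ 0 := Subgroup.index_ne_zero_of_finite
    exact_mod_cast this
  have hmR : MemLocalRing M (N.index : ℂ) := Helper77.memLocalRing_natCast M _
  have hmJ : ¬ MemLocalIdeal M (N.index : ℂ) := fun h =>
    hidx ((Helper77.memLocalIdeal_natCast_iff hM _).mp h)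
  have hiR : MemLocalRing M ((N.index : ℂ))⁻¹ := Helper77.memLocalRing_inv M hmR hmJ
  have hiJ : ¬ MemLocalIdeal M ((N.index : ℂ))⁻¹ := Helper77.not_memLocalIdeal_inv M hmR hmJ
  have hunit : ∀ t : G ⧸ N, ¬ MemLocalIdeal M (lam N (θ₁ : N → ℂ) (adDen N X t)) := by
    intro t
    have e : lam N (θ₁ : N → ℂ) (adDen N X t) = ((N.index : ℂ))⁻¹ * ((N.index : ℂ))⁻¹ := by
      show lam N (fun _ : N => (1 : ℂ)) (adDen N X t) = _
      rw [lam_one_eq_aug N (isCommDeg_adDen N hX t).1]
      unfold adDen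
      rw [aug_mul, aug_pc, aug_pc, hpush, hpush]
    rw [e]
    intro h
    rcases Helper77.memLocalIdeal_or_of_mul M hiR hiR h with h | h <;> exact hiJ h
  have hmain := omega_resFun_eq_of_sameBlock N hX hXR hXX hsb hunit
  rw [hmain]
  have e1 : omega (θ₁ : N → ℂ) (Helper77.resFun N X) = ((N.index : ℂ))⁻¹ := by
    rw [← lam_pc_one N X]
    show lam N (fun _ : N => (1 : ℂ)) (pc N X 1) = _
    rw [lam_one_eq_aug N (isCommDeg_pc N hX 1).1, aug_pc, hpush]
  rw [e1, mul_inv_cancel₀ hm0]

end Principal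




end Cfsg.Agent.Helper16
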