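import Cfsg.Agent.S4431
import Cfsg.Agent.S0952
import Cfsg.Agent.Helper16.Osima
import Cfsg.Agent.Helper16.Idempotent
import Cfsg.Agent.Helper16.DefectClasses
import Cfsg.Agent.Helper79.CharComplete
import Cfsg.Agent.Helper77.LocalRing

/-!
# Blau's theorem on height zero characters and induced blocks
-/

set_option autoImplicit false
set_option linter.unusedSectionVars false
set_option linter.unusedVariables false

namespace Cfsg.Agent.Helper16

open Cfsg
open scoped ComplexConjugate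

section Blau

variable {G : Type*} [Group G] [Fintype G] {M : Ideal AlgInt} {p : ℕ}

/-- The `p`-regular cutoff of the conjugate of an irreducible character: an `R`-valued class
function. -/
noncomputable def conjCut (p : ℕ) (ψ : G → ℂ) : G → ℂ := by
  classical
  exact fun h => if p ∣ orderOf h then 0 else conj (ψ h)

theorem isClassFunction_conjCut (p : ℕ) (ψ : IrrCharacter G) :
    IsClassFunction G (conjCut p (ψ : G → ℂ)) := by
  classical
  intro g t
  unfold conjCut
  have h1 : orderOf (t * g * t⁻¹) = orderOf g := by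
    have : t * g * t⁻¹ = MulAut.conj t g := by simp
    rw [this, MulEquiv.orderOf_eq]
  show (if p ∣ orderOf (t * g * t⁻¹) then (0 : ℂ) else conj ((ψ : G → ℂ) (t * g * t⁻¹))) = _
  rw [h1, irr_isClassFunction ψ g t]

theorem memLocalRing_conjCut [M.IsPrime] (p : ℕ) (ψ : IrrCharacter G) (g : G) :
    MemLocalRing M (conjCut p (ψ : G → ℂ) g) := by
  classical
  unfold conjCut
  by_cases h : p ∣ orderOf g
  · rw [if_pos h]; exact memLocalRing_zero
  · rw [if_neg h, ← Helper79.irr_inv]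
    exact memLocalRing_of_isIntegral (Helper78.isIntegral_irrChar_apply ψ.2 _)

/-- `omega ξ (conjCut p ψ)` vanishes when `ξ` and `ψ` lie in different blocks. -/
theorem omega_conjCut_eq_zero [hp : Fact p.Prime] (hM : IsPModular p M) (ξ ψ : IrrCharacter G)
    (h : ¬ SameBlock M (ξ : G → ℂ) (ψ : G → ℂ)) :
    omega (ξ : G → ℂ) (conjCut p (ψ : G → ℂ)) = 0 := by
  classical
  have h1 := Cfsg.Agent.S0952.result p M hM ξ ψ h
  rw [finsum_mem_def, finsum_eq_sum_of_fintype] at h1
  unfold omega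
  have h2 : ∑ x : G, conjCut p (ψ : G → ℂ) x * (ξ : G → ℂ) x = 0 := by
    rw [← h1]
    refine Finset.sum_congr rfl (fun x _ => ?_)
    unfold conjCut
    rw [Set.indicator_apply]
    by_cases hx : p ∣ orderOf x
    · rw [if_pos hx, if_neg (by simpa using hx), zero_mul]
    · rw [if_neg hx, if_pos (by simpa using hx), mul_comm]
  rw [h2, zero_div]

/-- The least exponent equals the exponent of a minimal member. -/
theorem minExp_eq_of_forall_le (p : ℕ) {B : Set (IrrCharacter G)} {ψ : IrrCharacter G}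
    (hψ : ψ ∈ B)
    (hmin : ∀ ξ ∈ B, (charDegree (ψ : G → ℂ)).factorization p ≤
      (charDegree (ξ : G → ℂ)).factorization p) :
    minExp p B = (charDegree (ψ : G → ℂ)).factorization p := by
  apply le_antisymm (minExp_le_of_mem p hψ)
  have hS : ((fun χ : IrrCharacter G => (charDegree (χ : G → ℂ)).factorization p) '' B).Nonempty :=
    ⟨_, ψ, hψ, rfl⟩
  obtain ⟨ξ, hξ, hξeq⟩ := Nat.sInf_mem hS
  unfold minExp
  rw [← hξeq]
  exact hmin ξ hξ

/-- **Blau's theorem.** -/
theorem blau [hp : Fact p.Prime] (hM : IsPModular p M) (H : Subgroup G) [Fintype H]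
    (b : Set (IrrCharacter H)) (B : Set (IrrCharacter G)) (hind : IsInducedBlock M H b B)
    (χ : IrrCharacter G) (hχ : χ ∈ B) (h0 : blockHeight p B (χ : G → ℂ) = 0) :
    ∃ ξ ∈ b, blockHeight p b (ξ : H → ℂ) = 0 ∧ ∃ n : ℕ,
      classInner (fun h : H => (χ : G → ℂ) h) (ξ : H → ℂ) = (n : ℂ) ∧ ¬ p ∣ n := by
  classical
  haveI hMp : M.IsPrime := IsPModular.isPrime hM
  have hbb : IsPBlock M b := hind.1
  obtain ⟨ψ₀, hψ₀⟩ := Helper78.isPBlock_nonempty hMp hbb
  obtain ⟨ψ, hψ, hdef, hmin⟩ := exists_height_zero' p b ⟨ψ₀, hψ₀⟩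
  set ν₀ := (charDegree (ψ : H → ℂ)).factorization p with hν₀
  have hminExp : minExp p b = ν₀ := minExp_eq_of_forall_le p hψ hmin
  have hT := (Cfsg.Agent.S4431.result p M hM H b B hind χ ψ hψ).2 hχ h0
  -- multiplicities
  have hres : IsCharacter H (fun h : H => (χ : G → ℂ) h) :=
    Helper74.isCharacter_restrict H (Helper74.irr_isCharacter χ)
  have hm : ∀ ξ : IrrCharacter H, ∃ m : ℕ,
      classInner (fun h : H => (χ : G → ℂ) h) (ξ : H → ℂ) = (m : ℂ) :=
    fun ξ => Helper15.isCharacter_inner_nat hres (Helper74.irr_isCharacter ξ)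
  choose m hm using hm
  by_contra hcon
  push_neg at hcon
  apply hT
  -- notation
  set a := (Nat.card H).factorization p with ha
  set h' := Nat.card H / p ^ a with hh'
  have hqh : p ^ a * h' = Nat.card H := Nat.ordProj_mul_ordCompl_eq_self (Nat.card H) p
  have hh'p : ¬ p ∣ h' := Nat.not_dvd_ordCompl hp.out Nat.card_pos.ne'
  set s : H → ℂ := conjCut p (ψ : H → ℂ) with hs
  have hscf : IsClassFunction H s := isClassFunction_conjCut p ψ
  have hsR : ∀ h, MemLocalRing M (s h) := memLocalRing_conjCut p ψ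
  set t : IrrCharacter H → ℕ := fun ξ => charDegree (ξ : H → ℂ) / p ^ ν₀ with ht
  have htξ : ∀ ξ ∈ b, charDegree (ξ : H → ℂ) = p ^ ν₀ * t ξ := by
    intro ξ hξ
    have hdvd : p ^ ν₀ ∣ charDegree (ξ : H → ℂ) :=
      (hp.out.pow_dvd_iff_le_factorization (irr_charDegree_ne_zero ξ)).mpr (hmin ξ hξ)
    exact (Nat.mul_div_cancel' hdvd).symm
  have hu : ¬ p ∣ t ψ := Nat.not_dvd_ordCompl hp.out (irr_charDegree_ne_zero ψ)
  -- each `ξ ∈ b` has `p ∣ m ξ * t ξ`
  have hdiv : ∀ ξ ∈ b, p ∣ m ξ * t ξ := by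
    intro ξ hξ
    by_cases hmξ : p ∣ m ξ
    · exact Dvd.dvd.mul_right hmξ _
    · apply Dvd.dvd.mul_left
      by_contra htp
      have hheight : blockHeight p b (ξ : H → ℂ) = 0 := by
        rw [blockHeight_eq_zero_iff p hξ, hminExp]
        have h1 := htξ ξ hξ
        have ht0 : t ξ ≠ 0 := by
          intro h0'
          rw [h0', mul_zero] at h1
          exact irr_charDegree_ne_zero ξ h1
        rw [h1, Nat.factorization_mul (pow_ne_zero _ hp.out.ne_zero) ht0, Finsupp.add_apply,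
          hp.out.factorization_pow, Finsupp.single_eq_same,
          Nat.factorization_eq_zero_of_not_dvd htp, add_zero]
      exact hmξ (hcon ξ hξ hheight (m ξ) (hm ξ))
  -- expansion of the restriction
  have hexp : ∀ h : H, (χ : G → ℂ) h = ∑ ξ : IrrCharacter H, (m ξ : ℂ) * (ξ : H → ℂ) h := by
    intro h
    have := congrFun (Helper79.classFunction_expansion
      (Helper74.isClassFunction_of_isCharacter hres)) h
    simp only [Finset.sum_apply, Pi.smul_apply, smul_eq_mul] at this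
    rw [this]
    refine Finset.sum_congr rfl (fun ξ _ => ?_)
    rw [hm ξ]
  -- the key sum
  have hsum : ∑ h : H, (if p ∣ orderOf h then (0 : ℂ) else
      ((p ^ (Nat.card H).factorization p : ℕ) : ℂ) * (χ : G → ℂ) h) * conj ((ψ : H → ℂ) h) =
      ((p ^ a : ℕ) : ℂ) * ∑ ξ : IrrCharacter H, (m ξ : ℂ) *
        ((ξ : H → ℂ) 1 * omega (ξ : H → ℂ) s) := by
    have h1 : ∀ h : H, (if p ∣ orderOf h then (0 : ℂ) else
        ((p ^ (Nat.card H).factorization p : ℕ) : ℂ) * (χ : G → ℂ) h) * conj ((ψ : H → ℂ) h) =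
        ((p ^ a : ℕ) : ℂ) * ∑ ξ : IrrCharacter H, (m ξ : ℂ) * (s h * (ξ : H → ℂ) h) := by
      intro h
      rw [hs]
      unfold conjCut
      by_cases hh : p ∣ orderOf h
      · simp only [if_pos hh, zero_mul, mul_zero, Finset.sum_const_zero]
      · simp only [if_neg hh]
        rw [hexp h, mul_assoc, Finset.sum_mul]
        congr 1
        refine Finset.sum_congr rfl (fun ξ _ => ?_)
        ring
    rw [Finset.sum_congr rfl (fun h _ => h1 h), ← Finset.mul_sum, Finset.sum_comm]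
    congr 1
    refine Finset.sum_congr rfl (fun ξ _ => ?_)
    rw [← Finset.mul_sum]
    congr 1
    unfold omega
    rw [mul_div_cancel₀ _ (irr_one_ne_zero ξ)]
  -- each term lies in `p ^ ν₀ J`
  have hterm : ∀ ξ : IrrCharacter H, ∃ W : ℂ, MemLocalIdeal M W ∧
      (m ξ : ℂ) * ((ξ : H → ℂ) 1 * omega (ξ : H → ℂ) s) = ((p ^ ν₀ : ℕ) : ℂ) * W := by
    intro ξ
    by_cases hξ : ξ ∈ b
    · refine ⟨((m ξ * t ξ : ℕ) : ℂ) * omega (ξ : H → ℂ) s, ?_, ?_⟩
      · exact memLocalIdeal_mul_right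
          ((Helper77.memLocalIdeal_natCast_iff hM _).mpr (hdiv ξ hξ))
          (omega_memLocalRing ξ hscf hsR)
      · have hd : (ξ : H → ℂ) 1 = ((charDegree (ξ : H → ℂ) : ℕ) : ℂ) :=
          (Helper74.charDegree_cast (Helper74.irr_isCharacter ξ)).symm
        rw [hd, htξ ξ hξ]
        push_cast
        ring
    · refine ⟨0, memLocalIdeal_zero, ?_⟩
      have hnot : ¬ SameBlock M (ξ : H → ℂ) (ψ : H → ℂ) := by
        intro hsb
        apply hξ
        have hbψ : b = blockOf M (ψ : H → ℂ) := Helper78.isPBlock_eq_blockOf_of_mem hMp hbb hψ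
        rw [hbψ]
        exact Helper78.sameBlock_symm hsb
      rw [omega_conjCut_eq_zero hM ξ ψ hnot]
      ring
  choose W hWJ hWeq using hterm
  have hWsum : MemLocalIdeal M (∑ ξ : IrrCharacter H, W ξ) :=
    memLocalIdeal_sum _ _ (fun ξ _ => hWJ ξ)
  -- assemble
  have hψd : (ψ : H → ℂ) 1 = ((p ^ ν₀ : ℕ) : ℂ) * ((t ψ : ℕ) : ℂ) := by
    rw [← Helper74.charDegree_cast (Helper74.irr_isCharacter ψ), htξ ψ hψ]
    push_cast
    ring
  have hfinal : classInner (fun h : H => if p ∣ orderOf h then (0 : ℂ) else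
      ((p ^ (Nat.card H).factorization p : ℕ) : ℂ) * (χ : G → ℂ) h) (ψ : H → ℂ) /
      (ψ : H → ℂ) 1 =
      (((h' * t ψ : ℕ) : ℂ))⁻¹ * ∑ ξ : IrrCharacter H, W ξ := by
    unfold classInner
    rw [hsum, Finset.sum_congr rfl (fun ξ _ => hWeq ξ), ← Finset.mul_sum, hψd, ← hqh]
    have hp0 : ((p ^ ν₀ : ℕ) : ℂ) ≠ 0 := by
      exact_mod_cast (pow_ne_zero ν₀ hp.out.ne_zero)
    have hpa0 : ((p ^ a : ℕ) : ℂ) ≠ 0 := by
      exact_mod_cast (pow_ne_zero a hp.out.ne_zero)
    have hh0 : ((h' : ℕ) : ℂ) ≠ 0 := by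
      have : h' ≠ 0 := fun h => hh'p (h ▸ dvd_zero p)
      exact_mod_cast this
    have ht0 : ((t ψ : ℕ) : ℂ) ≠ 0 := by
      have : t ψ ≠ 0 := fun h => hu (h ▸ dvd_zero p)
      exact_mod_cast this
    have hpc : (p : ℂ) ≠ 0 := by exact_mod_cast hp.out.ne_zero
    push_cast
    field_simp
  rw [hfinal]
  have hndvd : ¬ p ∣ h' * t ψ := by
    intro hd
    rcases (Nat.Prime.dvd_mul hp.out).mp hd with h | h
    · exact hh'p h
    · exact hu h
  exact memLocalIdeal_mul_left (memLocalRing_inv_natCast hM hndvd) hWsum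

end Blau

end Cfsg.Agent.Helper16
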