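import Cfsg.Agent.Helper16.CentralDefectZero
import Cfsg.Agent.Helper77.BlockRank
import Cfsg.Agent.Helper79.BrauerFeit

/-!
# A block with a central defect group has `p`-regular rank one (helper16)

If `D ≤ Z(G)` is a subgroup of order `p ^ d`, `d` the defect of the block `B`, then `B` has at most
`p ^ d` members and `l(B) = 1`.
-/

set_option autoImplicit false
set_option linter.unusedSectionVars false
set_option linter.unusedVariables false

namespace Cfsg.Agent.Helper16

open Cfsg
open scoped ComplexConjugate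

variable {G : Type*} [Group G] [Fintype G] {M : Ideal AlgInt} {p : ℕ}

open Classical in
/-- The `p`-regular norm of an irreducible character is at most `|G| / |D|` for a central
`p`-subgroup `D`. -/
theorem card_mul_sum_pRegular_normSq_le [hp : Fact p.Prime] (D : Subgroup G) (hD : IsPGroup p D)
    (hDZ : D ≤ Subgroup.center G) (χ : IrrCharacter G) :
    (Nat.card D : ℝ) * ∑ x ∈ Finset.univ.filter (fun x : G => ¬ p ∣ orderOf x),
        Complex.normSq ((χ : G → ℂ) x) ≤ (Nat.card G : ℝ) := by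
  haveI : Fintype D := Fintype.ofFinite D
  set Reg : Finset G := Finset.univ.filter (fun x : G => ¬ p ∣ orderOf x) with hReg
  set T : ℝ := ∑ x ∈ Reg, Complex.normSq ((χ : G → ℂ) x) with hT
  set s : Finset (D × G) := (Finset.univ : Finset D) ×ˢ Reg with hs
  set f : D × G → G := fun w => (w.1 : G) * w.2 with hf
  have hinj : ∀ w ∈ s, ∀ w' ∈ s, f w = f w' → w = w' := by
    rintro ⟨z, x⟩ hw ⟨z', x'⟩ hw' hww
    simp only [hs, hReg, Finset.mem_product, Finset.mem_univ, Finset.mem_filter, true_and] at hw hw'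
    simp only [hf] at hww
    have hx' : x' = ((z' : G)⁻¹ * (z : G)) * x := by
      rw [mul_assoc, hww]
      group
    have hu : (z' : G)⁻¹ * (z : G) ∈ D := D.mul_mem (D.inv_mem z'.2) z.2
    have hu1 : (z' : G)⁻¹ * (z : G) = 1 := by
      by_contra hne
      apply hw'
      rw [hx']
      exact Helper77.dvd_orderOf_mul_of_isPGroup hD hu hne
        (Subgroup.mem_center_iff.mp (hDZ hu) x).symm hw
    have hzz : (z : G) = (z' : G) := by
      have := congrArg (fun t => (z' : G) * t) hu1
      simpa using this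
    have hzz' : z = z' := Subtype.ext hzz
    subst hzz'
    rw [hu1, one_mul] at hx'
    rw [hx']
  have hsum_image : ∑ g ∈ s.image f, Complex.normSq ((χ : G → ℂ) g) = (Nat.card D : ℝ) * T := by
    rw [Finset.sum_image hinj, hs, Finset.sum_product]
    have : ∀ z : D, ∑ x ∈ Reg, Complex.normSq ((χ : G → ℂ) (f (z, x))) = T := by
      intro z
      rw [hT]
      refine Finset.sum_congr rfl (fun x _ => ?_)
      exact normSq_central_mul χ (hDZ z.2) x
    rw [Finset.sum_congr rfl (fun z _ => this z), Finset.sum_const, Finset.card_univ,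
      Nat.card_eq_fintype_card, nsmul_eq_mul]
  have htotal := sum_normSq_irr χ
  rw [← hsum_image, ← htotal]
  exact Finset.sum_le_sum_of_subset_of_nonneg (Finset.subset_univ _)
    (fun g _ _ => Complex.normSq_nonneg _)

open Classical in
/-- The rank formula, in real form. -/
theorem card_mul_blockRank_eq_sum (hM : IsPModular p M) {B : Set (IrrCharacter G)}
    (hB : IsPBlock M B) :
    (Nat.card G : ℝ) * (blockRank p B : ℝ) = ∑ χ ∈ (Set.toFinite B).toFinset,
      ∑ x ∈ Finset.univ.filter (fun x : G => ¬ p ∣ orderOf x),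
        Complex.normSq ((χ : G → ℂ) x) := by
  have h := Helper77.blockRank_formula hM hB
  have h2 : ∑ x : G, ∑ᶠ χ ∈ B, pRegularPart p (χ : G → ℂ) x * (χ : G → ℂ) x⁻¹ =
      ((∑ χ ∈ (Set.toFinite B).toFinset,
      ∑ x ∈ Finset.univ.filter (fun x : G => ¬ p ∣ orderOf x),
        Complex.normSq ((χ : G → ℂ) x) : ℝ) : ℂ) := by
    push_cast
    have h3 : ∀ x : G, ∑ᶠ χ ∈ B, pRegularPart p (χ : G → ℂ) x * (χ : G → ℂ) x⁻¹ =
        ∑ χ ∈ (Set.toFinite B).toFinset, pRegularPart p (χ : G → ℂ) x * (χ : G → ℂ) x⁻¹ :=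
      fun x => finsum_mem_eq_finite_toFinset_sum _ (Set.toFinite B)
    rw [Finset.sum_congr rfl (fun x _ => h3 x), Finset.sum_comm]
    refine Finset.sum_congr rfl (fun χ _ => ?_)
    rw [Finset.sum_filter]
    refine Finset.sum_congr rfl (fun x _ => ?_)
    by_cases hx : p ∣ orderOf x
    · rw [Helper77.pRegularPart_of_sing hx, zero_mul, if_neg (not_not.mpr hx)]
    · rw [Helper77.pRegularPart_of_reg hx, if_pos hx, Helper79.irr_inv, Complex.mul_conj]
  rw [h2] at h
  exact_mod_cast h

/-- The `p`-regular rank of a nonempty set of irreducible characters is positive. -/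
theorem blockRank_pos [hp : Fact p.Prime] (hM : IsPModular p M) {B : Set (IrrCharacter G)}
    (hB : IsPBlock M B) : 0 < blockRank p B := by
  classical
  haveI hMp : M.IsPrime := IsPModular.isPrime hM
  obtain ⟨χ₀, hχ₀⟩ := Helper78.isPBlock_nonempty hMp hB
  have h := card_mul_blockRank_eq_sum hM hB
  have hpos : (0 : ℝ) < ∑ χ ∈ (Set.toFinite B).toFinset,
      ∑ x ∈ Finset.univ.filter (fun x : G => ¬ p ∣ orderOf x),
        Complex.normSq ((χ : G → ℂ) x) := by
    refine Finset.sum_pos' (fun χ _ => Finset.sum_nonneg (fun x _ => Complex.normSq_nonneg _))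
      ⟨χ₀, (Set.Finite.mem_toFinset _).mpr hχ₀, ?_⟩
    refine Finset.sum_pos' (fun x _ => Complex.normSq_nonneg _) ⟨1, ?_, ?_⟩
    · rw [Finset.mem_filter]
      refine ⟨Finset.mem_univ _, ?_⟩
      rw [orderOf_one]
      exact hp.out.one_lt.ne' ∘ Nat.dvd_one.mp
    · exact Complex.normSq_pos.mpr (irr_one_ne_zero χ₀)
  rw [← h] at hpos
  have hG : (0 : ℝ) < (Nat.card G : ℝ) := by exact_mod_cast Nat.card_pos
  have h3 : (0 : ℝ) < (blockRank p B : ℝ) := by
    by_contra hneg
    have : (blockRank p B : ℝ) ≤ 0 := not_lt.mp hneg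
    nlinarith
  exact_mod_cast h3

open Classical in
/-- **A block whose defect equals the order of a central subgroup has `p`-regular rank one and at
most `p ^ d` members.** -/
theorem card_le_and_blockRank_le_one_of_central [hp : Fact p.Prime] (hM : IsPModular p M)
    {B : Set (IrrCharacter G)} (hB : IsPBlock M B) (D : Subgroup G)
    (hDZ : D ≤ Subgroup.center G) (hcard : Nat.card D = p ^ blockDefect p B) :
    Nat.card B ≤ p ^ blockDefect p B ∧ blockRank p B ≤ 1 := by
  haveI hMp : M.IsPrime := IsPModular.isPrime hM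
  have hpr : p.Prime := hp.out
  have hD : IsPGroup p D := IsPGroup.of_card hcard
  have hne : B.Nonempty := Helper78.isPBlock_nonempty hMp hB
  obtain ⟨ψ, hψ, hdef, hmin⟩ := exists_height_zero' p B hne
  set a := (Nat.card G).factorization p with ha
  set b := (charDegree (ψ : G → ℂ)).factorization p with hb
  set d := blockDefect p B with hd
  have hba : b ≤ a := factorization_charDegree_le p ψ
  have hmineq : minExp p B = b := by
    refine le_antisymm (minExp_le_of_mem p hψ) ?_
    unfold minExp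
    refine le_csInf (hne.image _) ?_
    rintro _ ⟨ξ, hξ, rfl⟩
    exact hmin ξ hξ
  have hzero : blockHeight p B (ψ : G → ℂ) = 0 := by
    rw [blockHeight_eq_zero_iff p hψ, hmineq]
  -- the degree condition
  have hidx0 : D.index ≠ 0 := Subgroup.index_ne_zero_of_finite
  have hG : a = D.index.factorization p + d := by
    rw [ha, ← Subgroup.index_mul_card D, Nat.factorization_mul hidx0 Nat.card_pos.ne', hcard]
    simp only [Finsupp.coe_add, Pi.add_apply]
    rw [hpr.factorization_pow]
    simp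
  have hdeg : b = D.index.factorization p := by omega
  obtain ⟨hT, -⟩ := central_defect_zero_aux D hD hDZ ψ hdeg
  set Reg : Finset G := Finset.univ.filter (fun x : G => ¬ p ∣ orderOf x) with hReg
  -- the Brauer–Feit integers
  obtain ⟨m, hm1, hm2, hm3⟩ := Helper79.exists_brauerFeit_integers hM hB ψ hψ
  have hab : a - b = d := by omega
  rw [hab] at hm1 hm3
  have hGpos : (0 : ℝ) < (Nat.card G : ℝ) := by exact_mod_cast Nat.card_pos
  have hmψ : m ψ = 1 := by
    have h1 := hm1 ψ
    set T : ℝ := ∑ x ∈ Reg, Complex.normSq ((ψ : G → ℂ) x) with hTdef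
    have h2 : classInner (Cfsg.Agent.S4426.cut p ((p ^ d : ℕ) : ℂ) (ψ : G → ℂ)) (ψ : G → ℂ) =
        ((((Nat.card D : ℝ) * T) / (Nat.card G : ℝ) : ℝ) : ℂ) := by
      unfold classInner Cfsg.Agent.S4426.cut
      have hTsum : ((T : ℝ) : ℂ) = ∑ g : G, (if ¬ p ∣ orderOf g then
          (Complex.normSq ((ψ : G → ℂ) g) : ℂ) else 0) := by
        rw [hTdef, hReg, Finset.sum_filter]
        push_cast
        refine Finset.sum_congr rfl (fun g _ => ?_)
        split_ifs <;> simp
      rw [hcard]
      push_cast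
      rw [hTsum, div_eq_inv_mul, Finset.mul_sum, Finset.mul_sum, Finset.mul_sum]
      refine Finset.sum_congr rfl (fun g _ => ?_)
      by_cases hg : p ∣ orderOf g
      · rw [if_pos hg, if_neg (not_not.mpr hg), zero_mul, mul_zero, mul_zero, mul_zero]
      · rw [if_neg hg, if_pos hg, mul_assoc, Complex.mul_conj]
    rw [h2, hT, div_self hGpos.ne'] at h1
    exact_mod_cast h1.symm
  rw [hmψ, mul_one] at hm3
  set Bf := (Set.toFinite B).toFinset with hBf
  have hle : ∀ ξ ∈ Bf, (1 : ℤ) ≤ m ξ * m ξ := by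
    intro ξ hξ
    have h1 := Helper79.pow_height_le_sq hM hB ψ ξ hψ ((Set.Finite.mem_toFinset _).1 hξ) hzero
      (hm2 ξ)
    have h2 : (1 : ℤ) ≤ ((p ^ (2 * blockHeight p B (ξ : G → ℂ)) : ℕ) : ℤ) := by
      exact_mod_cast Nat.one_le_pow _ _ hpr.pos
    exact h2.trans h1
  have hk : Nat.card B ≤ p ^ d := by
    have h1 : (Bf.card : ℤ) ≤ ((p ^ d : ℕ) : ℤ) := by
      rw [← hm3]
      calc (Bf.card : ℤ) = ∑ ξ ∈ Bf, (1 : ℤ) := by simp
        _ ≤ ∑ ξ ∈ Bf, m ξ * m ξ := Finset.sum_le_sum hle
    have h2 : Nat.card B = Bf.card := by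
      rw [hBf, Nat.card_eq_card_finite_toFinset (Set.toFinite B)]
    rw [h2]
    exact_mod_cast h1
  refine ⟨hk, ?_⟩
  -- the rank
  have hrank := card_mul_blockRank_eq_sum hM hB
  have hDpos : (0 : ℝ) < (Nat.card D : ℝ) := by exact_mod_cast Nat.card_pos
  have hbound : ∀ χ ∈ Bf, ∑ x ∈ Reg, Complex.normSq ((χ : G → ℂ) x) ≤
      (Nat.card G : ℝ) / (Nat.card D : ℝ) := by
    intro χ _
    rw [le_div_iff₀ hDpos, mul_comm]
    exact card_mul_sum_pRegular_normSq_le D hD hDZ χ
  have h1 : (Nat.card G : ℝ) * (blockRank p B : ℝ) ≤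
      (Bf.card : ℝ) * ((Nat.card G : ℝ) / (Nat.card D : ℝ)) := by
    rw [hrank]
    calc ∑ χ ∈ Bf, ∑ x ∈ Reg, Complex.normSq ((χ : G → ℂ) x)
        ≤ ∑ χ ∈ Bf, (Nat.card G : ℝ) / (Nat.card D : ℝ) := Finset.sum_le_sum hbound
      _ = (Bf.card : ℝ) * ((Nat.card G : ℝ) / (Nat.card D : ℝ)) := by
        rw [Finset.sum_const, nsmul_eq_mul]
  have h2 : (Bf.card : ℝ) ≤ (Nat.card D : ℝ) := by
    have h3 : Nat.card B = Bf.card := by
      rw [hBf, Nat.card_eq_card_finite_toFinset (Set.toFinite B)]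
    rw [← h3, hcard]
    exact_mod_cast hk
  have h4 : (Nat.card G : ℝ) * (blockRank p B : ℝ) ≤ (Nat.card G : ℝ) * 1 := by
    refine h1.trans ?_
    rw [mul_one]
    calc (Bf.card : ℝ) * ((Nat.card G : ℝ) / (Nat.card D : ℝ))
        ≤ (Nat.card D : ℝ) * ((Nat.card G : ℝ) / (Nat.card D : ℝ)) :=
          mul_le_mul_of_nonneg_right h2 (div_nonneg hGpos.le hDpos.le)
      _ = (Nat.card G : ℝ) := by field_simp
  have h5 : (blockRank p B : ℝ) ≤ 1 := le_of_mul_le_mul_left h4 hGpos
  exact_mod_cast h5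

end Cfsg.Agent.Helper16
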