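import Cfsg.Agent.Helper16.ContribMajor

/-!
# `k(B) ≤ p ^ d · l(b)` for a major subsection `(y, b)` (helper16)
-/

set_option autoImplicit false
set_option linter.unusedSectionVars false
set_option linter.unusedVariables false

namespace Cfsg.Agent.Helper16

open Cfsg
open scoped ComplexConjugate

variable {G : Type*} [Group G] [Fintype G] {M : Ideal AlgInt} {p : ℕ}

open Classical in
/-- **Brauer**: for a major subsection `(y, b)` of `B`, the sum of `p ^ height` over `B` is at most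
`p ^ d · l(b)`. -/
theorem sum_pow_height_le_pow_mul_blockRank [Fact p.Prime] (hM : IsPModular p M)
    {B : Set (IrrCharacter G)} (hB : IsPBlock M B) (H : Subgroup G) [Fintype H] (yH : H)
    (hyc : yH ∈ Subgroup.center H) (hHy : H = Subgroup.centralizer ({(yH : G)} : Set G))
    (hy : ∃ k : ℕ, orderOf (yH : G) = p ^ k) {b : Set (IrrCharacter H)}
    (hind : IsInducedBlock M H b B) (hdef : blockDefect p b = blockDefect p B) :
    ∑ χ ∈ (Set.toFinite B).toFinset, p ^ blockHeight p B (χ : G → ℂ) ≤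
      p ^ blockDefect p B * blockRank p b := by
  haveI hMp : M.IsPrime := IsPModular.isPrime hM
  have hpr : p.Prime := Fact.out
  have hb : IsPBlock M b := hind.1
  obtain ⟨n, hn⟩ := hy
  set Γ := (Finset.range (p ^ n)).filter (fun γ => Nat.Coprime (p ^ n) γ) with hΓ
  have hΓcard : Γ.card = (p ^ n).totient := (Nat.totient_eq_card_coprime (p ^ n)).symm
  have hφpos : (0 : ℝ) < ((p ^ n).totient : ℝ) := by
    exact_mod_cast Nat.totient_pos.mpr (pow_pos hpr.pos n)
  set Bf := (Set.toFinite B).toFinset with hBf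
  set d := blockDefect p B with hd
  have hfacts : ∀ γ ∈ Γ, H = Subgroup.centralizer ({(yH : G) ^ γ} : Set G) ∧
        ∃ k : ℕ, orderOf ((yH : G) ^ γ) = p ^ k := by
    intro γ hγ
    rw [hΓ, Finset.mem_filter] at hγ
    have hcop : Nat.Coprime γ (orderOf (yH : G)) := by
      rw [hn]
      exact hγ.2.symm
    exact ⟨hHy.trans (centralizer_pow_eq_of_coprime (yH : G) hcop),
      exists_orderOf_pow_eq_prime_pow hpr (yH : G) hn γ⟩
  have hlow : ∀ χ ∈ Bf, ((p ^ n).totient : ℝ) * ((p ^ blockHeight p B (χ : G → ℂ) : ℕ) : ℝ) ≤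
      ∑ γ ∈ Γ, ((p ^ d : ℕ) : ℝ) *
        (contribE p H ((yH : G) ^ γ) b (χ : G → ℂ) (χ : G → ℂ)).re := by
    intro χ hχ
    have h1 := sum_contribE_major_ge hM hB H yH hyc hHy n (dvd_of_eq hn) hind hdef χ
      ((Set.Finite.mem_toFinset _).mp hχ)
    refine h1.trans (le_of_eq ?_)
    refine Finset.sum_congr rfl (fun γ _ => ?_)
    rw [← Complex.ofReal_natCast, Complex.re_ofReal_mul]
  have hnn : ∀ γ ∈ Γ, ∀ χ : IrrCharacter G,
      0 ≤ (contribE p H ((yH : G) ^ γ) b (χ : G → ℂ) (χ : G → ℂ)).re := by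
    intro γ hγ χ
    obtain ⟨hH', hxγ⟩ := hfacts γ hγ
    have hrow := sum_contribE_row' hM ((yH : G) ^ γ) hxγ H hH' hb χ
    rw [← hrow, Complex.re_sum]
    refine Finset.sum_nonneg (fun ψ _ => ?_)
    rw [Complex.mul_conj, Complex.ofReal_re]
    exact Complex.normSq_nonneg _
  have hup : ∀ γ ∈ Γ, ∑ χ ∈ Bf, (contribE p H ((yH : G) ^ γ) b (χ : G → ℂ) (χ : G → ℂ)).re ≤
      (blockRank p b : ℝ) := by
    intro γ hγ
    obtain ⟨hH', hxγ⟩ := hfacts γ hγ
    have hdiag := sum_contribE_diag' hM ((yH : G) ^ γ) hxγ H hH' hb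
    have h2 := congrArg Complex.re hdiag
    rw [Complex.re_sum, Complex.natCast_re] at h2
    rw [← h2]
    exact Finset.sum_le_sum_of_subset_of_nonneg (Finset.subset_univ _)
      (fun χ _ _ => hnn γ hγ χ)
  have hmain : ((p ^ n).totient : ℝ) * ∑ χ ∈ Bf, ((p ^ blockHeight p B (χ : G → ℂ) : ℕ) : ℝ) ≤
      ((p ^ n).totient : ℝ) * (((p ^ d : ℕ) : ℝ) * (blockRank p b : ℝ)) := by
    calc ((p ^ n).totient : ℝ) * ∑ χ ∈ Bf, ((p ^ blockHeight p B (χ : G → ℂ) : ℕ) : ℝ)
        = ∑ χ ∈ Bf, ((p ^ n).totient : ℝ) * ((p ^ blockHeight p B (χ : G → ℂ) : ℕ) : ℝ) :=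
          Finset.mul_sum _ _ _
      _ ≤ ∑ χ ∈ Bf, ∑ γ ∈ Γ, ((p ^ d : ℕ) : ℝ) *
            (contribE p H ((yH : G) ^ γ) b (χ : G → ℂ) (χ : G → ℂ)).re :=
          Finset.sum_le_sum hlow
      _ = ∑ γ ∈ Γ, ((p ^ d : ℕ) : ℝ) *
            ∑ χ ∈ Bf, (contribE p H ((yH : G) ^ γ) b (χ : G → ℂ) (χ : G → ℂ)).re := by
          rw [Finset.sum_comm]
          refine Finset.sum_congr rfl (fun γ _ => ?_)
          rw [Finset.mul_sum]
      _ ≤ ∑ γ ∈ Γ, ((p ^ d : ℕ) : ℝ) * (blockRank p b : ℝ) := by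
          refine Finset.sum_le_sum (fun γ hγ => ?_)
          exact mul_le_mul_of_nonneg_left (hup γ hγ) (Nat.cast_nonneg _)
      _ = ((p ^ n).totient : ℝ) * (((p ^ d : ℕ) : ℝ) * (blockRank p b : ℝ)) := by
          rw [Finset.sum_const, hΓcard, nsmul_eq_mul]
  have h3 := le_of_mul_le_mul_left hmain hφpos
  have h4 : ((∑ χ ∈ Bf, p ^ blockHeight p B (χ : G → ℂ) : ℕ) : ℝ) ≤
      ((p ^ d * blockRank p b : ℕ) : ℝ) := by
    push_cast
    push_cast at h3
    exact h3
  exact_mod_cast h4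

/-- **Brauer**: `k(B) ≤ p ^ d · l(b)` for a major subsection `(y, b)` of `B`. -/
theorem card_block_le_pow_mul_blockRank [Fact p.Prime] (hM : IsPModular p M)
    {B : Set (IrrCharacter G)} (hB : IsPBlock M B) (H : Subgroup G) [Fintype H] (yH : H)
    (hyc : yH ∈ Subgroup.center H) (hHy : H = Subgroup.centralizer ({(yH : G)} : Set G))
    (hy : ∃ k : ℕ, orderOf (yH : G) = p ^ k) {b : Set (IrrCharacter H)}
    (hind : IsInducedBlock M H b B) (hdef : blockDefect p b = blockDefect p B) :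
    Nat.card B ≤ p ^ blockDefect p B * blockRank p b := by
  classical
  have hpr : p.Prime := Fact.out
  refine le_trans ?_ (sum_pow_height_le_pow_mul_blockRank hM hB H yH hyc hHy hy hind hdef)
  rw [Nat.card_eq_card_finite_toFinset (Set.toFinite B), Finset.card_eq_sum_ones]
  exact Finset.sum_le_sum (fun χ _ => Nat.one_le_pow _ _ hpr.pos)

end Cfsg.Agent.Helper16
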