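import Cfsg.Agent.Helper16.HeightBound
import Cfsg.Agent.Helper16.MajorCount
import Cfsg.Agent.Helper16.CentralRank
import Cfsg.Agent.Helper78.InducedTrans

/-!
# Brauer's theorem on blocks with abelian defect group and inertial index one (helper16)

Let `(D, e)` be a maximal Brauer pair of the block `B` with `D` abelian, and suppose that only the
elements of `C_G(D)` fix `(D, e)`.  If some `y ∈ D` has `C_G(y) ≤ C_G(D)` (for instance when `D` is
cyclic), then `l(B) = 1`.
-/

set_option autoImplicit false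
set_option linter.unusedSectionVars false
set_option linter.unusedVariables false

namespace Cfsg.Agent.Helper16

open Cfsg
open Cfsg.Agent.Helper77
open scoped ComplexConjugate

section One

variable {G : Type*} [Group G] [Fintype G] {M : Ideal AlgInt} {p : ℕ}

open Classical in
/-- the subsections of `B` at the identity have total rank `l(B)` -/
theorem sum_blockRank_section_one [Fact p.Prime]
    [∀ x : G, Fintype (Subgroup.centralizer ({x} : Set G))]
    (hM : IsPModular p M) {B : Set (IrrCharacter G)} (hB : IsPBlock M B) :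
    ∑ b ∈ (Helper77.blocksFinset M (Subgroup.centralizer ({(1 : G)} : Set G))).filter
        (fun b => IsInducedBlock M (Subgroup.centralizer ({(1 : G)} : Set G)) b B),
        (blockRank p b : ℂ) = (blockRank p B : ℂ) := by
  haveI hMp : M.IsPrime := IsPModular.isPrime hM
  have hcard : (Nat.card G : ℂ) ≠ 0 := Helper79.card_ne_zero_complex
  have hC : ∀ g : G, g ∈ Subgroup.centralizer ({(1 : G)} : Set G) := by
    intro g
    rw [Subgroup.mem_centralizer_singleton_iff]
    simp
  have hone : ∃ k : ℕ, orderOf (1 : G) = p ^ k := ⟨0, by simp⟩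
  set N : G → ℂ := fun g => ∑ ζ : IrrCharacter G, (if ζ ∈ B then (1 : ℂ) else 0) *
    ((ζ : G → ℂ) g * conj ((ζ : G → ℂ) g)) with hN
  -- the equivalence between the centralizer of `1` and `G`
  let ε : Subgroup.centralizer ({(1 : G)} : Set G) ≃ G :=
    { toFun := fun y => (y : G)
      invFun := fun g => ⟨g, hC g⟩
      left_inv := fun y => rfl
      right_inv := fun g => rfl }
  have hcardC : (Nat.card (Subgroup.centralizer ({(1 : G)} : Set G)) : ℂ) = (Nat.card G : ℂ) := by
    rw [Nat.card_congr ε]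
  -- left hand side
  have hL : ∑ y : Subgroup.centralizer ({(1 : G)} : Set G),
      (if ¬ p ∣ orderOf y then N (1 * (y : G)) else 0) =
      (Nat.card G : ℂ) * (blockRank p B : ℂ) := by
    rw [Helper77.blockRank_formula hM hB]
    refine Fintype.sum_equiv ε _ _ (fun y => ?_)
    show (if ¬ p ∣ orderOf y then N (1 * (y : G)) else 0) =
      ∑ᶠ χ ∈ B, pRegularPart p (χ : G → ℂ) (y : G) * (χ : G → ℂ) (y : G)⁻¹
    rw [one_mul, ← Subgroup.orderOf_coe]
    rw [finsum_mem_def, finsum_eq_sum_of_fintype]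
    by_cases hy : p ∣ orderOf (y : G)
    · rw [if_neg (not_not.mpr hy)]
      symm
      refine Finset.sum_eq_zero (fun χ _ => ?_)
      rw [Set.indicator_apply]
      split_ifs
      · rw [Helper77.pRegularPart_of_sing hy, zero_mul]
      · rfl
    · rw [if_pos hy]
      refine Finset.sum_congr rfl (fun χ _ => ?_)
      rw [Set.indicator_apply]
      by_cases hχ : χ ∈ B
      · rw [if_pos hχ, if_pos hχ, one_mul, Helper77.pRegularPart_of_reg hy, Helper79.irr_inv]
      · rw [if_neg hχ, if_neg hχ, zero_mul]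
  -- right hand side
  have hR : ∑ y : Subgroup.centralizer ({(1 : G)} : Set G),
      (if ¬ p ∣ orderOf y then N (1 * (y : G)) else 0) =
      (Nat.card G : ℂ) *
      ∑ b ∈ (Helper77.blocksFinset M (Subgroup.centralizer ({(1 : G)} : Set G))).filter
        (fun b => IsInducedBlock M (Subgroup.centralizer ({(1 : G)} : Set G)) b B),
        (blockRank p b : ℂ) := by
    have h4 : ∀ y : Subgroup.centralizer ({(1 : G)} : Set G),
        (if ¬ p ∣ orderOf y then N (1 * (y : G)) else 0) =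
        ∑ b ∈ (Helper77.blocksFinset M (Subgroup.centralizer ({(1 : G)} : Set G))).filter
          (fun b => IsInducedBlock M (Subgroup.centralizer ({(1 : G)} : Set G)) b B),
          ∑ᶠ χ ∈ b, pRegularPart p (χ : Subgroup.centralizer ({(1 : G)} : Set G) → ℂ) y *
            (χ : Subgroup.centralizer ({(1 : G)} : Set G) → ℂ) y⁻¹ := by
      intro y
      by_cases hy : p ∣ orderOf y
      · rw [if_neg (not_not.mpr hy)]
        symm
        refine Finset.sum_eq_zero (fun b _ => ?_)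
        simp only [Helper77.pRegularPart_of_sing hy, zero_mul]
        exact finsum_mem_zero (M := ℂ) _
      · rw [if_pos hy]
        show ∑ ζ : IrrCharacter G, (if ζ ∈ B then (1 : ℂ) else 0) *
          ((ζ : G → ℂ) (1 * (y : G)) * conj ((ζ : G → ℂ) (1 * (y : G)))) = _
        rw [block_norm_sum_eq hM 1 hone hB y hy]
        refine Finset.sum_congr rfl (fun b _ => ?_)
        rw [finsum_mem_def, finsum_eq_sum_of_fintype]
        refine Finset.sum_congr rfl (fun χ _ => ?_)
        rw [Set.indicator_apply]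
        by_cases hχ : χ ∈ b
        · rw [if_pos hχ, if_pos hχ, one_mul, Helper77.pRegularPart_of_reg hy, Helper79.irr_inv]
        · rw [if_neg hχ, if_neg hχ, zero_mul]
    rw [Finset.sum_congr rfl (fun y _ => h4 y), Finset.sum_comm, Finset.mul_sum]
    refine Finset.sum_congr rfl (fun b hb => ?_)
    rw [Finset.mem_filter, Helper77.mem_blocksFinset] at hb
    rw [← Helper77.blockRank_formula hM hb.1, hcardC]
  rw [hL] at hR
  exact (mul_left_cancel₀ hcard hR).symm

end One

section Lower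

variable {G : Type*} [Group G] [Fintype G] {M : Ideal AlgInt} {p : ℕ}

open Classical in
/-- **The lower bound** `l(B) + |D| - 1 ≤ k(B)` for an abelian `D` without fusion. -/
theorem blockRank_add_card_sub_one_le [Fact p.Prime] (hM : IsPModular p M)
    (B : Set (IrrCharacter G)) (D : Subgroup G)
    (e : Set (IrrCharacter (Subgroup.centralizer (D : Set G))))
    (hmax : IsMaximalBrauerPair p M B D e) (hab : ∀ x ∈ D, ∀ y ∈ D, x * y = y * x)
    (hinert : ∀ g : G, conjIdx g ⟨D, e⟩ = (⟨D, e⟩ : BrauerPairIdx G) →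
      g ∈ Subgroup.centralizer (D : Set G)) :
    blockRank p B + (Nat.card D - 1) ≤ Nat.card B := by
  haveI hMp : M.IsPrime := IsPModular.isPrime hM
  have hpr : p.Prime := Fact.out
  have hPe : IsBrauerPair p M D e := hmax.1.1
  have hB : IsPBlock M B := hmax.1.2.1
  have hDdef : IsDefectGroup p M B D := isDefectGroup_of_isMaximalBrauerPair hM B D e hmax
  have hcardD := card_defectGroup hM hB D hDdef
  haveI : ∀ S : Subgroup G, Fintype S := fun S => Fintype.ofFinite S
  -- the subpairs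
  have hex : ∀ z : G, ∃ f : Set (IrrCharacter (Subgroup.centralizer
      ((Subgroup.zpowers z : Subgroup G) : Set G))),
      Subgroup.zpowers z ≤ D → IsPBlock M f ∧ SubpairLE p M (Subgroup.zpowers z) f D e := by
    intro z
    by_cases hz : Subgroup.zpowers z ≤ D
    · obtain ⟨f, ⟨hf, hle⟩, -⟩ := existsUnique_subpairLE hM D (Subgroup.zpowers z) e hPe hz
      exact ⟨f, fun _ => ⟨hf, hle⟩⟩
    · exact ⟨∅, fun h => absurd h hz⟩
  choose f hf using hex
  have hzD : ∀ ζ : D, Subgroup.zpowers ((ζ : G)) ≤ D := by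
    intro ζ
    rw [Subgroup.zpowers_le]
    exact ζ.2
  have hDz : ∀ ζ : D,
      D ≤ Subgroup.centralizer ((Subgroup.zpowers ((ζ : G)) : Subgroup G) : Set G) := by
    intro ζ x hx
    rw [centralizer_zpowers_eq, Subgroup.mem_centralizer_singleton_iff]
    exact hab x hx _ ζ.2
  have hzp : ∀ ζ : D, ∃ k : ℕ, orderOf ((ζ : G)) = p ^ k := by
    intro ζ
    have h1 := orderOf_dvd_natCard ζ
    rw [hcardD, ← Subgroup.orderOf_coe] at h1
    obtain ⟨k, -, hk⟩ := (Nat.dvd_prime_pow hpr).1 h1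
    exact ⟨k, hk⟩
  -- representatives
  obtain ⟨X, hX, hXrep⟩ := exists_pSection_reps (G := G) p
  have hex : ∀ ζ : D, ∃ x : G, x ∈ X ∧ IsConj ((ζ : G)) x :=
    fun ζ => (hXrep _ (hzp ζ)).exists
  choose xr hxr using hex
  have hexg : ∀ ζ : D, ∃ g : G, g * (ζ : G) * g⁻¹ = xr ζ :=
    fun ζ => isConj_iff.mp (hxr ζ).2
  choose gg hgg using hexg
  set tb : (x₀ : G) → D → Set (IrrCharacter (Subgroup.centralizer ({x₀} : Set G))) :=
    fun x₀ ζ => transBlock ((ζ : G)) x₀ (gg ζ) (f (ζ : G)) with htb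
  set filt : (x₀ : G) → Finset (Set (IrrCharacter (Subgroup.centralizer ({x₀} : Set G)))) :=
    fun x₀ => (Helper77.blocksFinset M (Subgroup.centralizer ({x₀} : Set G))).filter
        (fun b => IsInducedBlock M (Subgroup.centralizer ({x₀} : Set G)) b B) with hfilt
  -- membership
  have hmem : ∀ x₀ : G, ∀ ζ : D, xr ζ = x₀ → tb x₀ ζ ∈ filt x₀ := by
    intro x₀ ζ hζ
    have hg₀ : gg ζ * (ζ : G) * (gg ζ)⁻¹ = x₀ := by rw [hgg ζ, hζ]
    obtain ⟨hfb, hle⟩ := hf _ (hzD ζ)
    obtain ⟨hindf, -⟩ := blockDefect_eq_of_central_subpair hM B D _ e (f (ζ : G)) hmax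
      (hzD ζ) (hDz ζ) hfb hle
    rw [hfilt, Finset.mem_filter, Helper77.mem_blocksFinset]
    refine ⟨isPBlock_transBlock _ _ _ hg₀ hfb, ?_⟩
    show IsInducedBlock M _ (transBlock ((ζ : G)) x₀ (gg ζ) (f (ζ : G))) B
    rw [transBlock_eq _ _ _ hg₀]
    exact Helper78.isInducedBlock_conj_transport (zEquiv _ _ _ hg₀) (gg ζ)
      (coe_zEquiv _ _ _ hg₀) hindf
  -- injectivity
  have hinj : ∀ x₀ : G, ∀ ζ ζ' : D, xr ζ = x₀ → xr ζ' = x₀ → tb x₀ ζ = tb x₀ ζ' → ζ = ζ' := by
    intro x₀ ζ₀ ζ hx₀' hxζ heq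
    have hg₀ : gg ζ₀ * (ζ₀ : G) * (gg ζ₀)⁻¹ = x₀ := by rw [hgg ζ₀, hx₀']
    have hgζ : gg ζ * (ζ : G) * (gg ζ)⁻¹ = x₀ := by rw [hgg ζ, hxζ]
    have hconj := conjIdx_eq_of_transBlock_eq _ _ x₀ (gg ζ₀) (gg ζ) hg₀ hgζ _ _ heq
    obtain ⟨t₁, ht₁, hfix⟩ := exists_stabilizer_conj hM B D e hmax _ _ _ _ (hDz ζ₀) (hzD ζ)
      (hDz ζ) (hf _ (hzD ζ)).1 (hf _ (hzD ζ₀)).2 (hf _ (hzD ζ)).2 _ hconj
    have hcent := hinert _ hfix
    have ht₁c : t₁ * (ζ : G) = (ζ : G) * t₁ := by
      have h1 : t₁ ∈ Subgroup.centralizer ({(ζ : G)} : Set G) := by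
        rw [← centralizer_zpowers_eq]
        exact ht₁
      rw [Subgroup.mem_centralizer_singleton_iff] at h1
      exact h1
    have hz : (ζ : G) = (gg ζ)⁻¹ * x₀ * gg ζ := by rw [← hgζ]; group
    have hz₀ : (gg ζ)⁻¹ * gg ζ₀ * (ζ₀ : G) * ((gg ζ)⁻¹ * gg ζ₀)⁻¹ = (ζ : G) := by
      rw [hz, ← hg₀]
      group
    have hc₀ : (t₁ * ((gg ζ)⁻¹ * gg ζ₀)) * (ζ₀ : G) = (ζ₀ : G) * (t₁ * ((gg ζ)⁻¹ * gg ζ₀)) :=
      (Subgroup.mem_centralizer_iff.mp hcent _ ζ₀.2).symm
    apply Subtype.ext
    calc (ζ₀ : G) = (t₁ * ((gg ζ)⁻¹ * gg ζ₀)) * (ζ₀ : G) * (t₁ * ((gg ζ)⁻¹ * gg ζ₀))⁻¹ := by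
          rw [hc₀]; group
      _ = t₁ * ((gg ζ)⁻¹ * gg ζ₀ * (ζ₀ : G) * ((gg ζ)⁻¹ * gg ζ₀)⁻¹) * t₁⁻¹ := by group
      _ = t₁ * (ζ : G) * t₁⁻¹ := by rw [hz₀]
      _ = (ζ : G) := by rw [ht₁c]; group
  -- the fibres
  have hfiber : ∀ x₀ : G, (Finset.univ.filter (fun ζ : D => xr ζ = x₀)).card ≤ (filt x₀).card := by
    intro x₀
    refine Finset.card_le_card_of_injOn (tb x₀) ?_ ?_
    · intro ζ hζ
      exact hmem x₀ ζ (Finset.mem_filter.mp hζ).2
    · intro ζ hζ ζ' hζ' heq
      exact hinj x₀ ζ ζ' (Finset.mem_filter.mp hζ).2 (Finset.mem_filter.mp hζ').2 heq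
  -- the ranks
  set S : G → ℕ := fun x₀ => ∑ b ∈ filt x₀, blockRank p b with hS
  have hSge : ∀ x₀ : G, (filt x₀).card ≤ S x₀ := by
    intro x₀
    rw [hS, Finset.card_eq_sum_ones]
    refine Finset.sum_le_sum (fun b hb => ?_)
    rw [hfilt, Finset.mem_filter, Helper77.mem_blocksFinset] at hb
    exact blockRank_pos hM hb.1
  have hk : Nat.card B = ∑ x₀ ∈ X, S x₀ := by
    have h1 := card_block_eq_sum_blockRank hM hB X hX hXrep
    have h2 : ((Nat.card B : ℕ) : ℂ) = ((∑ x₀ ∈ X, S x₀ : ℕ) : ℂ) := by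
      rw [h1, Nat.cast_sum]
      refine Finset.sum_congr rfl (fun x _ => ?_)
      show _ = ((∑ b ∈ filt x, blockRank p b : ℕ) : ℂ)
      rw [Nat.cast_sum]
    exact_mod_cast h2
  -- the identity section
  have h1X : (1 : G) ∈ X := by
    obtain ⟨x, ⟨hx, hconj⟩, -⟩ := hXrep 1 ⟨0, by simp⟩
    have : x = 1 := by
      obtain ⟨c, hc⟩ := isConj_iff.mp hconj
      rw [← hc]
      group
    rwa [this] at hx
  have hS1 : S 1 = blockRank p B := by
    have h1 := sum_blockRank_section_one hM hB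
    have h2 : ((S 1 : ℕ) : ℂ) = ((blockRank p B : ℕ) : ℂ) := by
      rw [← h1]
      show ((∑ b ∈ filt 1, blockRank p b : ℕ) : ℂ) = _
      rw [Nat.cast_sum]
    exact_mod_cast h2
  have hfib1 : (Finset.univ.filter (fun ζ : D => xr ζ = 1)).card ≤ 1 := by
    rw [Finset.card_le_one]
    intro ζ hζ ζ' hζ'
    have hone : ∀ ξ : D, xr ξ = 1 → ξ = 1 := by
      intro ξ hξ
      have h1 := hgg ξ
      rw [hξ] at h1
      apply Subtype.ext
      show (ξ : G) = 1
      calc (ξ : G) = (gg ξ)⁻¹ * (gg ξ * (ξ : G) * (gg ξ)⁻¹) * gg ξ := by group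
        _ = 1 := by rw [h1]; group
    rw [hone ζ (Finset.mem_filter.mp hζ).2, hone ζ' (Finset.mem_filter.mp hζ').2]
  -- counting
  have hDsum : Nat.card D = ∑ x₀ ∈ X, (Finset.univ.filter (fun ζ : D => xr ζ = x₀)).card := by
    rw [Nat.card_eq_fintype_card, ← Finset.card_univ]
    exact Finset.card_eq_sum_card_fiberwise (fun ζ _ => (hxr ζ).1)
  rw [hk, hDsum, ← Finset.add_sum_erase X _ h1X, ← Finset.add_sum_erase X S h1X, hS1]
  have hrest : ∑ x₀ ∈ X.erase 1, (Finset.univ.filter (fun ζ : D => xr ζ = x₀)).card ≤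
      ∑ x₀ ∈ X.erase 1, S x₀ :=
    Finset.sum_le_sum (fun x₀ _ => (hfiber x₀).trans (hSge x₀))
  omega

end Lower

section Main

variable {G : Type*} [Group G] [Fintype G] {M : Ideal AlgInt} {p : ℕ}

/-- **Brauer**: a block with an abelian defect group `D`, inertial index one and an element
`y ∈ D` with `C_G(y) ≤ C_G(D)` has `p`-regular rank one. -/
theorem blockRank_eq_one_of_abelian_inertial_one [Fact p.Prime] (hM : IsPModular p M)
    (B : Set (IrrCharacter G)) (D : Subgroup G)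
    (e : Set (IrrCharacter (Subgroup.centralizer (D : Set G))))
    (hmax : IsMaximalBrauerPair p M B D e) (hab : ∀ x ∈ D, ∀ y ∈ D, x * y = y * x)
    (hinert : ∀ g : G, conjIdx g ⟨D, e⟩ = (⟨D, e⟩ : BrauerPairIdx G) →
      g ∈ Subgroup.centralizer (D : Set G))
    (y : G) (hyD : y ∈ D)
    (hy : Subgroup.centralizer ({y} : Set G) ≤ Subgroup.centralizer (D : Set G)) :
    blockRank p B = 1 := by
  classical
  haveI hMp : M.IsPrime := IsPModular.isPrime hM
  have hpr : p.Prime := Fact.out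
  have hPe : IsBrauerPair p M D e := hmax.1.1
  have hB : IsPBlock M B := hmax.1.2.1
  have hDdef : IsDefectGroup p M B D := isDefectGroup_of_isMaximalBrauerPair hM B D e hmax
  have hcardD := card_defectGroup hM hB D hDdef
  haveI : ∀ S : Subgroup G, Fintype S := fun S => Fintype.ofFinite S
  have hzD : Subgroup.zpowers y ≤ D := by
    rw [Subgroup.zpowers_le]
    exact hyD
  have hDz : D ≤ Subgroup.centralizer ((Subgroup.zpowers y : Subgroup G) : Set G) := by
    intro x hx
    rw [centralizer_zpowers_eq, Subgroup.mem_centralizer_singleton_iff]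
    exact hab x hx y hyD
  obtain ⟨fy, ⟨hfy, hley⟩, -⟩ := existsUnique_subpairLE hM D (Subgroup.zpowers y) e hPe hzD
  obtain ⟨hindf, hdef⟩ := blockDefect_eq_of_central_subpair hM B D _ e fy hmax hzD hDz hfy hley
  have hzmem : y ∈ Subgroup.centralizer ((Subgroup.zpowers y : Subgroup G) : Set G) := by
    rw [centralizer_zpowers_eq, Subgroup.mem_centralizer_singleton_iff]
  have hyc : (⟨y, hzmem⟩ : Subgroup.centralizer
      ((Subgroup.zpowers y : Subgroup G) : Set G)) ∈ Subgroup.center _ := by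
    rw [Subgroup.mem_center_iff]
    intro c
    apply Subtype.ext
    have hc : (c : G) ∈ Subgroup.centralizer ({y} : Set G) := by
      rw [← centralizer_zpowers_eq]
      exact c.2
    rw [Subgroup.mem_centralizer_singleton_iff] at hc
    exact hc
  have hyord : ∃ k : ℕ, orderOf y = p ^ k := by
    have h1 := orderOf_dvd_natCard (⟨y, hyD⟩ : D)
    rw [hcardD, ← Subgroup.orderOf_coe] at h1
    obtain ⟨k, -, hk⟩ := (Nat.dvd_prime_pow hpr).1 h1
    exact ⟨k, hk⟩
  have hup := card_block_le_pow_mul_blockRank hM hB _ ⟨y, hzmem⟩ hyc (centralizer_zpowers_eq y)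
    hyord hindf hdef
  -- the central defect group
  have hZc : D.subgroupOf (Subgroup.centralizer ((Subgroup.zpowers y : Subgroup G) : Set G)) ≤
      Subgroup.center _ := by
    intro z hz
    rw [Subgroup.mem_center_iff]
    intro k
    apply Subtype.ext
    have hk : (k : G) ∈ Subgroup.centralizer (D : Set G) := by
      apply hy
      rw [← centralizer_zpowers_eq]
      exact k.2
    exact (Subgroup.mem_centralizer_iff.mp hk _ (Subgroup.mem_subgroupOf.mp hz)).symm
  have hcardZ : Nat.card (D.subgroupOf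
      (Subgroup.centralizer ((Subgroup.zpowers y : Subgroup G) : Set G))) =
      p ^ blockDefect p fy := by
    rw [card_subgroupOf_of_le hDz, hdef]
    exact hcardD
  obtain ⟨-, hlfy⟩ := card_le_and_blockRank_le_one_of_central hM hfy _ hZc hcardZ
  have hlow := blockRank_add_card_sub_one_le hM B D e hmax hab hinert
  have hpos := blockRank_pos hM hB
  rw [hcardD] at hlow
  have h1 : p ^ blockDefect p B * blockRank p fy ≤ p ^ blockDefect p B := by
    calc p ^ blockDefect p B * blockRank p fy ≤ p ^ blockDefect p B * 1 :=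
          Nat.mul_le_mul_left _ hlfy
      _ = p ^ blockDefect p B := mul_one _
  have h2 : 1 ≤ p ^ blockDefect p B := Nat.one_le_pow _ _ hpr.pos
  omega

end Main

end Cfsg.Agent.Helper16
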