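import Cfsg.Agent.Helper16.NilProduct

/-!
# Elements killed by the Brauer map

(helper16.)  `VanOn M P f`: the function `f` has values in the local ideal on `C_G(P)` (the Brauer
map at `P` kills `f` modulo the local ideal).  On `P`-invariant functions with values in the local
ring this is a two-sided ideal.  If the Brauer map at `P` does not kill the idempotent of the block
`b`, then every central element killed by it has central character values on `b` in the local
ideal (`omega_memLocalIdeal_of_vanOn`).
-/

set_option autoImplicit false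
set_option linter.unusedSectionVars false

namespace Cfsg.Agent.Helper16

open Cfsg

variable {G : Type*} [Group G] [Fintype G] {M : Ideal AlgInt} {p : ℕ}

/-- `f` has values in the local ideal on the centralizer of `P`. -/
def VanOn (M : Ideal AlgInt) (P : Subgroup G) (f : G → ℂ) : Prop :=
  ∀ c ∈ Subgroup.centralizer (P : Set G), MemLocalIdeal M (f c)

theorem vanOn_of_jValued {P : Subgroup G} {f : G → ℂ} (h : Helper78.JValued M f) :
    VanOn M P f := fun c _ => h c

theorem vanOn_sub [M.IsPrime] {P : Subgroup G} {f g : G → ℂ} (hf : VanOn M P f)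
    (hg : VanOn M P g) : VanOn M P (f - g) :=
  fun c hc => memLocalIdeal_sub (hf c hc) (hg c hc)

theorem vanOn_add [M.IsPrime] {P : Subgroup G} {f g : G → ℂ} (hf : VanOn M P f)
    (hg : VanOn M P g) : VanOn M P (f + g) :=
  fun c hc => memLocalIdeal_add (hf c hc) (hg c hc)

theorem vanOn_smul [M.IsPrime] {P : Subgroup G} {f : G → ℂ} {a : ℂ} (ha : MemLocalRing M a)
    (hf : VanOn M P f) : VanOn M P (a • f) :=
  fun c hc => memLocalIdeal_mul_left ha (hf c hc)

/-- The functions killed by the Brauer map form a left ideal. -/
theorem vanOn_conv_left [Fact p.Prime] (hM : IsPModular p M) {P : Subgroup G}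
    (hP : IsPGroup p P) {β γ : G → ℂ} (hβR : RValued M β) (hγR : RValued M γ)
    (hβP : Helper77.InvUnder (P : Set G) β) (hγP : Helper77.InvUnder (P : Set G) γ)
    (hβ : VanOn M P β) : VanOn M P (conv β γ) := by
  classical
  haveI hMp : M.IsPrime := IsPModular.isPrime hM
  intro c hc
  haveI : Fintype (Subgroup.centralizer (P : Set G)) := Fintype.ofFinite _
  have h1 := Helper77.conv_sub_conv_res_memLocalIdeal hM P hP _ rfl β γ hβR hγR hβP hγP ⟨c, hc⟩
  have h2 : MemLocalIdeal M (conv (Helper77.resFun (Subgroup.centralizer (P : Set G)) β)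
      (Helper77.resFun (Subgroup.centralizer (P : Set G)) γ) ⟨c, hc⟩) :=
    Helper77.memLocalIdeal_conv_left
      (fun x : Subgroup.centralizer (P : Set G) => hβ (x : G) x.2)
      (fun x : Subgroup.centralizer (P : Set G) => hγR (x : G)) _
  have := memLocalIdeal_add h1 h2
  rwa [sub_add_cancel] at this

/-- The functions killed by the Brauer map form a right ideal. -/
theorem vanOn_conv_right [Fact p.Prime] (hM : IsPModular p M) {P : Subgroup G}
    (hP : IsPGroup p P) {β γ : G → ℂ} (hβR : RValued M β) (hγR : RValued M γ)
    (hβP : Helper77.InvUnder (P : Set G) β) (hγP : Helper77.InvUnder (P : Set G) γ)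
    (hγ : VanOn M P γ) : VanOn M P (conv β γ) := by
  classical
  haveI hMp : M.IsPrime := IsPModular.isPrime hM
  intro c hc
  haveI : Fintype (Subgroup.centralizer (P : Set G)) := Fintype.ofFinite _
  have h1 := Helper77.conv_sub_conv_res_memLocalIdeal hM P hP _ rfl β γ hβR hγR hβP hγP ⟨c, hc⟩
  have h2 : MemLocalIdeal M (conv (Helper77.resFun (Subgroup.centralizer (P : Set G)) β)
      (Helper77.resFun (Subgroup.centralizer (P : Set G)) γ) ⟨c, hc⟩) :=
    jValued_conv_right' (M := M) (fun x : Subgroup.centralizer (P : Set G) => hβR (x : G))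
      (fun x : Subgroup.centralizer (P : Set G) => hγ (x : G) x.2) _
  have := memLocalIdeal_add h1 h2
  rwa [sub_add_cancel] at this

/-- Products of `P`-invariant functions one of which (the first) is killed by the Brauer map. -/
theorem vanOn_convList_cons [Fact p.Prime] (hM : IsPModular p M) {P : Subgroup G}
    (hP : IsPGroup p P) {a : G → ℂ} {l : List (G → ℂ)} (haR : RValued M a)
    (haP : Helper77.InvUnder (P : Set G) a) (ha : VanOn M P a)
    (hlR : ∀ d ∈ l, RValued M d) (hlP : ∀ d ∈ l, Helper77.InvUnder (P : Set G) d) :
    VanOn M P (convList (a :: l)) := by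
  haveI hMp : M.IsPrime := IsPModular.isPrime hM
  rw [convList_cons]
  exact vanOn_conv_left hM hP haR (rValued_convList hlR) haP (invUnder_convList hlP) ha

/-- **Elements killed by a Brauer map that does not kill the block idempotent lie in the kernel of
the central character of the block.** -/
theorem omega_memLocalIdeal_of_vanOn [Fact p.Prime] (hM : IsPModular p M)
    {b : Set (IrrCharacter G)} (hb : IsPBlock M b) (P : Subgroup G) (hP : IsPGroup p P)
    (x : G) (hxP : x ∈ Subgroup.centralizer (P : Set G))
    (hx : ¬ MemLocalIdeal M (blockCoeff b x))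
    (y : G → ℂ) (hy : IsClassFunction G y) (hyR : RValued M y) (hyV : VanOn M P y)
    (φ : IrrCharacter G) (hφ : φ ∈ b) : MemLocalIdeal M (omega (φ : G → ℂ) y) := by
  classical
  haveI hMp : M.IsPrime := IsPModular.isPrime hM
  by_contra hlam
  set lam : ℂ := omega (φ : G → ℂ) y with hlamdef
  have hlamR : MemLocalRing M lam := omega_memLocalRing φ hy hyR
  have hlam0 : lam ≠ 0 := fun h => hlam (by rw [h]; exact memLocalIdeal_zero)
  have hinvR : MemLocalRing M lam⁻¹ := memLocalRing_inv hlamR hlam
  set e : G → ℂ := blockCoeff b with hedef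
  have hecl : IsClassFunction G e := Helper77.blockCoeff_isClassFunction hb
  have heR : RValued M e := Helper77.blockCoeff_memLocalRing hb
  have hee : conv e e = e := Helper77.blockCoeff_conv_self hb
  set z : G → ℂ := lam⁻¹ • conv y e with hzdef
  have hzcl : IsClassFunction G z := isClassFunction_smul _ (isClassFunction_conv hy hecl)
  have hzR : RValued M z := fun g => memLocalRing_mul hinvR (rValued_conv hyR heR g)
  have hinvP : ∀ {f : G → ℂ}, IsClassFunction G f → Helper77.InvUnder (P : Set G) f :=
    fun hf => Helper77.invUnder_of_isClassFunction hf _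
  have hzV : VanOn M P z :=
    vanOn_smul hinvR (vanOn_conv_left hM hP hyR heR (hinvP hy) (hinvP hecl) hyV)
  set w : G → ℂ := e - z with hwdef
  have hwcl : IsClassFunction G w := isClassFunction_sub hecl hzcl
  have hwR : RValued M w := fun g => memLocalRing_sub (heR g) (hzR g)
  -- all central character values of `w` lie in the local ideal
  have hwI : ∀ ψ : IrrCharacter G, MemLocalIdeal M (omega (ψ : G → ℂ) w) := by
    intro ψ
    rw [hwdef, omega_sub, hzdef, omega_smul, irr_omega_conv ψ hy hecl, hedef,
      Helper77.omega_blockCoeff hb ψ]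
    by_cases hψ : ψ ∈ b
    · rw [if_pos hψ, mul_one]
      have hsame : SameBlock M (φ : G → ℂ) (ψ : G → ℂ) :=
        Helper78.sameBlock_of_mem_of_mem hMp hb hφ hψ
      have h1 := omega_sub_memLocalIdeal hsame hy hyR
      have h2 : (1 : ℂ) - lam⁻¹ * omega (ψ : G → ℂ) y =
          lam⁻¹ * (omega (φ : G → ℂ) y - omega (ψ : G → ℂ) y) := by
        rw [mul_sub, ← hlamdef, inv_mul_cancel₀ hlam0]
      rw [h2]
      exact memLocalIdeal_mul_left hinvR h1
    · rw [if_neg hψ, mul_zero, mul_zero, sub_zero]
      exact memLocalIdeal_zero
  obtain ⟨k, hk⟩ := Helper77.exists_convPow_memLocalIdeal hwcl hwR hwI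
  have hk1 : Helper78.JValued M (Helper77.convPow w (k + 1)) := by
    rw [Helper77.convPow_succ]
    exact jValued_conv_left' hk hwR
  -- `convPow w n - e` is killed by the Brauer map for `n ≥ 1`
  have hpow : ∀ n : ℕ, VanOn M P (Helper77.convPow w (n + 1) - e) := by
    intro n
    induction n with
    | zero =>
      rw [Helper77.convPow_succ, Helper77.convPow_zero, Helper78.conv_deltaOne_left]
      have : w - e = (-1 : ℂ) • z := by
        rw [hwdef]; funext g; simp
      rw [this]
      exact vanOn_smul (memLocalRing_neg memLocalRing_one) hzV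
    | succ n ih =>
      rw [Helper77.convPow_succ]
      have hsplit : conv (Helper77.convPow w (n + 1)) w - e =
          conv (Helper77.convPow w (n + 1) - e) w - conv e z := by
        rw [Helper78.conv_sub_left]
        have : conv e w = e - conv e z := by
          rw [hwdef, conv_sub_right', hee]
        rw [this]
        abel
      rw [hsplit]
      have hpR : RValued M (Helper77.convPow w (n + 1)) := Helper77.memLocalRing_convPow hwR _
      have hpcl : IsClassFunction G (Helper77.convPow w (n + 1)) :=
        Helper77.isClassFunction_convPow hwcl _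
      refine vanOn_sub ?_ ?_
      · exact vanOn_conv_left hM hP (fun g => memLocalRing_sub (hpR g) (heR g)) hwR
          (hinvP (isClassFunction_sub hpcl hecl)) (hinvP hwcl) ih
      · exact vanOn_conv_right hM hP heR hzR (hinvP hecl) (hinvP hzcl) hzV
  have h1 := hpow k x hxP
  have h2 := hk1 x
  apply hx
  have h3 := memLocalIdeal_sub h2 h1
  have h4 : Helper77.convPow w (k + 1) x - (Helper77.convPow w (k + 1) - e) x = e x := by
    simp
  rw [h4] at h3
  exact h3

end Cfsg.Agent.Helper16
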