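import Cfsg.Agent.Helper16.Covering3
import Cfsg.Agent.Helper16.Quotient
import Cfsg.Agent.Helper16.Defect
import Cfsg.Agent.Helper79.Linear

/-!
# Central products `G = U₁ U₂`, `[U₁, U₂] = 1`, and central characters
-/

set_option autoImplicit false
set_option linter.unusedSectionVars false
set_option linter.unusedVariables false

namespace Cfsg.Agent.Helper16

open Cfsg

universe u

section PowerTrick

variable {G : Type*} [Group G] [Finite G]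

theorem not_dvd_orderOf_pow_of_dvd {p : ℕ} (hp : p.Prime) (u : G) {k a : ℕ}
    (ha : (orderOf u).factorization p ≤ a) (hk : p ^ a ∣ k) : ¬ p ∣ orderOf (u ^ k) := by
  have hN0 : orderOf u ≠ 0 := (orderOf_pos u).ne'
  intro hdvd
  have h1 : (u ^ k) ^ (ordCompl[p] (orderOf u)) = 1 := by
    rw [← pow_mul]
    apply orderOf_dvd_iff_pow_eq_one.mp
    have hdecomp : p ^ (orderOf u).factorization p * ordCompl[p] (orderOf u) = orderOf u :=
      Nat.ordProj_mul_ordCompl_eq_self _ _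
    conv_lhs => rw [← hdecomp]
    exact mul_dvd_mul ((pow_dvd_pow p ha).trans hk) dvd_rfl
  have h2 : orderOf (u ^ k) ∣ ordCompl[p] (orderOf u) := orderOf_dvd_of_pow_eq_one h1
  exact Nat.not_dvd_ordCompl hp hN0 (hdvd.trans h2)

theorem classInd_of_isConj' {H : Type*} [Group H] {g x : H} (h : IsConj g x) :
    classInd g x = 1 := by
  classical
  unfold classInd
  rw [if_pos h]

theorem classInd_of_not_isConj' {H : Type*} [Group H] {g x : H} (h : ¬ IsConj g x) :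
    classInd g x = 0 := by
  classical
  unfold classInd
  rw [if_neg h]

/-- A `p`-regular product of two commuting elements is the product of `p`-regular powers. -/
theorem exists_pow_pRegular_of_commute {p : ℕ} (hp : p.Prime) {u₁ u₂ : G} (hc : Commute u₁ u₂)
    (hreg : ¬ p ∣ orderOf (u₁ * u₂)) :
    ∃ k : ℕ, u₁ * u₂ = u₁ ^ k * u₂ ^ k ∧ ¬ p ∣ orderOf (u₁ ^ k) ∧ ¬ p ∣ orderOf (u₂ ^ k) := by
  have hn0 : 0 < orderOf (u₁ * u₂) := orderOf_pos _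
  have hcop : Nat.Coprime
      (p ^ ((orderOf u₁).factorization p + (orderOf u₂).factorization p))
      (orderOf (u₁ * u₂)) :=
    Nat.Coprime.pow_left _ ((Nat.Prime.coprime_iff_not_dvd hp).mpr hreg)
  obtain ⟨k, hk1, hk2⟩ : ∃ k : ℕ, (u₁ * u₂) ^ k = u₁ * u₂ ∧
      p ^ ((orderOf u₁).factorization p + (orderOf u₂).factorization p) ∣ k := by
    by_cases h1 : orderOf (u₁ * u₂) = 1
    · refine ⟨p ^ ((orderOf u₁).factorization p + (orderOf u₂).factorization p), ?_, dvd_rfl⟩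
      rw [orderOf_eq_one_iff.mp h1, one_pow]
    · have h1' : 1 < orderOf (u₁ * u₂) := by omega
      obtain ⟨m, -, hm⟩ := Nat.exists_mul_mod_eq_one_of_coprime hcop h1'
      refine ⟨p ^ ((orderOf u₁).factorization p + (orderOf u₂).factorization p) * m, ?_,
        dvd_mul_right _ _⟩
      rw [← pow_mod_orderOf, hm, pow_one]
  refine ⟨k, ?_, ?_, ?_⟩
  · rw [← hc.mul_pow, hk1]
  · exact not_dvd_orderOf_pow_of_dvd hp u₁ (Nat.le_add_right _ _) hk2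
  · exact not_dvd_orderOf_pow_of_dvd hp u₂ (Nat.le_add_left _ _) hk2

end PowerTrick

section CentralProduct

variable {G : Type u} [Group G] (U₁ U₂ : Subgroup G)

theorem exists_mul_of_sup_eq_top (hcomm : ∀ u ∈ U₁, ∀ v ∈ U₂, u * v = v * u)
    (hgen : U₁ ⊔ U₂ = ⊤) (g : G) : ∃ u₁ ∈ U₁, ∃ u₂ ∈ U₂, g = u₁ * u₂ := by
  let S : Subgroup G :=
    { carrier := {g | ∃ u₁ ∈ U₁, ∃ u₂ ∈ U₂, g = u₁ * u₂}
      mul_mem' := by
        rintro _ _ ⟨a₁, ha₁, a₂, ha₂, rfl⟩ ⟨b₁, hb₁, b₂, hb₂, rfl⟩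
        refine ⟨a₁ * b₁, U₁.mul_mem ha₁ hb₁, a₂ * b₂, U₂.mul_mem ha₂ hb₂, ?_⟩
        have h := hcomm b₁ hb₁ a₂ ha₂
        calc a₁ * a₂ * (b₁ * b₂) = a₁ * (a₂ * b₁) * b₂ := by group
          _ = a₁ * (b₁ * a₂) * b₂ := by rw [h]
          _ = a₁ * b₁ * (a₂ * b₂) := by group
      one_mem' := ⟨1, U₁.one_mem, 1, U₂.one_mem, by simp⟩
      inv_mem' := by
        rintro _ ⟨a₁, ha₁, a₂, ha₂, rfl⟩
        refine ⟨a₁⁻¹, U₁.inv_mem ha₁, a₂⁻¹, U₂.inv_mem ha₂, ?_⟩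
        have h := hcomm a₁⁻¹ (U₁.inv_mem ha₁) a₂⁻¹ (U₂.inv_mem ha₂)
        rw [mul_inv_rev, h] }
  have hle : U₁ ⊔ U₂ ≤ S := sup_le (fun u hu => ⟨u, hu, 1, U₂.one_mem, by simp⟩)
    (fun v hv => ⟨1, U₁.one_mem, v, hv, by simp⟩)
  rw [hgen] at hle
  exact hle (Subgroup.mem_top g)

theorem conj_eq_of_mem_left (hcomm : ∀ u ∈ U₁, ∀ v ∈ U₂, u * v = v * u) {u₁ u₂ x : G}
    (hu₂ : u₂ ∈ U₂) (hx : x ∈ U₁) :
    (u₁ * u₂) * x * (u₁ * u₂)⁻¹ = u₁ * x * u₁⁻¹ := by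
  have h := hcomm x hx u₂ hu₂
  calc (u₁ * u₂) * x * (u₁ * u₂)⁻¹ = u₁ * (u₂ * x) * u₂⁻¹ * u₁⁻¹ := by group
    _ = u₁ * (x * u₂) * u₂⁻¹ * u₁⁻¹ := by rw [h]
    _ = u₁ * x * u₁⁻¹ := by group

theorem exists_conj_eq_left (hcomm : ∀ u ∈ U₁, ∀ v ∈ U₂, u * v = v * u)
    (hgen : U₁ ⊔ U₂ = ⊤) (g : G) {x : G} (hx : x ∈ U₁) :
    ∃ a ∈ U₁, g * x * g⁻¹ = a * x * a⁻¹ := by
  obtain ⟨u₁, hu₁, u₂, hu₂, rfl⟩ := exists_mul_of_sup_eq_top U₁ U₂ hcomm hgen g
  exact ⟨u₁, hu₁, conj_eq_of_mem_left U₁ U₂ hcomm hu₂ hx⟩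

theorem normal_left_of_central_product (hcomm : ∀ u ∈ U₁, ∀ v ∈ U₂, u * v = v * u)
    (hgen : U₁ ⊔ U₂ = ⊤) : U₁.Normal := by
  refine ⟨fun n hn g => ?_⟩
  obtain ⟨a, ha, hconj⟩ := exists_conj_eq_left U₁ U₂ hcomm hgen g hn
  rw [hconj]
  exact U₁.mul_mem (U₁.mul_mem ha hn) (U₁.inv_mem ha)

theorem isConj_coe_iff_left (hcomm : ∀ u ∈ U₁, ∀ v ∈ U₂, u * v = v * u)
    (hgen : U₁ ⊔ U₂ = ⊤) (u n : U₁) : IsConj (u : G) (n : G) ↔ IsConj u n := by
  constructor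
  · intro h
    obtain ⟨c, hc⟩ := isConj_iff.mp h
    obtain ⟨a, ha, hconj⟩ := exists_conj_eq_left U₁ U₂ hcomm hgen c u.2
    refine isConj_iff.mpr ⟨⟨a, ha⟩, Subtype.ext ?_⟩
    simp only [Subgroup.coe_mul, Subgroup.coe_inv]
    rw [← hconj, hc]
  · intro h
    obtain ⟨c, hc⟩ := isConj_iff.mp h
    exact isConj_iff.mpr ⟨(c : G), by rw [← hc]; simp⟩

theorem classInd_restrict_left (hcomm : ∀ u ∈ U₁, ∀ v ∈ U₂, u * v = v * u)
    (hgen : U₁ ⊔ U₂ = ⊤) (u : U₁) :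
    (fun n : U₁ => classInd (u : G) (n : G)) = classInd u := by
  classical
  funext n
  by_cases h : IsConj u n
  · rw [classInd_of_isConj' h,
      classInd_of_isConj' ((isConj_coe_iff_left U₁ U₂ hcomm hgen u n).mpr h)]
  · rw [classInd_of_not_isConj' h,
      classInd_of_not_isConj' (fun h' => h ((isConj_coe_iff_left U₁ U₂ hcomm hgen u n).mp h'))]

variable [Fintype G]

/-- Central characters of `G` on `U₁` are central characters of `U₁`. -/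
theorem centralChar_eq_centralChar_left (hcomm : ∀ u ∈ U₁, ∀ v ∈ U₂, u * v = v * u)
    (hgen : U₁ ⊔ U₂ = ⊤) [Fintype U₁] (χ : IrrCharacter G) (ψ : IrrCharacter U₁)
    (h : classInner (fun u : U₁ => (χ : G → ℂ) u) (ψ : U₁ → ℂ) ≠ 0) (u : U₁) :
    centralChar (χ : G → ℂ) (u : G) = centralChar (ψ : U₁ → ℂ) u := by
  haveI hN : U₁.Normal := normal_left_of_central_product U₁ U₂ hcomm hgen
  rw [← omega_classInd _ (irr_isClassFunction χ),
    omega_eq_omega_restrict_of_constituent U₁ χ ψ h (isClassFunction_classInd _) ?_,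
    classInd_restrict_left U₁ U₂ hcomm hgen, omega_classInd _ (irr_isClassFunction ψ)]
  intro x hx
  apply classInd_of_not_isConj'
  intro hc
  obtain ⟨c, hc⟩ := isConj_iff.mp hc
  apply hx
  rw [← hc]
  exact hN.conj_mem _ u.2 c

/-- For `p`-regular `u₁ ∈ U₁` and any `u₂ ∈ U₂`, the class sums multiply to the class sum of the
product, provided `U₁ ∩ U₂` is a `p`-group. -/
theorem conv_classInd_mul (hcomm : ∀ u ∈ U₁, ∀ v ∈ U₂, u * v = v * u)
    (hgen : U₁ ⊔ U₂ = ⊤) {p : ℕ} [Fact p.Prime] (hZ : IsPGroup p ↥(U₁ ⊓ U₂)) {u₁ u₂ : G}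
    (h₁ : u₁ ∈ U₁) (h₂ : u₂ ∈ U₂) (hreg : ¬ p ∣ orderOf u₁) :
    conv (classInd u₁) (classInd u₂) = classInd (u₁ * u₂) := by
  classical
  have hcomm' : ∀ v ∈ U₂, ∀ u ∈ U₁, v * u = u * v := fun v hv u hu => (hcomm u hu v hv).symm
  have hgen' : U₂ ⊔ U₁ = ⊤ := by rw [sup_comm]; exact hgen
  have hN₁ : U₁.Normal := normal_left_of_central_product U₁ U₂ hcomm hgen
  have hN₂ : U₂.Normal := normal_left_of_central_product U₂ U₁ hcomm' hgen'
  -- if `x ~ u₁` and `y ~ u₂` then `x y ~ u₁ u₂`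
  have hprod : ∀ x y : G, IsConj u₁ x → IsConj u₂ y → IsConj (u₁ * u₂) (x * y) := by
    intro x y hx hy
    obtain ⟨c, hc⟩ := isConj_iff.mp hx
    obtain ⟨d, hd⟩ := isConj_iff.mp hy
    obtain ⟨a, ha, hca⟩ := exists_conj_eq_left U₁ U₂ hcomm hgen c h₁
    obtain ⟨b, hb, hdb⟩ := exists_conj_eq_left U₂ U₁ hcomm' hgen' d h₂
    refine isConj_iff.mpr ⟨a * b, ?_⟩
    rw [← hc, ← hd, hca, hdb]
    have e1 := hcomm a ha b hb
    have e2 := hcomm u₁ h₁ b hb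
    have e3 := hcomm a ha u₂ h₂
    have e4 := hcomm a⁻¹ (U₁.inv_mem ha) b hb
    have e5 := hcomm a⁻¹ (U₁.inv_mem ha) u₂ h₂
    calc a * b * (u₁ * u₂) * (a * b)⁻¹ = a * (b * u₁) * u₂ * b⁻¹ * a⁻¹ := by group
      _ = a * (u₁ * b) * u₂ * b⁻¹ * a⁻¹ := by rw [e2]
      _ = a * u₁ * (b * u₂ * b⁻¹) * a⁻¹ := by group
      _ = a * u₁ * a⁻¹ * (b * u₂ * b⁻¹) := by
        have hmem : b * u₂ * b⁻¹ ∈ U₂ := U₂.mul_mem (U₂.mul_mem hb h₂) (U₂.inv_mem hb)
        have e6 := hcomm a⁻¹ (U₁.inv_mem ha) _ hmem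
        calc a * u₁ * (b * u₂ * b⁻¹) * a⁻¹ = a * u₁ * ((b * u₂ * b⁻¹) * a⁻¹) := by group
          _ = a * u₁ * (a⁻¹ * (b * u₂ * b⁻¹)) := by rw [e6]
          _ = a * u₁ * a⁻¹ * (b * u₂ * b⁻¹) := by group
  funext g
  rw [conv_apply]
  by_cases hg : IsConj (u₁ * u₂) g
  · obtain ⟨c, hc⟩ := isConj_iff.mp hg
    rw [classInd_of_isConj' hg, Finset.sum_eq_single (c * u₁ * c⁻¹)]
    · have e2 : (c * u₁ * c⁻¹)⁻¹ * g = c * u₂ * c⁻¹ := by rw [← hc]; group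
      rw [classInd_of_isConj' (isConj_iff.mpr ⟨c, rfl⟩), e2,
        classInd_of_isConj' (isConj_iff.mpr ⟨c, rfl⟩), mul_one]
    · intro x _ hx
      by_contra hne
      have hx1 : IsConj u₁ x := by
        by_contra h; apply hne; rw [classInd_of_not_isConj' h, zero_mul]
      have hx2 : IsConj u₂ (x⁻¹ * g) := by
        by_contra h; apply hne; rw [classInd_of_not_isConj' h, mul_zero]
      apply hx
      -- uniqueness
      set x₀ := c * u₁ * c⁻¹ with hx₀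
      have hx₀U : x₀ ∈ U₁ := hN₁.conj_mem _ h₁ c
      have hxU : x ∈ U₁ := by
        obtain ⟨d, hd⟩ := isConj_iff.mp hx1
        rw [← hd]; exact hN₁.conj_mem _ h₁ d
      have hy₀ : x₀⁻¹ * g = c * u₂ * c⁻¹ := by rw [← hc, hx₀]; group
      have hy₀U : x₀⁻¹ * g ∈ U₂ := by rw [hy₀]; exact hN₂.conj_mem _ h₂ c
      have hyU : x⁻¹ * g ∈ U₂ := by
        obtain ⟨d, hd⟩ := isConj_iff.mp hx2
        rw [← hd]; exact hN₂.conj_mem _ h₂ d
      -- z = x₀⁻¹ x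
      have hz1 : x₀⁻¹ * x ∈ U₁ := U₁.mul_mem (U₁.inv_mem hx₀U) hxU
      have hz2 : x₀⁻¹ * x ∈ U₂ := by
        have : x₀⁻¹ * x = (x₀⁻¹ * g) * (x⁻¹ * g)⁻¹ := by group
        rw [this]
        exact U₂.mul_mem hy₀U (U₂.inv_mem hyU)
      -- orders
      have hordx : orderOf x = orderOf u₁ := by
        obtain ⟨d, hd⟩ := isConj_iff.mp hx1
        rw [← hd]; exact MulEquiv.orderOf_eq (MulAut.conj d) u₁
      have hordx₀ : orderOf x₀ = orderOf u₁ := MulEquiv.orderOf_eq (MulAut.conj c) u₁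
      have hcz : Commute x₀ (x₀⁻¹ * x) := hcomm x₀ hx₀U _ hz2
      have hxz : x = x₀ * (x₀⁻¹ * x) := by group
      have hpow : (x₀⁻¹ * x) ^ orderOf u₁ = 1 := by
        have h1 : x ^ orderOf u₁ = 1 := by rw [← hordx]; exact pow_orderOf_eq_one x
        have h2 : x₀ ^ orderOf u₁ = 1 := by rw [← hordx₀]; exact pow_orderOf_eq_one x₀
        rw [hxz, hcz.mul_pow, h2, one_mul] at h1
        exact h1
      -- `z` is a `p`-element
      obtain ⟨k, hk⟩ := hZ ⟨x₀⁻¹ * x, hz1, hz2⟩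
      have hk' : (x₀⁻¹ * x) ^ p ^ k = 1 := by
        have := congrArg Subtype.val hk
        simpa using this
      have hcop : Nat.Coprime (orderOf u₁) (p ^ k) :=
        (Nat.Coprime.pow_left k ((Nat.Prime.coprime_iff_not_dvd Fact.out).mpr hreg)).symm
      have hz : x₀⁻¹ * x = 1 := by
        have hd1 : orderOf (x₀⁻¹ * x) ∣ orderOf u₁ := orderOf_dvd_of_pow_eq_one hpow
        have hd2 : orderOf (x₀⁻¹ * x) ∣ p ^ k := orderOf_dvd_of_pow_eq_one hk'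
        have := Nat.eq_one_of_dvd_coprimes hcop hd1 hd2
        exact orderOf_eq_one_iff.mp this
      calc x = x₀ * (x₀⁻¹ * x) := hxz
        _ = x₀ := by rw [hz, mul_one]
    · intro h; exact absurd (Finset.mem_univ _) h
  · rw [classInd_of_not_isConj' hg]
    refine Finset.sum_eq_zero (fun x _ => ?_)
    by_contra hne
    have hx1 : IsConj u₁ x := by
      by_contra h; apply hne; rw [classInd_of_not_isConj' h, zero_mul]
    have hx2 : IsConj u₂ (x⁻¹ * g) := by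
      by_contra h; apply hne; rw [classInd_of_not_isConj' h, mul_zero]
    apply hg
    have := hprod x (x⁻¹ * g) hx1 hx2
    rwa [mul_inv_cancel_left] at this

end CentralProduct

end Cfsg.Agent.Helper16
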