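import Cfsg.Agent.Helper16.QuotientDefect
import Cfsg.Agent.Helper16.UnionBlocks
import Cfsg.Agent.Helper77.BlockPartition
import Cfsg.Agent.Helper77.DefectOrder
import Cfsg.Agent.Helper78.FirstMain
import Cfsg.Agent.S0911

/-!
# Blocks of `G ⧸ N` inside a block of `G`: push-forward of the block idempotent
-/

set_option autoImplicit false
set_option linter.unusedSectionVars false
set_option linter.unusedVariables false

namespace Cfsg.Agent.Helper16

open Cfsg

section Conj

variable {G : Type*} [Group G] [Fintype G] {M : Ideal AlgInt} {p : ℕ}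

/-- Any two defect groups of a block are conjugate. -/
theorem exists_conj_eq_of_isDefectGroup [Fact p.Prime] (hM : IsPModular p M)
    {B : Set (IrrCharacter G)} (hB : IsPBlock M B) {D D' : Subgroup G}
    (hD : IsDefectGroup p M B D) (hD' : IsDefectGroup p M B D') :
    ∃ g : G, D' = D.map (MulAut.conj g).toMonoidHom := by
  classical
  haveI hMp : M.IsPrime := IsPModular.isPrime hM
  have hcD := Helper77.card_defectGroup hM hB D hD
  have hcD' := Helper77.card_defectGroup hM hB D' hD'
  obtain ⟨x, hx, D₀, rfl⟩ := hD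
  obtain ⟨x', hx', D₀', rfl⟩ := hD'
  obtain ⟨χ, hχ⟩ := Helper78.isPBlock_nonempty hMp hB
  obtain ⟨y, Q', hQ'⟩ := (Cfsg.Agent.S0911.result p M hM B hB x hx D₀ x').2
    ⟨χ, hχ, hx'.2.2 χ hχ⟩
  have hQ'card := ((sylowIn_iff p (Subgroup.centralizer ({x'} : Set G)) _).mp ⟨Q', rfl⟩)
  have hD₀'card := ((sylowIn_iff p (Subgroup.centralizer ({x'} : Set G)) _).mp ⟨D₀', rfl⟩)
  obtain ⟨t, ht, htconj⟩ := exists_conj_of_card p _ _ _ hD₀'card.1 hQ'card.1 hD₀'card.2 hQ'card.2
  -- `D^y = Q'`
  have hcard_eq : Nat.card (((D₀ : Subgroup _).map (Subgroup.centralizer ({x} : Set G)).subtype).map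
      (MulAut.conj y).toMonoidHom) = Nat.card ((Q' : Subgroup _).map
        (Subgroup.centralizer ({x'} : Set G)).subtype) := by
    rw [Subgroup.card_map_of_injective (MulAut.conj y).injective, hcD, hQ'card.2, ← hD₀'card.2,
      hcD']
  have heq : ((D₀ : Subgroup _).map (Subgroup.centralizer ({x} : Set G)).subtype).map
      (MulAut.conj y).toMonoidHom = (Q' : Subgroup _).map
        (Subgroup.centralizer ({x'} : Set G)).subtype :=
    Subgroup.eq_of_le_of_card_ge hQ' (le_of_eq hcard_eq.symm)
  refine ⟨t * y, ?_⟩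
  rw [← htconj, ← heq, Subgroup.map_map]
  congr 1
  ext g
  simp [MulAut.conj_apply, mul_assoc]

end Conj

section Push

variable {G : Type*} [Group G] [Fintype G] {M : Ideal AlgInt} (N : Subgroup G) [N.Normal]
  [Fintype (G ⧸ N)]

/-- The push-forward of the idempotent of a set of characters is the idempotent of the set of
characters of the quotient whose inflations lie in the set. -/
theorem pushQ_blockCoeff (B : Set (IrrCharacter G)) :
    pushQ N (blockCoeff B) = blockCoeff {χ : IrrCharacter (G ⧸ N) | inflate N χ ∈ B} := by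
  classical
  apply classFunction_ext_omega (isClassFunction_pushQ N (isClassFunction_blockCoeff B))
    (isClassFunction_blockCoeff _)
  intro χ
  rw [← omega_comp_mk N (χ : G ⧸ N → ℂ) (blockCoeff B), omega_blockCoeff]
  have h := omega_blockCoeff B (inflate N χ)
  rw [inflate_coe] at h
  rw [show (fun g : G => (χ : G ⧸ N → ℂ) (QuotientGroup.mk g)) =
    (χ : G ⧸ N → ℂ) ∘ QuotientGroup.mk from rfl, h]
  rfl

end Push

section Union

variable {G : Type*} [Group G] [Fintype G] {M : Ideal AlgInt}

open Classical in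
/-- The idempotent of a union of blocks is the sum of the block idempotents. -/
theorem blockCoeff_eq_sum_blocks [M.IsPrime] (S : Set (IrrCharacter G))
    (hS : ∀ χ ∈ S, ∀ ψ : IrrCharacter G, SameBlock M (χ : G → ℂ) (ψ : G → ℂ) → ψ ∈ S) :
    blockCoeff S = ∑ b ∈ (Helper77.blocksFinset M G).filter (fun b => b ⊆ S), blockCoeff b := by
  apply classFunction_ext_omega (isClassFunction_blockCoeff S)
    (isClassFunction_sum _ _ (fun b _ => isClassFunction_blockCoeff b))
  intro χ
  rw [omega_blockCoeff, omega_sum]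
  simp_rw [omega_blockCoeff]
  by_cases hχ : χ ∈ S
  · rw [if_pos hχ, Finset.sum_eq_single (blockOf M (χ : G → ℂ))]
    · rw [if_pos (show χ ∈ blockOf M (χ : G → ℂ) from sameBlock_refl _)]
    · intro b hb hne
      rw [if_neg]
      intro hχb
      apply hne
      rw [Finset.mem_filter, Helper77.mem_blocksFinset] at hb
      exact Helper78.isPBlock_eq_blockOf_of_mem inferInstance hb.1 hχb
    · intro hnot
      exfalso
      apply hnot
      rw [Finset.mem_filter, Helper77.mem_blocksFinset]
      exact ⟨⟨χ, rfl⟩, fun ψ hψ => hS χ hχ ψ hψ⟩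
  · rw [if_neg hχ]
    symm
    refine Finset.sum_eq_zero (fun b hb => ?_)
    rw [Finset.mem_filter] at hb
    rw [if_neg]
    intro hχb
    exact hχ (hb.2 hχb)

end Union

end Cfsg.Agent.Helper16
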