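import Cfsg.Agent.Helper16.SecondMainVanish
import Cfsg.Agent.Helper16.QuotientDefect2
import Cfsg.Agent.Helper16.Height
import Cfsg.Agent.Helper77.DefectOrder
import Cfsg.Agent.Helper77.BlockOrth
import Cfsg.Agent.Helper78.PSection

/-!
# Height zero characters detect the defect group
-/

set_option autoImplicit false
set_option linter.unusedSectionVars false
set_option linter.unusedVariables false

namespace Cfsg.Agent.Helper16

open Cfsg
open scoped ComplexConjugate

section HZ

variable {G : Type*} [Group G] [Fintype G] {M : Ideal AlgInt} {p : ℕ}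

/-- A height zero character does not vanish modulo the local ideal at a defect class. -/
theorem irr_not_memLocalIdeal_of_height_zero [Fact p.Prime] (hM : IsPModular p M)
    {B : Set (IrrCharacter G)} (hB : IsPBlock M B) (χ : IrrCharacter G) (hχ : χ ∈ B)
    (h0 : blockHeight p B (χ : G → ℂ) = 0) (k : G) (hk : IsDefectClass M B k) :
    ¬ MemLocalIdeal M ((χ : G → ℂ) k) := by
  classical
  haveI hMp : M.IsPrime := IsPModular.isPrime hM
  have hp : p.Prime := Fact.out
  intro hcon
  obtain ⟨P⟩ : Nonempty (Sylow p (Subgroup.centralizer ({k} : Set G))) := inferInstance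
  set C : Subgroup G := Subgroup.centralizer ({k} : Set G) with hC
  have hD : IsDefectGroup p M B ((P : Subgroup C).map C.subtype) := ⟨k, hk, P, rfl⟩
  have hcard := Helper77.card_defectGroup hM hB _ hD
  rw [Subgroup.card_map_of_injective (Subgroup.subtype_injective _), P.card_eq_multiplicity] at hcard
  have hexp : (Nat.card C).factorization p = blockDefect p B :=
    Nat.pow_right_injective hp.two_le hcard
  have hidx0 : C.index ≠ 0 := Subgroup.index_ne_zero_of_finite
  have hfac : (Nat.card G).factorization p =
      (Nat.card C).factorization p + C.index.factorization p := by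
    rw [← Subgroup.card_mul_index C, Nat.factorization_mul Nat.card_pos.ne' hidx0,
      Finsupp.add_apply]
  have hmin := (blockHeight_eq_zero_iff p hχ).mp h0
  have hle : minExp p B ≤ (Nat.card G).factorization p := minExp_le_card p ⟨χ, hχ⟩
  have hdef := blockDefect_eq p B
  have hcmp : (charDegree (χ : G → ℂ)).factorization p ≤ C.index.factorization p := by
    omega
  have hR := Helper78.memLocalRing_natCast_div hM (irr_charDegree_ne_zero χ) hidx0 hcmp
  have hd : ((charDegree (χ : G → ℂ) : ℕ) : ℂ) = (χ : G → ℂ) 1 :=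
    Helper80.IsCharacter.charDegree_cast (Helper79.irr_isCharacter χ)
  have hcc : centralChar (χ : G → ℂ) k =
      ((C.index : ℂ) / (charDegree (χ : G → ℂ) : ℂ)) * (χ : G → ℂ) k := by
    unfold centralChar
    rw [hd]
    ring
  apply hk.2.2 χ hχ
  rw [hcc]
  exact memLocalIdeal_mul_left hR hcon

/-- For a height zero character `χ` of `B` and an element `x'` of a defect group `D` there is a
`p`-regular `k` commuting with `x'` with `χ (x' k) ≠ 0`. -/
theorem exists_ne_zero_of_mem_defectGroup [Fact p.Prime] (hM : IsPModular p M)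
    {B : Set (IrrCharacter G)} (hB : IsPBlock M B) (D : Subgroup G)
    (hD : IsDefectGroup p M B D) (χ : IrrCharacter G) (hχ : χ ∈ B)
    (h0 : blockHeight p B (χ : G → ℂ) = 0) (x' : G) (hx' : x' ∈ D) :
    ∃ k : G, ¬ p ∣ orderOf k ∧ Commute x' k ∧ (χ : G → ℂ) (x' * k) ≠ 0 := by
  classical
  haveI hMp : M.IsPrime := IsPModular.isPrime hM
  have hp : p.Prime := Fact.out
  obtain ⟨k, hk, P, hDdef⟩ := hD
  have hkreg : ¬ p ∣ orderOf k := by
    intro hdvd
    apply hk.2.1
    rw [Helper77.blockCoeff_eq_zero_of_dvd_orderOf hM hB k hdvd]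
    exact memLocalIdeal_zero
  rw [hDdef] at hx'
  obtain ⟨c, hc, rfl⟩ := hx'
  have hcomm : Commute ((c : G)) k := by
    have := c.2
    rw [Subgroup.mem_centralizer_iff] at this
    exact (this k (Set.mem_singleton k)).symm
  obtain ⟨j, hj⟩ := (P.isPGroup' ⟨c, hc⟩)
  have hcj : (c : G) ^ p ^ j = 1 := by
    have := congrArg (fun t : (P : Subgroup (Subgroup.centralizer ({k} : Set G))) =>
      ((t : Subgroup.centralizer ({k} : Set G)) : G)) hj
    simpa using this
  refine ⟨k, hkreg, hcomm, ?_⟩
  intro hzero
  have h1 := Helper78.irr_mul_sub_memLocalIdeal hM χ (c : G) k hcomm hcj hkreg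
  have h2 : (Subgroup.centralizer ({k} : Set G)).subtype c = (c : G) := rfl
  rw [h2] at hzero
  rw [hzero, zero_sub] at h1
  apply irr_not_memLocalIdeal_of_height_zero hM hB χ hχ h0 k hk
  have := memLocalIdeal_neg h1
  rwa [neg_neg] at this

end HZ

end Cfsg.Agent.Helper16
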