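import Cfsg.Agent.Helper16.NormalAverage
import Cfsg.Agent.Helper16.CentralProduct
import Cfsg.Agent.Helper16.BlockOrthogonality
import Cfsg.Agent.Helper16.HeightZeroSection
import Cfsg.Agent.Helper15.IndFun
import Cfsg.Agent.Helper79.CharComplete

/-!
# The canonical character of a block with normal defect group `P`, `G = P · C_G(P)`
-/

set_option autoImplicit false
set_option linter.unusedSectionVars false
set_option linter.unusedVariables false

namespace Cfsg.Agent.Helper16

open Cfsg
open scoped ComplexConjugate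

universe u

section CC

variable {G : Type u} [Group G] [Fintype G] {M : Ideal AlgInt} {p : ℕ}

/-- A member of a block with normal defect group `P` (centralized by the `p`-regular elements)
having `P` in its kernel descends to a character of defect zero of `G ⧸ P`. -/
theorem exists_descend_defect_zero [hp : Fact p.Prime] (hM : IsPModular p M)
    {B : Set (IrrCharacter G)} (hB : IsPBlock M B) (P : Subgroup G) [hPn : P.Normal]
    (hD : IsDefectGroup p M B P) {χ : IrrCharacter G}
    (hχ : χ ∈ B) (hk : ∀ u ∈ P, (χ : G → ℂ) u = (χ : G → ℂ) 1) :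
    ∃ ψ : IrrCharacter (G ⧸ P), (∀ g : G, (χ : G → ℂ) g = (ψ : G ⧸ P → ℂ) (QuotientGroup.mk g)) ∧
      charDegree (ψ : G ⧸ P → ℂ) = charDegree (χ : G → ℂ) ∧
      ¬ p ∣ Nat.card (G ⧸ P) / charDegree (ψ : G ⧸ P → ℂ) := by
  classical
  haveI hMp : M.IsPrime := IsPModular.isPrime hM
  haveI : Fintype (G ⧸ P) := Fintype.ofFinite _
  have hcardP : Nat.card P = p ^ blockDefect p B := Helper77.card_defectGroup hM hB P hD
  obtain ⟨ψ0, hψirr, hψ0⟩ := Helper80.IsIrrCharacter.exists_descend χ.2
      (QuotientGroup.mk' P) (QuotientGroup.mk'_surjective P) (by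
        intro g hg
        have hgP : g ∈ P := by
          rw [← QuotientGroup.eq_one_iff]; exact hg
        exact hk g hgP)
  set ψ : IrrCharacter (G ⧸ P) := ⟨ψ0, hψirr⟩ with hψdef
  have hψ : ∀ g : G, (χ : G → ℂ) g = (ψ : G ⧸ P → ℂ) (QuotientGroup.mk g) := hψ0
  have hdeg : charDegree (ψ : G ⧸ P → ℂ) = charDegree (χ : G → ℂ) := by
    unfold charDegree
    rw [hψ 1]
    rfl
  refine ⟨ψ, hψ, hdeg, ?_⟩
  intro hdvd
  have hdvd1 : charDegree (ψ : G ⧸ P → ℂ) ∣ Nat.card (G ⧸ P) :=
    Helper80.IsIrrCharacter.charDegree_dvd_card ψ.2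
  obtain ⟨t, ht⟩ := hdvd1
  have hψ0' : charDegree (ψ : G ⧸ P → ℂ) ≠ 0 := irr_charDegree_ne_zero ψ
  have ht0 : t ≠ 0 := by
    rintro rfl
    rw [mul_zero] at ht
    exact Nat.card_pos.ne' ht
  have hquot : Nat.card (G ⧸ P) / charDegree (ψ : G ⧸ P → ℂ) = t := by
    rw [ht, Nat.mul_div_cancel_left _ (Nat.pos_of_ne_zero hψ0')]
  rw [hquot] at hdvd
  have hG : Nat.card G = Nat.card (G ⧸ P) * Nat.card P := by
    rw [← Subgroup.index_eq_card, Subgroup.index_mul_card]
  have hfacG : (Nat.card G).factorization p =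
      (Nat.card (G ⧸ P)).factorization p + blockDefect p B := by
    rw [hG, Nat.factorization_mul Nat.card_pos.ne' Nat.card_pos.ne', hcardP]
    simp only [Finsupp.coe_add, Pi.add_apply]
    rw [hp.out.factorization_pow]
    simp
  have hfacQ : (Nat.card (G ⧸ P)).factorization p =
      (charDegree (ψ : G ⧸ P → ℂ)).factorization p + t.factorization p := by
    rw [ht, Nat.factorization_mul hψ0' ht0]
    simp only [Finsupp.coe_add, Pi.add_apply]
  have hpow := pow_dvd_charDegree_of_mem (p := p) hχ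
  rw [← hdeg, hp.out.pow_dvd_iff_le_factorization hψ0'] at hpow
  have htpos : 1 ≤ t.factorization p :=
    (hp.out.dvd_iff_one_le_factorization ht0).mp hdvd
  omega

/-- The degree of a canonical character. -/
theorem factorization_degree_of_ker_normal_defect [hp : Fact p.Prime] (hM : IsPModular p M)
    {B : Set (IrrCharacter G)} (hB : IsPBlock M B) (P : Subgroup G) [hPn : P.Normal]
    (hD : IsDefectGroup p M B P) {χ : IrrCharacter G}
    (hχ : χ ∈ B) (hk : ∀ u ∈ P, (χ : G → ℂ) u = (χ : G → ℂ) 1) :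
    (charDegree (χ : G → ℂ)).factorization p = P.index.factorization p := by
  haveI : Fintype (G ⧸ P) := Fintype.ofFinite _
  obtain ⟨ψ, hψ, hdeg, hdz⟩ := exists_descend_defect_zero hM hB P hD hχ hk
  have hdvd1 : charDegree (ψ : G ⧸ P → ℂ) ∣ Nat.card (G ⧸ P) :=
    Helper80.IsIrrCharacter.charDegree_dvd_card ψ.2
  obtain ⟨t, ht⟩ := hdvd1
  have hψ0' : charDegree (ψ : G ⧸ P → ℂ) ≠ 0 := irr_charDegree_ne_zero ψ
  have ht0 : t ≠ 0 := by
    rintro rfl
    rw [mul_zero] at ht
    exact Nat.card_pos.ne' ht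
  have hquot : Nat.card (G ⧸ P) / charDegree (ψ : G ⧸ P → ℂ) = t := by
    rw [ht, Nat.mul_div_cancel_left _ (Nat.pos_of_ne_zero hψ0')]
  rw [hquot] at hdz
  have hfacQ : (Nat.card (G ⧸ P)).factorization p =
      (charDegree (ψ : G ⧸ P → ℂ)).factorization p + t.factorization p := by
    rw [ht, Nat.factorization_mul hψ0' ht0]
    simp only [Finsupp.coe_add, Pi.add_apply]
  have ht' : t.factorization p = 0 := Nat.factorization_eq_zero_of_not_dvd hdz
  have hidx : P.index = Nat.card (G ⧸ P) := Subgroup.index_eq_card P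
  rw [hidx, hfacQ, ht', add_zero, hdeg]

/-- A block with a normal defect group `P` centralized by the `p`-regular elements has at most one
member with `P` in its kernel. -/
theorem eq_of_mem_of_ker_normal_defect [hp : Fact p.Prime] (hM : IsPModular p M)
    {B : Set (IrrCharacter G)} (hB : IsPBlock M B) (P : Subgroup G) [hPn : P.Normal]
    (hD : IsDefectGroup p M B P)
    (hPC : ∀ x : G, ¬ p ∣ orderOf x → x ∈ Subgroup.centralizer (P : Set G))
    {χ χ' : IrrCharacter G}
    (hχ : χ ∈ B) (hχ' : χ' ∈ B) (hk : ∀ u ∈ P, (χ : G → ℂ) u = (χ : G → ℂ) 1)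
    (hk' : ∀ u ∈ P, (χ' : G → ℂ) u = (χ' : G → ℂ) 1) : χ = χ' := by
  classical
  haveI hMp : M.IsPrime := IsPModular.isPrime hM
  haveI : Fintype (G ⧸ P) := Fintype.ofFinite _
  have hcardP : Nat.card P = p ^ blockDefect p B := Helper77.card_defectGroup hM hB P hD
  have hPp : IsPGroup p P := IsPGroup.of_card hcardP
  obtain ⟨ψ, hψ, hdeg, hdz⟩ := exists_descend_defect_zero hM hB P hD hχ hk
  obtain ⟨ψ', hψ', hdeg', hdz'⟩ := exists_descend_defect_zero hM hB P hD hχ' hk'
  have hsame : SameBlock M (χ : G → ℂ) (χ' : G → ℂ) := Helper78.sameBlock_of_mem_of_mem hMp hB hχ hχ'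
  have hcc : ∀ (η : IrrCharacter G) (η' : IrrCharacter (G ⧸ P)),
      (∀ g : G, (η : G → ℂ) g = (η' : G ⧸ P → ℂ) (QuotientGroup.mk g)) → ∀ x : G, ¬ p ∣ orderOf x →
      centralChar (η' : G ⧸ P → ℂ) (QuotientGroup.mk x) = centralChar (η : G → ℂ) x := by
    intro η η' h x hx
    unfold centralChar
    rw [Cfsg.Agent.S0941.index_centralizer_mk p P hPp x (hPC x hx) hx, h x, h 1]
    rfl
  have hsameQ : SameBlock M (ψ : G ⧸ P → ℂ) (ψ' : G ⧸ P → ℂ) := by
    apply sameBlock_of_forall_pRegular hM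
    intro q hq
    obtain ⟨x, rfl, hx⟩ := Cfsg.Agent.S0941.exists_pRegular_lift p P q hq
    rw [hcc χ ψ hψ x hx, hcc χ' ψ' hψ' x hx]
    exact hsame x
  have hsingle := (Cfsg.Agent.S0914.result p M hM ψ).mp hdz
  have hmem : ψ' ∈ blockOf M (ψ : G ⧸ P → ℂ) := hsameQ
  rw [hsingle] at hmem
  have heq : ψ' = ψ := hmem
  apply Subtype.ext
  funext g
  rw [hψ g, hψ' g, heq]

end CC

section PC

variable {G : Type u} [Group G] [Fintype G] {M : Ideal AlgInt} {p : ℕ} (P : Subgroup G)

theorem comm_of_mem_centralizer :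
    ∀ u ∈ P, ∀ v ∈ Subgroup.centralizer (P : Set G), u * v = v * u := by
  intro u hu v hv
  rw [Subgroup.mem_centralizer_iff] at hv
  exact hv u hu

theorem normal_of_sup_centralizer (hG : P ⊔ Subgroup.centralizer (P : Set G) = ⊤) : P.Normal :=
  normal_left_of_central_product P _ (comm_of_mem_centralizer P) hG

/-- In `G = P · C_G(P)` with `P` a `p`-group, the `p`-regular elements centralize `P`. -/
theorem pRegular_mem_centralizer [hp : Fact p.Prime] (hP : IsPGroup p P)
    (hG : P ⊔ Subgroup.centralizer (P : Set G) = ⊤) (x : G) (hx : ¬ p ∣ orderOf x) :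
    x ∈ Subgroup.centralizer (P : Set G) := by
  obtain ⟨u, hu, c, hc, rfl⟩ :=
    exists_mul_of_sup_eq_top P _ (comm_of_mem_centralizer P) hG x
  obtain ⟨k, hk, hku, -⟩ := exists_pow_pRegular_of_commute hp.out
    (comm_of_mem_centralizer P u hu c hc : Commute u c) hx
  have huk : u ^ k = 1 := by
    obtain ⟨n, hn⟩ := hP ⟨u ^ k, P.pow_mem hu k⟩
    have hn' : (u ^ k) ^ p ^ n = 1 := by
      have := congrArg (fun y : P => (y : G)) hn
      simpa using this
    have h1 : orderOf (u ^ k) ∣ p ^ n := orderOf_dvd_of_pow_eq_one hn'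
    obtain ⟨m, -, hm⟩ := (Nat.dvd_prime_pow hp.out).mp h1
    rcases Nat.eq_zero_or_pos m with h0 | hpos
    · rw [h0, pow_zero] at hm
      exact orderOf_eq_one_iff.mp hm
    · exfalso
      apply hku
      rw [hm]
      exact dvd_pow_self p hpos.ne'
  rw [hk, huk, one_mul]
  exact Subgroup.pow_mem _ hc k

/-- The key convolution identity: for a class function `ζ` of the normal subgroup `P` whose
conjugate extends by zero to a class function of `G`. -/
theorem sum_conj_mul_translate [hPn : P.Normal] [Fintype P] (θ : IrrCharacter G) (ζ : P → ℂ)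
    (hζ : ∀ (g : G) (n : P), ζ ⟨g * n * g⁻¹, hPn.conj_mem (n : G) n.2 g⟩ = ζ n) (x : G) :
    ∑ u : P, conj (ζ u) * (θ : G → ℂ) ((u : G) * x) =
      (∑ u : P, conj (ζ u) * (θ : G → ℂ) (u : G)) / (θ : G → ℂ) 1 * (θ : G → ℂ) x := by
  have hcf : IsClassFunction G (extendByZero P (fun u : P => conj (ζ u))) := by
    apply isClassFunction_extendByZero P
    intro g n
    show conj (ζ _) = conj (ζ n)
    rw [hζ g n]
  have h := irr_sum_mul_eq_omega θ hcf x
  rw [Helper15.sum_extendByZero_mul P (fun u : P => conj (ζ u))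
    (fun g => (θ : G → ℂ) (g * x)), omega_extendByZero] at h
  exact h

/-- **Product formula**: in `G = P · C_G(P)`, `θ (y x) θ 1 = θ y θ x` for `y ∈ P`, `x ∈ C_G(P)`. -/
theorem irr_mul_of_sup_centralizer (hG : P ⊔ Subgroup.centralizer (P : Set G) = ⊤)
    (θ : IrrCharacter G) {y x : G} (hy : y ∈ P) (hx : x ∈ Subgroup.centralizer (P : Set G)) :
    (θ : G → ℂ) (y * x) * (θ : G → ℂ) 1 = (θ : G → ℂ) y * (θ : G → ℂ) x := by
  classical
  haveI hPn : P.Normal := normal_of_sup_centralizer P hG
  haveI : Fintype P := Fintype.ofFinite P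
  have hcomm := comm_of_mem_centralizer P
  have hne := irr_one_ne_zero θ
  -- invariance of class functions of `P`
  have hinv : ∀ (ζ : IrrCharacter P) (g : G) (n : P),
      (ζ : P → ℂ) ⟨g * n * g⁻¹, hPn.conj_mem (n : G) n.2 g⟩ = (ζ : P → ℂ) n := by
    intro ζ g n
    obtain ⟨a, ha, hconj⟩ := exists_conj_eq_left P _ hcomm hG g n.2
    have : (⟨g * n * g⁻¹, hPn.conj_mem (n : G) n.2 g⟩ : P) = ⟨a, ha⟩ * n * ⟨a, ha⟩⁻¹ := by
      apply Subtype.ext
      simp only [Subgroup.coe_mul, Subgroup.coe_inv]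
      exact hconj
    rw [this]
    exact irr_isClassFunction ζ n ⟨a, ha⟩
  set F : G → P → ℂ := fun x u => (θ : G → ℂ) ((u : G) * x) with hF
  have hF1 : IsClassFunction P (F 1) := by
    intro u v
    show (θ : G → ℂ) (((v * u * v⁻¹ : P) : G) * 1) = (θ : G → ℂ) ((u : G) * 1)
    rw [mul_one, mul_one]
    simp only [Subgroup.coe_mul, Subgroup.coe_inv]
    exact irr_isClassFunction θ _ _
  have hFx : IsClassFunction P (F x) := by
    intro u v
    show (θ : G → ℂ) (((v * u * v⁻¹ : P) : G) * x) = (θ : G → ℂ) ((u : G) * x)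
    simp only [Subgroup.coe_mul, Subgroup.coe_inv]
    have hvx : (v : G) * x = x * (v : G) := hcomm v v.2 x hx
    have hvx' : (v : G)⁻¹ * x = x * (v : G)⁻¹ := by
      have := hcomm (v : G)⁻¹ (P.inv_mem v.2) x hx
      exact this
    have e : (v : G) * (u : G) * (v : G)⁻¹ * x = (v : G) * ((u : G) * x) * (v : G)⁻¹ := by
      rw [mul_assoc ((v : G) * (u : G)), hvx']
      group
    rw [e]
    exact irr_isClassFunction θ _ _
  have hinner : ∀ ζ : IrrCharacter P, classInner (F x) (ζ : P → ℂ) =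
      (θ : G → ℂ) x / (θ : G → ℂ) 1 * classInner (F 1) (ζ : P → ℂ) := by
    intro ζ
    unfold classInner
    have h1 := sum_conj_mul_translate P θ (ζ : P → ℂ) (hinv ζ) x
    have e1 : ∑ u : P, F x u * conj ((ζ : P → ℂ) u) =
        ∑ u : P, conj ((ζ : P → ℂ) u) * (θ : G → ℂ) ((u : G) * x) := by
      refine Finset.sum_congr rfl (fun u _ => ?_)
      rw [mul_comm]
    have e2 : ∑ u : P, F 1 u * conj ((ζ : P → ℂ) u) =
        ∑ u : P, conj ((ζ : P → ℂ) u) * (θ : G → ℂ) (u : G) := by
      refine Finset.sum_congr rfl (fun u _ => ?_)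
      show (θ : G → ℂ) ((u : G) * 1) * _ = _
      rw [mul_one, mul_comm]
    rw [e1, e2, h1]
    field_simp
  have hexp := Helper79.classFunction_expansion hFx
  have hexp1 := Helper79.classFunction_expansion hF1
  have key : F x = ((θ : G → ℂ) x / (θ : G → ℂ) 1) • F 1 := by
    rw [hexp]
    conv_rhs => rw [hexp1]
    rw [Finset.smul_sum]
    refine Finset.sum_congr rfl (fun ζ _ => ?_)
    rw [hinner ζ, smul_smul]
  have := congrFun key ⟨y, hy⟩
  simp only [hF, Pi.smul_apply, smul_eq_mul, mul_one] at this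
  rw [this]
  field_simp

end PC

section Canon

variable {G : Type u} [Group G] [Fintype G] {M : Ideal AlgInt} {p : ℕ} (P : Subgroup G)

theorem index_centralizer_of_sup [hp : Fact p.Prime] (hP : IsPGroup p P)
    (hG : P ⊔ Subgroup.centralizer (P : Set G) = ⊤) :
    ∃ k : ℕ, (Subgroup.centralizer (P : Set G)).index = p ^ k := by
  haveI hPn : P.Normal := normal_of_sup_centralizer P hG
  have h1 := Subgroup.relIndex_sup_right (H := P) (K := Subgroup.centralizer (P : Set G))
  rw [hG, Subgroup.relIndex_top_right] at h1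
  rw [h1]
  exact hP.index ((Subgroup.centralizer (P : Set G)).subgroupOf P)

/-- Existence of the canonical character. -/
theorem exists_canonical [hp : Fact p.Prime] (hM : IsPModular p M) (hP : IsPGroup p P)
    (hG : P ⊔ Subgroup.centralizer (P : Set G) = ⊤) {B : Set (IrrCharacter G)}
    (hB : IsPBlock M B) :
    ∃ θ ∈ B, ∀ u ∈ P, (θ : G → ℂ) u = (θ : G → ℂ) 1 := by
  haveI hPn : P.Normal := normal_of_sup_centralizer P hG
  obtain ⟨χ, θ, hθ, hθχ⟩ := (Cfsg.Agent.S0941.result p M hM P hP
    (index_centralizer_of_sup P hP hG)).2 B hB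
  refine ⟨θ, hθ, fun u hu => ?_⟩
  rw [hθχ]
  show (χ : G ⧸ P → ℂ) (QuotientGroup.mk u) = (χ : G ⧸ P → ℂ) (QuotientGroup.mk 1)
  have : (QuotientGroup.mk u : G ⧸ P) = QuotientGroup.mk 1 := by
    rw [QuotientGroup.mk_one, QuotientGroup.eq_one_iff]
    exact hu
  rw [this]

end Canon

section Count

variable {G : Type u} [Group G] [Fintype G] {M : Ideal AlgInt} {p : ℕ} (P : Subgroup G)

/-- A representative of a conjugacy class. -/
noncomputable def classRepP {H : Type*} [Group H] (K : ConjClasses H) : H :=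
  Classical.choose (ConjClasses.exists_rep K)

theorem classRepP_spec {H : Type*} [Group H] (K : ConjClasses H) :
    ConjClasses.mk (classRepP K) = K :=
  Classical.choose_spec (ConjClasses.exists_rep K)

open Classical in
/-- `k(P) ≤ k(B)`: the columns of the character table of `B` at the classes of `P` are
nonzero and pairwise orthogonal. -/
theorem card_conjClasses_le_card_block [hp : Fact p.Prime] (hM : IsPModular p M)
    (hP : IsPGroup p P) (hG : P ⊔ Subgroup.centralizer (P : Set G) = ⊤)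
    {B : Set (IrrCharacter G)} (hB : IsPBlock M B) (θ : IrrCharacter G) (hθ : θ ∈ B)
    (hθk : ∀ u ∈ P, (θ : G → ℂ) u = (θ : G → ℂ) 1) :
    Nat.card (ConjClasses P) ≤ Nat.card B := by
  haveI : Fintype P := Fintype.ofFinite P
  haveI : Fintype (ConjClasses P) := Fintype.ofFinite _
  haveI : Fintype ↥B := Fintype.ofFinite _
  have hcomm := comm_of_mem_centralizer P
  set v : ConjClasses P → (↥B → ℂ) := fun K χ =>
    ((χ : IrrCharacter G) : G → ℂ) ((classRepP K : P) : G) with hv
  -- orthogonality of the columns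
  have horth : ∀ K L : ConjClasses P, K ≠ L →
      ∑ χ : ↥B, v K χ * conj (v L χ) = 0 := by
    intro K L hKL
    have hpe : ∀ y : P, IsPPart p (y : G) (y : G) := by
      intro y
      refine ⟨1, mul_one _, Commute.one_right _, ?_, ?_⟩
      · obtain ⟨n, hn⟩ := hP y
        have hn' : (y : G) ^ p ^ n = 1 := by
          have := congrArg (fun t : P => (t : G)) hn
          simpa using this
        obtain ⟨m, -, hm⟩ := (Nat.dvd_prime_pow hp.out).mp (orderOf_dvd_of_pow_eq_one hn')
        exact ⟨m, hm⟩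
      · rw [orderOf_one]
        exact hp.out.one_lt.ne' ∘ Nat.dvd_one.mp
    have hne : ¬ IsConj ((classRepP K : P) : G) ((classRepP L : P) : G) := by
      intro hc
      apply hKL
      rw [← classRepP_spec K, ← classRepP_spec L, ConjClasses.mk_eq_mk_iff_isConj]
      exact (isConj_coe_iff_left P _ hcomm hG _ _).mp hc
    have h := block_orthogonality hM ((classRepP K : P) : G) ((classRepP L : P) : G) _ _
      (hpe _) (hpe _) hne B hB
    rw [← finsum_set_coe_eq_finsum_mem, finsum_eq_sum_of_fintype] at h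
    rw [← h]
    refine Finset.sum_congr rfl (fun χ _ => ?_)
    show _ * conj (((χ : IrrCharacter G) : G → ℂ) _) = _
    rw [Helper79.irr_inv]
  -- the columns are nonzero
  have hnorm : ∀ L : ConjClasses P, ∑ χ : ↥B, v L χ * conj (v L χ) ≠ 0 := by
    intro L
    have h1 : ∑ χ : ↥B, v L χ * conj (v L χ) =
        ((∑ χ : ↥B, Complex.normSq (v L χ) : ℝ) : ℂ) := by
      push_cast
      refine Finset.sum_congr rfl (fun χ _ => ?_)
      rw [Complex.mul_conj]
    rw [h1]
    have h2 : 0 < ∑ χ : ↥B, Complex.normSq (v L χ) := by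
      have hle : Complex.normSq (v L ⟨θ, hθ⟩) ≤ ∑ χ : ↥B, Complex.normSq (v L χ) :=
        Finset.single_le_sum (f := fun χ : ↥B => Complex.normSq (v L χ))
          (fun χ _ => Complex.normSq_nonneg _) (Finset.mem_univ _)
      have hpos : 0 < Complex.normSq (v L ⟨θ, hθ⟩) := by
        rw [Complex.normSq_pos]
        show (θ : G → ℂ) ((classRepP L : P) : G) ≠ 0
        rw [hθk _ (classRepP L : P).2]
        exact irr_one_ne_zero θ
      exact lt_of_lt_of_le hpos hle
    exact_mod_cast h2.ne'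
  have hli : LinearIndependent ℂ v := by
    rw [Fintype.linearIndependent_iff]
    intro g hg L
    have h1 : ∀ χ : ↥B, ∑ K : ConjClasses P, g K * v K χ = 0 := by
      intro χ
      have := congrFun hg χ
      simpa [Finset.sum_apply, Pi.smul_apply, smul_eq_mul] using this
    have h2 : ∑ χ : ↥B, (∑ K : ConjClasses P, g K * v K χ) * conj (v L χ) = 0 := by
      refine Finset.sum_eq_zero (fun χ _ => ?_)
      rw [h1 χ, zero_mul]
    have h3 : ∑ χ : ↥B, (∑ K : ConjClasses P, g K * v K χ) * conj (v L χ) =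
        ∑ K : ConjClasses P, g K * ∑ χ : ↥B, v K χ * conj (v L χ) := by
      simp_rw [Finset.sum_mul, Finset.mul_sum]
      rw [Finset.sum_comm]
      refine Finset.sum_congr rfl (fun K _ => ?_)
      refine Finset.sum_congr rfl (fun χ _ => ?_)
      ring
    rw [h3, Finset.sum_eq_single L] at h2
    · exact (mul_eq_zero.mp h2).resolve_right (hnorm L)
    · intro K _ hKL
      rw [horth K L hKL, mul_zero]
    · intro h; exact absurd (Finset.mem_univ _) h
  have := hli.fintype_card_le_finrank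
  rw [Module.finrank_fintype_fun_eq_card] at this
  rw [Nat.card_eq_fintype_card, Nat.card_eq_fintype_card]
  exact this

open Classical in
/-- `k(B) ≤ k(P)`: the members of `B`, normalised and restricted to `P`, are linearly
independent class functions of `P`. -/
theorem card_block_le_card_conjClasses [hp : Fact p.Prime] (hM : IsPModular p M)
    (hP : IsPGroup p P) (hG : P ⊔ Subgroup.centralizer (P : Set G) = ⊤)
    {B : Set (IrrCharacter G)} (hB : IsPBlock M B) (hD : IsDefectGroup p M B P)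
    (θ : IrrCharacter G) (hθ : θ ∈ B)
    (hθk : ∀ u ∈ P, (θ : G → ℂ) u = (θ : G → ℂ) 1) :
    Nat.card B ≤ Nat.card (ConjClasses P) := by
  haveI hMp : M.IsPrime := IsPModular.isPrime hM
  haveI hPn : P.Normal := normal_of_sup_centralizer P hG
  haveI : Fintype P := Fintype.ofFinite P
  haveI : Fintype (ConjClasses P) := Fintype.ofFinite _
  haveI : Fintype ↥B := Fintype.ofFinite _
  have hcomm := comm_of_mem_centralizer P
  have hreg := pRegular_mem_centralizer P hP hG
  have hθ1 := irr_one_ne_zero θ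
  have hPC : ∀ z ∈ P, ∀ x : G, ¬ p ∣ orderOf x → z * x = x * z :=
    fun z hz x hx => hcomm z hz x (hreg x hx)
  have huniq : ∀ χ ∈ B, (∀ u ∈ P, (χ : G → ℂ) u = (χ : G → ℂ) 1) → χ = θ :=
    fun χ hχ hk => eq_of_mem_of_ker_normal_defect hM hB P hD hreg hχ hθ hk hθk
  -- values on the `p`-regular elements
  have hF1 : ∀ χ ∈ B, ∀ x : G, ¬ p ∣ orderOf x →
      (χ : G → ℂ) x * (θ : G → ℂ) 1 = (χ : G → ℂ) 1 * (θ : G → ℂ) x := by
    intro χ hχ x hx
    obtain ⟨c, hc⟩ := exists_smul_pRegular_of_unique_ker hM hB P hP hPC θ huniq χ hχ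
    have h1 : ¬ p ∣ orderOf (1 : G) := by
      rw [orderOf_one]
      exact hp.out.one_lt.ne' ∘ Nat.dvd_one.mp
    rw [hc x hx, hc 1 h1]
    ring
  -- values everywhere
  have hval : ∀ χ ∈ B, ∀ g y : G, IsPPart p g y → y ∈ P →
      ∃ x : G, (χ : G → ℂ) g * (χ : G → ℂ) 1 * (θ : G → ℂ) 1 =
        (χ : G → ℂ) y * ((χ : G → ℂ) 1 * (θ : G → ℂ) x) := by
    intro χ hχ g y hgy hyP
    obtain ⟨x, hyx, hc, -, hx⟩ := hgy
    refine ⟨x, ?_⟩
    rw [← hyx, irr_mul_of_sup_centralizer P hG χ hyP (hreg x hx), mul_assoc, hF1 χ hχ x hx]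
  have hvan : ∀ χ ∈ B, ∀ g y : G, IsPPart p g y → y ∉ P → (χ : G → ℂ) g = 0 := by
    intro χ hχ g y hgy hyP
    apply irr_eq_zero_of_pPart_not_mem_defectGroup hM χ g y hgy
    intro D' hD'
    have hBχ : B = blockOf M (χ : G → ℂ) := Helper78.isPBlock_eq_blockOf_of_mem hMp hB hχ
    rw [← hBχ] at hD'
    obtain ⟨t, ht⟩ := exists_conj_eq_of_isDefectGroup hM hB hD hD'
    have hmap : P.map (MulAut.conj t).toMonoidHom = P := by
      ext z
      constructor
      · rintro ⟨u, hu, rfl⟩
        exact hPn.conj_mem u hu t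
      · intro hz
        refine ⟨t⁻¹ * z * t, ?_, ?_⟩
        · have := hPn.conj_mem z hz t⁻¹
          simpa using this
        · simp [mul_assoc]
    rw [ht, hmap]
    exact hyP
  set w : ↥B → (ConjClasses P → ℂ) := fun χ K =>
    ((χ : IrrCharacter G) : G → ℂ) ((classRepP K : P) : G) / ((χ : IrrCharacter G) : G → ℂ) 1
    with hw
  have hli : LinearIndependent ℂ w := by
    rw [Fintype.linearIndependent_iff]
    intro a ha
    -- Step 1
    have h1 : ∀ y ∈ P, ∑ χ : ↥B, a χ * (((χ : IrrCharacter G) : G → ℂ) y /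
        ((χ : IrrCharacter G) : G → ℂ) 1) = 0 := by
      intro y hy
      have := congrFun ha (ConjClasses.mk (⟨y, hy⟩ : P))
      simp only [Finset.sum_apply, Pi.smul_apply, smul_eq_mul, Pi.zero_apply, hw] at this
      rw [← this]
      refine Finset.sum_congr rfl (fun χ _ => ?_)
      have hc : IsConj (classRepP (ConjClasses.mk (⟨y, hy⟩ : P))) (⟨y, hy⟩ : P) := by
        rw [← ConjClasses.mk_eq_mk_iff_isConj, classRepP_spec]
      obtain ⟨t, ht⟩ := isConj_iff.mp hc
      have ht' : (t : G) * ((classRepP (ConjClasses.mk (⟨y, hy⟩ : P)) : P) : G) * (t : G)⁻¹ = y := by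
        have := congrArg (fun z : P => (z : G)) ht
        simpa using this
      have e := irr_isClassFunction (χ : IrrCharacter G)
        ((classRepP (ConjClasses.mk (⟨y, hy⟩ : P)) : P) : G) (t : G)
      rw [ht'] at e
      rw [e]
    -- Step 2
    have h2 : ∀ g : G, ∑ χ : ↥B, (a χ / ((χ : IrrCharacter G) : G → ℂ) 1) *
        ((χ : IrrCharacter G) : G → ℂ) g = 0 := by
      intro g
      obtain ⟨y, hgy⟩ := exists_isPPart p hp.out g
      by_cases hyP : y ∈ P
      · obtain ⟨x, hyx, hc, -, hx⟩ := hgy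
        have h3 : ∀ χ : ↥B, (a χ / ((χ : IrrCharacter G) : G → ℂ) 1) *
            ((χ : IrrCharacter G) : G → ℂ) g =
            ((θ : G → ℂ) x / (θ : G → ℂ) 1) * (a χ * (((χ : IrrCharacter G) : G → ℂ) y /
              ((χ : IrrCharacter G) : G → ℂ) 1)) := by
          intro χ
          have hχ1 := irr_one_ne_zero (χ : IrrCharacter G)
          have e1 := irr_mul_of_sup_centralizer P hG (χ : IrrCharacter G) hyP (hreg x hx)
          have e2 := hF1 χ χ.2 x hx
          rw [hyx] at e1
          have e3 : ((χ : IrrCharacter G) : G → ℂ) g =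
              ((χ : IrrCharacter G) : G → ℂ) y * (θ : G → ℂ) x / (θ : G → ℂ) 1 := by
            field_simp
            have : ((χ : IrrCharacter G) : G → ℂ) g * (θ : G → ℂ) 1 *
                ((χ : IrrCharacter G) : G → ℂ) 1 =
                ((χ : IrrCharacter G) : G → ℂ) y * (θ : G → ℂ) x *
                ((χ : IrrCharacter G) : G → ℂ) 1 := by
              linear_combination (θ : G → ℂ) 1 * e1 + ((χ : IrrCharacter G) : G → ℂ) y * e2
            exact mul_right_cancel₀ hχ1 this
          rw [e3]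
          field_simp
        rw [Finset.sum_congr rfl (fun χ _ => h3 χ), ← Finset.mul_sum, h1 y hyP, mul_zero]
      · refine Finset.sum_eq_zero (fun χ _ => ?_)
        rw [hvan χ χ.2 g y hgy hyP, mul_zero]
    -- Step 3
    intro χ₀
    have hχ₀1 := irr_one_ne_zero (χ₀ : IrrCharacter G)
    have hcard : (Nat.card G : ℂ) ≠ 0 := Helper79.card_ne_zero_complex
    have h4 : ∑ g : G, (∑ χ : ↥B, (a χ / ((χ : IrrCharacter G) : G → ℂ) 1) *
        ((χ : IrrCharacter G) : G → ℂ) g) * conj (((χ₀ : IrrCharacter G) : G → ℂ) g) = 0 := by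
      refine Finset.sum_eq_zero (fun g _ => ?_)
      rw [h2 g, zero_mul]
    have h5 : ∑ g : G, (∑ χ : ↥B, (a χ / ((χ : IrrCharacter G) : G → ℂ) 1) *
        ((χ : IrrCharacter G) : G → ℂ) g) * conj (((χ₀ : IrrCharacter G) : G → ℂ) g) =
        ∑ χ : ↥B, (a χ / ((χ : IrrCharacter G) : G → ℂ) 1) * ((Nat.card G : ℂ) *
          classInner ((χ : IrrCharacter G) : G → ℂ) ((χ₀ : IrrCharacter G) : G → ℂ)) := by
      simp_rw [Finset.sum_mul]
      rw [Finset.sum_comm]
      refine Finset.sum_congr rfl (fun χ _ => ?_)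
      unfold classInner
      rw [← mul_assoc (Nat.card G : ℂ), mul_inv_cancel₀ hcard, one_mul, Finset.mul_sum]
      refine Finset.sum_congr rfl (fun g _ => ?_)
      ring
    rw [h5, Finset.sum_eq_single χ₀] at h4
    · rw [Helper79.classInner_irr_self, mul_one] at h4
      have := (mul_eq_zero.mp h4).resolve_right hcard
      rw [div_eq_zero_iff] at this
      exact this.resolve_right hχ₀1
    · intro χ _ hne
      rw [Helper79.classInner_irr_ne (fun h => hne (Subtype.ext h)), mul_zero, mul_zero]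
    · intro h; exact absurd (Finset.mem_univ _) h
  have := hli.fintype_card_le_finrank
  rw [Module.finrank_fintype_fun_eq_card] at this
  rw [Nat.card_eq_fintype_card, Nat.card_eq_fintype_card]
  exact this

/-- **`k(B) = k(P)`** for a block with defect group `P`, `G = P · C_G(P)`. -/
theorem card_block_eq_card_conjClasses [hp : Fact p.Prime] (hM : IsPModular p M)
    (hP : IsPGroup p P) (hG : P ⊔ Subgroup.centralizer (P : Set G) = ⊤)
    {B : Set (IrrCharacter G)} (hB : IsPBlock M B) (hD : IsDefectGroup p M B P) :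
    Nat.card B = Nat.card (ConjClasses P) := by
  obtain ⟨θ, hθ, hθk⟩ := exists_canonical P hM hP hG hB
  exact le_antisymm (card_block_le_card_conjClasses P hM hP hG hB hD θ hθ hθk)
    (card_conjClasses_le_card_block P hM hP hG hB θ hθ hθk)

end Count

end Cfsg.Agent.Helper16
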