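import Cfsg.Agent.Helper16.CentralDefect
import Cfsg.Agent.Helper76.PRegularDefect
import Cfsg.Agent.Helper25.GenChar
import Cfsg.Agent.Helper80.CharLevel
import Cfsg.Agent.Lib.Cores
import Cfsg.Agent.S0912

/-!
# Characters of defect zero modulo a central `p`-subgroup (helper16)

`D ≤ Z(G)` a `p`-subgroup, `χ ∈ Irr(G)` with `ν_p(χ(1)) = ν_p([G : D])`.  Then `χ` vanishes at
every element whose `p`-part does not lie in `D`, and `D` is a defect group of the block of `χ`.
-/

set_option autoImplicit false

namespace Cfsg.Agent.Helper16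

open Cfsg
open scoped ComplexConjugate

variable {G : Type*} [Group G] [Fintype G] {M : Ideal AlgInt} {p : ℕ}

/-- The scalar by which a central element of finite order acts has norm one. -/
theorem irr_central_mul_norm (χ : IrrCharacter G) {z : G} (hz : z ∈ Subgroup.center G) :
    ∃ c : ℂ, ‖c‖ = 1 ∧ ∀ g : G, (χ : G → ℂ) (z * g) = c * (χ : G → ℂ) g := by
  obtain ⟨c, hc⟩ := irr_central_mul χ hz
  refine ⟨c, ?_, hc⟩
  have hpow : ∀ k : ℕ, (χ : G → ℂ) (z ^ k) = c ^ k * (χ : G → ℂ) 1 := by
    intro k
    induction k with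
    | zero => simp
    | succ k ih =>
      rw [pow_succ', hc, ih, pow_succ']
      ring
  have h1 := hpow (orderOf z)
  rw [pow_orderOf_eq_one] at h1
  have hne := irr_one_ne_zero χ
  have hc1 : c ^ orderOf z = 1 := by
    have : (c ^ orderOf z - 1) * (χ : G → ℂ) 1 = 0 := by linear_combination -h1
    rcases mul_eq_zero.mp this with h | h
    · linear_combination h
    · exact absurd h hne
  exact Complex.norm_eq_one_of_pow_eq_one hc1 (orderOf_pos z).ne'

theorem normSq_central_mul (χ : IrrCharacter G) {z : G} (hz : z ∈ Subgroup.center G) (g : G) :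
    Complex.normSq ((χ : G → ℂ) (z * g)) = Complex.normSq ((χ : G → ℂ) g) := by
  obtain ⟨c, hc1, hc⟩ := irr_central_mul_norm χ hz
  rw [hc g, Complex.normSq_mul, Complex.normSq_eq_norm_sq, hc1]
  simp

/-- The sum of `|χ|²` over the group. -/
theorem sum_normSq_irr (χ : IrrCharacter G) :
    ∑ g : G, Complex.normSq ((χ : G → ℂ) g) = (Nat.card G : ℝ) := by
  have h := Helper79.classInner_irr_self χ
  unfold classInner at h
  have hcard : (Nat.card G : ℂ) ≠ 0 := card_ne_zero'
  have h2 : ∑ g : G, (χ : G → ℂ) g * conj ((χ : G → ℂ) g) = (Nat.card G : ℂ) := by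
    field_simp at h
    exact h
  have h3 : ((∑ g : G, Complex.normSq ((χ : G → ℂ) g) : ℝ) : ℂ) = ((Nat.card G : ℝ) : ℂ) := by
    push_cast
    rw [← h2]
    refine Finset.sum_congr rfl (fun g _ => ?_)
    rw [Complex.mul_conj]
  exact_mod_cast h3


/-- The order of a central `p`-subgroup `D` with `ν_p(χ(1)) = ν_p([G : D])`. -/
theorem card_eq_pow_of_degree [hp : Fact p.Prime] (D : Subgroup G) (hD : IsPGroup p D)
    (χ : IrrCharacter G)
    (hdeg : (charDegree (χ : G → ℂ)).factorization p = D.index.factorization p) :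
    Nat.card D = p ^ ((Nat.card G).factorization p - (charDegree (χ : G → ℂ)).factorization p) := by
  obtain ⟨d, hd⟩ := IsPGroup.iff_card.mp hD
  have hidx0 : D.index ≠ 0 := Subgroup.index_ne_zero_of_finite
  have hG : (Nat.card G).factorization p = D.index.factorization p + d := by
    rw [← Subgroup.index_mul_card D, Nat.factorization_mul hidx0 Nat.card_pos.ne', hd]
    simp only [Finsupp.coe_add, Pi.add_apply]
    rw [hp.out.factorization_pow]
    simp
  rw [hd, hG, hdeg]
  congr 1
  omega

open Classical in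
/-- **Vanishing** of a character of defect zero modulo the central `p`-subgroup `D` off the
elements `z x` (`z ∈ D`, `x` `p`-regular), together with the norm of its `p`-regular part. -/
theorem central_defect_zero_aux [hp : Fact p.Prime] (D : Subgroup G) (hD : IsPGroup p D)
    (hDZ : D ≤ Subgroup.center G) (χ : IrrCharacter G)
    (hdeg : (charDegree (χ : G → ℂ)).factorization p = D.index.factorization p) :
    (Nat.card D : ℝ) * ∑ x ∈ Finset.univ.filter (fun x : G => ¬ p ∣ orderOf x),
        Complex.normSq ((χ : G → ℂ) x) = (Nat.card G : ℝ) ∧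
    ∀ g : G, (∀ z ∈ D, ∀ x : G, ¬ p ∣ orderOf x → g ≠ z * x) → (χ : G → ℂ) g = 0 := by
  haveI : Fintype D := Fintype.ofFinite D
  set Reg : Finset G := Finset.univ.filter (fun x : G => ¬ p ∣ orderOf x) with hReg
  set T : ℝ := ∑ x ∈ Reg, Complex.normSq ((χ : G → ℂ) x) with hT
  have hcardD := card_eq_pow_of_degree D hD χ hdeg
  have hGpos : (0 : ℝ) < (Nat.card G : ℝ) := by exact_mod_cast Nat.card_pos
  have hDpos : (0 : ℝ) < (Nat.card D : ℝ) := by exact_mod_cast Nat.card_pos
  -- the generalized character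
  have hΘ := Helper76.isGenChar_defect_mul_pRegular p χ.2
  rw [← hcardD] at hΘ
  obtain ⟨m, hm⟩ := Helper25.isGenChar_inner_int hΘ
    (Helper25.isGenChar_of_isCharacter (Helper74.irr_isCharacter χ))
  have hinner : classInner (fun x : G => if p ∣ orderOf x then (0 : ℂ) else
      ((Nat.card D : ℕ) : ℂ) * (χ : G → ℂ) x) (χ : G → ℂ) =
      (((Nat.card D : ℝ) * T / (Nat.card G : ℝ) : ℝ) : ℂ) := by
    unfold classInner
    have h1 : ∑ g : G, (if p ∣ orderOf g then (0 : ℂ) else
        ((Nat.card D : ℕ) : ℂ) * (χ : G → ℂ) g) * conj ((χ : G → ℂ) g) =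
        ((Nat.card D : ℕ) : ℂ) * ((T : ℝ) : ℂ) := by
      rw [hT, hReg, Finset.sum_filter]
      push_cast
      rw [Finset.mul_sum]
      refine Finset.sum_congr rfl (fun g _ => ?_)
      by_cases hg : p ∣ orderOf g
      · simp [hg]
      · simp only [hg, if_false, not_false_eq_true, if_true]
        rw [mul_assoc, Complex.mul_conj]
    rw [h1]
    push_cast
    field_simp
  rw [hinner] at hm
  have hm' : (Nat.card D : ℝ) * T / (Nat.card G : ℝ) = (m : ℝ) := by exact_mod_cast hm
  -- `T > 0`
  have h1reg : (1 : G) ∈ Reg := by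
    rw [hReg, Finset.mem_filter]
    refine ⟨Finset.mem_univ _, ?_⟩
    rw [orderOf_one]
    exact hp.out.one_lt.ne' ∘ Nat.dvd_one.mp
  have hTpos : 0 < T := by
    rw [hT]
    refine Finset.sum_pos' (fun x _ => Complex.normSq_nonneg _) ⟨1, h1reg, ?_⟩
    exact Complex.normSq_pos.mpr (irr_one_ne_zero χ)
  have hmpos : (0 : ℝ) < (m : ℝ) := by
    rw [← hm']
    positivity
  have hm1 : (1 : ℝ) ≤ (m : ℝ) := by
    have : (0 : ℤ) < m := by exact_mod_cast hmpos
    exact_mod_cast this
  have hge : (Nat.card G : ℝ) ≤ (Nat.card D : ℝ) * T := by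
    have := hm'
    rw [div_eq_iff hGpos.ne'] at this
    nlinarith
  -- the injective multiplication map
  set s : Finset (D × G) := (Finset.univ : Finset D) ×ˢ Reg with hs
  set f : D × G → G := fun w => (w.1 : G) * w.2 with hf
  have hinj : ∀ w ∈ s, ∀ w' ∈ s, f w = f w' → w = w' := by
    rintro ⟨z, x⟩ hw ⟨z', x'⟩ hw' hww
    simp only [hs, hReg, Finset.mem_product, Finset.mem_univ, Finset.mem_filter, true_and] at hw hw'
    simp only [hf] at hww
    have hx' : x' = ((z' : G)⁻¹ * (z : G)) * x := by
      rw [mul_assoc, hww]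
      group
    have hu : (z' : G)⁻¹ * (z : G) ∈ D := D.mul_mem (D.inv_mem z'.2) z.2
    have hu1 : (z' : G)⁻¹ * (z : G) = 1 := by
      by_contra hne
      apply hw'
      rw [hx']
      exact Helper77.dvd_orderOf_mul_of_isPGroup hD hu hne
        (Subgroup.mem_center_iff.mp (hDZ hu) x).symm hw
    have hzz : (z : G) = (z' : G) := by
      have := congrArg (fun t => (z' : G) * t) hu1
      simpa using this
    have hzz' : z = z' := Subtype.ext hzz
    subst hzz'
    rw [hu1, one_mul] at hx'
    rw [hx']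
  have hsum_image : ∑ g ∈ s.image f, Complex.normSq ((χ : G → ℂ) g) = (Nat.card D : ℝ) * T := by
    rw [Finset.sum_image hinj, hs, Finset.sum_product]
    have : ∀ z : D, ∑ x ∈ Reg, Complex.normSq ((χ : G → ℂ) (f (z, x))) = T := by
      intro z
      rw [hT]
      refine Finset.sum_congr rfl (fun x _ => ?_)
      exact normSq_central_mul χ (hDZ z.2) x
    rw [Finset.sum_congr rfl (fun z _ => this z), Finset.sum_const, Finset.card_univ,
      Nat.card_eq_fintype_card, nsmul_eq_mul]
  have htotal := sum_normSq_irr χ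
  have hsplit := Finset.sum_sdiff (Finset.subset_univ (s.image f))
    (f := fun g => Complex.normSq ((χ : G → ℂ) g))
  have hcompl : ∑ g ∈ Finset.univ \ s.image f, Complex.normSq ((χ : G → ℂ) g) = 0 := by
    have hnonneg : 0 ≤ ∑ g ∈ Finset.univ \ s.image f, Complex.normSq ((χ : G → ℂ) g) :=
      Finset.sum_nonneg (fun g _ => Complex.normSq_nonneg _)
    rw [hsum_image, htotal] at hsplit
    linarith
  refine ⟨?_, fun g hg => ?_⟩
  · have hnonneg : 0 ≤ ∑ g ∈ Finset.univ \ s.image f, Complex.normSq ((χ : G → ℂ) g) :=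
      Finset.sum_nonneg (fun g _ => Complex.normSq_nonneg _)
    rw [hsum_image, htotal] at hsplit
    linarith
  · have hgmem : g ∈ Finset.univ \ s.image f := by
      rw [Finset.mem_sdiff]
      refine ⟨Finset.mem_univ _, ?_⟩
      intro hmem
      obtain ⟨⟨z, x⟩, hw, hfw⟩ := Finset.mem_image.mp hmem
      simp only [hs, hReg, Finset.mem_product, Finset.mem_univ, Finset.mem_filter, true_and] at hw
      exact hg z z.2 x hw hfw.symm
    have := (Finset.sum_eq_zero_iff_of_nonneg (fun g _ => Complex.normSq_nonneg _)).mp hcompl g hgmem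
    exact Complex.normSq_eq_zero.mp this


open Classical in
/-- Every member of the block of a character of defect zero modulo the central `p`-subgroup `D`
has degree divisible by the `p`-part of `[G : D]`. -/
theorem index_factorization_le_of_sameBlock [hp : Fact p.Prime] (hM : IsPModular p M)
    (D : Subgroup G) (hD : IsPGroup p D) (hDZ : D ≤ Subgroup.center G) (χ : IrrCharacter G)
    (hdeg : (charDegree (χ : G → ℂ)).factorization p = D.index.factorization p)
    (ψ : IrrCharacter G) (hψ : SameBlock M (χ : G → ℂ) (ψ : G → ℂ)) :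
    D.index.factorization p ≤ (charDegree (ψ : G → ℂ)).factorization p := by
  haveI hMp : M.IsPrime := IsPModular.isPrime hM
  obtain ⟨hT, -⟩ := central_defect_zero_aux D hD hDZ χ hdeg
  set Reg : Finset G := Finset.univ.filter (fun x : G => ¬ p ∣ orderOf x) with hReg
  have hcardD := card_eq_pow_of_degree D hD χ hdeg
  have hidx0 : D.index ≠ 0 := Subgroup.index_ne_zero_of_finite
  have hDne : (Nat.card D : ℂ) ≠ 0 := by exact_mod_cast Nat.card_pos.ne'
  have hGD : (Nat.card G : ℂ) = (D.index : ℂ) * (Nat.card D : ℂ) := by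
    exact_mod_cast (Subgroup.index_mul_card D).symm
  -- the class function `s'`
  set s' : G → ℂ := fun x => if p ∣ orderOf x then (0 : ℂ) else (χ : G → ℂ) x⁻¹ with hs'
  have hχchar := Helper74.irr_isCharacter χ
  have hψchar := Helper74.irr_isCharacter ψ
  have hs'cf : IsClassFunction G s' := by
    intro g h
    have h1 : orderOf (h * g * h⁻¹) = orderOf g := by
      have : SemiconjBy h g (h * g * h⁻¹) := by
        unfold SemiconjBy; group
      exact this.orderOf_eq.symm
    have h2 : (h * g * h⁻¹)⁻¹ = h * g⁻¹ * h⁻¹ := by group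
    simp only [hs', h1, h2]
    rw [irr_isClassFunction χ g⁻¹ h]
  have hs'R : ∀ x, MemLocalRing M (s' x) := by
    intro x
    simp only [hs']
    by_cases hx : p ∣ orderOf x
    · rw [if_pos hx]; exact memLocalRing_zero
    · rw [if_neg hx]
      exact memLocalRing_of_isIntegral (Helper80.IsCharacter.isIntegral hχchar _)
  -- `omega χ s'`
  have hdegχ : ((charDegree (χ : G → ℂ) : ℕ) : ℂ) = (χ : G → ℂ) 1 := Helper74.charDegree_cast hχchar
  have hdegψ : ((charDegree (ψ : G → ℂ) : ℕ) : ℂ) = (ψ : G → ℂ) 1 := Helper74.charDegree_cast hψchar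
  have hχ1 : (χ : G → ℂ) 1 ≠ 0 := irr_one_ne_zero χ
  have hψ1 : (ψ : G → ℂ) 1 ≠ 0 := irr_one_ne_zero ψ
  have homχ : omega (χ : G → ℂ) s' = (D.index : ℂ) / ((charDegree (χ : G → ℂ) : ℕ) : ℂ) := by
    unfold omega
    have hsum : ∑ x : G, s' x * (χ : G → ℂ) x =
        ((∑ x ∈ Reg, Complex.normSq ((χ : G → ℂ) x) : ℝ) : ℂ) := by
      rw [hReg, Finset.sum_filter]
      push_cast
      refine Finset.sum_congr rfl (fun x _ => ?_)
      simp only [hs']
      by_cases hx : p ∣ orderOf x
      · simp [hx]
      · simp only [hx, if_false, not_false_eq_true, if_true]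
        rw [Helper74.char_inv hχchar, mul_comm, Complex.mul_conj]
    have hT' : (Nat.card D : ℂ) * ((∑ x ∈ Reg, Complex.normSq ((χ : G → ℂ) x) : ℝ) : ℂ) =
        (Nat.card G : ℂ) := by exact_mod_cast hT
    rw [hsum, hdegχ]
    have : ((∑ x ∈ Reg, Complex.normSq ((χ : G → ℂ) x) : ℝ) : ℂ) = (D.index : ℂ) := by
      have h1 : (Nat.card D : ℂ) * ((∑ x ∈ Reg, Complex.normSq ((χ : G → ℂ) x) : ℝ) : ℂ) =
          (Nat.card D : ℂ) * (D.index : ℂ) := by rw [hT', hGD]; ring
      exact mul_left_cancel₀ hDne h1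
    rw [this]
  have hnotI : ¬ MemLocalIdeal M (omega (χ : G → ℂ) s') := by
    rw [homχ]
    intro hI
    rcases factorization_lt_of_memLocalIdeal_div hM (irr_charDegree_ne_zero χ) hI with h0 | hlt
    · exact hidx0 h0
    · omega
  -- `omega ψ s'`
  have hΘ := Helper76.isGenChar_defect_mul_pRegular p χ.2
  rw [← hcardD] at hΘ
  obtain ⟨m, hm⟩ := Helper25.isGenChar_inner_int hΘ (Helper25.isGenChar_of_isCharacter hψchar)
  have hsumψ : ∑ x : G, s' x * (ψ : G → ℂ) x = (D.index : ℂ) * (m : ℂ) := by
    unfold classInner at hm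
    have h1 : ∑ g : G, (if p ∣ orderOf g then (0 : ℂ) else
        ((Nat.card D : ℕ) : ℂ) * (χ : G → ℂ) g) * conj ((ψ : G → ℂ) g) =
        (Nat.card D : ℂ) * conj (∑ x : G, s' x * (ψ : G → ℂ) x) := by
      rw [map_sum, Finset.mul_sum]
      refine Finset.sum_congr rfl (fun x _ => ?_)
      simp only [hs']
      by_cases hx : p ∣ orderOf x
      · simp [hx]
      · simp only [hx, if_false]
        rw [Helper74.char_inv hχchar, map_mul, Complex.conj_conj]
        ring
    rw [h1] at hm
    have hcard : (Nat.card G : ℂ) ≠ 0 := card_ne_zero'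
    have h2 : (Nat.card D : ℂ) * conj (∑ x : G, s' x * (ψ : G → ℂ) x) =
        (Nat.card G : ℂ) * (m : ℂ) := by
      field_simp at hm
      linear_combination hm
    rw [hGD] at h2
    have h3 : conj (∑ x : G, s' x * (ψ : G → ℂ) x) = (D.index : ℂ) * (m : ℂ) := by
      apply mul_left_cancel₀ hDne
      linear_combination h2
    have h4 := congrArg conj h3
    rw [Complex.conj_conj] at h4
    rw [h4]
    simp
  have homψ : omega (ψ : G → ℂ) s' =
      (D.index : ℂ) * (m : ℂ) / ((charDegree (ψ : G → ℂ) : ℕ) : ℂ) := by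
    unfold omega
    rw [hsumψ, hdegψ]
  have hsub := omega_sub_memLocalIdeal hψ hs'cf hs'R
  have hnotIψ : ¬ MemLocalIdeal M (omega (ψ : G → ℂ) s') := by
    intro hI
    apply hnotI
    have := memLocalIdeal_add hsub hI
    rwa [sub_add_cancel] at this
  rw [homψ] at hnotIψ
  -- the valuation argument
  have hm0 : m ≠ 0 := by
    rintro rfl
    apply hnotIψ
    simp only [Int.cast_zero, mul_zero, zero_div]
    exact memLocalIdeal_zero
  set n : ℕ := D.index * m.natAbs with hn
  have hn0 : n ≠ 0 := Nat.mul_ne_zero hidx0 (Int.natAbs_ne_zero.mpr hm0)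
  have hnotIn : ¬ MemLocalIdeal M ((n : ℂ) / ((charDegree (ψ : G → ℂ) : ℕ) : ℂ)) := by
    intro hI
    apply hnotIψ
    rcases Int.natAbs_eq m with hpos | hneg
    · have : (D.index : ℂ) * (m : ℂ) = (n : ℂ) := by
        rw [hn]
        push_cast
        congr 1
        rw [hpos]
        simp
      rw [this]
      exact hI
    · have : (D.index : ℂ) * (m : ℂ) = -(n : ℂ) := by
        rw [hn]
        push_cast
        rw [show (m : ℂ) = ((m : ℤ) : ℂ) from rfl, hneg]
        simp
      rw [this, neg_div]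
      exact memLocalIdeal_neg hI
  have hle : n.factorization p ≤ (charDegree (ψ : G → ℂ)).factorization p := by
    by_contra hlt
    exact hnotIn (memLocalIdeal_div_of_factorization_lt hM (irr_charDegree_ne_zero ψ) hn0
      (not_le.mp hlt))
  have hnfac : n.factorization p = D.index.factorization p + m.natAbs.factorization p := by
    rw [hn, Nat.factorization_mul hidx0 (Int.natAbs_ne_zero.mpr hm0)]
    simp only [Finsupp.coe_add, Pi.add_apply]
  omega


/-- **A central `p`-subgroup `D` with `ν_p(χ(1)) = ν_p([G : D])` is a defect group of the block of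
`χ`.** -/
theorem isDefectGroup_of_central_defect_zero [hp : Fact p.Prime] (hM : IsPModular p M)
    (D : Subgroup G) (hD : IsPGroup p D) (hDZ : D ≤ Subgroup.center G) (χ : IrrCharacter G)
    (hdeg : (charDegree (χ : G → ℂ)).factorization p = D.index.factorization p) :
    IsDefectGroup p M (blockOf M (χ : G → ℂ)) D := by
  classical
  haveI hMp : M.IsPrime := IsPModular.isPrime hM
  have hB : IsPBlock M (blockOf M (χ : G → ℂ)) := ⟨χ, rfl⟩
  have hχB : χ ∈ blockOf M (χ : G → ℂ) := Helper78.mem_blockOf_self hMp χ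
  obtain ⟨D', hD'⟩ := exists_defectGroup (M := M) p χ
  have hcard' : Nat.card D' = p ^ blockDefect p (blockOf M (χ : G → ℂ)) :=
    Helper77.card_defectGroup hM hB D' hD'
  have hcardD := card_eq_pow_of_degree D hD χ hdeg
  -- the defect of the block
  obtain ⟨χ', hχ', hdef, hmin⟩ := exists_height_zero' p (blockOf M (χ : G → ℂ)) ⟨χ, hχB⟩
  have h1 : D.index.factorization p ≤ (charDegree (χ' : G → ℂ)).factorization p :=
    index_factorization_le_of_sameBlock hM D hD hDZ χ hdeg χ' hχ'
  have h2 := hmin χ hχB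
  have hdefect : blockDefect p (blockOf M (χ : G → ℂ)) =
      (Nat.card G).factorization p - (charDegree (χ : G → ℂ)).factorization p := by
    rw [hdef]
    congr 1
    omega
  have hcardeq : Nat.card D' = Nat.card D := by rw [hcard', hdefect, hcardD]
  have hle : D ≤ D' := by
    haveI : D.Normal := normal_of_le_center hDZ
    exact (Cfsg.Agent.Lib.le_pCore inferInstance hD).trans
      (Cfsg.Agent.S0912.result p M hM _ hB D' hD')
  have : D = D' := Subgroup.eq_of_le_of_card_ge hle hcardeq.le
  rw [this]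
  exact hD'

end Cfsg.Agent.Helper16
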