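import Cfsg.Agent.Helper16.Contribution5
import Cfsg.Agent.Helper16.Defect

/-!
# Contributions of subsections through central characters

For a subsection `(x, b)` of `G` and irreducible characters `χ, ψ` of `G`, the number
`|G| m_{χψ} / ψ(1)` is a sum, over the classes of `C_G(x)`, of a value of the `b`-part of `χ` times
a value of the central character of `ψ`.  Consequences: it is a local integer, and it is the same
modulo the local ideal for all `ψ` in one block.
-/

set_option autoImplicit false
set_option linter.unusedSectionVars false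
set_option linter.unusedVariables false

namespace Cfsg.Agent.Helper16

open Cfsg
open scoped ComplexConjugate
open Cfsg.Agent.S4426 (cut)

section CC

variable {G : Type*} [Group G] [Fintype G] {M : Ideal AlgInt} {p : ℕ}

theorem isClassFunction_cut' {H : Type*} [Group H] (p : ℕ) (c : ℂ) {f : H → ℂ}
    (hf : IsClassFunction H f) : IsClassFunction H (cut p c f) := by
  intro y t
  unfold cut
  have ho : orderOf (t * y * t⁻¹) = orderOf y :=
    (orderOf_eq_of_isConj' (isConj_iff.mpr ⟨t, rfl⟩ : IsConj y (t * y * t⁻¹))).symm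
  rw [ho, hf y t]

theorem centralizer_singleton_inv_cc (g : G) :
    Subgroup.centralizer ({g⁻¹} : Set G) = Subgroup.centralizer ({g} : Set G) := by
  ext h
  rw [Subgroup.mem_centralizer_singleton_iff, Subgroup.mem_centralizer_singleton_iff]
  constructor
  · intro e
    have : g * (h * g⁻¹) * g = g * (g⁻¹ * h) * g := by rw [e]
    simpa [mul_assoc] using this.symm
  · intro e
    have : g⁻¹ * (h * g) * g⁻¹ = g⁻¹ * (g * h) * g⁻¹ := by rw [e]
    simpa [mul_assoc] using this.symm

theorem sum_univ_inst {T : Type*} {β : Type*} [AddCommMonoid β] (i1 i2 : Fintype T) (g : T → β) :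
    @Finset.sum T β _ (@Finset.univ T i1) g = @Finset.sum T β _ (@Finset.univ T i2) g := by
  rw [Subsingleton.elim i1 i2]

/-- **The central character form of a contribution.** -/
theorem card_div_mul_contribE [Fact p.Prime] (x : G) (hx : ∃ k : ℕ, orderOf x = p ^ k)
    [Fintype (Subgroup.centralizer ({x} : Set G))]
    [Fintype (ConjClasses (Subgroup.centralizer ({x} : Set G)))]
    (b : Set (IrrCharacter (Subgroup.centralizer ({x} : Set G)))) (χ ψ : IrrCharacter G) :
    (Nat.card G : ℂ) / (ψ : G → ℂ) 1 *
      contribE p (Subgroup.centralizer ({x} : Set G)) x b (χ : G → ℂ) (ψ : G → ℂ) =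
    ∑ C : ConjClasses (Subgroup.centralizer ({x} : Set G)),
      cut p 1 (shiftPart x b (χ : G → ℂ)) (classRep C) *
        centralChar (ψ : G → ℂ)
          ((x * ((classRep C : Subgroup.centralizer ({x} : Set G)) : G))⁻¹) := by
  have hχ := irr_isClassFunction χ
  have hψ := irr_isClassFunction ψ
  have hψ1 : (ψ : G → ℂ) 1 ≠ 0 := irr_one_ne_zero ψ
  have hG0 : (Nat.card G : ℂ) ≠ 0 := Helper79.card_ne_zero_complex
  have hK0 : (Nat.card (Subgroup.centralizer ({x} : Set G)) : ℂ) ≠ 0 :=
    Helper79.card_ne_zero_complex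
  have hcomm : ∀ t : Subgroup.centralizer ({x} : Set G), x * (t : G) = (t : G) * x := by
    intro t
    have := t.2
    rw [Subgroup.mem_centralizer_iff] at this
    exact this x (Set.mem_singleton x)
  set f : Subgroup.centralizer ({x} : Set G) → ℂ := cut p 1 (shiftPart x b (χ : G → ℂ)) with hf
  have hfcl : IsClassFunction (Subgroup.centralizer ({x} : Set G)) f := by
    apply isClassFunction_cut'
    rw [shiftPart_eq_blockPart x b hχ]
    exact isClassFunction_blockPart b _
  set w : Subgroup.centralizer ({x} : Set G) → ℂ :=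
    fun c => centralChar (ψ : G → ℂ) ((x * (c : G))⁻¹) with hw
  have hwcl : IsClassFunction (Subgroup.centralizer ({x} : Set G)) w := by
    intro c t
    show centralChar (ψ : G → ℂ) ((x * ((t * c * t⁻¹ : Subgroup.centralizer ({x} : Set G)) : G))⁻¹) =
      centralChar (ψ : G → ℂ) ((x * (c : G))⁻¹)
    have e : (x * ((t * c * t⁻¹ : Subgroup.centralizer ({x} : Set G)) : G))⁻¹ =
        (t : G) * (x * (c : G))⁻¹ * (t : G)⁻¹ := by
      have e1 : x * ((t * c * t⁻¹ : Subgroup.centralizer ({x} : Set G)) : G) =
          (t : G) * (x * (c : G)) * (t : G)⁻¹ := by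
        push_cast
        rw [← mul_assoc, ← mul_assoc, hcomm t]
        simp only [mul_assoc]
      rw [e1]
      simp only [mul_inv_rev, inv_inv, mul_assoc]
    rw [e, centralChar_conj hψ]
  set u : Subgroup.centralizer ({x} : Set G) → ℂ :=
    centralChar (fun _ : Subgroup.centralizer ({x} : Set G) => (1 : ℂ)) with hu
  have h1cl : IsClassFunction (Subgroup.centralizer ({x} : Set G))
      (fun _ : Subgroup.centralizer ({x} : Set G) => (1 : ℂ)) := fun _ _ => rfl
  have hucl : IsClassFunction (Subgroup.centralizer ({x} : Set G)) u := by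
    intro c t
    exact centralChar_conj h1cl c t
  have huval : ∀ c : Subgroup.centralizer ({x} : Set G), u c =
      ((Subgroup.centralizer ({c} : Set (Subgroup.centralizer ({x} : Set G)))).index : ℂ) := by
    intro c
    rw [hu]
    unfold centralChar
    rw [mul_one, div_one]
  have hune : ∀ c : Subgroup.centralizer ({x} : Set G), u c ≠ 0 := by
    intro c
    rw [huval]
    have : (Subgroup.centralizer ({c} : Set (Subgroup.centralizer ({x} : Set G)))).index ≠ 0 :=
      Subgroup.index_ne_zero_of_finite
    exact_mod_cast this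
  set s : Subgroup.centralizer ({x} : Set G) → ℂ := fun c => f c * w c / u c with hs
  have hscl : IsClassFunction (Subgroup.centralizer ({x} : Set G)) s := by
    intro c t
    show f (t * c * t⁻¹) * w (t * c * t⁻¹) / u (t * c * t⁻¹) = f c * w c / u c
    rw [hfcl c t, hwcl c t, hucl c t]
  have hcls := omega_eq_sum_classes (fun _ : Subgroup.centralizer ({x} : Set G) => (1 : ℂ)) s
    h1cl hscl
  have hcls' : omega (fun _ : Subgroup.centralizer ({x} : Set G) => (1 : ℂ)) s =
      ∑ C : ConjClasses (Subgroup.centralizer ({x} : Set G)),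
        f (classRep C) * w (classRep C) := by
    refine hcls.trans ((sum_univ_inst _ _ _).trans (Finset.sum_congr rfl (fun C _ => ?_)))
    show f (classRep C) * w (classRep C) / u (classRep C) * u (classRep C) = _
    rw [div_mul_cancel₀ _ (hune _)]
  rw [← hcls']
  unfold omega
  rw [div_one, ← classInner_cut_shiftPart x b hχ hψ]
  unfold classInner
  rw [← mul_assoc, Finset.mul_sum]
  refine Finset.sum_congr rfl (fun c _ => ?_)
  rw [mul_one]
  show (Nat.card G : ℂ) / (ψ : G → ℂ) 1 * (Nat.card (Subgroup.centralizer ({x} : Set G)) : ℂ)⁻¹ *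
    (f c * conj ((ψ : G → ℂ) (x * (c : G)))) = f c * w c / u c
  by_cases hc : p ∣ orderOf c
  · have hz : f c = 0 := by rw [hf]; unfold cut; rw [if_pos hc]
    rw [hz, zero_mul, zero_mul, zero_div, mul_zero]
  · rw [huval c]
    show _ = f c * centralChar (ψ : G → ℂ) ((x * (c : G))⁻¹) / _
    unfold centralChar
    rw [centralizer_singleton_inv_cc, Helper79.irr_inv ψ (x * (c : G))]
    have hcard1 : ((Subgroup.centralizer ({x * (c : G)} : Set G)).index : ℂ) *
        (Nat.card (Subgroup.centralizer ({x * (c : G)} : Set G)) : ℂ) = (Nat.card G : ℂ) := by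
      have := Subgroup.index_mul_card (Subgroup.centralizer ({x * (c : G)} : Set G))
      exact_mod_cast this
    have hcard2 : ((Subgroup.centralizer
        ({c} : Set (Subgroup.centralizer ({x} : Set G)))).index : ℂ) *
        (Nat.card (Subgroup.centralizer ({c} : Set (Subgroup.centralizer ({x} : Set G)))) : ℂ) =
        (Nat.card (Subgroup.centralizer ({x} : Set G)) : ℂ) := by
      have := Subgroup.index_mul_card
        (Subgroup.centralizer ({c} : Set (Subgroup.centralizer ({x} : Set G))))
      exact_mod_cast this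
    have hcc := card_centralizer_mul x hx c hc
    have hC0 : (Nat.card (Subgroup.centralizer
        ({c} : Set (Subgroup.centralizer ({x} : Set G)))) : ℂ) ≠ 0 := by
      have : 0 < Nat.card (Subgroup.centralizer
        ({c} : Set (Subgroup.centralizer ({x} : Set G)))) := Nat.card_pos
      exact_mod_cast this.ne'
    have hi0 : ((Subgroup.centralizer
        ({c} : Set (Subgroup.centralizer ({x} : Set G)))).index : ℂ) ≠ 0 := by
      have : (Subgroup.centralizer
        ({c} : Set (Subgroup.centralizer ({x} : Set G)))).index ≠ 0 :=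
        Subgroup.index_ne_zero_of_finite
      exact_mod_cast this
    rw [hcc] at hcard1
    rw [← hcard1, ← hcard2]
    field_simp

/-- values of the cut `b`-part are local integers -/
theorem memLocalRing_cut_shiftPart [hMp : M.IsPrime] (x : G)
    [Fintype (Subgroup.centralizer ({x} : Set G))]
    {b : Set (IrrCharacter (Subgroup.centralizer ({x} : Set G)))} (hb : IsPBlock M b)
    (χ : IrrCharacter G) (y : Subgroup.centralizer ({x} : Set G)) :
    MemLocalRing M (cut p 1 (shiftPart x b (χ : G → ℂ)) y) := by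
  unfold cut
  by_cases hy : p ∣ orderOf y
  · rw [if_pos hy]; exact memLocalRing_zero
  · rw [if_neg hy, one_mul, shiftPart_def]
    refine memLocalRing_sum _ _ (fun k _ => ?_)
    exact memLocalRing_mul (Helper77.blockCoeff_memLocalRing hb k)
      (memLocalRing_of_isIntegral (Helper78.isIntegral_irrChar_apply χ.2 _))

/-- **Local integrality of `|G| m_{χψ} / ψ(1)`.** -/
theorem memLocalRing_card_div_mul_contribE_aux [Fact p.Prime] (hM : IsPModular p M) (x : G)
    (hx : ∃ k : ℕ, orderOf x = p ^ k) [Fintype (Subgroup.centralizer ({x} : Set G))]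
    {b : Set (IrrCharacter (Subgroup.centralizer ({x} : Set G)))} (hb : IsPBlock M b)
    (χ ψ : IrrCharacter G) :
    MemLocalRing M ((Nat.card G : ℂ) / (ψ : G → ℂ) 1 *
      contribE p (Subgroup.centralizer ({x} : Set G)) x b (χ : G → ℂ) (ψ : G → ℂ)) := by
  classical
  haveI hMp : M.IsPrime := IsPModular.isPrime hM
  rw [card_div_mul_contribE x hx b χ ψ]
  refine memLocalRing_sum _ _ (fun C _ => ?_)
  exact memLocalRing_mul (memLocalRing_cut_shiftPart x hb χ _) (centralChar_memLocalRing ψ _)

/-- **`|G| m_{χψ} / ψ(1)` depends only on the block of `ψ`, modulo the local ideal.** -/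
theorem memLocalIdeal_card_div_mul_contribE_sub_aux [Fact p.Prime] (hM : IsPModular p M) (x : G)
    (hx : ∃ k : ℕ, orderOf x = p ^ k) [Fintype (Subgroup.centralizer ({x} : Set G))]
    {b : Set (IrrCharacter (Subgroup.centralizer ({x} : Set G)))} (hb : IsPBlock M b)
    (χ ψ ψ' : IrrCharacter G) (hsame : SameBlock M (ψ : G → ℂ) (ψ' : G → ℂ)) :
    MemLocalIdeal M ((Nat.card G : ℂ) / (ψ : G → ℂ) 1 *
        contribE p (Subgroup.centralizer ({x} : Set G)) x b (χ : G → ℂ) (ψ : G → ℂ) -
      (Nat.card G : ℂ) / (ψ' : G → ℂ) 1 *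
        contribE p (Subgroup.centralizer ({x} : Set G)) x b (χ : G → ℂ) (ψ' : G → ℂ)) := by
  classical
  haveI hMp : M.IsPrime := IsPModular.isPrime hM
  rw [card_div_mul_contribE x hx b χ ψ, card_div_mul_contribE x hx b χ ψ',
    ← Finset.sum_sub_distrib]
  refine memLocalIdeal_sum _ _ (fun C _ => ?_)
  rw [← mul_sub]
  exact memLocalIdeal_mul_left (memLocalRing_cut_shiftPart x hb χ _) (hsame _)

/-- local integrality, general subgroup form -/
theorem memLocalRing_card_div_mul_contribE [Fact p.Prime] (hM : IsPModular p M) (x : G)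
    (hx : ∃ k : ℕ, orderOf x = p ^ k) (H : Subgroup G) [Fintype H]
    (hH : H = Subgroup.centralizer ({x} : Set G))
    {b : Set (IrrCharacter H)} (hb : IsPBlock M b) (χ ψ : IrrCharacter G) :
    MemLocalRing M ((Nat.card G : ℂ) / (ψ : G → ℂ) 1 *
      contribE p H x b (χ : G → ℂ) (ψ : G → ℂ)) := by
  subst hH
  exact memLocalRing_card_div_mul_contribE_aux hM x hx hb χ ψ

/-- congruence, general subgroup form -/
theorem memLocalIdeal_card_div_mul_contribE_sub [Fact p.Prime] (hM : IsPModular p M) (x : G)
    (hx : ∃ k : ℕ, orderOf x = p ^ k) (H : Subgroup G) [Fintype H]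
    (hH : H = Subgroup.centralizer ({x} : Set G))
    {b : Set (IrrCharacter H)} (hb : IsPBlock M b)
    (χ ψ ψ' : IrrCharacter G) (hsame : SameBlock M (ψ : G → ℂ) (ψ' : G → ℂ)) :
    MemLocalIdeal M ((Nat.card G : ℂ) / (ψ : G → ℂ) 1 *
        contribE p H x b (χ : G → ℂ) (ψ : G → ℂ) -
      (Nat.card G : ℂ) / (ψ' : G → ℂ) 1 *
        contribE p H x b (χ : G → ℂ) (ψ' : G → ℂ)) := by
  subst hH
  exact memLocalIdeal_card_div_mul_contribE_sub_aux hM x hx hb χ ψ ψ' hsame

open Classical in
/-- the contribution matrix is hermitian -/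
theorem contribE_conj_symm [Fact p.Prime] (hM : IsPModular p M) (H : Subgroup G) [Fintype H]
    (x : G) {b : Set (IrrCharacter H)} (hb : IsPBlock M b) (χ ψ : G → ℂ) :
    conj (contribE p H x b χ ψ) = contribE p H x b ψ χ := by
  haveI hMp : M.IsPrime := IsPModular.isPrime hM
  unfold contribE
  rw [map_sum]
  have h1 : ∀ θ : IrrCharacter H, conj (∑ θ' : IrrCharacter H, (if θ ∈ b then (1 : ℂ) else 0) *
      (classInner (fun c : H => χ (x * (c : G))) (θ : H → ℂ) *
        conj (classInner (fun c : H => ψ (x * (c : G))) (θ' : H → ℂ)) *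
        classInner (cut p 1 (θ : H → ℂ)) (θ' : H → ℂ))) =
      ∑ θ' : IrrCharacter H, (if θ' ∈ b then (1 : ℂ) else 0) *
      (classInner (fun c : H => ψ (x * (c : G))) (θ' : H → ℂ) *
        conj (classInner (fun c : H => χ (x * (c : G))) (θ : H → ℂ)) *
        classInner (cut p 1 (θ' : H → ℂ)) (θ : H → ℂ)) := by
    intro θ
    rw [map_sum]
    refine Finset.sum_congr rfl (fun θ' _ => ?_)
    have hsym : conj (classInner (cut p 1 (θ : H → ℂ)) (θ' : H → ℂ)) =
        classInner (cut p 1 (θ' : H → ℂ)) (θ : H → ℂ) := by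
      rw [Cfsg.Agent.S4426.classInner_cut_symm p 1 (map_one _) (θ' : H → ℂ) (θ : H → ℂ)]
    by_cases hθ : θ ∈ b
    · by_cases hθ' : θ' ∈ b
      · rw [if_pos hθ, if_pos hθ', one_mul, one_mul, map_mul, map_mul, Complex.conj_conj, hsym]
        ring
      · have hz : classInner (cut p 1 (θ : H → ℂ)) (θ' : H → ℂ) = 0 := by
          apply Cfsg.Agent.S4431.classInner_cut_eq_zero hM 1 θ θ'
          rw [← Helper78.isPBlock_eq_blockOf_of_mem hMp hb hθ]
          exact hθ'
        rw [if_neg hθ', zero_mul, hz, mul_zero, mul_zero, map_zero]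
    · by_cases hθ' : θ' ∈ b
      · have hz : classInner (cut p 1 (θ' : H → ℂ)) (θ : H → ℂ) = 0 := by
          apply Cfsg.Agent.S4431.classInner_cut_eq_zero hM 1 θ' θ
          rw [← Helper78.isPBlock_eq_blockOf_of_mem hMp hb hθ']
          exact hθ
        rw [if_neg hθ, zero_mul, hz, mul_zero, mul_zero, map_zero]
      · rw [if_neg hθ, if_neg hθ', zero_mul, zero_mul, map_zero]
  rw [Finset.sum_congr rfl (fun θ _ => h1 θ), Finset.sum_comm]

end CC

end Cfsg.Agent.Helper16
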