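import Cfsg.Agent.Helper16.ContribMajor

/-!
# Transport of contributions along conjugation, and the sum of all diagonal contributions
-/

set_option autoImplicit false
set_option linter.unusedSectionVars false
set_option linter.unusedVariables false

namespace Cfsg.Agent.Helper16

open Cfsg
open scoped ComplexConjugate
open Cfsg.Agent.S4426 (cut)

section Transport

variable {H H' : Type*} [Group H] [Group H'] [Fintype H] [Fintype H']

/-- the class inner product along an isomorphism -/
theorem classInner_comp_mulEquiv (σ : H ≃* H') (F G' : H' → ℂ) :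
    classInner (fun c : H => F (σ c)) (fun c : H => G' (σ c)) = classInner F G' := by
  unfold classInner
  rw [Nat.card_congr σ.toEquiv]
  congr 1
  exact Equiv.sum_comp σ.toEquiv (fun c' => F c' * conj (G' c'))

theorem cut_comp_mulEquiv (p : ℕ) (c : ℂ) (σ : H ≃* H') (F : H' → ℂ) :
    (fun y : H => cut p c F (σ y)) = cut p c (fun y : H => F (σ y)) := by
  funext y
  unfold cut
  rw [MulEquiv.orderOf_eq]

theorem irrMap_comp (σ : H ≃* H') (θ : IrrCharacter H) :
    (fun c : H => (Helper78.irrMap σ θ : H' → ℂ) (σ c)) = (θ : H → ℂ) := by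
  funext c
  exact Helper78.irrMap_apply_apply σ θ c

end Transport

section TransportContrib

variable {G : Type*} [Group G] [Fintype G] {p : ℕ}

open Classical in
/-- **Contributions are invariant under conjugation.** -/
theorem contribE_transport (H H' : Subgroup G) [Fintype H] [Fintype H'] (σ : H ≃* H') (g : G)
    (hσ : ∀ c : H, ((σ c : H') : G) = g * (c : G) * g⁻¹) (x : G) (b : Set (IrrCharacter H))
    {χ ψ : G → ℂ} (hχ : IsClassFunction G χ) (hψ : IsClassFunction G ψ) :
    contribE p H' (g * x * g⁻¹) (Helper78.irrMap σ '' b) χ ψ = contribE p H x b χ ψ := by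
  unfold contribE
  have hshift : ∀ (φ : G → ℂ), IsClassFunction G φ → ∀ θ : IrrCharacter H,
      classInner (fun c' : H' => φ (g * x * g⁻¹ * (c' : G))) (Helper78.irrMap σ θ : H' → ℂ) =
        classInner (fun c : H => φ (x * (c : G))) (θ : H → ℂ) := by
    intro φ hφ θ
    rw [← classInner_comp_mulEquiv σ, irrMap_comp]
    congr 1
    funext c
    rw [hσ c]
    have e : g * x * g⁻¹ * (g * (c : G) * g⁻¹) = g * (x * (c : G)) * g⁻¹ := by group
    rw [e, hφ]
  have hcut : ∀ θ θ' : IrrCharacter H,
      classInner (cut p 1 (Helper78.irrMap σ θ : H' → ℂ)) (Helper78.irrMap σ θ' : H' → ℂ) =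
        classInner (cut p 1 (θ : H → ℂ)) (θ' : H → ℂ) := by
    intro θ θ'
    rw [← classInner_comp_mulEquiv σ, irrMap_comp, cut_comp_mulEquiv, irrMap_comp]
  have hbij : Function.Bijective (Helper78.irrMap σ) :=
    ⟨Helper78.irrMap_injective σ, Helper78.irrMap_surjective σ⟩
  rw [← hbij.sum_comp]
  refine Finset.sum_congr rfl (fun θ _ => ?_)
  rw [← hbij.sum_comp]
  refine Finset.sum_congr rfl (fun θ' _ => ?_)
  rw [hshift χ hχ θ, hshift ψ hψ θ', hcut θ θ']
  have hmem : Helper78.irrMap σ θ ∈ Helper78.irrMap σ '' b ↔ θ ∈ b :=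
    (Helper78.irrMap_injective σ).mem_set_image
  by_cases hθ : θ ∈ b
  · rw [if_pos hθ, if_pos (hmem.mpr hθ)]
  · rw [if_neg hθ, if_neg (fun h => hθ (hmem.mp h))]

end TransportContrib

section Bessel

variable {G : Type*} [Group G] [Fintype G] {M : Ideal AlgInt} {p : ℕ}

open Classical in
/-- the diagonal contributions of all blocks of one section -/
theorem sum_blocks_contribE_self [hMp : M.IsPrime] (x : G)
    [Fintype (Subgroup.centralizer ({x} : Set G))] (χ : IrrCharacter G) :
    ∑ β ∈ Helper77.blocksFinset M (Subgroup.centralizer ({x} : Set G)),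
      contribE p (Subgroup.centralizer ({x} : Set G)) x β (χ : G → ℂ) (χ : G → ℂ) =
    (Nat.card (Subgroup.centralizer ({x} : Set G)) : ℂ)⁻¹ *
      ∑ y : Subgroup.centralizer ({x} : Set G),
        (if ¬ p ∣ orderOf y then (χ : G → ℂ) (x * (y : G)) * conj ((χ : G → ℂ) (x * (y : G)))
          else 0) := by
  have hχ := irr_isClassFunction χ
  have h1 : ∀ β ∈ Helper77.blocksFinset M (Subgroup.centralizer ({x} : Set G)),
      contribE p (Subgroup.centralizer ({x} : Set G)) x β (χ : G → ℂ) (χ : G → ℂ) =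
      (Nat.card (Subgroup.centralizer ({x} : Set G)) : ℂ)⁻¹ *
        ∑ y : Subgroup.centralizer ({x} : Set G), cut p 1 (shiftPart x β (χ : G → ℂ)) y *
          conj ((χ : G → ℂ) (x * (y : G))) := by
    intro β _
    rw [← classInner_cut_shiftPart x β hχ hχ]
    rfl
  rw [Finset.sum_congr rfl h1, ← Finset.mul_sum, Finset.sum_comm]
  congr 1
  refine Finset.sum_congr rfl (fun y _ => ?_)
  rw [← Finset.sum_mul]
  by_cases hy : p ∣ orderOf y
  · rw [if_neg (not_not.mpr hy)]
    have hz : ∀ β ∈ Helper77.blocksFinset M (Subgroup.centralizer ({x} : Set G)),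
        cut p 1 (shiftPart x β (χ : G → ℂ)) y = 0 := by
      intro β _
      unfold cut
      rw [if_pos hy]
    rw [Finset.sum_congr rfl hz, Finset.sum_const_zero, zero_mul]
  · rw [if_pos hy]
    have hz : ∀ β ∈ Helper77.blocksFinset M (Subgroup.centralizer ({x} : Set G)),
        cut p 1 (shiftPart x β (χ : G → ℂ)) y = shiftPart x β (χ : G → ℂ) y := by
      intro β _
      unfold cut
      rw [if_neg hy, one_mul]
    rw [Finset.sum_congr rfl hz, sum_shiftPart (M := M) x (χ : G → ℂ) y]

open Classical in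
/-- **The diagonal contributions of all subsections sum to one.** -/
theorem sum_sections_contribE_self [Fact p.Prime] (hM : IsPModular p M)
    [∀ x : G, Fintype (Subgroup.centralizer ({x} : Set G))] (X : Finset G)
    (hX : ∀ x ∈ X, ∃ k : ℕ, orderOf x = p ^ k)
    (hXrep : ∀ g : G, (∃ k : ℕ, orderOf g = p ^ k) → ∃! x, x ∈ X ∧ IsConj g x)
    (χ : IrrCharacter G) :
    ∑ x ∈ X, ∑ β ∈ Helper77.blocksFinset M (Subgroup.centralizer ({x} : Set G)),
      contribE p (Subgroup.centralizer ({x} : Set G)) x β (χ : G → ℂ) (χ : G → ℂ) = 1 := by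
  haveI hMp : M.IsPrime := IsPModular.isPrime hM
  have hcard : (Nat.card G : ℂ) ≠ 0 := Helper79.card_ne_zero_complex
  set F : G → ℂ := fun g => (χ : G → ℂ) g * conj ((χ : G → ℂ) g) with hF
  have hFcl : IsClassFunction G F := by
    intro g t
    show (χ : G → ℂ) (t * g * t⁻¹) * conj ((χ : G → ℂ) (t * g * t⁻¹)) = _
    rw [irr_isClassFunction χ g t]
  have h1 : ∑ g : G, F g = (Nat.card G : ℂ) := by
    have := Helper79.classInner_irr_self χ
    unfold classInner at this
    calc ∑ g : G, F g = (Nat.card G : ℂ) * ((Nat.card G : ℂ)⁻¹ * ∑ g : G, F g) := by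
          rw [← mul_assoc, mul_inv_cancel₀ hcard, one_mul]
      _ = (Nat.card G : ℂ) := by rw [hF, this, mul_one]
  have h2 := sum_eq_sum_pSections X hX hXrep hFcl
  rw [h1] at h2
  have h3 : ∀ x ∈ X, (Nat.card G : ℂ) *
      (Nat.card (Subgroup.centralizer ({x} : Set G)) : ℂ)⁻¹ *
      ∑ y : Subgroup.centralizer ({x} : Set G),
        (if ¬ p ∣ orderOf y then F (x * (y : G)) else 0) =
      (Nat.card G : ℂ) * ∑ β ∈ Helper77.blocksFinset M (Subgroup.centralizer ({x} : Set G)),
        contribE p (Subgroup.centralizer ({x} : Set G)) x β (χ : G → ℂ) (χ : G → ℂ) := by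
    intro x _
    rw [sum_blocks_contribE_self (M := M) x χ, mul_assoc]
  rw [Finset.sum_congr rfl h3, ← Finset.mul_sum] at h2
  have h4 : (Nat.card G : ℂ) * 1 = (Nat.card G : ℂ) *
      ∑ x ∈ X, ∑ β ∈ Helper77.blocksFinset M (Subgroup.centralizer ({x} : Set G)),
        contribE p (Subgroup.centralizer ({x} : Set G)) x β (χ : G → ℂ) (χ : G → ℂ) := by
    rw [mul_one]; exact h2
  exact (mul_left_cancel₀ hcard h4).symm

end Bessel

end Cfsg.Agent.Helper16
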