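import Cfsg.Agent.Helper16.SubsectionCount
import Cfsg.Agent.S4431
import Cfsg.Agent.Helper79.BrauerFeit

/-!
# Contributions of a subsection

For a `p`-element `x`, `H = C_G(x)` and a block `b` of `H`, the contribution of `(x, b)` to the pair
`(χ, ψ)` of irreducible characters of `G` is
`m χ ψ = [ (χ^{(x,b)})⁰ , ψ_x ]_H`, where `χ^{(x,b)}` is the `b`-part of `c ↦ χ (x c)`.  The matrix
`m` is a hermitian idempotent of trace `l(b)`, so `∑_{χ, ψ} |m χ ψ|² = l(b)`.
-/

set_option autoImplicit false
set_option linter.unusedSectionVars false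
set_option linter.unusedVariables false

namespace Cfsg.Agent.Helper16

open Cfsg
open scoped ComplexConjugate
open Cfsg.Agent.S4426 (cut)

section Contrib

variable {G : Type*} [Group G] [Fintype G] {M : Ideal AlgInt} {p : ℕ}

theorem orderOf_eq_of_isConj' {H : Type*} [Group H] {a b : H} (h : IsConj a b) :
    orderOf a = orderOf b := by
  obtain ⟨c, hc⟩ := isConj_iff.mp h
  rw [← hc]
  have : c * a * c⁻¹ = MulAut.conj c a := by simp
  rw [this, MulEquiv.orderOf_eq]

/-- **Parseval on the `p`-section of `x`.** -/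
theorem section_parseval [Fact p.Prime] (x : G) (hx : ∃ k : ℕ, orderOf x = p ^ k)
    [Fintype (Subgroup.centralizer ({x} : Set G))]
    (f : Subgroup.centralizer ({x} : Set G) → ℂ) {g : Subgroup.centralizer ({x} : Set G) → ℂ}
    (hg : IsClassFunction (Subgroup.centralizer ({x} : Set G)) g) :
    ∑ ψ : IrrCharacter G,
      classInner (cut p 1 f)
        (fun c : Subgroup.centralizer ({x} : Set G) => (ψ : G → ℂ) (x * (c : G))) *
      conj (classInner (cut p 1 g)
        (fun c : Subgroup.centralizer ({x} : Set G) => (ψ : G → ℂ) (x * (c : G)))) =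
    classInner (cut p 1 f) g := by
  classical
  have hH0 : (Nat.card (Subgroup.centralizer ({x} : Set G)) : ℂ) ≠ 0 :=
    Helper79.card_ne_zero_complex
  have hg' : IsClassFunction (Subgroup.centralizer ({x} : Set G)) (fun c => conj (g c)) := by
    intro c t
    show conj (g (t * c * t⁻¹)) = conj (g c)
    rw [hg c t]
  -- the key inner sum
  have key : ∀ r : Subgroup.centralizer ({x} : Set G), ¬ p ∣ orderOf r →
      ∑ r' : Subgroup.centralizer ({x} : Set G), conj (cut p 1 g r') *
        ∑ ψ : IrrCharacter G, (ψ : G → ℂ) (x * (r' : G)) * conj ((ψ : G → ℂ) (x * (r : G))) =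
      (Nat.card (Subgroup.centralizer ({x} : Set G)) : ℂ) * conj (g r) := by
    intro r hr
    have h1 : ∀ r' : Subgroup.centralizer ({x} : Set G), conj (cut p 1 g r') *
        ∑ ψ : IrrCharacter G, (ψ : G → ℂ) (x * (r' : G)) * conj ((ψ : G → ℂ) (x * (r : G))) =
        (Nat.card (Subgroup.centralizer ({r} : Set (Subgroup.centralizer ({x} : Set G)))) : ℂ) *
          (if IsConj r r' then conj (g r') else 0) := by
      intro r'
      rw [Helper79.column_orthogonality (x * (r' : G)) (x * (r : G))]
      by_cases hr' : p ∣ orderOf r'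
      · have hnc : ¬ IsConj r r' := by
          intro hc
          rw [orderOf_eq_of_isConj' hc] at hr
          exact hr hr'
        rw [if_neg hnc, mul_zero]
        unfold cut
        rw [if_pos hr', map_zero, zero_mul]
      · have hiff := isConj_mul_iff x hx r r' hr hr'
        unfold cut
        rw [if_neg hr', one_mul]
        by_cases hc : IsConj r r'
        · rw [if_pos hc, if_pos (hiff.mpr hc), card_centralizer_mul x hx r hr, mul_comm]
        · rw [if_neg hc, if_neg (fun h => hc (hiff.mp h)), mul_zero, mul_zero]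
    have e := sum_isConj_eq r hg'
    have e' : (∑ i : Subgroup.centralizer ({x} : Set G), if IsConj r i then conj (g i) else 0) =
        (Nat.card (Subgroup.centralizer ({x} : Set G)) : ℂ) *
          (Nat.card (Subgroup.centralizer ({r} : Set (Subgroup.centralizer ({x} : Set G)))) : ℂ)⁻¹ *
          conj (g r) := by
      rw [← e]
      refine Finset.sum_congr rfl (fun i _ => ?_)
      by_cases hc : IsConj r i
      · rw [if_pos hc, if_pos hc]
      · rw [if_neg hc, if_neg hc]
    rw [Finset.sum_congr rfl (fun r' _ => h1 r'), ← Finset.mul_sum, e']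
    have hc0 : (Nat.card (Subgroup.centralizer ({r} : Set (Subgroup.centralizer ({x} : Set G)))) : ℂ)
        ≠ 0 := Helper79.card_ne_zero_complex
    field_simp
  -- expand
  have hL : ∀ ψ : IrrCharacter G,
      classInner (cut p 1 f)
        (fun c : Subgroup.centralizer ({x} : Set G) => (ψ : G → ℂ) (x * (c : G))) *
      conj (classInner (cut p 1 g)
        (fun c : Subgroup.centralizer ({x} : Set G) => (ψ : G → ℂ) (x * (c : G)))) =
      (Nat.card (Subgroup.centralizer ({x} : Set G)) : ℂ)⁻¹ *
        ((Nat.card (Subgroup.centralizer ({x} : Set G)) : ℂ)⁻¹ *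
        ∑ r : Subgroup.centralizer ({x} : Set G), ∑ r' : Subgroup.centralizer ({x} : Set G),
          cut p 1 f r * (conj (cut p 1 g r') *
            ((ψ : G → ℂ) (x * (r' : G)) * conj ((ψ : G → ℂ) (x * (r : G)))))) := by
    intro ψ
    unfold classInner
    rw [map_mul, map_inv₀, Complex.conj_natCast, map_sum]
    rw [mul_mul_mul_comm, Finset.sum_mul_sum, mul_assoc]
    congr 2
    refine Finset.sum_congr rfl (fun r _ => ?_)
    refine Finset.sum_congr rfl (fun r' _ => ?_)
    rw [map_mul, Complex.conj_conj]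
    ring
  rw [Finset.sum_congr rfl (fun ψ _ => hL ψ), ← Finset.mul_sum, ← Finset.mul_sum]
  rw [Finset.sum_comm]
  have h2 : ∀ r : Subgroup.centralizer ({x} : Set G),
      ∑ ψ : IrrCharacter G, ∑ r' : Subgroup.centralizer ({x} : Set G),
          cut p 1 f r * (conj (cut p 1 g r') *
            ((ψ : G → ℂ) (x * (r' : G)) * conj ((ψ : G → ℂ) (x * (r : G))))) =
      (Nat.card (Subgroup.centralizer ({x} : Set G)) : ℂ) * (cut p 1 f r * conj (g r)) := by
    intro r
    by_cases hr : p ∣ orderOf r
    · have : cut p 1 f r = 0 := by unfold cut; rw [if_pos hr]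
      simp only [this, zero_mul, mul_zero, Finset.sum_const_zero]
    · rw [Finset.sum_comm]
      have h3 : ∀ r' : Subgroup.centralizer ({x} : Set G),
          ∑ ψ : IrrCharacter G, cut p 1 f r * (conj (cut p 1 g r') *
            ((ψ : G → ℂ) (x * (r' : G)) * conj ((ψ : G → ℂ) (x * (r : G))))) =
          cut p 1 f r * (conj (cut p 1 g r') *
            ∑ ψ : IrrCharacter G, (ψ : G → ℂ) (x * (r' : G)) * conj ((ψ : G → ℂ) (x * (r : G)))) := by
        intro r'
        rw [Finset.mul_sum, Finset.mul_sum]
      rw [Finset.sum_congr rfl (fun r' _ => h3 r'), ← Finset.mul_sum, key r hr]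
      ring
  rw [Finset.sum_congr rfl (fun r _ => h2 r), ← Finset.mul_sum]
  unfold classInner
  rw [← mul_assoc, ← mul_assoc, mul_assoc _ _ (Nat.card (Subgroup.centralizer ({x} : Set G)) : ℂ),
    inv_mul_cancel₀ hH0, mul_one]

section Expand

variable {H : Type*} [Group H] [Fintype H]

theorem cut_sum_smul (p : ℕ) (c : ℂ) {ι : Type*} (s : Finset ι) (a : ι → ℂ) (F : ι → H → ℂ) :
    cut p c (∑ i ∈ s, a i • F i) = ∑ i ∈ s, a i • cut p c (F i) := by
  funext y
  unfold cut
  rw [Finset.sum_apply, Finset.sum_apply]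
  by_cases h : p ∣ orderOf y
  · simp only [if_pos h, Pi.smul_apply, smul_zero, Finset.sum_const_zero]
  · simp only [if_neg h, Pi.smul_apply, smul_eq_mul]
    rw [Finset.mul_sum]
    refine Finset.sum_congr rfl (fun i _ => ?_)
    ring

/-- expansion of the `p`-regular inner product along the irreducible characters -/
theorem classInner_cut_expand (p : ℕ) {f g : H → ℂ} (hf : IsClassFunction H f)
    (hg : IsClassFunction H g) :
    classInner (cut p 1 f) g = ∑ θ : IrrCharacter H, ∑ θ' : IrrCharacter H,
      classInner f (θ : H → ℂ) * conj (classInner g (θ' : H → ℂ)) *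
        classInner (cut p 1 (θ : H → ℂ)) (θ' : H → ℂ) := by
  have ef := Helper79.classFunction_expansion hf
  have eg := Helper79.classFunction_expansion hg
  have h1 : cut p 1 f = ∑ θ : IrrCharacter H, classInner f (θ : H → ℂ) • cut p 1 (θ : H → ℂ) := by
    rw [← cut_sum_smul, ← ef]
  have h2 : ∀ F : H → ℂ, classInner F g = ∑ θ' : IrrCharacter H,
      conj (classInner g (θ' : H → ℂ)) * classInner F (θ' : H → ℂ) := by
    intro F
    have : classInner F g =
        classInner F (∑ θ' : IrrCharacter H, classInner g (θ' : H → ℂ) • (θ' : H → ℂ)) := by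
      rw [← eg]
    rw [this, Helper79.classInner_sum_right]
    refine Finset.sum_congr rfl (fun θ' _ => ?_)
    rw [Helper79.classInner_smul_right]
  rw [h1, Helper79.classInner_sum_left]
  refine Finset.sum_congr rfl (fun θ _ => ?_)
  rw [Helper79.classInner_smul_left, h2, Finset.mul_sum]
  refine Finset.sum_congr rfl (fun θ' _ => ?_)
  ring

open Classical in
theorem classInner_blockPart_irr (b : Set (IrrCharacter H)) (F : H → ℂ) (θ₀ : IrrCharacter H) :
    classInner (blockPart b F) (θ₀ : H → ℂ) =
      (if θ₀ ∈ b then (1 : ℂ) else 0) * classInner F (θ₀ : H → ℂ) := by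
  have h1 : blockPart b F = ∑ θ : IrrCharacter H,
      ((if θ ∈ b then (1 : ℂ) else 0) * classInner F (θ : H → ℂ)) • (θ : H → ℂ) := by
    funext y
    rw [blockPart_eq_sum, Finset.sum_apply]
    refine Finset.sum_congr rfl (fun θ _ => ?_)
    rw [Pi.smul_apply, smul_eq_mul, mul_assoc]
  rw [h1, Helper79.classInner_sum_left, Finset.sum_eq_single θ₀]
  · rw [Helper79.classInner_smul_left, Helper79.classInner_irr_self, mul_one]
  · intro θ _ hne
    rw [Helper79.classInner_smul_left, Helper79.classInner_irr_ne hne, mul_zero]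
  · intro h
    exact absurd (Finset.mem_univ _) h

theorem isClassFunction_blockPart (b : Set (IrrCharacter H)) (F : H → ℂ) :
    IsClassFunction H (blockPart b F) := by
  classical
  intro y t
  rw [blockPart_eq_sum, blockPart_eq_sum]
  refine Finset.sum_congr rfl (fun θ _ => ?_)
  rw [irr_isClassFunction θ y t]

end Expand

open Classical in
/-- The contribution of the subsection `(x, b)` to `(χ, ψ)`, in explicit form; the formula makes
sense for any subgroup `H`. -/
noncomputable def contribE (p : ℕ) (H : Subgroup G) [Fintype H] (x : G) (b : Set (IrrCharacter H))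
    (χ ψ : G → ℂ) : ℂ :=
  ∑ θ : IrrCharacter H, ∑ θ' : IrrCharacter H, (if θ ∈ b then (1 : ℂ) else 0) *
    (classInner (fun c : H => χ (x * (c : G))) (θ : H → ℂ) *
      conj (classInner (fun c : H => ψ (x * (c : G))) (θ' : H → ℂ)) *
      classInner (cut p 1 (θ : H → ℂ)) (θ' : H → ℂ))

theorem shiftPart_eq_blockPart (x : G) [Fintype (Subgroup.centralizer ({x} : Set G))]
    (b : Set (IrrCharacter (Subgroup.centralizer ({x} : Set G)))) {φ : G → ℂ}
    (hφ : IsClassFunction G φ) :
    shiftPart x b φ =
      blockPart b (fun c : Subgroup.centralizer ({x} : Set G) => φ (x * (c : G))) := by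
  funext y
  rw [shiftPart_def, blockPart_eq_sum_blockCoeff_mul b (isClassFunction_shift' hφ x) y]

theorem shiftPart_smul (x : G) (b : Set (IrrCharacter (Subgroup.centralizer ({x} : Set G))))
    (c : ℂ) (φ : G → ℂ) (y : Subgroup.centralizer ({x} : Set G)) :
    shiftPart x b (fun u => c * φ u) y = c * shiftPart x b φ y := by
  classical
  haveI : Fintype (Subgroup.centralizer ({x} : Set G)) := Fintype.ofFinite _
  rw [shiftPart_def, shiftPart_def, Finset.mul_sum]
  refine Finset.sum_congr rfl (fun k _ => ?_)
  ring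

/-- C1: the contribution as a `p`-regular inner product. -/
theorem classInner_cut_shiftPart (x : G) [Fintype (Subgroup.centralizer ({x} : Set G))]
    (b : Set (IrrCharacter (Subgroup.centralizer ({x} : Set G)))) {φ ψ : G → ℂ}
    (hφ : IsClassFunction G φ) (hψ : IsClassFunction G ψ) :
    classInner (cut p 1 (shiftPart x b φ))
        (fun c : Subgroup.centralizer ({x} : Set G) => ψ (x * (c : G))) =
      contribE p (Subgroup.centralizer ({x} : Set G)) x b φ ψ := by
  classical
  rw [shiftPart_eq_blockPart x b hφ,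
    classInner_cut_expand p (isClassFunction_blockPart b _) (isClassFunction_shift' hψ x)]
  unfold contribE
  refine Finset.sum_congr rfl (fun θ _ => ?_)
  refine Finset.sum_congr rfl (fun θ' _ => ?_)
  rw [classInner_blockPart_irr]
  by_cases h : θ ∈ b
  · simp only [if_pos h, one_mul]
  · simp only [if_neg h, zero_mul]

/-- C2: the diagonal contribution as a norm. -/
theorem classInner_cut_shiftPart_self [Fact p.Prime] (hM : IsPModular p M) (x : G)
    [Fintype (Subgroup.centralizer ({x} : Set G))]
    {b : Set (IrrCharacter (Subgroup.centralizer ({x} : Set G)))} (hb : IsPBlock M b) {φ : G → ℂ}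
    (hφ : IsClassFunction G φ) :
    classInner (cut p 1 (shiftPart x b φ)) (shiftPart x b φ) =
      contribE p (Subgroup.centralizer ({x} : Set G)) x b φ φ := by
  classical
  haveI hMp : M.IsPrime := IsPModular.isPrime hM
  rw [shiftPart_eq_blockPart x b hφ,
    classInner_cut_expand p (isClassFunction_blockPart b _) (isClassFunction_blockPart b _)]
  unfold contribE
  refine Finset.sum_congr rfl (fun θ _ => ?_)
  refine Finset.sum_congr rfl (fun θ' _ => ?_)
  rw [classInner_blockPart_irr, classInner_blockPart_irr]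
  by_cases h : θ ∈ b
  · by_cases h' : θ' ∈ b
    · simp only [if_pos h, if_pos h', one_mul, map_mul, map_one]
    · have hz : classInner (cut p 1 (θ : Subgroup.centralizer ({x} : Set G) → ℂ))
          (θ' : Subgroup.centralizer ({x} : Set G) → ℂ) = 0 := by
        apply Cfsg.Agent.S4431.classInner_cut_eq_zero hM 1 θ θ'
        rw [← Helper78.isPBlock_eq_blockOf_of_mem hMp hb h]
        exact h'
      rw [hz, mul_zero, mul_zero, mul_zero]
  · simp only [if_neg h, zero_mul]

end Contrib

section CentralShift

variable {H : Type*} [Group H] [Fintype H]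

/-- shifting by a central element multiplies the inner product with an irreducible character by
the scalar by which the element acts -/
theorem classInner_central_shift (θ : IrrCharacter H) (z : H) (c : ℂ) (hc : c * conj c = 1)
    (hθ : ∀ g : H, (θ : H → ℂ) (z * g) = c * (θ : H → ℂ) g) (F : H → ℂ) :
    classInner (fun h : H => F (z * h)) (θ : H → ℂ) = c * classInner F (θ : H → ℂ) := by
  unfold classInner
  rw [← mul_assoc, mul_comm c, mul_assoc]
  congr 1
  rw [← Equiv.sum_comp (Equiv.mulLeft z) (fun h => F h * conj ((θ : H → ℂ) h)), Finset.mul_sum]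
  refine Finset.sum_congr rfl (fun h _ => ?_)
  rw [Equiv.coe_mulLeft, hθ h, map_mul]
  calc F (z * h) * conj ((θ : H → ℂ) h)
      = (c * conj c) * (F (z * h) * conj ((θ : H → ℂ) h)) := by rw [hc, one_mul]
    _ = c * (F (z * h) * (conj c * conj ((θ : H → ℂ) h))) := by ring

theorem irr_central_pow_mul (θ : IrrCharacter H) (z : H) (c : ℂ)
    (hθ : ∀ g : H, (θ : H → ℂ) (z * g) = c * (θ : H → ℂ) g) (γ : ℕ) (g : H) :
    (θ : H → ℂ) (z ^ γ * g) = c ^ γ * (θ : H → ℂ) g := by
  induction γ generalizing g with
  | zero => simp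
  | succ γ ih =>
    rw [pow_succ', mul_assoc, hθ, ih, pow_succ']
    ring

theorem central_scalar_pow_eq_one (θ : IrrCharacter H) (z : H) (c : ℂ)
    (hθ : ∀ g : H, (θ : H → ℂ) (z * g) = c * (θ : H → ℂ) g) {N : ℕ} (hz : z ^ N = 1) :
    c ^ N = 1 := by
  have h1 := irr_central_pow_mul θ z c hθ N 1
  rw [hz, one_mul] at h1
  have hne := irr_one_ne_zero θ
  have : (c ^ N - 1) * (θ : H → ℂ) 1 = 0 := by linear_combination -h1
  rcases mul_eq_zero.mp this with h | h
  · linear_combination h
  · exact absurd h hne

end CentralShift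

section Trace

variable {G : Type*} [Group G] [Fintype G] {M : Ideal AlgInt} {p : ℕ}

open Classical in
theorem sum_shiftPart_mul_conj [Fact p.Prime] (hM : IsPModular p M) (x : G)
    (hx : ∃ k : ℕ, orderOf x = p ^ k) [Fintype (Subgroup.centralizer ({x} : Set G))]
    {b : Set (IrrCharacter (Subgroup.centralizer ({x} : Set G)))} (hb : IsPBlock M b)
    (r : Subgroup.centralizer ({x} : Set G)) (hr : ¬ p ∣ orderOf r) :
    ∑ χ : IrrCharacter G, shiftPart x b (χ : G → ℂ) r * conj ((χ : G → ℂ) (x * (r : G))) =
      ∑ θ : IrrCharacter (Subgroup.centralizer ({x} : Set G)), (if θ ∈ b then (1 : ℂ) else 0) *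
        ((θ : Subgroup.centralizer ({x} : Set G) → ℂ) r *
          conj ((θ : Subgroup.centralizer ({x} : Set G) → ℂ) r)) := by
  have e1 : (fun u : G => ∑ χ : IrrCharacter G, conj ((χ : G → ℂ) (x * (r : G))) * (χ : G → ℂ) u) =
      fun u => (Nat.card (Subgroup.centralizer ({x * (r : G)} : Set G)) : ℂ) *
        classInd (x * (r : G)) u := by
    funext u
    have := Helper79.column_orthogonality u (x * (r : G))
    have e : ∑ χ : IrrCharacter G, conj ((χ : G → ℂ) (x * (r : G))) * (χ : G → ℂ) u =
        ∑ χ : IrrCharacter G, (χ : G → ℂ) u * conj ((χ : G → ℂ) (x * (r : G))) :=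
      Finset.sum_congr rfl (fun χ _ => mul_comm _ _)
    rw [e, this]
    unfold classInd
    by_cases hc : IsConj (x * (r : G)) u
    · rw [if_pos hc, if_pos hc, mul_one]
    · rw [if_neg hc, if_neg hc, mul_zero]
  have e2 : ∑ χ : IrrCharacter G, shiftPart x b (χ : G → ℂ) r * conj ((χ : G → ℂ) (x * (r : G))) =
      shiftPart x b
        (fun u : G => ∑ χ : IrrCharacter G, conj ((χ : G → ℂ) (x * (r : G))) * (χ : G → ℂ) u) r := by
    rw [shiftPart_sum x b Finset.univ
      (fun (χ : IrrCharacter G) (u : G) => conj ((χ : G → ℂ) (x * (r : G))) * (χ : G → ℂ) u) r]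
    refine Finset.sum_congr rfl (fun χ _ => ?_)
    rw [shiftPart_smul, mul_comm]
  rw [e2, e1, shiftPart_smul, shiftPart_classInd hM x hx hb r hr, blockPart_classInd,
    card_centralizer_mul x hx r hr, ← mul_assoc, mul_inv_cancel₀ Helper79.card_ne_zero_complex,
    one_mul]

open Classical in
/-- C3: the trace of the contribution matrix is `l(b)`. -/
theorem sum_contribE_diag [Fact p.Prime] (hM : IsPModular p M) (x : G)
    (hx : ∃ k : ℕ, orderOf x = p ^ k) [Fintype (Subgroup.centralizer ({x} : Set G))]
    {b : Set (IrrCharacter (Subgroup.centralizer ({x} : Set G)))} (hb : IsPBlock M b) :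
    ∑ χ : IrrCharacter G,
      contribE p (Subgroup.centralizer ({x} : Set G)) x b (χ : G → ℂ) (χ : G → ℂ) =
      (blockRank p b : ℂ) := by
  have hH0 : (Nat.card (Subgroup.centralizer ({x} : Set G)) : ℂ) ≠ 0 :=
    Helper79.card_ne_zero_complex
  have h1 : ∀ χ : IrrCharacter G,
      contribE p (Subgroup.centralizer ({x} : Set G)) x b (χ : G → ℂ) (χ : G → ℂ) =
      (Nat.card (Subgroup.centralizer ({x} : Set G)) : ℂ)⁻¹ *
        ∑ r : Subgroup.centralizer ({x} : Set G), cut p 1 (shiftPart x b (χ : G → ℂ)) r *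
          conj ((χ : G → ℂ) (x * (r : G))) := by
    intro χ
    rw [← classInner_cut_shiftPart x b (irr_isClassFunction χ) (irr_isClassFunction χ)]
    rfl
  rw [Finset.sum_congr rfl (fun χ _ => h1 χ), ← Finset.mul_sum, Finset.sum_comm]
  have h2 : ∀ r : Subgroup.centralizer ({x} : Set G),
      ∑ χ : IrrCharacter G, cut p 1 (shiftPart x b (χ : G → ℂ)) r *
          conj ((χ : G → ℂ) (x * (r : G))) =
      ∑ᶠ θ ∈ b, pRegularPart p (θ : Subgroup.centralizer ({x} : Set G) → ℂ) r *
        (θ : Subgroup.centralizer ({x} : Set G) → ℂ) r⁻¹ := by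
    intro r
    by_cases hr : p ∣ orderOf r
    · have hz : ∀ χ : IrrCharacter G, cut p 1 (shiftPart x b (χ : G → ℂ)) r = 0 := by
        intro χ; unfold cut; rw [if_pos hr]
      simp only [hz, zero_mul, Finset.sum_const_zero, Helper77.pRegularPart_of_sing hr]
      exact (finsum_mem_zero (M := ℂ) _).symm
    · have hz : ∀ χ : IrrCharacter G, cut p 1 (shiftPart x b (χ : G → ℂ)) r =
          shiftPart x b (χ : G → ℂ) r := by
        intro χ; unfold cut; rw [if_neg hr, one_mul]
      simp only [hz]
      rw [sum_shiftPart_mul_conj hM x hx hb r hr, finsum_mem_def, finsum_eq_sum_of_fintype]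
      refine Finset.sum_congr rfl (fun θ _ => ?_)
      rw [Set.indicator_apply]
      by_cases hθ : θ ∈ b
      · rw [if_pos hθ, if_pos hθ, one_mul, Helper77.pRegularPart_of_reg hr, Helper79.irr_inv]
      · rw [if_neg hθ, if_neg hθ, zero_mul]
  rw [Finset.sum_congr rfl (fun r _ => h2 r), ← Helper77.blockRank_formula hM hb, ← mul_assoc,
    inv_mul_cancel₀ hH0, one_mul]

/-- C4: the rows of the contribution matrix. -/
theorem sum_contribE_row [Fact p.Prime] (hM : IsPModular p M) (x : G)
    (hx : ∃ k : ℕ, orderOf x = p ^ k) [Fintype (Subgroup.centralizer ({x} : Set G))]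
    {b : Set (IrrCharacter (Subgroup.centralizer ({x} : Set G)))} (hb : IsPBlock M b)
    (χ : IrrCharacter G) :
    ∑ ψ : IrrCharacter G,
      contribE p (Subgroup.centralizer ({x} : Set G)) x b (χ : G → ℂ) (ψ : G → ℂ) *
        conj (contribE p (Subgroup.centralizer ({x} : Set G)) x b (χ : G → ℂ) (ψ : G → ℂ)) =
      contribE p (Subgroup.centralizer ({x} : Set G)) x b (χ : G → ℂ) (χ : G → ℂ) := by
  have hχ := irr_isClassFunction χ
  have h1 : ∀ ψ : IrrCharacter G,
      contribE p (Subgroup.centralizer ({x} : Set G)) x b (χ : G → ℂ) (ψ : G → ℂ) =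
      classInner (cut p 1 (shiftPart x b (χ : G → ℂ)))
        (fun c : Subgroup.centralizer ({x} : Set G) => (ψ : G → ℂ) (x * (c : G))) :=
    fun ψ => (classInner_cut_shiftPart x b hχ (irr_isClassFunction ψ)).symm
  rw [Finset.sum_congr rfl (fun ψ _ => by rw [h1 ψ])]
  have hcl : IsClassFunction (Subgroup.centralizer ({x} : Set G)) (shiftPart x b (χ : G → ℂ)) := by
    rw [shiftPart_eq_blockPart x b hχ]
    exact isClassFunction_blockPart b _
  rw [section_parseval x hx (shiftPart x b (χ : G → ℂ)) hcl,
    classInner_cut_shiftPart_self hM x hb hχ]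

/-- **The contribution matrix has square norm `l(b)`** (literal centralizer). -/
theorem sum_contribE_normSq_aux [Fact p.Prime] (hM : IsPModular p M) (x : G)
    (hx : ∃ k : ℕ, orderOf x = p ^ k) [Fintype (Subgroup.centralizer ({x} : Set G))]
    {b : Set (IrrCharacter (Subgroup.centralizer ({x} : Set G)))} (hb : IsPBlock M b) :
    ∑ χ : IrrCharacter G, ∑ ψ : IrrCharacter G,
      contribE p (Subgroup.centralizer ({x} : Set G)) x b (χ : G → ℂ) (ψ : G → ℂ) *
        conj (contribE p (Subgroup.centralizer ({x} : Set G)) x b (χ : G → ℂ) (ψ : G → ℂ)) =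
      (blockRank p b : ℂ) := by
  rw [Finset.sum_congr rfl (fun χ _ => sum_contribE_row hM x hx hb χ), sum_contribE_diag hM x hx hb]

/-- **The contribution matrix has square norm `l(b)`.** -/
theorem sum_contribE_normSq [Fact p.Prime] (hM : IsPModular p M) (x : G)
    (hx : ∃ k : ℕ, orderOf x = p ^ k) (H : Subgroup G) [Fintype H]
    (hH : H = Subgroup.centralizer ({x} : Set G))
    {b : Set (IrrCharacter H)} (hb : IsPBlock M b) :
    ∑ χ : IrrCharacter G, ∑ ψ : IrrCharacter G,
      contribE p H x b (χ : G → ℂ) (ψ : G → ℂ) *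
        conj (contribE p H x b (χ : G → ℂ) (ψ : G → ℂ)) =
      (blockRank p b : ℂ) := by
  subst hH
  exact sum_contribE_normSq_aux hM x hx hb

end Trace

end Cfsg.Agent.Helper16
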