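import Cfsg.Agent.Helper16.Contribution
import Cfsg.Agent.Helper16.CentralDefectZero
import Cfsg.Agent.S4494

/-!
# Contributions of a subsection: integrality and the power form
-/

set_option autoImplicit false
set_option linter.unusedSectionVars false
set_option linter.unusedVariables false

namespace Cfsg.Agent.Helper16

open Cfsg
open scoped ComplexConjugate
open Cfsg.Agent.S4426 (cut)

section PowForm

variable {G : Type*} [Group G] [Fintype G] {M : Ideal AlgInt} {p : ℕ}

/-- `p ^ d [θ⁰, θ']` is an integer for `θ` in a block of defect `d`. -/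
theorem exists_int_defect_mul_cut {H : Type*} [Group H] [Fintype H] [Fact p.Prime]
    (hM : IsPModular p M) {b : Set (IrrCharacter H)} (hb : IsPBlock M b) (θ : IrrCharacter H)
    (hθ : θ ∈ b) :
    ∃ m : IrrCharacter H → ℤ, ∀ θ' : IrrCharacter H,
      ((p ^ blockDefect p b : ℕ) : ℂ) * classInner (cut p 1 (θ : H → ℂ)) (θ' : H → ℂ) = (m θ' : ℂ) := by
  obtain ⟨m, hm1, -, -⟩ := Helper79.exists_brauerFeit_integers hM hb θ hθ
  have h1 : minExp p b ≤ (charDegree (θ : H → ℂ)).factorization p := minExp_le_of_mem p hθ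
  have h2 : (charDegree (θ : H → ℂ)).factorization p ≤ (Nat.card H).factorization p :=
    factorization_charDegree_le p θ
  set a := (Nat.card H).factorization p
  set bθ := (charDegree (θ : H → ℂ)).factorization p
  have hd : blockDefect p b = (a - bθ) + (bθ - minExp p b) := by
    rw [blockDefect_eq]; omega
  refine ⟨fun θ' => ((p ^ (bθ - minExp p b) : ℕ) : ℤ) * m θ', fun θ' => ?_⟩
  have e1 : ((p ^ blockDefect p b : ℕ) : ℂ) * classInner (cut p 1 (θ : H → ℂ)) (θ' : H → ℂ) =
      ((p ^ (bθ - minExp p b) : ℕ) : ℂ) *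
        classInner (cut p ((p ^ (a - bθ) : ℕ) : ℂ) (θ : H → ℂ)) (θ' : H → ℂ) := by
    have e2 : cut p ((p ^ (a - bθ) : ℕ) : ℂ) (θ : H → ℂ) =
        ((p ^ (a - bθ) : ℕ) : ℂ) • cut p 1 (θ : H → ℂ) := by
      rw [← Cfsg.Agent.S4494.cut_mul, mul_one]
    rw [e2, Helper79.classInner_smul_left, hd, pow_add]
    push_cast
    ring
  rw [e1, hm1 θ']
  push_cast
  ring

open Classical in
/-- **The power form of the contributions of the subsections `(y ^ γ, b)`.** -/
theorem exists_pow_form [Fact p.Prime] (hM : IsPModular p M) (H : Subgroup G) [Fintype H]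
    (yH : H) (hyc : yH ∈ Subgroup.center H) (n : ℕ) (hyHpow : yH ^ (p ^ n) = 1)
    {b : Set (IrrCharacter H)} (hb : IsPBlock M b) (χ ψ : IrrCharacter G) :
    ∃ (A : IrrCharacter H × IrrCharacter H → ℤ) (μ : IrrCharacter H × IrrCharacter H → ℂ),
      (∀ i, μ i ^ (p ^ n) = 1) ∧
      ∀ γ : ℕ, ((p ^ blockDefect p b : ℕ) : ℂ) *
        contribE p H ((yH : G) ^ γ) b (χ : G → ℂ) (ψ : G → ℂ) =
        ∑ i, (A i : ℂ) * μ i ^ γ := by
  choose lam hlam1 hlam using fun θ : IrrCharacter H => irr_central_mul_norm θ hyc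
  have hlamc : ∀ θ : IrrCharacter H, lam θ * conj (lam θ) = 1 := by
    intro θ
    rw [Complex.mul_conj, Complex.normSq_eq_norm_sq, hlam1 θ]
    simp
  have hlamN : ∀ θ : IrrCharacter H, lam θ ^ (p ^ n) = 1 := fun θ =>
    central_scalar_pow_eq_one θ yH (lam θ) (hlam θ) hyHpow
  -- multiplicities
  have hnat : ∀ (ζ : IrrCharacter G) (θ : IrrCharacter H), ∃ m : ℕ,
      classInner (fun c : H => (ζ : G → ℂ) (c : G)) (θ : H → ℂ) = (m : ℂ) := fun ζ θ =>
    Helper15.isCharacter_inner_nat (Helper74.isCharacter_restrict H (Helper74.irr_isCharacter ζ))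
      (Helper74.irr_isCharacter θ)
  choose aa haa using hnat
  -- integers
  have hint : ∀ θ : IrrCharacter H, ∃ m : IrrCharacter H → ℤ, θ ∈ b → ∀ θ' : IrrCharacter H,
      ((p ^ blockDefect p b : ℕ) : ℂ) * classInner (cut p 1 (θ : H → ℂ)) (θ' : H → ℂ) =
        (m θ' : ℂ) := by
    intro θ
    by_cases hθ : θ ∈ b
    · obtain ⟨m, hm⟩ := exists_int_defect_mul_cut hM hb θ hθ
      exact ⟨m, fun _ => hm⟩
    · exact ⟨fun _ => 0, fun h => absurd h hθ⟩
  choose NN hNN using hint
  -- the shifted multiplicities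
  have hshift : ∀ (ζ : IrrCharacter G) (θ : IrrCharacter H) (γ : ℕ),
      classInner (fun c : H => (ζ : G → ℂ) ((yH : G) ^ γ * (c : G))) (θ : H → ℂ) =
        lam θ ^ γ * (aa ζ θ : ℂ) := by
    intro ζ θ γ
    have hc : lam θ ^ γ * conj (lam θ ^ γ) = 1 := by
      rw [map_pow, ← mul_pow, hlamc θ, one_pow]
    have := classInner_central_shift θ (yH ^ γ) (lam θ ^ γ) hc
      (fun g => irr_central_pow_mul θ yH (lam θ) (hlam θ) γ g)
      (fun c : H => (ζ : G → ℂ) (c : G))
    rw [haa ζ θ] at this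
    rw [← this]
    rfl
  refine ⟨fun i => if i.1 ∈ b then (aa χ i.1 : ℤ) * (aa ψ i.2 : ℤ) * NN i.1 i.2 else 0,
    fun i => lam i.1 * conj (lam i.2), ?_, ?_⟩
  · intro i
    rw [mul_pow, ← map_pow, hlamN, hlamN, map_one, one_mul]
  · intro γ
    rw [Fintype.sum_prod_type]
    unfold contribE
    rw [Finset.mul_sum]
    refine Finset.sum_congr rfl (fun θ _ => ?_)
    rw [Finset.mul_sum]
    refine Finset.sum_congr rfl (fun θ' _ => ?_)
    rw [hshift χ θ γ, hshift ψ θ' γ]
    by_cases hθ : θ ∈ b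
    · simp only [if_pos hθ, one_mul]
      have h1 := hNN θ hθ θ'
      rw [map_mul, map_pow, Complex.conj_natCast]
      push_cast
      rw [← h1]
      push_cast
      ring
    · simp only [if_neg hθ, zero_mul, mul_zero, Int.cast_zero]

end PowForm

end Cfsg.Agent.Helper16
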