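import Cfsg.Agent.Helper16.Contribution2

/-!
# Contributions of a subsection: non-vanishing for characters of height zero
-/

set_option autoImplicit false
set_option linter.unusedSectionVars false
set_option linter.unusedVariables false

namespace Cfsg.Agent.Helper16

open Cfsg
open scoped ComplexConjugate
open Cfsg.Agent.S4426 (cut)

section Star

variable {K : Type*} [Group K] [Fintype K] {M : Ideal AlgInt} {p : ℕ}

theorem irr_one_eq_natCast (θ : IrrCharacter K) :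
    (θ : K → ℂ) 1 = (charDegree (θ : K → ℂ) : ℂ) :=
  Helper78.irrChar_one_eq_charDegree θ.2

theorem charDegree_ne_zero' (θ : IrrCharacter K) : charDegree (θ : K → ℂ) ≠ 0 :=
  (Helper78.charDegree_pos_of_isIrrCharacter θ.2).ne'

/-- symmetry of the integers `[θ̃, θ']` -/
theorem classInner_cut_pa_symm [Fact p.Prime] (θ θ' : IrrCharacter K) :
    classInner (cut p ((p ^ (Nat.card K).factorization p : ℕ) : ℂ) (θ : K → ℂ)) (θ' : K → ℂ) =
      classInner (cut p ((p ^ (Nat.card K).factorization p : ℕ) : ℂ) (θ' : K → ℂ)) (θ : K → ℂ) := by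
  obtain ⟨n, hn⟩ := Cfsg.Agent.S4426.exists_int_inner p θ' θ
  rw [Cfsg.Agent.S4426.classInner_cut_symm p _ (Complex.conj_natCast _), hn, map_intCast]

/-- **[★]** `U(θ, θ') ≡ U(θ₀, θ₀) θ(1) / θ₀(1)` for `θ, θ'` in the block of the height zero
character `θ₀`. -/
theorem U_congr [Fact p.Prime] (hM : IsPModular p M) {b : Set (IrrCharacter K)}
    (hb : IsPBlock M b) (θ₀ : IrrCharacter K) (hθ₀ : θ₀ ∈ b)
    (hmin : ∀ θ ∈ b, (charDegree (θ₀ : K → ℂ)).factorization p ≤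
      (charDegree (θ : K → ℂ)).factorization p)
    (θ θ' : IrrCharacter K) (hθ : θ ∈ b) (hθ' : θ' ∈ b) :
    MemLocalIdeal M
      (classInner (cut p ((p ^ (Nat.card K).factorization p : ℕ) : ℂ) (θ : K → ℂ)) (θ' : K → ℂ) /
          (θ' : K → ℂ) 1 -
        classInner (cut p ((p ^ (Nat.card K).factorization p : ℕ) : ℂ) (θ₀ : K → ℂ)) (θ₀ : K → ℂ) /
          (θ₀ : K → ℂ) 1 * ((θ : K → ℂ) 1 / (θ₀ : K → ℂ) 1)) := by
  haveI hMp : M.IsPrime := IsPModular.isPrime hM
  set P : ℂ := ((p ^ (Nat.card K).factorization p : ℕ) : ℂ) with hP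
  have hsame : ∀ η ∈ b, ∀ ξ ∈ b, ∀ g : K,
      MemLocalIdeal M (centralChar (ξ : K → ℂ) g - centralChar (η : K → ℂ) g) :=
    fun η hη ξ hξ => Helper78.sameBlock_of_mem_of_mem hMp hb hξ hη
  -- U(θ,θ') ≡ U(θ,θ) ≡ U(θ,θ₀)
  have h1 := Cfsg.Agent.S4426.memLocalIdeal_U_sub hM θ.2 θ'.2 (hsame θ hθ θ' hθ')
  have h2 := Cfsg.Agent.S4426.memLocalIdeal_U_sub hM θ.2 θ₀.2 (hsame θ hθ θ₀ hθ₀)
  have h3 := memLocalIdeal_sub h1 h2
  -- U(θ₀,θ) ≡ U(θ₀,θ₀)
  have h4 := Cfsg.Agent.S4426.memLocalIdeal_U_sub hM θ₀.2 θ.2 (hsame θ₀ hθ₀ θ hθ)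
  have hθ1 : (θ : K → ℂ) 1 ≠ 0 := irr_one_ne_zero θ
  have hθ₀1 : (θ₀ : K → ℂ) 1 ≠ 0 := irr_one_ne_zero θ₀
  have hratio : MemLocalRing M ((θ : K → ℂ) 1 / (θ₀ : K → ℂ) 1) := by
    rw [irr_one_eq_natCast θ, irr_one_eq_natCast θ₀]
    exact Helper78.memLocalRing_natCast_div hM (charDegree_ne_zero' θ₀) (charDegree_ne_zero' θ)
      (hmin θ hθ)
  have h5 := memLocalIdeal_mul_right h4 hratio
  have h6 := memLocalIdeal_add h3 h5
  have hsym := classInner_cut_pa_symm (p := p) θ θ₀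
  convert h6 using 1
  rw [← hP] at hsym ⊢
  rw [hsym]
  field_simp
  ring

end Star

section NonVanish

variable {G : Type*} [Group G] [Fintype G] {M : Ideal AlgInt} {p : ℕ}

/-- the restriction of an irreducible character, expanded with natural multiplicities -/
theorem restrict_expansion (H : Subgroup G) [Fintype H] (ζ : IrrCharacter G)
    (aa : IrrCharacter H → ℕ)
    (haa : ∀ θ : IrrCharacter H,
      classInner (fun c : H => (ζ : G → ℂ) (c : G)) (θ : H → ℂ) = (aa θ : ℂ)) :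
    (fun c : H => (ζ : G → ℂ) (c : G)) = ∑ θ : IrrCharacter H, (aa θ : ℂ) • (θ : H → ℂ) := by
  have hcl : IsClassFunction H (fun c : H => (ζ : G → ℂ) (c : G)) :=
    Helper74.isClassFunction_of_isCharacter
      (Helper74.isCharacter_restrict H (Helper74.irr_isCharacter ζ))
  have := Helper79.classFunction_expansion hcl
  rw [Finset.sum_congr rfl (fun θ _ => by rw [haa θ])] at this
  exact this

open Classical in
/-- Step A: the `S4431` quantity expanded along the block `b`. -/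
theorem V_expansion [Fact p.Prime] (hM : IsPModular p M) (H : Subgroup G) [Fintype H]
    {b : Set (IrrCharacter H)} (hb : IsPBlock M b) (θ₀ : IrrCharacter H) (hθ₀ : θ₀ ∈ b)
    (ζ : IrrCharacter G) (aa : IrrCharacter H → ℕ)
    (haa : ∀ θ : IrrCharacter H,
      classInner (fun c : H => (ζ : G → ℂ) (c : G)) (θ : H → ℂ) = (aa θ : ℂ)) (P : ℂ) :
    classInner (fun h : H => if p ∣ orderOf h then (0 : ℂ) else P * (ζ : G → ℂ) h) (θ₀ : H → ℂ) /
        (θ₀ : H → ℂ) 1 =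
      ∑ θ : IrrCharacter H, (if θ ∈ b then (1 : ℂ) else 0) * ((aa θ : ℂ) *
        (classInner (cut p P (θ : H → ℂ)) (θ₀ : H → ℂ) / (θ₀ : H → ℂ) 1)) := by
  haveI hMp : M.IsPrime := IsPModular.isPrime hM
  have h1 : (fun h : H => if p ∣ orderOf h then (0 : ℂ) else P * (ζ : G → ℂ) h) =
      cut p P (fun c : H => (ζ : G → ℂ) (c : G)) := rfl
  rw [h1, restrict_expansion H ζ aa haa, cut_sum_smul, Helper79.classInner_sum_left,
    Finset.sum_div]
  refine Finset.sum_congr rfl (fun θ _ => ?_)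
  rw [Helper79.classInner_smul_left]
  by_cases hθ : θ ∈ b
  · rw [if_pos hθ, one_mul, mul_div_assoc]
  · rw [if_neg hθ, zero_mul]
    have hz : classInner (cut p P (θ : H → ℂ)) (θ₀ : H → ℂ) = 0 := by
      apply Cfsg.Agent.S4431.classInner_cut_eq_zero hM P θ θ₀
      intro hmem
      apply hθ
      rw [Helper78.isPBlock_eq_blockOf_of_mem hMp hb hθ₀]
      exact Helper78.sameBlock_symm hmem
    rw [hz, mul_zero, zero_div]

open Classical in
/-- **Non-vanishing of the (rational) contribution for characters of height zero.** -/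
theorem contribE_one_not_memLocalIdeal [Fact p.Prime] (hM : IsPModular p M) (H : Subgroup G)
    [Fintype H] {b : Set (IrrCharacter H)} {B : Set (IrrCharacter G)}
    (hind : IsInducedBlock M H b B) (χ ψ : IrrCharacter G) (hχ : χ ∈ B) (hψ : ψ ∈ B)
    (hχ0 : blockHeight p B (χ : G → ℂ) = 0) (hψ0 : blockHeight p B (ψ : G → ℂ) = 0) :
    ¬ MemLocalIdeal M (((p ^ blockDefect p b : ℕ) : ℂ) *
      contribE p H 1 b (χ : G → ℂ) (ψ : G → ℂ)) := by
  haveI hMp : M.IsPrime := IsPModular.isPrime hM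
  have hpr : p.Prime := Fact.out
  have hb : IsPBlock M b := hind.1
  obtain ⟨θ₀, hθ₀, hd, hmin⟩ := exists_height_zero' p b (Helper78.isPBlock_nonempty hMp hb)
  set a := (Nat.card H).factorization p with ha
  set e₀ := (charDegree (θ₀ : H → ℂ)).factorization p with he₀
  have he₀a : e₀ ≤ a := factorization_charDegree_le p θ₀
  set P : ℂ := ((p ^ a : ℕ) : ℂ) with hP
  set Q : ℂ := ((p ^ e₀ : ℕ) : ℂ) with hQ
  have hQ0 : Q ≠ 0 := by
    rw [hQ]; exact_mod_cast (pow_pos hpr.pos e₀).ne'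
  have hPQ : P = ((p ^ blockDefect p b : ℕ) : ℂ) * Q := by
    rw [hP, hQ, hd, ← Nat.cast_mul, ← pow_add]
    congr 2
    omega
  have hθ₀1 : (θ₀ : H → ℂ) 1 ≠ 0 := irr_one_ne_zero θ₀
  -- multiplicities
  have hnat : ∀ (ζ : IrrCharacter G) (θ : IrrCharacter H), ∃ m : ℕ,
      classInner (fun c : H => (ζ : G → ℂ) (c : G)) (θ : H → ℂ) = (m : ℂ) := fun ζ θ =>
    Helper15.isCharacter_inner_nat (Helper74.isCharacter_restrict H (Helper74.irr_isCharacter ζ))
      (Helper74.irr_isCharacter θ)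
  choose aa haa using hnat
  -- notation
  set U : IrrCharacter H → IrrCharacter H → ℂ := fun θ θ' =>
    classInner (cut p P (θ : H → ℂ)) (θ' : H → ℂ) / (θ' : H → ℂ) 1 with hU
  set u₀ : ℂ := U θ₀ θ₀ with hu₀
  set R : IrrCharacter G → ℂ := fun ζ => ∑ θ : IrrCharacter H,
    (if θ ∈ b then (1 : ℂ) else 0) * ((aa ζ θ : ℂ) * ((θ : H → ℂ) 1 / (θ₀ : H → ℂ) 1)) with hR
  have hratio : ∀ θ ∈ b, MemLocalRing M ((θ : H → ℂ) 1 / (θ₀ : H → ℂ) 1) := by
    intro θ hθ
    rw [irr_one_eq_natCast θ, irr_one_eq_natCast θ₀]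
    exact Helper78.memLocalRing_natCast_div hM (charDegree_ne_zero' θ₀) (charDegree_ne_zero' θ)
      (hmin θ hθ)
  have hu₀R : MemLocalRing M u₀ := Cfsg.Agent.S4426.memLocalRing_U hM θ₀.2 θ₀.2
  have hRR : ∀ ζ : IrrCharacter G, MemLocalRing M (R ζ) := by
    intro ζ
    refine memLocalRing_sum _ _ (fun θ _ => ?_)
    by_cases hθ : θ ∈ b
    · rw [if_pos hθ, one_mul]
      exact memLocalRing_mul (memLocalRing_natCast _) (hratio θ hθ)
    · rw [if_neg hθ, zero_mul]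
      exact memLocalRing_zero
  have hstar : ∀ θ ∈ b, ∀ θ' ∈ b, MemLocalIdeal M (U θ θ' - u₀ * ((θ : H → ℂ) 1 / (θ₀ : H → ℂ) 1)) :=
    fun θ hθ θ' hθ' => U_congr hM hb θ₀ hθ₀ hmin θ θ' hθ hθ'
  -- Step B/C
  have hBC : ∀ ζ ∈ B, blockHeight p B (ζ : G → ℂ) = 0 → ¬ MemLocalIdeal M (u₀ * R ζ) := by
    intro ζ hζ hζ0 hmem
    have hV := (Cfsg.Agent.S4431.result p M hM H b B hind ζ θ₀ hθ₀).2 hζ hζ0
    apply hV
    rw [V_expansion hM H hb θ₀ hθ₀ ζ (aa ζ) (haa ζ)]
    have hdiff : MemLocalIdeal M (∑ θ : IrrCharacter H, (if θ ∈ b then (1 : ℂ) else 0) *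
        ((aa ζ θ : ℂ) * (classInner (cut p ((p ^ (Nat.card H).factorization p : ℕ) : ℂ)
          (θ : H → ℂ)) (θ₀ : H → ℂ) / (θ₀ : H → ℂ) 1)) - u₀ * R ζ) := by
      rw [hR]
      simp only
      rw [Finset.mul_sum, ← Finset.sum_sub_distrib]
      refine memLocalIdeal_sum _ _ (fun θ _ => ?_)
      by_cases hθ : θ ∈ b
      · rw [if_pos hθ, one_mul, one_mul]
        have h1 := memLocalIdeal_mul_left (memLocalRing_natCast (M := M) (aa ζ θ))
          (hstar θ hθ θ₀ hθ₀)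
        convert h1 using 1
        rw [hU]
        ring
      · rw [if_neg hθ, zero_mul, zero_mul, mul_zero, sub_zero]
        exact memLocalIdeal_zero
    have := memLocalIdeal_add hdiff hmem
    rwa [sub_add_cancel] at this
  have hRψ : ¬ MemLocalIdeal M (R ψ) := fun h =>
    hBC ψ hψ hψ0 (memLocalIdeal_mul_left hu₀R h)
  -- D₀
  set D₀ : ℂ := (θ₀ : H → ℂ) 1 / Q with hD₀
  have hD₀nat : D₀ = ((charDegree (θ₀ : H → ℂ) / p ^ e₀ : ℕ) : ℂ) := by
    rw [hD₀, hQ, irr_one_eq_natCast θ₀]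
    have hdvd : p ^ e₀ ∣ charDegree (θ₀ : H → ℂ) := Nat.ordProj_dvd _ _
    rw [Nat.cast_div hdvd (by exact_mod_cast (pow_pos hpr.pos e₀).ne')]
  have hD₀R : MemLocalRing M D₀ := by rw [hD₀nat]; exact memLocalRing_natCast _
  have hD₀J : ¬ MemLocalIdeal M D₀ := by
    rw [hD₀nat, Helper78.memLocalIdeal_natCast_iff hM]
    exact Nat.not_dvd_ordCompl hpr (charDegree_ne_zero' θ₀)
  have hX : ¬ MemLocalIdeal M (u₀ * R χ * (R ψ * D₀)) :=
    not_memLocalIdeal_mul (memLocalRing_mul hu₀R (hRR χ)) (hBC χ hχ hχ0)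
      (not_memLocalIdeal_mul (hRR ψ) hRψ hD₀J)
  -- Step D
  have hdegQ : ∀ θ' ∈ b, MemLocalRing M ((θ' : H → ℂ) 1 / Q) := by
    intro θ' hθ'
    rw [hQ, irr_one_eq_natCast θ']
    refine Helper78.memLocalRing_natCast_div hM (pow_pos hpr.pos e₀).ne' (charDegree_ne_zero' θ') ?_
    rw [hpr.factorization_pow]
    simpa using hmin θ' hθ'
  have hone : ∀ ζ : IrrCharacter G, (fun c : H => (ζ : G → ℂ) (1 * (c : G))) =
      fun c : H => (ζ : G → ℂ) (c : G) := by
    intro ζ; funext c; rw [one_mul]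
  have hW : ((p ^ blockDefect p b : ℕ) : ℂ) * contribE p H 1 b (χ : G → ℂ) (ψ : G → ℂ) =
      ∑ θ : IrrCharacter H, ∑ θ' : IrrCharacter H,
        (if θ ∈ b then (1 : ℂ) else 0) * ((if θ' ∈ b then (1 : ℂ) else 0) *
          ((aa χ θ : ℂ) * (aa ψ θ' : ℂ) * (U θ θ' * ((θ' : H → ℂ) 1 / Q)))) := by
    unfold contribE
    rw [Finset.mul_sum]
    refine Finset.sum_congr rfl (fun θ _ => ?_)
    rw [Finset.mul_sum]
    refine Finset.sum_congr rfl (fun θ' _ => ?_)
    rw [hone χ, hone ψ, haa χ θ, haa ψ θ', Complex.conj_natCast]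
    by_cases hθ : θ ∈ b
    · rw [if_pos hθ, one_mul, one_mul]
      by_cases hθ' : θ' ∈ b
      · rw [if_pos hθ', one_mul, hU]
        simp only
        have e1 : cut p P (θ : H → ℂ) = P • cut p 1 (θ : H → ℂ) := by
          rw [← Cfsg.Agent.S4494.cut_mul, mul_one]
        rw [e1, Helper79.classInner_smul_left, hPQ]
        have hθ'1 : (θ' : H → ℂ) 1 ≠ 0 := irr_one_ne_zero θ'
        field_simp
      · rw [if_neg hθ', zero_mul]
        have hz : classInner (cut p 1 (θ : H → ℂ)) (θ' : H → ℂ) = 0 := by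
          apply Cfsg.Agent.S4431.classInner_cut_eq_zero hM 1 θ θ'
          rw [← Helper78.isPBlock_eq_blockOf_of_mem hMp hb hθ]
          exact hθ'
        rw [hz, mul_zero, mul_zero]
    · rw [if_neg hθ, zero_mul, zero_mul, mul_zero]
  have hXexp : u₀ * R χ * (R ψ * D₀) =
      ∑ θ : IrrCharacter H, ∑ θ' : IrrCharacter H,
        (if θ ∈ b then (1 : ℂ) else 0) * ((if θ' ∈ b then (1 : ℂ) else 0) *
          ((aa χ θ : ℂ) * (aa ψ θ' : ℂ) *
            (u₀ * ((θ : H → ℂ) 1 / (θ₀ : H → ℂ) 1) * ((θ' : H → ℂ) 1 / Q)))) := by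
    rw [hR]
    simp only
    rw [mul_assoc u₀, Finset.sum_mul, Finset.mul_sum]
    refine Finset.sum_congr rfl (fun θ _ => ?_)
    rw [Finset.sum_mul, Finset.mul_sum, Finset.mul_sum]
    refine Finset.sum_congr rfl (fun θ' _ => ?_)
    rw [hD₀]
    field_simp
  have hdiffW : MemLocalIdeal M (((p ^ blockDefect p b : ℕ) : ℂ) *
      contribE p H 1 b (χ : G → ℂ) (ψ : G → ℂ) - u₀ * R χ * (R ψ * D₀)) := by
    rw [hW, hXexp, ← Finset.sum_sub_distrib]
    refine memLocalIdeal_sum _ _ (fun θ _ => ?_)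
    rw [← Finset.sum_sub_distrib]
    refine memLocalIdeal_sum _ _ (fun θ' _ => ?_)
    by_cases hθ : θ ∈ b
    · by_cases hθ' : θ' ∈ b
      · rw [if_pos hθ, if_pos hθ', one_mul, one_mul, one_mul, one_mul]
        have h1 := memLocalIdeal_mul_right (hstar θ hθ θ' hθ') (hdegQ θ' hθ')
        have h2 := memLocalIdeal_mul_left
          (memLocalRing_mul (memLocalRing_natCast (M := M) (aa χ θ))
            (memLocalRing_natCast (M := M) (aa ψ θ'))) h1
        convert h2 using 1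
        ring
      · rw [if_neg hθ']
        simp only [zero_mul, mul_zero, sub_zero]
        exact memLocalIdeal_zero
    · rw [if_neg hθ]
      simp only [zero_mul, sub_zero]
      exact memLocalIdeal_zero
  intro hmem
  apply hX
  have := memLocalIdeal_sub hmem hdiffW
  rwa [sub_sub_cancel] at this

end NonVanish

end Cfsg.Agent.Helper16
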