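import Mathlib

/-!
# An elementary inequality for sums of `p`-power roots of unity

For integers `A i` and `p ^ n`-th roots of unity `μ i`, if `z = ∑ A i μ i ≠ 0` then the sum of
`|∑ A i (μ i) ^ γ|²` over the units `γ` modulo `p ^ n` is at least `φ (p ^ n)`.
-/

set_option autoImplicit false

namespace Cfsg.Agent.Helper16

open scoped ComplexConjugate

section Cyclo

/-- geometric sum of a root of unity -/
theorem sum_range_pow_of_pow_eq_one {N : ℕ} {ν : ℂ} (hν : ν ^ N = 1) :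
    ∑ γ ∈ Finset.range N, ν ^ γ = if ν = 1 then (N : ℂ) else 0 := by
  by_cases h : ν = 1
  · rw [if_pos h, h]; simp
  · rw [if_neg h, geom_sum_eq h, hν, sub_self, zero_div]

theorem sum_range_filter_dvd (p N' : ℕ) (hp : 0 < p) (f : ℕ → ℂ) :
    ∑ γ ∈ (Finset.range (p * N')).filter (fun γ => p ∣ γ), f γ =
      ∑ δ ∈ Finset.range N', f (p * δ) := by
  symm
  refine Finset.sum_nbij' (fun δ => p * δ) (fun γ => γ / p) ?_ ?_ ?_ ?_ ?_
  · intro δ hδ
    rw [Finset.mem_range] at hδ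
    rw [Finset.mem_filter, Finset.mem_range]
    exact ⟨Nat.mul_lt_mul_of_pos_left hδ hp |>.trans_le le_rfl, dvd_mul_right _ _⟩
  · intro γ hγ
    rw [Finset.mem_filter, Finset.mem_range] at hγ
    rw [Finset.mem_range]
    exact Nat.div_lt_of_lt_mul hγ.1
  · intro δ _
    exact Nat.mul_div_cancel_left δ hp
  · intro γ hγ
    rw [Finset.mem_filter] at hγ
    exact Nat.mul_div_cancel' hγ.2
  · intro δ _
    rfl

theorem sum_units_pow {p : ℕ} (hp : p.Prime) (n : ℕ) {ν : ℂ} (hν : ν ^ (p ^ (n + 1)) = 1) :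
    ∑ γ ∈ (Finset.range (p ^ (n + 1))).filter (fun γ => Nat.Coprime (p ^ (n + 1)) γ), ν ^ γ =
      (if ν = 1 then ((p ^ (n + 1) : ℕ) : ℂ) else 0) -
        (if ν ^ p = 1 then ((p ^ n : ℕ) : ℂ) else 0) := by
  have hfilter : (Finset.range (p ^ (n + 1))).filter (fun γ => Nat.Coprime (p ^ (n + 1)) γ) =
      (Finset.range (p ^ (n + 1))).filter (fun γ => ¬ p ∣ γ) := by
    refine Finset.filter_congr (fun γ _ => ?_)
    rw [Nat.coprime_pow_left_iff (Nat.succ_pos n), Nat.Prime.coprime_iff_not_dvd hp]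
  rw [hfilter]
  have hsplit := Finset.sum_filter_add_sum_filter_not (Finset.range (p ^ (n + 1)))
    (fun γ => p ∣ γ) (fun γ => ν ^ γ)
  have h1 : ∑ γ ∈ Finset.range (p ^ (n + 1)), ν ^ γ =
      if ν = 1 then ((p ^ (n + 1) : ℕ) : ℂ) else 0 := sum_range_pow_of_pow_eq_one hν
  have h2 : ∑ γ ∈ (Finset.range (p ^ (n + 1))).filter (fun γ => p ∣ γ), ν ^ γ =
      if ν ^ p = 1 then ((p ^ n : ℕ) : ℂ) else 0 := by
    have e : p ^ (n + 1) = p * p ^ n := pow_succ' p n
    rw [e, sum_range_filter_dvd p (p ^ n) hp.pos]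
    have h3 : (ν ^ p) ^ (p ^ n) = 1 := by rw [← pow_mul, ← e]; exact hν
    have := sum_range_pow_of_pow_eq_one h3
    rw [← this]
    refine Finset.sum_congr rfl (fun δ _ => ?_)
    rw [pow_mul]
  rw [← h1, ← h2, ← hsplit]
  ring

/-- `a * conj b = 1 ↔ a = b` for `b` of norm one. -/
theorem mul_conj_eq_one_iff {a b : ℂ} (hb : b * conj b = 1) : a * conj b = 1 ↔ a = b := by
  constructor
  · intro h
    have : a * (conj b * b) = b := by rw [← mul_assoc, h, one_mul]
    rw [mul_comm (conj b) b, hb, mul_one] at this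
    exact this
  · intro h
    rw [h, hb]

theorem mul_conj_self_of_pow_eq_one {N : ℕ} (hN : N ≠ 0) {μ : ℂ} (hμ : μ ^ N = 1) :
    μ * conj μ = 1 := by
  rw [Complex.mul_conj, Complex.normSq_eq_norm_sq, Complex.norm_eq_one_of_pow_eq_one hμ hN]
  simp

end Cyclo

section Main

variable {ι : Type*}

open Classical in
/-- regrouping by the value of `μ` -/
theorem sum_regroup {R : Type*} [CommRing R] (I : Finset ι) (A : ι → ℤ) (μ : ι → ℂ)
    (T : Finset ℂ) (hT : ∀ i ∈ I, μ i ∈ T) (f : ℂ → R) :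
    ∑ i ∈ I, (A i : R) * f (μ i) =
      ∑ x ∈ T, ((∑ i ∈ I, if μ i = x then A i else 0 : ℤ) : R) * f x := by
  have h1 : ∀ x ∈ T, ((∑ i ∈ I, if μ i = x then A i else 0 : ℤ) : R) * f x =
      ∑ i ∈ I, if μ i = x then (A i : R) * f (μ i) else 0 := by
    intro x _
    rw [Int.cast_sum, Finset.sum_mul]
    refine Finset.sum_congr rfl (fun i _ => ?_)
    by_cases h : μ i = x
    · rw [if_pos h, if_pos h, h]
    · rw [if_neg h, if_neg h, Int.cast_zero, zero_mul]
  rw [Finset.sum_congr rfl h1, Finset.sum_comm]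
  refine Finset.sum_congr rfl (fun i hi => ?_)
  rw [Finset.sum_ite_eq T (μ i), if_pos (hT i hi)]

/-- multiplication by a root of unity permutes the roots of unity -/
theorem sum_nthRoots_shift {β : Type*} [AddCommMonoid β] {N : ℕ} (hN : 0 < N) {w : ℂ}
    (hw : w ^ N = 1) (g : ℂ → β) :
    ∑ x ∈ Polynomial.nthRootsFinset N (1 : ℂ), g (w * x) =
      ∑ x ∈ Polynomial.nthRootsFinset N (1 : ℂ), g x := by
  have hw0 : w ≠ 0 := by
    intro h
    rw [h, zero_pow hN.ne'] at hw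
    exact zero_ne_one hw
  refine Finset.sum_nbij' (fun x => w * x) (fun x => w⁻¹ * x) ?_ ?_ ?_ ?_ ?_
  · intro x hx
    rw [Polynomial.mem_nthRootsFinset hN] at hx ⊢
    rw [mul_pow, hw, hx, one_mul]
  · intro x hx
    rw [Polynomial.mem_nthRootsFinset hN] at hx ⊢
    rw [mul_pow, inv_pow, hw, hx, inv_one, one_mul]
  · intro x _
    show w⁻¹ * (w * x) = x
    rw [← mul_assoc, inv_mul_cancel₀ hw0, one_mul]
  · intro x _
    show w * (w⁻¹ * x) = x
    rw [← mul_assoc, mul_inv_cancel₀ hw0, one_mul]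
  · intro x _
    rfl

open Classical in
theorem key_int_ineq {p : ℕ} (hp : p.Prime) {N : ℕ} (hN : 0 < N) (hpN : p ∣ N) (I : Finset ι)
    (A : ι → ℤ) (μ : ι → ℂ) (hμ : ∀ i ∈ I, μ i ^ N = 1)
    (h1 : ∑ i ∈ I, (A i : ℂ) * μ i ≠ 0) :
    (p : ℤ) - 1 ≤ (p : ℤ) * (∑ i ∈ I, ∑ i' ∈ I, if μ i = μ i' then A i * A i' else 0) -
      ∑ i ∈ I, ∑ i' ∈ I, if μ i ^ p = μ i' ^ p then A i * A i' else 0 := by
  set ω : ℂ := Complex.exp (2 * Real.pi * Complex.I / p) with hωdef
  have hω : IsPrimitiveRoot ω p := Complex.isPrimitiveRoot_exp p hp.ne_zero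
  set T := Polynomial.nthRootsFinset N (1 : ℂ) with hTdef
  have hT : ∀ i ∈ I, μ i ∈ T := fun i hi => (Polynomial.mem_nthRootsFinset hN _).mpr (hμ i hi)
  have hωN : ∀ s : ℕ, (ω ^ s) ^ N = 1 := by
    intro s
    obtain ⟨c, rfl⟩ := hpN
    rw [← pow_mul, mul_comm, mul_assoc, pow_mul, hω.pow_eq_one, one_pow]
  set a : ℂ → ℤ := fun x => ∑ i ∈ I, if μ i = x then A i else 0 with ha
  set R : ℕ → ℤ := fun s => ∑ i ∈ I, ∑ i' ∈ I, if μ i' = ω ^ s * μ i then A i * A i' else 0
    with hRdef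
  have hR : ∀ s, R s = ∑ x ∈ T, a x * a (ω ^ s * x) := by
    intro s
    have e1 : R s = ∑ i ∈ I, ((A i : ℤ) : ℤ) * a (ω ^ s * μ i) := by
      refine Finset.sum_congr rfl (fun i _ => ?_)
      rw [ha]
      simp only
      rw [Finset.mul_sum]
      refine Finset.sum_congr rfl (fun i' _ => ?_)
      by_cases h : μ i' = ω ^ s * μ i
      · rw [if_pos h, if_pos h]
      · rw [if_neg h, if_neg h, mul_zero]
    rw [e1]
    have := sum_regroup (R := ℤ) I A μ T hT (fun x => a (ω ^ s * x))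
    simpa using this
  have hshiftZ : ∀ (s : ℕ) (g : ℂ → ℤ), ∑ x ∈ T, g (ω ^ s * x) = ∑ x ∈ T, g x :=
    fun s g => sum_nthRoots_shift hN (hωN s) g
  have hshiftC : ∀ (s : ℕ) (g : ℂ → ℂ), ∑ x ∈ T, g (ω ^ s * x) = ∑ x ∈ T, g x :=
    fun s g => sum_nthRoots_shift hN (hωN s) g
  have hQ1 : (∑ i ∈ I, ∑ i' ∈ I, if μ i = μ i' then A i * A i' else 0) = R 0 := by
    refine Finset.sum_congr rfl (fun i _ => ?_)
    refine Finset.sum_congr rfl (fun i' _ => ?_)
    rw [pow_zero, one_mul]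
    by_cases h : μ i = μ i'
    · rw [if_pos h, if_pos h.symm]
    · rw [if_neg h, if_neg (fun h' => h h'.symm)]
  have hQ2 : (∑ i ∈ I, ∑ i' ∈ I, if μ i ^ p = μ i' ^ p then A i * A i' else 0) =
      ∑ s ∈ Finset.range p, R s := by
    rw [hRdef]
    simp only
    rw [Finset.sum_comm' (s := Finset.range p) (t := fun _ => I) (s' := fun _ => Finset.range p)
      (t' := I) (by intro x y; tauto)]
    refine Finset.sum_congr rfl (fun i hi => ?_)
    rw [Finset.sum_comm]
    refine Finset.sum_congr rfl (fun i' hi' => ?_)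
    have hμi0 : μ i ≠ 0 := by
      intro h
      have := hμ i hi
      rw [h, zero_pow hN.ne'] at this
      exact zero_ne_one this
    by_cases h : μ i ^ p = μ i' ^ p
    · rw [if_pos h]
      have hξ : (μ i' / μ i) ^ p = 1 := by
        rw [div_pow, ← h, div_self (pow_ne_zero p hμi0)]
      haveI : NeZero p := ⟨hp.ne_zero⟩
      obtain ⟨s, hs, hsξ⟩ := hω.eq_pow_of_pow_eq_one hξ
      rw [Finset.sum_eq_single_of_mem s (Finset.mem_range.mpr hs)]
      · rw [if_pos]
        rw [hsξ, div_mul_cancel₀ _ hμi0]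
      · intro t ht hts
        rw [if_neg]
        intro h'
        apply hts
        have : ω ^ t = ω ^ s := by
          rw [hsξ, h', mul_div_assoc, div_self hμi0, mul_one]
        exact hω.pow_inj (Finset.mem_range.mp ht) hs this
    · rw [if_neg h]
      symm
      refine Finset.sum_eq_zero (fun s _ => ?_)
      rw [if_neg]
      intro h'
      apply h
      rw [h', mul_pow, ← pow_mul, mul_comm s p, pow_mul, hω.pow_eq_one, one_pow, one_mul]
  have hpos : ∀ s, 0 < s → s < p → 1 ≤ R 0 - R s := by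
    intro s hs0 hsp
    have hsq : 2 * (R 0 - R s) = ∑ x ∈ T, (a x - a (ω ^ s * x)) ^ 2 := by
      have e0 : R 0 = ∑ x ∈ T, a x * a x := by
        rw [hR 0]
        refine Finset.sum_congr rfl (fun x _ => ?_)
        rw [pow_zero, one_mul]
      have e1 : ∑ x ∈ T, a (ω ^ s * x) * a (ω ^ s * x) = ∑ x ∈ T, a x * a x :=
        hshiftZ s (fun x => a x * a x)
      have e2 : ∑ x ∈ T, (a x - a (ω ^ s * x)) ^ 2 =
          ∑ x ∈ T, a x * a x - 2 * ∑ x ∈ T, a x * a (ω ^ s * x) +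
            ∑ x ∈ T, a (ω ^ s * x) * a (ω ^ s * x) := by
        rw [Finset.mul_sum, ← Finset.sum_sub_distrib, ← Finset.sum_add_distrib]
        refine Finset.sum_congr rfl (fun x _ => ?_)
        ring
      rw [e2, e1, ← e0, ← hR s]
      ring
    by_contra hlt
    have hle : R 0 - R s ≤ 0 := by omega
    have hsum0 : ∑ x ∈ T, (a x - a (ω ^ s * x)) ^ 2 = 0 := by
      apply le_antisymm
      · rw [← hsq]; omega
      · exact Finset.sum_nonneg (fun x _ => sq_nonneg _)
    have hall : ∀ x ∈ T, a x = a (ω ^ s * x) := by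
      intro x hx
      have := (Finset.sum_eq_zero_iff_of_nonneg (fun x _ => sq_nonneg _)).mp hsum0 x hx
      have h2 : a x - a (ω ^ s * x) = 0 := by
        exact pow_eq_zero_iff (two_ne_zero) |>.mp this
      omega
    have hz : ∑ i ∈ I, (A i : ℂ) * μ i = ∑ x ∈ T, ((a x : ℤ) : ℂ) * x := by
      have := sum_regroup (R := ℂ) I A μ T hT (fun x => x)
      exact this
    have hz2 : ∑ x ∈ T, ((a x : ℤ) : ℂ) * x = ω ^ s * ∑ x ∈ T, ((a x : ℤ) : ℂ) * x := by
      have e := hshiftC s (fun x => ((a x : ℤ) : ℂ) * x)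
      calc ∑ x ∈ T, ((a x : ℤ) : ℂ) * x
          = ∑ x ∈ T, ((a (ω ^ s * x) : ℤ) : ℂ) * (ω ^ s * x) := e.symm
        _ = ∑ x ∈ T, ω ^ s * (((a x : ℤ) : ℂ) * x) := by
            refine Finset.sum_congr rfl (fun x hx => ?_)
            rw [← hall x hx]
            ring
        _ = ω ^ s * ∑ x ∈ T, ((a x : ℤ) : ℂ) * x := by rw [Finset.mul_sum]
    have hne : ω ^ s ≠ 1 := hω.pow_ne_one_of_pos_of_lt hs0.ne' hsp
    have hzero : ∑ x ∈ T, ((a x : ℤ) : ℂ) * x = 0 := by
      have : (1 - ω ^ s) * ∑ x ∈ T, ((a x : ℤ) : ℂ) * x = 0 := by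
        rw [sub_mul, one_mul, ← hz2, sub_self]
      rcases mul_eq_zero.mp this with h | h
      · exact absurd (sub_eq_zero.mp h).symm hne
      · exact h
    exact h1 (hz.trans hzero)
  rw [hQ1, hQ2]
  have hfin : (p : ℤ) * R 0 - ∑ s ∈ Finset.range p, R s = ∑ s ∈ Finset.range p, (R 0 - R s) := by
    rw [Finset.sum_sub_distrib, Finset.sum_const, Finset.card_range, nsmul_eq_mul]
  rw [hfin]
  have hge : ∑ s ∈ Finset.range p, (if s = 0 then (0 : ℤ) else 1) ≤
      ∑ s ∈ Finset.range p, (R 0 - R s) := by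
    refine Finset.sum_le_sum (fun s hs => ?_)
    by_cases h0 : s = 0
    · rw [if_pos h0, h0, sub_self]
    · rw [if_neg h0]
      exact hpos s (Nat.pos_of_ne_zero h0) (Finset.mem_range.mp hs)
  refine le_trans ?_ hge
  rw [Finset.sum_ite, Finset.sum_const_zero, zero_add, Finset.sum_const, nsmul_eq_mul, mul_one]
  have hcard : ((Finset.range p).filter (fun s => ¬ s = 0)).card = p - 1 := by
    have h1 : ((Finset.range p).filter (fun s => ¬ s = 0)) = (Finset.range p).erase 0 := by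
      ext s
      simp [Finset.mem_filter, Finset.mem_erase, and_comm]
    rw [h1, Finset.card_erase_of_mem (Finset.mem_range.mpr hp.pos), Finset.card_range]
  rw [hcard]
  have := hp.one_le
  push_cast [Nat.cast_sub this]
  exact le_refl _

open Classical in
/-- **The cyclotomic inequality.** -/
theorem sum_normSq_ge_totient {p : ℕ} (hp : p.Prime) (n : ℕ) (I : Finset ι)
    (A : ι → ℤ) (μ : ι → ℂ) (hμ : ∀ i ∈ I, μ i ^ (p ^ n) = 1)
    (h1 : ∑ i ∈ I, (A i : ℂ) * μ i ≠ 0) :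
    ((p ^ n).totient : ℝ) ≤
      ∑ γ ∈ (Finset.range (p ^ n)).filter (fun γ => Nat.Coprime (p ^ n) γ),
        Complex.normSq (∑ i ∈ I, (A i : ℂ) * μ i ^ γ) := by
  cases n with
  | zero =>
    have hf : (Finset.range (p ^ 0)).filter (fun γ => Nat.Coprime (p ^ 0) γ) = {0} := by
      ext γ
      simp only [pow_zero, Finset.range_one, Finset.mem_filter, Finset.mem_singleton,
        Nat.coprime_one_left_eq_true, and_true]
    rw [hf, Finset.sum_singleton]
    have hμ1 : ∀ i ∈ I, μ i = 1 := by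
      intro i hi
      have := hμ i hi
      rwa [pow_zero, pow_one] at this
    have e1 : ∑ i ∈ I, (A i : ℂ) * μ i ^ 0 = ((∑ i ∈ I, A i : ℤ) : ℂ) := by
      rw [Int.cast_sum]
      refine Finset.sum_congr rfl (fun i _ => ?_)
      rw [pow_zero, mul_one]
    have e2 : ∑ i ∈ I, (A i : ℂ) * μ i = ((∑ i ∈ I, A i : ℤ) : ℂ) := by
      rw [Int.cast_sum]
      refine Finset.sum_congr rfl (fun i hi => ?_)
      rw [hμ1 i hi, mul_one]
    rw [e2] at h1
    have hne : (∑ i ∈ I, A i : ℤ) ≠ 0 := by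
      intro h
      rw [h, Int.cast_zero] at h1
      exact h1 rfl
    rw [e1, Complex.normSq_intCast, pow_zero, Nat.totient_one, Nat.cast_one]
    have : (1 : ℤ) ≤ (∑ i ∈ I, A i) * (∑ i ∈ I, A i) := by
      have := mul_self_pos.mpr hne
      omega
    exact_mod_cast this
  | succ n =>
    have hN : 0 < p ^ (n + 1) := pow_pos hp.pos _
    have hpN : p ∣ p ^ (n + 1) := dvd_pow_self p (Nat.succ_ne_zero n)
    set Γ := (Finset.range (p ^ (n + 1))).filter (fun γ => Nat.Coprime (p ^ (n + 1)) γ) with hΓ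
    have hunit : ∀ i ∈ I, μ i * conj (μ i) = 1 := fun i hi =>
      mul_conj_self_of_pow_eq_one hN.ne' (hμ i hi)
    have hunitp : ∀ i ∈ I, μ i ^ p * conj (μ i ^ p) = 1 := by
      intro i hi
      rw [map_pow, ← mul_pow, hunit i hi, one_pow]
    -- expansion of the norm square
    have hexp : ∀ γ : ℕ, ((Complex.normSq (∑ i ∈ I, (A i : ℂ) * μ i ^ γ) : ℝ) : ℂ) =
        ∑ i ∈ I, ∑ i' ∈ I, ((A i * A i' : ℤ) : ℂ) * (μ i * conj (μ i')) ^ γ := by
      intro γ
      rw [← Complex.mul_conj, map_sum, Finset.sum_mul_sum]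
      refine Finset.sum_congr rfl (fun i _ => ?_)
      refine Finset.sum_congr rfl (fun i' _ => ?_)
      rw [map_mul, map_pow, map_intCast, mul_pow]
      push_cast
      ring
    have hpow : ∀ i ∈ I, ∀ i' ∈ I, (μ i * conj (μ i')) ^ (p ^ (n + 1)) = 1 := by
      intro i hi i' hi'
      rw [mul_pow, ← map_pow, hμ i hi, hμ i' hi', map_one, one_mul]
    have hsumC : ((∑ γ ∈ Γ, Complex.normSq (∑ i ∈ I, (A i : ℂ) * μ i ^ γ) : ℝ) : ℂ) =
        ((p ^ n : ℕ) : ℂ) * (((p : ℤ) * (∑ i ∈ I, ∑ i' ∈ I, if μ i = μ i' then A i * A i' else 0) -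
          ∑ i ∈ I, ∑ i' ∈ I, if μ i ^ p = μ i' ^ p then A i * A i' else 0 : ℤ) : ℂ) := by
      rw [Complex.ofReal_sum, Finset.sum_congr rfl (fun γ _ => hexp γ), Finset.sum_comm]
      have h2 : ∀ i ∈ I, ∑ γ ∈ Γ, ∑ i' ∈ I, ((A i * A i' : ℤ) : ℂ) * (μ i * conj (μ i')) ^ γ =
          ∑ i' ∈ I, ((A i * A i' : ℤ) : ℂ) *
            ((if μ i = μ i' then ((p ^ (n + 1) : ℕ) : ℂ) else 0) -
              (if μ i ^ p = μ i' ^ p then ((p ^ n : ℕ) : ℂ) else 0)) := by
        intro i hi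
        rw [Finset.sum_comm]
        refine Finset.sum_congr rfl (fun i' hi' => ?_)
        rw [← Finset.mul_sum, hΓ, sum_units_pow hp n (hpow i hi i' hi')]
        have c1 : (μ i * conj (μ i') = 1) ↔ μ i = μ i' := mul_conj_eq_one_iff (hunit i' hi')
        have c2 : ((μ i * conj (μ i')) ^ p = 1) ↔ μ i ^ p = μ i' ^ p := by
          rw [mul_pow, ← map_pow]
          exact mul_conj_eq_one_iff (hunitp i' hi')
        simp only [c1, c2]
      rw [Finset.sum_congr rfl h2]
      have hQ' : ((p : ℤ) * (∑ i ∈ I, ∑ i' ∈ I, if μ i = μ i' then A i * A i' else 0) -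
          ∑ i ∈ I, ∑ i' ∈ I, if μ i ^ p = μ i' ^ p then A i * A i' else 0 : ℤ) =
          ∑ i ∈ I, ∑ i' ∈ I, ((p : ℤ) * (if μ i = μ i' then A i * A i' else 0) -
            (if μ i ^ p = μ i' ^ p then A i * A i' else 0)) := by
        rw [Finset.mul_sum, ← Finset.sum_sub_distrib]
        refine Finset.sum_congr rfl (fun i _ => ?_)
        rw [Finset.mul_sum, ← Finset.sum_sub_distrib]
      rw [hQ', Int.cast_sum, Finset.mul_sum]
      refine Finset.sum_congr rfl (fun i _ => ?_)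
      rw [Int.cast_sum, Finset.mul_sum]
      refine Finset.sum_congr rfl (fun i' _ => ?_)
      by_cases c1 : μ i = μ i'
      · have c2 : μ i ^ p = μ i' ^ p := by rw [c1]
        rw [if_pos c1, if_pos c2, if_pos c1, if_pos c2]
        push_cast
        ring
      · by_cases c2 : μ i ^ p = μ i' ^ p
        · rw [if_neg c1, if_pos c2, if_neg c1, if_pos c2]
          push_cast
          ring
        · rw [if_neg c1, if_neg c2, if_neg c1, if_neg c2]
          push_cast
          ring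
    have hkey := key_int_ineq hp hN hpN I A μ hμ h1
    set Q : ℤ := (p : ℤ) * (∑ i ∈ I, ∑ i' ∈ I, if μ i = μ i' then A i * A i' else 0) -
          ∑ i ∈ I, ∑ i' ∈ I, if μ i ^ p = μ i' ^ p then A i * A i' else 0 with hQ
    have hsumR : (∑ γ ∈ Γ, Complex.normSq (∑ i ∈ I, (A i : ℂ) * μ i ^ γ) : ℝ) =
        ((p ^ n : ℕ) : ℝ) * ((Q : ℤ) : ℝ) := by
      apply Complex.ofReal_injective
      rw [hsumC]
      push_cast
      rfl
    rw [hsumR, Nat.totient_prime_pow_succ hp]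
    have h3 : ((p - 1 : ℕ) : ℝ) ≤ ((Q : ℤ) : ℝ) := by
      have : ((p - 1 : ℕ) : ℤ) ≤ Q := by
        rw [Nat.cast_sub hp.one_le]
        exact_mod_cast hkey
      exact_mod_cast this
    push_cast
    exact mul_le_mul_of_nonneg_left (by exact_mod_cast h3) (by positivity)

end Main

end Cfsg.Agent.Helper16
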