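import Cfsg.Agent.Helper16.Contribution3
import Cfsg.Agent.Helper16.CycloIneq

/-!
# `k(B)² ≤ p^(2d) l(b)` for a block all of whose characters have height zero
-/

set_option autoImplicit false
set_option linter.unusedSectionVars false
set_option linter.unusedVariables false

namespace Cfsg.Agent.Helper16

open Cfsg
open scoped ComplexConjugate
open Cfsg.Agent.S4426 (cut)

section Final

variable {G : Type*} [Group G] [Fintype G] {M : Ideal AlgInt} {p : ℕ}

theorem centralizer_pow_eq_of_coprime (y : G) {γ : ℕ} (hγ : Nat.Coprime γ (orderOf y)) :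
    Subgroup.centralizer ({y} : Set G) = Subgroup.centralizer ({y ^ γ} : Set G) := by
  obtain ⟨m, hm⟩ := exists_pow_eq_self_of_coprime hγ
  ext g
  rw [Subgroup.mem_centralizer_singleton_iff, Subgroup.mem_centralizer_singleton_iff]
  constructor
  · intro h
    exact ((Commute.pow_right (show Commute g y from h) γ)).eq
  · intro h
    have : Commute g ((y ^ γ) ^ m) := Commute.pow_right (show Commute g (y ^ γ) from h) m
    rw [hm] at this
    exact this.eq

theorem exists_orderOf_pow_eq_prime_pow (hp : p.Prime) (y : G) {n : ℕ} (hy : orderOf y = p ^ n)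
    (γ : ℕ) : ∃ k : ℕ, orderOf (y ^ γ) = p ^ k := by
  have h1 : orderOf (y ^ γ) ∣ p ^ n := by rw [← hy]; exact orderOf_pow_dvd γ
  obtain ⟨k, -, hk⟩ := (Nat.dvd_prime_pow hp).1 h1
  exact ⟨k, hk⟩

/-- a power-form sum congruent to a unit is non-zero -/
theorem pow_form_ne_zero (hM : IsPModular p M) {ι : Type*} [Fintype ι] (A : ι → ℤ) (μ : ι → ℂ)
    {n : ℕ} (hμ : ∀ i, μ i ^ (p ^ n) = 1)
    (h0 : ¬ MemLocalIdeal M (∑ i, (A i : ℂ) * μ i ^ 0)) :
    ∑ i, (A i : ℂ) * μ i ≠ 0 := by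
  haveI hMp : M.IsPrime := IsPModular.isPrime hM
  intro hz
  apply h0
  have hdiff : MemLocalIdeal M (∑ i, (A i : ℂ) * μ i - ∑ i, (A i : ℂ) * μ i ^ 0) := by
    rw [← Finset.sum_sub_distrib]
    refine memLocalIdeal_sum _ _ (fun i _ => ?_)
    rw [pow_zero, ← mul_sub]
    exact memLocalIdeal_mul_left (memLocalRing_intCast _)
      (Helper77.memLocalIdeal_sub_one_of_pow_eq_one hM (hμ i))
  rw [hz, zero_sub] at hdiff
  have := memLocalIdeal_neg hdiff
  rwa [neg_neg] at this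

open Classical in
/-- **`k(B)² ≤ p^(2d) l(b)`** (general subgroup form). -/
theorem card_sq_le_aux [Fact p.Prime] (hM : IsPModular p M) {B : Set (IrrCharacter G)}
    (hh : ∀ χ ∈ B, blockHeight p B (χ : G → ℂ) = 0) (H : Subgroup G) [Fintype H] (yH : H)
    (hyc : yH ∈ Subgroup.center H) (hHy : H = Subgroup.centralizer ({(yH : G)} : Set G))
    (n : ℕ) (hy : orderOf (yH : G) = p ^ n) {b : Set (IrrCharacter H)}
    (hind : IsInducedBlock M H b B) :
    Nat.card B ^ 2 ≤ p ^ (2 * blockDefect p b) * blockRank p b := by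
  haveI hMp : M.IsPrime := IsPModular.isPrime hM
  have hpr : p.Prime := Fact.out
  have hb : IsPBlock M b := hind.1
  set d := blockDefect p b with hd
  set Γ := (Finset.range (p ^ n)).filter (fun γ => Nat.Coprime (p ^ n) γ) with hΓ
  have hyHpow : yH ^ (p ^ n) = 1 := by
    apply Subtype.ext
    rw [SubmonoidClass.coe_pow, ← hy]
    exact pow_orderOf_eq_one _
  -- trace identities
  have hTR : ∀ γ ∈ Γ, ∑ χ : IrrCharacter G, ∑ ψ : IrrCharacter G,
      Complex.normSq (contribE p H ((yH : G) ^ γ) b (χ : G → ℂ) (ψ : G → ℂ)) =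
      (blockRank p b : ℝ) := by
    intro γ hγ
    rw [hΓ, Finset.mem_filter] at hγ
    have hcop : Nat.Coprime γ (orderOf (yH : G)) := by
      rw [hy]; exact hγ.2.symm
    have hH' : H = Subgroup.centralizer ({(yH : G) ^ γ} : Set G) :=
      hHy.trans (centralizer_pow_eq_of_coprime (yH : G) hcop)
    have h1 := sum_contribE_normSq hM ((yH : G) ^ γ)
      (exists_orderOf_pow_eq_prime_pow hpr (yH : G) hy γ) H hH' hb
    apply Complex.ofReal_injective
    rw [Complex.ofReal_natCast, ← h1, Complex.ofReal_sum]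
    refine Finset.sum_congr rfl (fun χ _ => ?_)
    rw [Complex.ofReal_sum]
    refine Finset.sum_congr rfl (fun ψ _ => ?_)
    rw [Complex.mul_conj]
  -- the cyclotomic inequality for pairs of characters of `B`
  have hcyc : ∀ χ ∈ B, ∀ ψ ∈ B, ((p ^ n).totient : ℝ) ≤ ∑ γ ∈ Γ,
      Complex.normSq (((p ^ d : ℕ) : ℂ) *
        contribE p H ((yH : G) ^ γ) b (χ : G → ℂ) (ψ : G → ℂ)) := by
    intro χ hχ ψ hψ
    obtain ⟨A, μ, hμ, hform⟩ := exists_pow_form hM H yH hyc n hyHpow hb χ ψ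
    have hnv := contribE_one_not_memLocalIdeal hM H hind χ ψ hχ hψ (hh χ hχ) (hh ψ hψ)
    have h0 := hform 0
    rw [pow_zero] at h0
    rw [h0] at hnv
    have hne := pow_form_ne_zero hM A μ hμ hnv
    have hineq := sum_normSq_ge_totient hpr n Finset.univ A μ (fun i _ => hμ i) hne
    refine le_trans hineq (le_of_eq ?_)
    refine Finset.sum_congr rfl (fun γ _ => ?_)
    rw [hform γ]
  -- assemble
  set Bf : Finset (IrrCharacter G) := Finset.univ.filter (fun χ => χ ∈ B) with hBf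
  have hcard : Bf.card = Nat.card B := by
    rw [Nat.card_eq_fintype_card, Fintype.card_subtype]
  have hφpos : (0 : ℝ) < ((p ^ n).totient : ℝ) := by
    exact_mod_cast Nat.totient_pos.mpr (pow_pos hpr.pos n)
  have hΓcard : Γ.card = (p ^ n).totient := (Nat.totient_eq_card_coprime (p ^ n)).symm
  have hlow : ((Nat.card B : ℝ)) ^ 2 * ((p ^ n).totient : ℝ) ≤
      ∑ χ ∈ Bf, ∑ ψ ∈ Bf, ∑ γ ∈ Γ, Complex.normSq (((p ^ d : ℕ) : ℂ) *
        contribE p H ((yH : G) ^ γ) b (χ : G → ℂ) (ψ : G → ℂ)) := by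
    have h1 : ∑ χ ∈ Bf, ∑ ψ ∈ Bf, ((p ^ n).totient : ℝ) =
        ((Nat.card B : ℝ)) ^ 2 * ((p ^ n).totient : ℝ) := by
      simp only [Finset.sum_const, nsmul_eq_mul, hcard]
      ring
    rw [← h1]
    refine Finset.sum_le_sum (fun χ hχ => Finset.sum_le_sum (fun ψ hψ => ?_))
    exact hcyc χ (Finset.mem_filter.mp hχ).2 ψ (Finset.mem_filter.mp hψ).2
  have hup : ∑ χ ∈ Bf, ∑ ψ ∈ Bf, ∑ γ ∈ Γ, Complex.normSq (((p ^ d : ℕ) : ℂ) *
        contribE p H ((yH : G) ^ γ) b (χ : G → ℂ) (ψ : G → ℂ)) ≤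
      ((p ^ n).totient : ℝ) * (((p ^ (2 * d) : ℕ) : ℝ) * (blockRank p b : ℝ)) := by
    have hnn : ∀ (χ ψ : IrrCharacter G), 0 ≤ ∑ γ ∈ Γ, Complex.normSq (((p ^ d : ℕ) : ℂ) *
        contribE p H ((yH : G) ^ γ) b (χ : G → ℂ) (ψ : G → ℂ)) :=
      fun χ ψ => Finset.sum_nonneg (fun γ _ => Complex.normSq_nonneg _)
    have h1 : ∑ χ ∈ Bf, ∑ ψ ∈ Bf, ∑ γ ∈ Γ, Complex.normSq (((p ^ d : ℕ) : ℂ) *
        contribE p H ((yH : G) ^ γ) b (χ : G → ℂ) (ψ : G → ℂ)) ≤
        ∑ χ : IrrCharacter G, ∑ ψ : IrrCharacter G, ∑ γ ∈ Γ, Complex.normSq (((p ^ d : ℕ) : ℂ) *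
        contribE p H ((yH : G) ^ γ) b (χ : G → ℂ) (ψ : G → ℂ)) := by
      refine le_trans (Finset.sum_le_sum (fun χ _ =>
        Finset.sum_le_sum_of_subset_of_nonneg (Finset.subset_univ Bf)
          (fun ψ _ _ => hnn χ ψ))) ?_
      exact Finset.sum_le_sum_of_subset_of_nonneg (Finset.subset_univ Bf)
        (fun χ _ _ => Finset.sum_nonneg (fun ψ _ => hnn χ ψ))
    refine le_trans h1 (le_of_eq ?_)
    have h2 : ∑ χ : IrrCharacter G, ∑ ψ : IrrCharacter G, ∑ γ ∈ Γ,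
        Complex.normSq (((p ^ d : ℕ) : ℂ) *
          contribE p H ((yH : G) ^ γ) b (χ : G → ℂ) (ψ : G → ℂ)) =
        ∑ γ ∈ Γ, ((p ^ (2 * d) : ℕ) : ℝ) * ∑ χ : IrrCharacter G, ∑ ψ : IrrCharacter G,
          Complex.normSq (contribE p H ((yH : G) ^ γ) b (χ : G → ℂ) (ψ : G → ℂ)) := by
      rw [Finset.sum_comm]
      have : ∀ χ : IrrCharacter G, ∑ ψ : IrrCharacter G, ∑ γ ∈ Γ,
          Complex.normSq (((p ^ d : ℕ) : ℂ) *
            contribE p H ((yH : G) ^ γ) b (χ : G → ℂ) (ψ : G → ℂ)) =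
          ∑ γ ∈ Γ, ∑ ψ : IrrCharacter G, Complex.normSq (((p ^ d : ℕ) : ℂ) *
            contribE p H ((yH : G) ^ γ) b (χ : G → ℂ) (ψ : G → ℂ)) := fun χ => Finset.sum_comm
      rw [Finset.sum_comm, Finset.sum_congr rfl (fun χ _ => this χ), Finset.sum_comm]
      refine Finset.sum_congr rfl (fun γ _ => ?_)
      rw [Finset.mul_sum]
      refine Finset.sum_congr rfl (fun χ _ => ?_)
      rw [Finset.mul_sum]
      refine Finset.sum_congr rfl (fun ψ _ => ?_)
      rw [Complex.normSq_mul, Complex.normSq_natCast]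
      congr 1
      push_cast
      ring
    rw [h2, Finset.sum_congr rfl (fun γ hγ => by rw [hTR γ hγ]), Finset.sum_const, nsmul_eq_mul,
      hΓcard]
  have hfin : ((Nat.card B : ℝ)) ^ 2 * ((p ^ n).totient : ℝ) ≤
      ((p ^ n).totient : ℝ) * (((p ^ (2 * d) : ℕ) : ℝ) * (blockRank p b : ℝ)) :=
    le_trans hlow hup
  have hfin2 : ((Nat.card B : ℝ)) ^ 2 ≤ ((p ^ (2 * d) : ℕ) : ℝ) * (blockRank p b : ℝ) := by
    rw [mul_comm] at hfin
    exact le_of_mul_le_mul_left hfin hφpos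
  exact_mod_cast hfin2

end Final

end Cfsg.Agent.Helper16
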