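import Cfsg.Agent.Helper16.CycloIneq

/-!
# Averages of real sums of `2`-power roots of unity

For integers `A i` and `2 ^ n`-th roots of unity `μ i` such that `S γ = ∑ A i (μ i) ^ γ` is real
for every `γ`, the average of `S γ` over the odd `γ` modulo `2 ^ n` is a rational integer of the
same parity as `S 0`.  Also an arithmetic lemma on integer square roots.
-/

set_option autoImplicit false

namespace Cfsg.Agent.Helper16

open scoped ComplexConjugate

section Avg

variable {ι : Type*}

open Classical in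
/-- Fourier coefficients of a sum of roots of unity -/
theorem sum_range_mul_conj_pow {N : ℕ} (hN : 0 < N) (I : Finset ι) (A : ι → ℤ) (μ : ι → ℂ)
    (hμ : ∀ i ∈ I, μ i ^ N = 1) {ν : ℂ} (hν : ν ^ N = 1) :
    ∑ γ ∈ Finset.range N, (∑ i ∈ I, (A i : ℂ) * μ i ^ γ) * (conj ν) ^ γ =
      (N : ℂ) * ((∑ i ∈ I, if μ i = ν then A i else 0 : ℤ) : ℂ) := by
  have hνc : ν * conj ν = 1 := mul_conj_self_of_pow_eq_one hN.ne' hν
  have h1 : ∀ γ ∈ Finset.range N, (∑ i ∈ I, (A i : ℂ) * μ i ^ γ) * (conj ν) ^ γ =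
      ∑ i ∈ I, (A i : ℂ) * (μ i * conj ν) ^ γ := by
    intro γ _
    rw [Finset.sum_mul]
    refine Finset.sum_congr rfl (fun i _ => ?_)
    rw [mul_pow]; ring
  rw [Finset.sum_congr rfl h1, Finset.sum_comm, Int.cast_sum, Finset.mul_sum]
  refine Finset.sum_congr rfl (fun i hi => ?_)
  rw [← Finset.mul_sum]
  have h2 : (μ i * conj ν) ^ N = 1 := by
    rw [mul_pow, hμ i hi, ← map_pow, hν, map_one, one_mul]
  rw [sum_range_pow_of_pow_eq_one h2]
  by_cases h : μ i = ν
  · rw [if_pos h, if_pos ((mul_conj_eq_one_iff hνc).2 h)]; ring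
  · rw [if_neg h, if_neg (fun h' => h ((mul_conj_eq_one_iff hνc).1 h'))]
    simp

open Classical in
/-- for real sums the coefficient function is invariant under complex conjugation -/
theorem coeff_conj_eq {N : ℕ} (hN : 0 < N) (I : Finset ι) (A : ι → ℤ) (μ : ι → ℂ)
    (hμ : ∀ i ∈ I, μ i ^ N = 1)
    (hreal : ∀ γ : ℕ, conj (∑ i ∈ I, (A i : ℂ) * μ i ^ γ) = ∑ i ∈ I, (A i : ℂ) * μ i ^ γ)
    {ν : ℂ} (hν : ν ^ N = 1) :
    (∑ i ∈ I, if μ i = conj ν then A i else 0 : ℤ) = ∑ i ∈ I, if μ i = ν then A i else 0 := by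
  have hν' : (conj ν) ^ N = 1 := by rw [← map_pow, hν, map_one]
  have h1 := sum_range_mul_conj_pow hN I A μ hμ hν
  have h2 := sum_range_mul_conj_pow hN I A μ hμ hν'
  rw [Complex.conj_conj] at h2
  have h3 := congrArg conj h1
  rw [map_sum, map_mul, Complex.conj_natCast, map_intCast] at h3
  have h4 : ∑ γ ∈ Finset.range N, conj ((∑ i ∈ I, (A i : ℂ) * μ i ^ γ) * (conj ν) ^ γ) =
      ∑ γ ∈ Finset.range N, (∑ i ∈ I, (A i : ℂ) * μ i ^ γ) * ν ^ γ := by
    refine Finset.sum_congr rfl (fun γ _ => ?_)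
    rw [map_mul, hreal γ, map_pow, Complex.conj_conj]
  rw [h4, h2] at h3
  have hN0 : (N : ℂ) ≠ 0 := by exact_mod_cast hN.ne'
  have h5 := mul_left_cancel₀ hN0 h3
  exact_mod_cast h5

/-- a sum of an integer function invariant under a fixed-point-free conjugation is even -/
theorem even_sum_of_conj_symm (T : Finset ℂ) (hTc : ∀ x ∈ T, conj x ∈ T)
    (hTn : ∀ x ∈ T, conj x ≠ x) (c : ℂ → ℤ) (hc : ∀ x ∈ T, c (conj x) = c x) :
    Even (∑ x ∈ T, c x) := by
  have h0 : ((∑ x ∈ T, c x : ℤ) : ZMod 2) = 0 := by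
    rw [Int.cast_sum]
    refine Finset.sum_involution (fun x _ => conj x) ?_ ?_ ?_ ?_
    · intro x hx
      rw [hc x hx, ← two_mul]
      have : (2 : ZMod 2) = 0 := by decide
      rw [this, zero_mul]
    · intro x hx _
      exact hTn x hx
    · intro x hx
      exact hTc x hx
    · intro x _
      exact Complex.conj_conj x
  rw [even_iff_two_dvd]
  exact_mod_cast (ZMod.intCast_zmod_eq_zero_iff_dvd _ 2).1 h0

open Classical in
/-- **The average over the odd exponents.** -/
theorem exists_avg_int_two (n : ℕ) (I : Finset ι) (A : ι → ℤ) (μ : ι → ℂ)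
    (hμ : ∀ i ∈ I, μ i ^ (2 ^ n) = 1)
    (hreal : ∀ γ : ℕ, conj (∑ i ∈ I, (A i : ℂ) * μ i ^ γ) = ∑ i ∈ I, (A i : ℂ) * μ i ^ γ) :
    ∃ e : ℤ, ∑ γ ∈ (Finset.range (2 ^ n)).filter (fun γ => Nat.Coprime (2 ^ n) γ),
        ∑ i ∈ I, (A i : ℂ) * μ i ^ γ = ((2 ^ n).totient : ℂ) * (e : ℂ) ∧
      Even (e - ∑ i ∈ I, A i) := by
  rcases n with _ | m
  · refine ⟨∑ i ∈ I, A i, ?_, by simp⟩
    have hf : (Finset.range (2 ^ 0)).filter (fun γ => Nat.Coprime (2 ^ 0) γ) = {0} := by
      ext γ
      simp
    rw [hf, Finset.sum_singleton]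
    simp
  · set N := 2 ^ (m + 1) with hNdef
    have hN : 0 < N := pow_pos (by norm_num) _
    have h2 : Nat.Prime 2 := Nat.prime_two
    set e : ℤ := ∑ i ∈ I, A i * ((if μ i = 1 then 2 else 0) - (if μ i ^ 2 = 1 then 1 else 0))
      with he
    refine ⟨e, ?_, ?_⟩
    · rw [Finset.sum_comm]
      have h1 : ∀ i ∈ I, ∑ γ ∈ (Finset.range N).filter (fun γ => Nat.Coprime N γ),
          (A i : ℂ) * μ i ^ γ =
          ((2 ^ m : ℕ) : ℂ) * ((A i * ((if μ i = 1 then 2 else 0) -
            (if μ i ^ 2 = 1 then 1 else 0)) : ℤ) : ℂ) := by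
        intro i hi
        rw [← Finset.mul_sum, hNdef, sum_units_pow h2 m (hμ i hi)]
        by_cases ha : μ i = 1
        · have hb : μ i ^ 2 = 1 := by rw [ha, one_pow]
          rw [if_pos ha, if_pos hb, if_pos ha, if_pos hb]
          push_cast
          ring
        · by_cases hb : μ i ^ 2 = 1
          · rw [if_neg ha, if_pos hb, if_neg ha, if_pos hb]
            push_cast
            ring
          · rw [if_neg ha, if_neg hb, if_neg ha, if_neg hb]
            push_cast
            ring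
      rw [Finset.sum_congr rfl h1, ← Finset.mul_sum, he, Int.cast_sum]
      congr 1
      rw [hNdef, Nat.totient_prime_pow_succ h2]
      simp
    · -- parity
      set T := (Polynomial.nthRootsFinset N (1 : ℂ)).filter (fun x => x ^ 2 ≠ 1) with hT
      set c : ℂ → ℤ := fun x => ∑ i ∈ I, if μ i = x then A i else 0 with hc
      have hW : ∑ i ∈ I, A i * (if μ i ^ 2 ≠ 1 then (1 : ℤ) else 0) = ∑ x ∈ T, c x := by
        have := sum_regroup (R := ℤ) I A μ (Polynomial.nthRootsFinset N (1 : ℂ))
          (fun i hi => (Polynomial.mem_nthRootsFinset hN _).2 (hμ i hi))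
          (fun x => if x ^ 2 ≠ 1 then (1 : ℤ) else 0)
        simp only [Int.cast_id] at this
        rw [this, hT, Finset.sum_filter]
        refine Finset.sum_congr rfl (fun x _ => ?_)
        by_cases hx : x ^ 2 ≠ 1
        · rw [if_pos hx, if_pos hx, mul_one]
        · rw [if_neg hx, if_neg hx, mul_zero]
      have hev : Even (∑ x ∈ T, c x) := by
        refine even_sum_of_conj_symm T ?_ ?_ c ?_
        · intro x hx
          rw [hT, Finset.mem_filter, Polynomial.mem_nthRootsFinset hN] at hx ⊢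
          refine ⟨by rw [← map_pow, hx.1, map_one], fun h => hx.2 ?_⟩
          have := congrArg conj h
          rwa [map_pow, Complex.conj_conj, map_one] at this
        · intro x hx h
          rw [hT, Finset.mem_filter, Polynomial.mem_nthRootsFinset hN] at hx
          have h1 := mul_conj_self_of_pow_eq_one hN.ne' hx.1
          rw [h] at h1
          exact hx.2 (by rw [pow_two]; exact h1)
        · intro x hx
          rw [hT, Finset.mem_filter, Polynomial.mem_nthRootsFinset hN] at hx
          exact coeff_conj_eq hN I A μ hμ hreal hx.1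
      rw [← hW] at hev
      have hdec : e - ∑ i ∈ I, A i =
          2 * (∑ i ∈ I, A i * ((if μ i = 1 then 1 else 0) - (if μ i ^ 2 = 1 then 1 else 0))) -
            ∑ i ∈ I, A i * (if μ i ^ 2 ≠ 1 then (1 : ℤ) else 0) := by
        rw [he, Finset.mul_sum, ← Finset.sum_sub_distrib, ← Finset.sum_sub_distrib]
        refine Finset.sum_congr rfl (fun i _ => ?_)
        by_cases ha : μ i = 1
        · have hb : μ i ^ 2 = 1 := by rw [ha, one_pow]
          rw [if_pos ha, if_pos hb, if_pos ha, if_neg (not_not.2 hb)]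
          ring
        · by_cases hb : μ i ^ 2 = 1
          · rw [if_neg ha, if_pos hb, if_neg ha, if_neg (not_not.2 hb)]
            ring
          · rw [if_neg ha, if_neg hb, if_neg ha, if_pos hb]
            ring
      rw [hdec]
      exact (even_two_mul _).sub hev

end Avg

section Arith

/-- the arithmetic behind the refined bound -/
theorem sqrt_bounds {x Q l a : ℕ} (ha : Odd a) (h1 : x ≤ Q * a) (h2 : x * a ≤ Q * l) :
    (Odd (Nat.sqrt l) → x ≤ Nat.sqrt l * Q) ∧
      (¬ Odd (Nat.sqrt l) → (Nat.sqrt l + 1) * x ≤ l * Q) ∧ (l ≤ 3 → x ≤ Q) := by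
  set s := Nat.sqrt l with hs
  have hs1 : s * s ≤ l := Nat.sqrt_le l
  have hs2 : l < (s + 1) * (s + 1) := Nat.lt_succ_sqrt l
  have ha0 : 0 < a := ha.pos
  have hodd : Odd s → x ≤ s * Q := by
    intro hso
    by_cases hle : a ≤ s
    · calc x ≤ Q * a := h1
        _ ≤ Q * s := Nat.mul_le_mul_left Q hle
        _ = s * Q := mul_comm _ _
    · have hge : s + 2 ≤ a := by
        obtain ⟨u, hu⟩ := ha
        obtain ⟨v, hv⟩ := hso
        omega
      have h3 : x * a ≤ (s * Q) * a := by
        calc x * a ≤ Q * l := h2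
          _ ≤ Q * (s * (s + 2)) := Nat.mul_le_mul_left Q (by nlinarith)
          _ = (s * Q) * (s + 2) := by ring
          _ ≤ (s * Q) * a := Nat.mul_le_mul_left _ hge
      exact Nat.le_of_mul_le_mul_right h3 ha0
  refine ⟨hodd, ?_, ?_⟩
  · intro hse
    by_cases hle : a ≤ s
    · have hle' : a + 1 ≤ s := by
        rcases Nat.lt_or_ge a s with h | h
        · exact h
        · have : a = s := le_antisymm hle h
          exact absurd (this ▸ ha) hse
      calc (s + 1) * x ≤ (s + 1) * (Q * a) := Nat.mul_le_mul_left _ h1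
        _ = Q * ((s + 1) * a) := by ring
        _ ≤ Q * (s * s) := Nat.mul_le_mul_left Q (by nlinarith)
        _ ≤ Q * l := Nat.mul_le_mul_left Q hs1
        _ = l * Q := mul_comm _ _
    · have hge : s + 1 ≤ a := by omega
      calc (s + 1) * x ≤ a * x := Nat.mul_le_mul_right x hge
        _ = x * a := mul_comm _ _
        _ ≤ Q * l := h2
        _ = l * Q := mul_comm _ _
  · intro hl
    have hs3 : s ≤ 1 := by nlinarith
    rcases Nat.eq_zero_or_pos s with h0 | hpos
    · have hl0 : l = 0 := by rw [h0] at hs2; omega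
      rw [hl0, mul_zero] at h2
      have : x = 0 := by
        rcases Nat.eq_zero_or_pos x with h | h
        · exact h
        · have := Nat.mul_pos h ha0; omega
      rw [this]; exact Nat.zero_le _
    · have hs4 : s = 1 := by omega
      have := hodd (by rw [hs4]; exact odd_one)
      rw [hs4, one_mul] at this
      exact this

end Arith

end Cfsg.Agent.Helper16
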