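import Cfsg.Agent.Helper16.Contribution4
import Cfsg.Agent.Helper16.CycloAvg

/-!
# The refined bound for the number of height zero characters of a `2`-block

For a subsection `(u, b)` of the `2`-block `B`, with `b` of defect `q` and `2`-regular rank `l`,
there is an odd natural number `a` with `k₀(B) ≤ 2^q a` and `k₀(B) a ≤ 2^q l`.
-/

set_option autoImplicit false
set_option linter.unusedSectionVars false
set_option linter.unusedVariables false

namespace Cfsg.Agent.Helper16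

open Cfsg
open scoped ComplexConjugate
open Cfsg.Agent.S4426 (cut)

section Refined

variable {G : Type*} [Group G] [Fintype G] {M : Ideal AlgInt} {p : ℕ}

open Classical in
/-- the diagonal contributions are real -/
theorem contribE_self_conj [Fact p.Prime] (hM : IsPModular p M) (H : Subgroup G) [Fintype H]
    (x : G) {b : Set (IrrCharacter H)} (hb : IsPBlock M b) (χ : G → ℂ) :
    conj (contribE p H x b χ χ) = contribE p H x b χ χ := by
  haveI hMp : M.IsPrime := IsPModular.isPrime hM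
  unfold contribE
  rw [map_sum]
  have h1 : ∀ θ : IrrCharacter H, conj (∑ θ' : IrrCharacter H, (if θ ∈ b then (1 : ℂ) else 0) *
      (classInner (fun c : H => χ (x * (c : G))) (θ : H → ℂ) *
        conj (classInner (fun c : H => χ (x * (c : G))) (θ' : H → ℂ)) *
        classInner (cut p 1 (θ : H → ℂ)) (θ' : H → ℂ))) =
      ∑ θ' : IrrCharacter H, (if θ' ∈ b then (1 : ℂ) else 0) *
      (classInner (fun c : H => χ (x * (c : G))) (θ' : H → ℂ) *
        conj (classInner (fun c : H => χ (x * (c : G))) (θ : H → ℂ)) *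
        classInner (cut p 1 (θ' : H → ℂ)) (θ : H → ℂ)) := by
    intro θ
    rw [map_sum]
    refine Finset.sum_congr rfl (fun θ' _ => ?_)
    have hsym : conj (classInner (cut p 1 (θ : H → ℂ)) (θ' : H → ℂ)) =
        classInner (cut p 1 (θ' : H → ℂ)) (θ : H → ℂ) := by
      rw [Cfsg.Agent.S4426.classInner_cut_symm p 1 (map_one _) (θ' : H → ℂ) (θ : H → ℂ)]
    by_cases hθ : θ ∈ b
    · by_cases hθ' : θ' ∈ b
      · rw [if_pos hθ, if_pos hθ', one_mul, one_mul, map_mul, map_mul, Complex.conj_conj, hsym]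
        ring
      · have hz : classInner (cut p 1 (θ : H → ℂ)) (θ' : H → ℂ) = 0 := by
          apply Cfsg.Agent.S4431.classInner_cut_eq_zero hM 1 θ θ'
          rw [← Helper78.isPBlock_eq_blockOf_of_mem hMp hb hθ]
          exact hθ'
        rw [if_neg hθ', zero_mul, hz, mul_zero, mul_zero, map_zero]
    · by_cases hθ' : θ' ∈ b
      · have hz : classInner (cut p 1 (θ' : H → ℂ)) (θ : H → ℂ) = 0 := by
          apply Cfsg.Agent.S4431.classInner_cut_eq_zero hM 1 θ' θ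
          rw [← Helper78.isPBlock_eq_blockOf_of_mem hMp hb hθ']
          exact hθ
        rw [if_neg hθ, zero_mul, hz, mul_zero, mul_zero, map_zero]
      · rw [if_neg hθ, if_neg hθ', zero_mul, zero_mul, map_zero]
  rw [Finset.sum_congr rfl (fun θ _ => h1 θ), Finset.sum_comm]

/-- rows of the contribution matrix, general subgroup form -/
theorem sum_contribE_row' [Fact p.Prime] (hM : IsPModular p M) (x : G)
    (hx : ∃ k : ℕ, orderOf x = p ^ k) (H : Subgroup G) [Fintype H]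
    (hH : H = Subgroup.centralizer ({x} : Set G))
    {b : Set (IrrCharacter H)} (hb : IsPBlock M b) (χ : IrrCharacter G) :
    ∑ ψ : IrrCharacter G,
      contribE p H x b (χ : G → ℂ) (ψ : G → ℂ) *
        conj (contribE p H x b (χ : G → ℂ) (ψ : G → ℂ)) =
      contribE p H x b (χ : G → ℂ) (χ : G → ℂ) := by
  subst hH
  exact sum_contribE_row hM x hx hb χ

/-- trace of the contribution matrix, general subgroup form -/
theorem sum_contribE_diag' [Fact p.Prime] (hM : IsPModular p M) (x : G)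
    (hx : ∃ k : ℕ, orderOf x = p ^ k) (H : Subgroup G) [Fintype H]
    (hH : H = Subgroup.centralizer ({x} : Set G))
    {b : Set (IrrCharacter H)} (hb : IsPBlock M b) :
    ∑ χ : IrrCharacter G, contribE p H x b (χ : G → ℂ) (χ : G → ℂ) = (blockRank p b : ℂ) := by
  subst hH
  exact sum_contribE_diag hM x hx hb

open Classical in
/-- **The refined bound**: an odd `a` with `k₀ ≤ 2^q a` and `k₀ a ≤ 2^q l`. -/
theorem k0_bounds_aux [Fact (2 : ℕ).Prime] (hM : IsPModular 2 M) {B : Set (IrrCharacter G)}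
    (H : Subgroup G) [Fintype H] (yH : H)
    (hyc : yH ∈ Subgroup.center H) (hHy : H = Subgroup.centralizer ({(yH : G)} : Set G))
    (n : ℕ) (hy : orderOf (yH : G) = 2 ^ n) {b : Set (IrrCharacter H)}
    (hind : IsInducedBlock M H b B) (K0 : Finset (IrrCharacter G))
    (hK0 : ∀ χ ∈ K0, χ ∈ B ∧ blockHeight 2 B (χ : G → ℂ) = 0) (hne : K0.Nonempty) :
    ∃ a : ℕ, Odd a ∧ K0.card ≤ 2 ^ blockDefect 2 b * a ∧
      K0.card * a ≤ 2 ^ blockDefect 2 b * blockRank 2 b := by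
  haveI hMp : M.IsPrime := IsPModular.isPrime hM
  have hpr : (2 : ℕ).Prime := Nat.prime_two
  have hb : IsPBlock M b := hind.1
  set d := blockDefect 2 b with hd
  set Γ := (Finset.range (2 ^ n)).filter (fun γ => Nat.Coprime (2 ^ n) γ) with hΓ
  have hyHpow : yH ^ (2 ^ n) = 1 := by
    apply Subtype.ext
    rw [SubmonoidClass.coe_pow, ← hy]
    exact pow_orderOf_eq_one _
  have hHγ : ∀ γ ∈ Γ, H = Subgroup.centralizer ({(yH : G) ^ γ} : Set G) := by
    intro γ hγ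
    rw [hΓ, Finset.mem_filter] at hγ
    have hcop : Nat.Coprime γ (orderOf (yH : G)) := by
      rw [hy]; exact hγ.2.symm
    exact hHy.trans (centralizer_pow_eq_of_coprime (yH : G) hcop)
  have hxγ : ∀ γ : ℕ, ∃ k : ℕ, orderOf ((yH : G) ^ γ) = 2 ^ k := fun γ =>
    exists_orderOf_pow_eq_prime_pow hpr (yH : G) hy γ
  have hφpos : (0 : ℝ) < ((2 ^ n).totient : ℝ) := by
    exact_mod_cast Nat.totient_pos.mpr (pow_pos hpr.pos n)
  have hφne : ((2 ^ n).totient : ℂ) ≠ 0 := by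
    exact_mod_cast (Nat.totient_pos.mpr (pow_pos hpr.pos n)).ne'
  have hdpos : (0 : ℝ) < ((2 ^ d : ℕ) : ℝ) := by exact_mod_cast pow_pos hpr.pos d
  -- the power forms of the diagonal contributions and their averages
  choose A μ hμ hform using fun χ : IrrCharacter G =>
    exists_pow_form hM H yH hyc n hyHpow hb χ χ
  have havg : ∀ χ : IrrCharacter G, ∃ e : ℤ,
      ∑ γ ∈ Γ, ((2 ^ d : ℕ) : ℂ) * contribE 2 H ((yH : G) ^ γ) b (χ : G → ℂ) (χ : G → ℂ) =
        ((2 ^ n).totient : ℂ) * (e : ℂ) ∧ Even (e - ∑ i, A χ i) := by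
    intro χ
    obtain ⟨e, he1, he2⟩ := exists_avg_int_two n Finset.univ (A χ) (μ χ) (fun i _ => hμ χ i)
      (fun γ => by
        rw [← hform χ γ, map_mul, Complex.conj_natCast, contribE_self_conj hM H _ hb])
    refine ⟨e, ?_, he2⟩
    rw [← he1]
    exact Finset.sum_congr rfl (fun γ _ => hform χ γ)
  choose e he1 he2 using havg
  -- rows
  have hrow : ∀ χ : IrrCharacter G, ∑ γ ∈ Γ, ∑ ψ : IrrCharacter G,
      Complex.normSq (((2 ^ d : ℕ) : ℂ) *
        contribE 2 H ((yH : G) ^ γ) b (χ : G → ℂ) (ψ : G → ℂ)) =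
      ((2 ^ d : ℕ) : ℝ) * (((2 ^ n).totient : ℝ) * (e χ : ℝ)) := by
    intro χ
    apply Complex.ofReal_injective
    have h1 : ∀ γ ∈ Γ, ((∑ ψ : IrrCharacter G, Complex.normSq (((2 ^ d : ℕ) : ℂ) *
        contribE 2 H ((yH : G) ^ γ) b (χ : G → ℂ) (ψ : G → ℂ)) : ℝ) : ℂ) =
        ((2 ^ d : ℕ) : ℂ) * (((2 ^ d : ℕ) : ℂ) *
          contribE 2 H ((yH : G) ^ γ) b (χ : G → ℂ) (χ : G → ℂ)) := by
      intro γ hγ
      rw [Complex.ofReal_sum, ← sum_contribE_row' hM _ (hxγ γ) H (hHγ γ hγ) hb χ,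
        Finset.mul_sum, Finset.mul_sum]
      refine Finset.sum_congr rfl (fun ψ _ => ?_)
      rw [← Complex.mul_conj, map_mul, Complex.conj_natCast]
      ring
    rw [Complex.ofReal_sum, Finset.sum_congr rfl h1, ← Finset.mul_sum, he1 χ]
    push_cast
    ring
  have henn : ∀ χ : IrrCharacter G, 0 ≤ e χ := by
    intro χ
    have h1 : (0 : ℝ) ≤ ((2 ^ d : ℕ) : ℝ) * (((2 ^ n).totient : ℝ) * (e χ : ℝ)) := by
      rw [← hrow χ]
      exact Finset.sum_nonneg (fun γ _ => Finset.sum_nonneg (fun ψ _ => Complex.normSq_nonneg _))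
    have h2 : (0 : ℝ) ≤ ((2 ^ n).totient : ℝ) * (e χ : ℝ) :=
      nonneg_of_mul_nonneg_right h1 hdpos
    have h3 : (0 : ℝ) ≤ (e χ : ℝ) := nonneg_of_mul_nonneg_right h2 hφpos
    exact_mod_cast h3
  -- the cyclotomic inequality for pairs of characters of height zero
  have hcyc : ∀ χ ∈ K0, ∀ ψ ∈ K0, ((2 ^ n).totient : ℝ) ≤ ∑ γ ∈ Γ,
      Complex.normSq (((2 ^ d : ℕ) : ℂ) *
        contribE 2 H ((yH : G) ^ γ) b (χ : G → ℂ) (ψ : G → ℂ)) := by
    intro χ hχ ψ hψ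
    obtain ⟨A', μ', hμ', hform'⟩ := exists_pow_form hM H yH hyc n hyHpow hb χ ψ
    have hnv := contribE_one_not_memLocalIdeal hM H hind χ ψ (hK0 χ hχ).1 (hK0 ψ hψ).1
      (hK0 χ hχ).2 (hK0 ψ hψ).2
    have h0 := hform' 0
    rw [pow_zero] at h0
    rw [h0] at hnv
    have hne' := pow_form_ne_zero hM A' μ' hμ' hnv
    have hineq := sum_normSq_ge_totient hpr n Finset.univ A' μ' (fun i _ => hμ' i) hne'
    refine le_trans hineq (le_of_eq ?_)
    refine Finset.sum_congr rfl (fun γ _ => ?_)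
    rw [hform' γ]
  -- `k₀ ≤ 2^d e χ`
  have hk0 : ∀ χ ∈ K0, (K0.card : ℝ) ≤ ((2 ^ d : ℕ) : ℝ) * (e χ : ℝ) := by
    intro χ hχ
    have h1 : (K0.card : ℝ) * ((2 ^ n).totient : ℝ) ≤ ∑ ψ ∈ K0, ∑ γ ∈ Γ,
        Complex.normSq (((2 ^ d : ℕ) : ℂ) *
          contribE 2 H ((yH : G) ^ γ) b (χ : G → ℂ) (ψ : G → ℂ)) := by
      have : ∑ ψ ∈ K0, ((2 ^ n).totient : ℝ) = (K0.card : ℝ) * ((2 ^ n).totient : ℝ) := by
        rw [Finset.sum_const, nsmul_eq_mul]
      rw [← this]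
      exact Finset.sum_le_sum (fun ψ hψ => hcyc χ hχ ψ hψ)
    have h2 : ∑ ψ ∈ K0, ∑ γ ∈ Γ, Complex.normSq (((2 ^ d : ℕ) : ℂ) *
          contribE 2 H ((yH : G) ^ γ) b (χ : G → ℂ) (ψ : G → ℂ)) ≤
        ∑ ψ : IrrCharacter G, ∑ γ ∈ Γ, Complex.normSq (((2 ^ d : ℕ) : ℂ) *
          contribE 2 H ((yH : G) ^ γ) b (χ : G → ℂ) (ψ : G → ℂ)) :=
      Finset.sum_le_sum_of_subset_of_nonneg (Finset.subset_univ K0)
        (fun ψ _ _ => Finset.sum_nonneg (fun γ _ => Complex.normSq_nonneg _))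
    have h2' : ∑ ψ : IrrCharacter G, ∑ γ ∈ Γ, Complex.normSq (((2 ^ d : ℕ) : ℂ) *
          contribE 2 H ((yH : G) ^ γ) b (χ : G → ℂ) (ψ : G → ℂ)) =
        ((2 ^ d : ℕ) : ℝ) * (((2 ^ n).totient : ℝ) * (e χ : ℝ)) := by
      rw [Finset.sum_comm]
      exact hrow χ
    rw [h2'] at h2
    have h3 : (K0.card : ℝ) * ((2 ^ n).totient : ℝ) ≤
        (((2 ^ d : ℕ) : ℝ) * (e χ : ℝ)) * ((2 ^ n).totient : ℝ) := by
      refine le_trans (le_trans h1 h2) (le_of_eq ?_)
      ring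
    exact le_of_mul_le_mul_right h3 hφpos
  -- the trace
  have htr : ∑ χ : IrrCharacter G, e χ = ((2 ^ d * blockRank 2 b : ℕ) : ℤ) := by
    have h1 : ((2 ^ n).totient : ℂ) * ((∑ χ : IrrCharacter G, e χ : ℤ) : ℂ) =
        ((2 ^ n).totient : ℂ) * (((2 ^ d * blockRank 2 b : ℕ) : ℤ) : ℂ) := by
      rw [Int.cast_sum, Finset.mul_sum, ← Finset.sum_congr rfl (fun χ _ => he1 χ), Finset.sum_comm]
      have h2 : ∀ γ ∈ Γ, ∑ χ : IrrCharacter G, ((2 ^ d : ℕ) : ℂ) *
          contribE 2 H ((yH : G) ^ γ) b (χ : G → ℂ) (χ : G → ℂ) =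
          ((2 ^ d : ℕ) : ℂ) * (blockRank 2 b : ℂ) := by
        intro γ hγ
        rw [← Finset.mul_sum, sum_contribE_diag' hM _ (hxγ γ) H (hHγ γ hγ) hb]
      rw [Finset.sum_congr rfl h2, Finset.sum_const, nsmul_eq_mul, hΓ,
        ← Nat.totient_eq_card_coprime (2 ^ n)]
      push_cast
      ring
    have h3 := mul_left_cancel₀ hφne h1
    exact_mod_cast h3
  -- parity
  have hodd : ∀ χ ∈ K0, Odd (e χ) := by
    intro χ hχ
    have hnv := contribE_one_not_memLocalIdeal hM H hind χ χ (hK0 χ hχ).1 (hK0 χ hχ).1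
      (hK0 χ hχ).2 (hK0 χ hχ).2
    have h0 := hform χ 0
    rw [pow_zero] at h0
    rw [h0] at hnv
    have h1 : ∑ i, (A χ i : ℂ) * μ χ i ^ 0 = ((∑ i, A χ i : ℤ) : ℂ) := by
      rw [Int.cast_sum]
      exact Finset.sum_congr rfl (fun i _ => by rw [pow_zero, mul_one])
    rw [h1, Helper78.memLocalIdeal_intCast_iff hM] at hnv
    have h2 : Odd (∑ i, A χ i) := by
      rw [← Int.not_even_iff_odd, even_iff_two_dvd]
      exact_mod_cast hnv
    have h3 : e χ = (e χ - ∑ i, A χ i) + ∑ i, A χ i := by ring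
    rw [h3]
    exact (he2 χ).add_odd h2
  -- the minimum
  obtain ⟨χ₀, hχ₀, hmin⟩ := Finset.exists_min_image K0 e hne
  have ha : ((e χ₀).toNat : ℤ) = e χ₀ := Int.toNat_of_nonneg (henn χ₀)
  refine ⟨(e χ₀).toNat, ?_, ?_, ?_⟩
  · rw [← Int.odd_coe_nat, ha]
    exact hodd χ₀ hχ₀
  · have h1 := hk0 χ₀ hχ₀
    have h2 : (e χ₀ : ℝ) = (((e χ₀).toNat : ℕ) : ℝ) := by
      rw [← Int.cast_natCast, ha]
    rw [h2] at h1
    exact_mod_cast h1
  · have h1 : (K0.card : ℤ) * e χ₀ ≤ ∑ χ ∈ K0, e χ := by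
      have : ∑ χ ∈ K0, e χ₀ = (K0.card : ℤ) * e χ₀ := by
        rw [Finset.sum_const, nsmul_eq_mul]
      rw [← this]
      exact Finset.sum_le_sum (fun χ hχ => hmin χ hχ)
    have h2 : ∑ χ ∈ K0, e χ ≤ ∑ χ : IrrCharacter G, e χ :=
      Finset.sum_le_sum_of_subset_of_nonneg (Finset.subset_univ K0) (fun χ _ _ => henn χ)
    have h3 := le_trans h1 h2
    rw [htr, ← ha] at h3
    exact_mod_cast h3

end Refined

end Cfsg.Agent.Helper16
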