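import Cfsg.Agent.Helper77.CoverRel
import Cfsg.Agent.Helper78.InducedDefect

/-!
# Convolution algebra: associativity and list products

(helper16.)  Associativity of `conv`, distributivity, and the product `convList` of a list of
functions, with the closure properties needed for the graded nilpotency argument (Knörr core).
-/

set_option autoImplicit false
set_option linter.unusedSectionVars false

namespace Cfsg.Agent.Helper16

open Cfsg

variable {G : Type*} [Group G] [Fintype G] {M : Ideal AlgInt}

/-- Associativity of convolution. -/
theorem conv_assoc (s t u : G → ℂ) : conv (conv s t) u = conv s (conv t u) := by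
  funext g
  simp only [conv_apply]
  calc ∑ y : G, (∑ x : G, s x * t (x⁻¹ * y)) * u (y⁻¹ * g)
      = ∑ y : G, ∑ x : G, s x * (t (x⁻¹ * y) * u (y⁻¹ * g)) := by
        refine Finset.sum_congr rfl (fun y _ => ?_)
        rw [Finset.sum_mul]
        exact Finset.sum_congr rfl (fun x _ => mul_assoc _ _ _)
    _ = ∑ x : G, ∑ y : G, s x * (t (x⁻¹ * y) * u (y⁻¹ * g)) := Finset.sum_comm
    _ = ∑ x : G, s x * ∑ z : G, t z * u (z⁻¹ * (x⁻¹ * g)) := by
        refine Finset.sum_congr rfl (fun x _ => ?_)
        rw [Finset.mul_sum]
        rw [← Equiv.sum_comp (Equiv.mulLeft x)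
          (fun y => s x * (t (x⁻¹ * y) * u (y⁻¹ * g)))]
        refine Finset.sum_congr rfl (fun z _ => ?_)
        show s x * (t (x⁻¹ * (x * z)) * u ((x * z)⁻¹ * g)) = s x * (t z * u (z⁻¹ * (x⁻¹ * g)))
        rw [inv_mul_cancel_left, mul_inv_rev, mul_assoc]

theorem conv_add_left' (s s' t : G → ℂ) : conv (s + s') t = conv s t + conv s' t := by
  funext g
  simp only [conv_apply, Pi.add_apply, add_mul, Finset.sum_add_distrib]

theorem conv_sub_right' (s t t' : G → ℂ) : conv s (t - t') = conv s t - conv s t' := by
  funext g
  simp only [conv_apply, Pi.sub_apply, mul_sub, Finset.sum_sub_distrib]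

theorem conv_smul_right' (c : ℂ) (s t : G → ℂ) : conv s (c • t) = c • conv s t := by
  funext g
  simp only [conv_apply, Pi.smul_apply, smul_eq_mul, Finset.mul_sum]
  exact Finset.sum_congr rfl (fun x _ => by ring)

/-- Functions with values in the local ring. -/
def RValued (M : Ideal AlgInt) (t : G → ℂ) : Prop := ∀ g, MemLocalRing M (t g)

theorem rValued_conv [M.IsPrime] {s t : G → ℂ} (hs : RValued M s) (ht : RValued M t) :
    RValued M (conv s t) := fun g => Helper77.memLocalRing_conv hs ht g

theorem rValued_deltaOne [M.IsPrime] : RValued M (deltaOne : G → ℂ) :=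
  fun g => Helper77.memLocalRing_deltaOne g

theorem jValued_conv_left' [M.IsPrime] {s t : G → ℂ} (hs : Helper78.JValued M s)
    (ht : RValued M t) : Helper78.JValued M (conv s t) :=
  fun g => Helper77.memLocalIdeal_conv_left hs ht g

theorem jValued_conv_right' [M.IsPrime] {s t : G → ℂ} (hs : RValued M s)
    (ht : Helper78.JValued M t) : Helper78.JValued M (conv s t) :=
  Helper78.jValued_conv_right hs ht

theorem jValued_add' [M.IsPrime] {s t : G → ℂ} (hs : Helper78.JValued M s)
    (ht : Helper78.JValued M t) : Helper78.JValued M (s + t) :=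
  fun g => memLocalIdeal_add (hs g) (ht g)

theorem jValued_zero' [M.IsPrime] : Helper78.JValued M (0 : G → ℂ) :=
  fun _ => memLocalIdeal_zero

theorem jValued_sum' [M.IsPrime] {ι : Type*} (I : Finset ι) (f : ι → G → ℂ)
    (h : ∀ i ∈ I, Helper78.JValued M (f i)) : Helper78.JValued M (∑ i ∈ I, f i) := by
  intro g
  rw [Finset.sum_apply]
  exact memLocalIdeal_sum _ _ (fun i hi => h i hi g)

/-- The convolution product of a list of functions. -/
noncomputable def convList : List (G → ℂ) → G → ℂ
  | [] => deltaOne
  | a :: l => conv a (convList l)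

@[simp] theorem convList_nil : convList ([] : List (G → ℂ)) = deltaOne := rfl

@[simp] theorem convList_cons (a : G → ℂ) (l : List (G → ℂ)) :
    convList (a :: l) = conv a (convList l) := rfl

theorem convList_singleton (a : G → ℂ) : convList [a] = a := by
  rw [convList_cons, convList_nil, Helper78.conv_deltaOne_right]

theorem convList_append (l₁ l₂ : List (G → ℂ)) :
    convList (l₁ ++ l₂) = conv (convList l₁) (convList l₂) := by
  induction l₁ with
  | nil => rw [List.nil_append, convList_nil, Helper78.conv_deltaOne_left]
  | cons a l ih => rw [List.cons_append, convList_cons, convList_cons, ih, conv_assoc]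

theorem rValued_convList [M.IsPrime] {l : List (G → ℂ)} (h : ∀ a ∈ l, RValued M a) :
    RValued M (convList l) := by
  induction l with
  | nil => exact rValued_deltaOne
  | cons a l ih =>
    rw [convList_cons]
    exact rValued_conv (h a (List.mem_cons_self ..))
      (ih (fun b hb => h b (List.mem_cons_of_mem _ hb)))

theorem invUnder_deltaOne (S : Set G) : Helper77.InvUnder S (deltaOne : G → ℂ) :=
  Helper77.invUnder_of_isClassFunction isClassFunction_deltaOne S

theorem invUnder_convList {S : Set G} {l : List (G → ℂ)} (h : ∀ a ∈ l, Helper77.InvUnder S a) :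
    Helper77.InvUnder S (convList l) := by
  induction l with
  | nil => exact invUnder_deltaOne S
  | cons a l ih =>
    rw [convList_cons]
    exact Helper77.invUnder_conv (h a (List.mem_cons_self ..))
      (ih (fun b hb => h b (List.mem_cons_of_mem _ hb)))

end Cfsg.Agent.Helper16
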