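import Cfsg.Agent.Helper49.ConvPowCount

/-!
# Convolution powers as sums over tuples

(helper16; weighted version of helper49's `convPow_indicator_apply`.)  The value at `g` of the `n`-th
convolution power of `b` is the sum, over the `n`-tuples with product `g`, of the products of the
values of `b`.
-/

set_option autoImplicit false

namespace Cfsg.Agent.Helper16

open Cfsg
open Cfsg.Agent.Helper49.ConvPowCount (prod_snoc)

variable {G : Type*} [Group G] [Fintype G] [DecidableEq G]

/-- The weighted sum over the `n`-tuples with product `g`. -/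
noncomputable def wsum (b : G → ℂ) (n : ℕ) (g : G) : ℂ :=
  ∑ v : Fin n → G, if (List.ofFn v).prod = g then ∏ i, b (v i) else 0

theorem wsum_zero (b : G → ℂ) (g : G) : wsum b 0 g = if g = 1 then 1 else 0 := by
  unfold wsum
  rw [Fintype.sum_eq_single (fun i : Fin 0 => i.elim0)]
  · simp [eq_comm]
  · intro v hv
    exact absurd (Subsingleton.elim _ _) hv

theorem prod_snoc_weights (b : G → ℂ) {n : ℕ} (w : Fin n → G) (y : G) :
    ∏ i, b ((Fin.snoc w y : Fin (n + 1) → G) i) = (∏ i, b (w i)) * b y := by
  rw [Fin.prod_univ_castSucc]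
  simp

theorem wsum_succ (b : G → ℂ) (n : ℕ) (g : G) :
    wsum b (n + 1) g = ∑ x : G, wsum b n x * b (x⁻¹ * g) := by
  unfold wsum
  rw [← (Fin.snocEquiv (fun _ : Fin (n + 1) => G)).sum_comp, Fintype.sum_prod_type,
    Finset.sum_comm]
  have hR : ∑ x : G, (∑ v : Fin n → G, if (List.ofFn v).prod = x then ∏ i, b (v i) else 0) *
        b (x⁻¹ * g) =
      ∑ w : Fin n → G, ∑ x : G,
        (if (List.ofFn w).prod = x then ∏ i, b (w i) else 0) * b (x⁻¹ * g) := by
    rw [Finset.sum_comm]
    apply Finset.sum_congr rfl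
    intro x _
    rw [Finset.sum_mul]
  rw [hR]
  apply Finset.sum_congr rfl
  intro w _
  have hL : ∀ y : G, (if (List.ofFn ((Fin.snocEquiv (fun _ : Fin (n + 1) => G)) (y, w))).prod = g
        then ∏ i, b (((Fin.snocEquiv (fun _ : Fin (n + 1) => G)) (y, w)) i) else 0) =
      if (List.ofFn w).prod * y = g then (∏ i, b (w i)) * b y else 0 := by
    intro y
    have e : (Fin.snocEquiv (fun _ : Fin (n + 1) => G)) (y, w) = (Fin.snoc w y : Fin (n + 1) → G) :=
      rfl
    rw [e, prod_snoc, prod_snoc_weights]
  simp_rw [hL]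
  rw [Finset.sum_eq_single ((List.ofFn w).prod⁻¹ * g), Finset.sum_eq_single ((List.ofFn w).prod)]
  · rw [if_pos (by group), if_pos rfl]
  · intro x _ hx
    rw [if_neg (fun h => hx h.symm), zero_mul]
  · intro h; exact absurd (Finset.mem_univ _) h
  · intro y _ hy
    rw [if_neg]
    intro h
    apply hy
    rw [← h]; group
  · intro h; exact absurd (Finset.mem_univ _) h

/-- **(KNV-WB1)** -/
theorem convPow_apply_eq_sum_tuples (b : G → ℂ) (n : ℕ) (g : G) :
    Helper77.convPow b n g =
      ∑ v : Fin n → G, if (List.ofFn v).prod = g then ∏ i, b (v i) else 0 := by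
  change _ = wsum b n g
  induction n generalizing g with
  | zero =>
    rw [Helper77.convPow_zero, wsum_zero]
    unfold deltaOne
    by_cases hg : g = 1
    · simp [hg]
    · simp [hg]
  | succ n ih =>
    rw [Helper77.convPow_succ, conv_apply, wsum_succ]
    apply Finset.sum_congr rfl
    intro x _
    rw [ih x]

end Cfsg.Agent.Helper16
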