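import Cfsg.Agent.Helper16.BrauerVanish

/-!
# The grading of the group algebra by the cosets of a normal subgroup

(helper16.)  For a normal subgroup `N` of `G`, a function on `G` splits into its pieces supported on
the cosets of `N`.  Convolution multiplies the degrees.  A list of at least `|G/N|` cosets contains a
non-empty segment of degree `1`; consequently a product of at least `|G/N| * k` pieces of an
`N`-invariant function can be rewritten with `k` factors of degree `1` in front.
-/

set_option autoImplicit false
set_option linter.unusedSectionVars false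

namespace Cfsg.Agent.Helper16

open Cfsg

variable {G : Type*} [Group G] [Fintype G] {M : Ideal AlgInt} {p : ℕ}
variable (N : Subgroup G) [hN : N.Normal]

/-- `f` is supported on the coset `γ` of `N`. -/
def SuppCoset (γ : G ⧸ N) (f : G → ℂ) : Prop :=
  ∀ g : G, (QuotientGroup.mk g : G ⧸ N) ≠ γ → f g = 0

/-- The piece of `X` supported on the coset `γ`. -/
noncomputable def piece (X : G → ℂ) (γ : G ⧸ N) : G → ℂ :=
  fun g => by classical exact if (QuotientGroup.mk g : G ⧸ N) = γ then X g else 0

theorem piece_of_eq (X : G → ℂ) {γ : G ⧸ N} {g : G} (h : (QuotientGroup.mk g : G ⧸ N) = γ) :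
    piece N X γ g = X g := by
  unfold piece
  exact if_pos h

theorem piece_of_ne (X : G → ℂ) {γ : G ⧸ N} {g : G} (h : (QuotientGroup.mk g : G ⧸ N) ≠ γ) :
    piece N X γ g = 0 := by
  unfold piece
  exact if_neg h

theorem suppCoset_piece (X : G → ℂ) (γ : G ⧸ N) : SuppCoset N γ (piece N X γ) :=
  fun _ h => piece_of_ne N X h

theorem sum_piece [Fintype (G ⧸ N)] (X : G → ℂ) : ∑ γ : G ⧸ N, piece N X γ = X := by
  classical
  funext g
  rw [Finset.sum_apply, Finset.sum_eq_single (QuotientGroup.mk g : G ⧸ N)]
  · exact piece_of_eq N X rfl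
  · intro γ _ hγ
    exact piece_of_ne N X (fun h => hγ h.symm)
  · intro h
    exact absurd (Finset.mem_univ _) h

theorem rValued_piece [M.IsPrime] {X : G → ℂ} (hX : RValued M X) (γ : G ⧸ N) :
    RValued M (piece N X γ) := by
  intro g
  by_cases h : (QuotientGroup.mk g : G ⧸ N) = γ
  · rw [piece_of_eq N X h]; exact hX g
  · rw [piece_of_ne N X h]; exact memLocalRing_zero

theorem vanOn_piece [M.IsPrime] {P : Subgroup G} {X : G → ℂ} (hX : VanOn M P X) (γ : G ⧸ N) :
    VanOn M P (piece N X γ) := by
  intro c hc
  by_cases h : (QuotientGroup.mk c : G ⧸ N) = γ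
  · rw [piece_of_eq N X h]; exact hX c hc
  · rw [piece_of_ne N X h]; exact memLocalIdeal_zero

theorem mk_conj_of_mem {u : G} (hu : u ∈ N) (x : G) :
    (QuotientGroup.mk (u * x * u⁻¹) : G ⧸ N) = QuotientGroup.mk x := by
  rw [QuotientGroup.mk_mul, QuotientGroup.mk_mul, QuotientGroup.mk_inv,
    (QuotientGroup.eq_one_iff u).mpr hu]
  simp

theorem invUnder_piece {X : G → ℂ} (hX : Helper77.InvUnder (N : Set G) X) (γ : G ⧸ N) :
    Helper77.InvUnder (N : Set G) (piece N X γ) := by
  intro u hu x
  by_cases h : (QuotientGroup.mk x : G ⧸ N) = γ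
  · rw [piece_of_eq N X h, piece_of_eq N X ((mk_conj_of_mem N hu x).trans h)]
    exact hX u hu x
  · rw [piece_of_ne N X h, piece_of_ne N X (fun h' => h ((mk_conj_of_mem N hu x).symm.trans h'))]

/-- Convolution multiplies degrees. -/
theorem suppCoset_conv {γ₁ γ₂ : G ⧸ N} {s t : G → ℂ} (hs : SuppCoset N γ₁ s)
    (ht : SuppCoset N γ₂ t) : SuppCoset N (γ₁ * γ₂) (conv s t) := by
  intro g hg
  rw [conv_apply]
  refine Finset.sum_eq_zero (fun x _ => ?_)
  by_cases h1 : (QuotientGroup.mk x : G ⧸ N) = γ₁
  · have h2 : (QuotientGroup.mk (x⁻¹ * g) : G ⧸ N) ≠ γ₂ := by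
      intro h2
      apply hg
      have : (QuotientGroup.mk g : G ⧸ N) = QuotientGroup.mk x * QuotientGroup.mk (x⁻¹ * g) := by
        rw [← QuotientGroup.mk_mul, mul_inv_cancel_left]
      rw [this, h1, h2]
    rw [ht _ h2, mul_zero]
  · rw [hs _ h1, zero_mul]

theorem suppCoset_deltaOne : SuppCoset N (1 : G ⧸ N) (deltaOne : G → ℂ) := by
  classical
  intro g hg
  unfold deltaOne
  rw [if_neg]
  intro h
  apply hg
  rw [h]
  rfl

/-- The product of the pieces indexed by a list of cosets. -/
noncomputable def pieceProd (X : G → ℂ) (l : List (G ⧸ N)) : G → ℂ :=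
  convList (l.map (piece N X))

theorem pieceProd_nil (X : G → ℂ) : pieceProd N X [] = deltaOne := rfl

theorem pieceProd_cons (X : G → ℂ) (γ : G ⧸ N) (l : List (G ⧸ N)) :
    pieceProd N X (γ :: l) = conv (piece N X γ) (pieceProd N X l) := rfl

theorem pieceProd_append (X : G → ℂ) (l₁ l₂ : List (G ⧸ N)) :
    pieceProd N X (l₁ ++ l₂) = conv (pieceProd N X l₁) (pieceProd N X l₂) := by
  unfold pieceProd
  rw [List.map_append, convList_append]

theorem suppCoset_pieceProd (X : G → ℂ) (l : List (G ⧸ N)) :
    SuppCoset N l.prod (pieceProd N X l) := by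
  induction l with
  | nil => rw [List.prod_nil, pieceProd_nil]; exact suppCoset_deltaOne N
  | cons γ l ih =>
    rw [List.prod_cons, pieceProd_cons]
    exact suppCoset_conv N (suppCoset_piece N X γ) ih

theorem rValued_pieceProd [M.IsPrime] {X : G → ℂ} (hX : RValued M X) (l : List (G ⧸ N)) :
    RValued M (pieceProd N X l) := by
  unfold pieceProd
  apply rValued_convList
  intro a ha
  obtain ⟨γ, _, rfl⟩ := List.mem_map.mp ha
  exact rValued_piece N hX γ

theorem invUnder_pieceProd {X : G → ℂ} (hX : Helper77.InvUnder (N : Set G) X)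
    (l : List (G ⧸ N)) : Helper77.InvUnder (N : Set G) (pieceProd N X l) := by
  unfold pieceProd
  apply invUnder_convList
  intro a ha
  obtain ⟨γ, _, rfl⟩ := List.mem_map.mp ha
  exact invUnder_piece N hX γ

/-- A non-empty product of pieces of a function killed by the Brauer map at `P ≤ N` is killed by
the Brauer map at `P`. -/
theorem vanOn_pieceProd [Fact p.Prime] (hM : IsPModular p M) {P : Subgroup G}
    (hP : IsPGroup p P) (hPN : P ≤ N) {X : G → ℂ} (hXR : RValued M X)
    (hXN : Helper77.InvUnder (N : Set G) X) (hXV : VanOn M P X) {l : List (G ⧸ N)}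
    (hl : l ≠ []) : VanOn M P (pieceProd N X l) := by
  haveI hMp : M.IsPrime := IsPModular.isPrime hM
  cases l with
  | nil => exact absurd rfl hl
  | cons γ l =>
    unfold pieceProd
    rw [List.map_cons]
    refine vanOn_convList_cons hM hP (rValued_piece N hXR γ)
      ((invUnder_piece N hXN γ).mono (fun x hx => hPN hx)) (vanOn_piece N hXV γ) ?_ ?_
    · intro d hd
      obtain ⟨γ', _, rfl⟩ := List.mem_map.mp hd
      exact rValued_piece N hXR γ'
    · intro d hd
      obtain ⟨γ', _, rfl⟩ := List.mem_map.mp hd
      exact (invUnder_piece N hXN γ').mono (fun x hx => hPN hx)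

/-- Multiplying a piece on the right by a function supported on `N`. -/
theorem piece_conv_of_supp (X : G → ℂ) {E : G → ℂ} (hE : SuppCoset N 1 E) (γ : G ⧸ N) :
    conv (piece N X γ) E = piece N (conv X E) γ := by
  funext g
  by_cases hg : (QuotientGroup.mk g : G ⧸ N) = γ
  · rw [piece_of_eq N _ hg, conv_apply, conv_apply]
    refine Finset.sum_congr rfl (fun x _ => ?_)
    by_cases hx : (QuotientGroup.mk x : G ⧸ N) = γ
    · rw [piece_of_eq N X hx]
    · have : (QuotientGroup.mk (x⁻¹ * g) : G ⧸ N) ≠ 1 := by
        intro h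
        apply hx
        rw [← hg]
        have : (QuotientGroup.mk g : G ⧸ N) = QuotientGroup.mk x * QuotientGroup.mk (x⁻¹ * g) := by
          rw [← QuotientGroup.mk_mul, mul_inv_cancel_left]
        rw [this, h, mul_one]
      rw [hE _ this, mul_zero, mul_zero]
  · rw [piece_of_ne N _ hg]
    have := suppCoset_conv N (suppCoset_piece N X γ) hE g (by rwa [mul_one])
    exact this

/-- If `X * E = X` with `E` supported on `N`, the same holds for non-empty products of pieces. -/
theorem pieceProd_conv_of_supp {X E : G → ℂ} (hE : SuppCoset N 1 E) (hXE : conv X E = X)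
    {l : List (G ⧸ N)} (hl : l ≠ []) : conv (pieceProd N X l) E = pieceProd N X l := by
  induction l with
  | nil => exact absurd rfl hl
  | cons γ l ih =>
    cases l with
    | nil =>
      rw [pieceProd_cons, pieceProd_nil, Helper78.conv_deltaOne_right, piece_conv_of_supp N X hE,
        hXE]
    | cons γ' l' =>
      rw [pieceProd_cons, conv_assoc, ih (List.cons_ne_nil _ _)]

/-- Functions supported on `N` commute with `N`-invariant functions. -/
theorem conv_comm_of_supp {Y U : G → ℂ} (hY : SuppCoset N 1 Y)
    (hU : Helper77.InvUnder (N : Set G) U) : conv Y U = conv U Y := by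
  funext g
  rw [conv_apply, conv_apply]
  rw [← Equiv.sum_comp ((Equiv.inv G).trans (Equiv.mulLeft g)) (fun x => U x * Y (x⁻¹ * g))]
  refine Finset.sum_congr rfl (fun n _ => ?_)
  show Y n * U (n⁻¹ * g) = U (g * n⁻¹) * Y ((g * n⁻¹)⁻¹ * g)
  have e1 : (g * n⁻¹)⁻¹ * g = n := by group
  rw [e1]
  by_cases hn : n ∈ N
  · have h1 := hU n⁻¹ (N.inv_mem hn) (g * n⁻¹)
    have e2 : n⁻¹ * (g * n⁻¹) * n⁻¹⁻¹ = n⁻¹ * g := by group
    rw [e2] at h1
    rw [h1, mul_comm]
  · have : (QuotientGroup.mk n : G ⧸ N) ≠ 1 := fun h => hn ((QuotientGroup.eq_one_iff n).mp h)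
    rw [hY n this, zero_mul, mul_zero]

/-- **Pigeonhole.**  A list of at least `|Γ|` elements of a finite group `Γ` has a non-empty
segment with product `1`. -/
theorem exists_segment_prod_one {Γ : Type*} [Group Γ] [Fintype Γ] (l : List Γ)
    (hl : Fintype.card Γ ≤ l.length) :
    ∃ u s v : List Γ, l = u ++ s ++ v ∧ s ≠ [] ∧ s.prod = 1 := by
  classical
  let f : Fin (Fintype.card Γ + 1) → Γ := fun i => (l.take i).prod
  have hcard : Fintype.card Γ < Fintype.card (Fin (Fintype.card Γ + 1)) := by
    rw [Fintype.card_fin]; exact Nat.lt_succ_self _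
  obtain ⟨i, j, hij, hfij⟩ := Fintype.exists_ne_map_eq_of_card_lt f hcard
  wlog hlt : i < j generalizing i j
  · exact this j i hij.symm hfij.symm (lt_of_le_of_ne (not_lt.mp hlt) hij.symm)
  have hjle : (j : ℕ) ≤ l.length := le_trans (Nat.lt_succ_iff.mp j.2) hl
  have hilt : (i : ℕ) < j := hlt
  refine ⟨l.take i, (l.take j).drop i, l.drop j, ?_, ?_, ?_⟩
  · have h1 : l.take i = (l.take j).take i := by
      rw [List.take_take, min_eq_left hilt.le]
    rw [h1, List.take_append_drop, List.take_append_drop]
  · intro h
    have hlen := congrArg List.length h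
    rw [List.length_drop, List.length_take, min_eq_left hjle, List.length_nil] at hlen
    omega
  · have h1 : (l.take j).prod = (l.take i).prod * ((l.take j).drop i).prod := by
      have h2 : l.take i = (l.take j).take i := by
        rw [List.take_take, min_eq_left hilt.le]
      rw [h2, ← List.prod_append, List.take_append_drop]
    have h3 : (l.take j).prod = (l.take i).prod := hfij.symm
    rw [h3] at h1
    exact (mul_eq_left.mp h1.symm)


/-- A product of products of degree `1` is supported on `N`. -/
theorem suppCoset_convList_pieceProd (X : G → ℂ) (ss : List (List (G ⧸ N)))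
    (hss : ∀ s ∈ ss, s.prod = 1) :
    SuppCoset N 1 (convList (ss.map (pieceProd N X))) := by
  induction ss with
  | nil => exact suppCoset_deltaOne N
  | cons s ss ih =>
    rw [List.map_cons, convList_cons]
    have h1 : SuppCoset N 1 (pieceProd N X s) := by
      have := suppCoset_pieceProd N X s
      rwa [hss s (List.mem_cons_self ..)] at this
    have := suppCoset_conv N h1 (ih (fun s' hs' => hss s' (List.mem_cons_of_mem _ hs')))
    rwa [mul_one] at this

/-- **Degree-one factors can be collected in front.**  A product of at least `|G/N| * k` pieces of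
an `N`-invariant function `X` equals a product of `k` non-empty products of pieces of degree `1`
times an `N`-invariant function. -/
theorem exists_front_segments [Fintype (G ⧸ N)] [M.IsPrime] {X : G → ℂ} (hXR : RValued M X)
    (hXN : Helper77.InvUnder (N : Set G) X) (k : ℕ) :
    ∀ l : List (G ⧸ N), Fintype.card (G ⧸ N) * k ≤ l.length →
      ∃ (ss : List (List (G ⧸ N))) (R : G → ℂ), ss.length = k ∧
        (∀ s ∈ ss, s ≠ [] ∧ s.prod = 1) ∧ RValued M R ∧ Helper77.InvUnder (N : Set G) R ∧
        pieceProd N X l = conv (convList (ss.map (pieceProd N X))) R := by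
  induction k with
  | zero =>
    intro l _
    refine ⟨[], pieceProd N X l, rfl, ?_, rValued_pieceProd N hXR l, invUnder_pieceProd N hXN l, ?_⟩
    · intro s hs
      exact absurd hs (List.not_mem_nil)
    · rw [List.map_nil, convList_nil, Helper78.conv_deltaOne_left]
  | succ k ih =>
    intro l hl
    set c := Fintype.card (G ⧸ N) with hc
    have hcl : c ≤ l.length := by
      have : c * (k + 1) = c * k + c := by ring
      omega
    have htake : (l.take c).length = c := by
      rw [List.length_take, min_eq_left hcl]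
    obtain ⟨u, s, v, huv, hsne, hsprod⟩ := exists_segment_prod_one (l.take c) (by rw [htake])
    have hdrop : c * k ≤ (l.drop c).length := by
      rw [List.length_drop]
      have : c * (k + 1) = c * k + c := by ring
      omega
    obtain ⟨ss', R', hlen', hss', hR'R, hR'N, hprod'⟩ := ih (l.drop c) hdrop
    set U := pieceProd N X u with hU
    set Y := pieceProd N X s with hY
    set V := pieceProd N X v with hV
    set Z := convList (ss'.map (pieceProd N X)) with hZ
    have hUN : Helper77.InvUnder (N : Set G) U := invUnder_pieceProd N hXN u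
    have hVN : Helper77.InvUnder (N : Set G) V := invUnder_pieceProd N hXN v
    have hUVN : Helper77.InvUnder (N : Set G) (conv U V) := Helper77.invUnder_conv hUN hVN
    have hYs : SuppCoset N 1 Y := by
      have := suppCoset_pieceProd N X s
      rwa [hsprod] at this
    have hZs : SuppCoset N 1 Z := suppCoset_convList_pieceProd N X ss' (fun s' hs' => (hss' s' hs').2)
    refine ⟨s :: ss', conv (conv U V) R', by rw [List.length_cons, hlen'], ?_, ?_, ?_, ?_⟩
    · intro s' hs'
      rcases List.mem_cons.mp hs' with rfl | h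
      · exact ⟨hsne, hsprod⟩
      · exact hss' s' h
    · exact rValued_conv (rValued_conv (rValued_pieceProd N hXR u) (rValued_pieceProd N hXR v)) hR'R
    · exact Helper77.invUnder_conv hUVN hR'N
    · have hl' : l = (u ++ s ++ v) ++ l.drop c := by
        rw [← huv, List.take_append_drop]
      rw [List.map_cons, convList_cons]
      conv_lhs => rw [hl']
      rw [pieceProd_append, pieceProd_append, pieceProd_append, hprod']
      show conv (conv (conv U Y) V) (conv Z R') = conv (conv Y Z) (conv (conv U V) R')
      rw [← conv_comm_of_supp N hYs hUN, conv_assoc Y U V, conv_assoc Y (conv U V) (conv Z R'),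
        ← conv_assoc (conv U V) Z R', ← conv_comm_of_supp N hZs hUVN, conv_assoc Z (conv U V) R',
        conv_assoc Y Z]

end Cfsg.Agent.Helper16
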