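import Cfsg.Agent.Helper16.KnorrCore
import Cfsg.Agent.Helper16.QuotientDefect2

/-!
# Defect groups of covering blocks (Knörr)

(helper16.)  Consequences of the core `exists_centralizer_blockCoeff_not_memLocalIdeal`:
a `p`-subgroup centralizing an element with unit idempotent coefficient lies in a defect group; the
easy direction (`D ∩ N` is contained in a defect group of a covered block); the stable covered block.
-/

set_option autoImplicit false
set_option linter.unusedSectionVars false

namespace Cfsg.Agent.Helper16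

open Cfsg

section Above

variable {G : Type*} [Group G] [Fintype G] {M : Ideal AlgInt} {p : ℕ}

/-- A `p`-subgroup centralizing an element at which the block idempotent has a unit coefficient is
contained in a defect group. -/
theorem exists_defectGroup_ge_of_blockCoeff [Fact p.Prime] (hM : IsPModular p M)
    {B : Set (IrrCharacter G)} (hB : IsPBlock M B) {h : G}
    (hh : ¬ MemLocalIdeal M (blockCoeff B h)) {P : Subgroup G} (hP : IsPGroup p P)
    (hPh : P ≤ Subgroup.centralizer ({h} : Set G)) :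
    ∃ S : Subgroup G, IsDefectGroup p M B S ∧ P ≤ S := by
  classical
  haveI hMp : M.IsPrime := IsPModular.isPrime hM
  obtain ⟨χ₀, rfl⟩ := hB
  obtain ⟨k, hk⟩ := exists_defectClass (M := M) χ₀
  obtain ⟨x, hkx, hPx⟩ := minmax_core hM.2.2 χ₀ k h hk.2.2 hh P hP hPh
  have hx : IsDefectClass M (blockOf M (χ₀ : G → ℂ)) x := isDefectClass_of_isConj χ₀ hkx hk
  have hP' : IsPGroup p (P.subgroupOf (Subgroup.centralizer ({x} : Set G))) := hP.comap_subtype
  obtain ⟨S₀, hS₀⟩ := hP'.exists_le_sylow
  refine ⟨(S₀ : Subgroup (Subgroup.centralizer ({x} : Set G))).map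
    (Subgroup.centralizer ({x} : Set G)).subtype, ⟨x, hx, S₀, rfl⟩, ?_⟩
  intro q hq
  exact Subgroup.mem_map.mpr ⟨⟨q, hPx hq⟩, hS₀ (Subgroup.mem_subgroupOf.mpr hq), rfl⟩

/-- The same, as a conjugate of a given defect group. -/
theorem exists_conj_defectGroup_ge_of_blockCoeff [Fact p.Prime] (hM : IsPModular p M)
    {B : Set (IrrCharacter G)} (hB : IsPBlock M B) {D : Subgroup G}
    (hD : IsDefectGroup p M B D) {h : G}
    (hh : ¬ MemLocalIdeal M (blockCoeff B h)) {P : Subgroup G} (hP : IsPGroup p P)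
    (hPh : P ≤ Subgroup.centralizer ({h} : Set G)) :
    ∃ g : G, P ≤ D.map (MulAut.conj g).toMonoidHom := by
  obtain ⟨S, hS, hPS⟩ := exists_defectGroup_ge_of_blockCoeff hM hB hh hP hPh
  obtain ⟨g, rfl⟩ := exists_conj_eq_of_isDefectGroup hM hB hD hS
  exact ⟨g, hPS⟩

/-- The order bound. -/
theorem card_le_of_blockCoeff [Fact p.Prime] (hM : IsPModular p M)
    {B : Set (IrrCharacter G)} (hB : IsPBlock M B) {h : G}
    (hh : ¬ MemLocalIdeal M (blockCoeff B h)) {P : Subgroup G} (hP : IsPGroup p P)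
    (hPh : P ≤ Subgroup.centralizer ({h} : Set G)) :
    Nat.card P ≤ p ^ blockDefect p B := by
  obtain ⟨S, hS, hPS⟩ := exists_defectGroup_ge_of_blockCoeff hM hB hh hP hPh
  rw [← Helper77.card_defectGroup hM hB S hS]
  exact Subgroup.card_le_of_le hPS

end Above


section Decomp

variable {H : Type*} [Group H] [Fintype H] {M : Ideal AlgInt}

open Classical in
/-- The idempotent of a union of blocks is the sum of the idempotents of the blocks in it. -/
theorem blockCoeff_closed_eq_sum [hMp : M.IsPrime] (A : Set (IrrCharacter H))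
    (hA : ∀ χ ∈ A, ∀ ψ : IrrCharacter H, SameBlock M (χ : H → ℂ) (ψ : H → ℂ) → ψ ∈ A) :
    blockCoeff A = ∑ b' ∈ (Helper77.blocksFinset M H).filter (fun b' => b' ⊆ A), blockCoeff b' := by
  classical
  apply classFunction_ext_omega (isClassFunction_blockCoeff A)
    (isClassFunction_sum _ _ (fun b' _ => isClassFunction_blockCoeff b'))
  intro φ
  rw [omega_blockCoeff A φ, omega_sum]
  by_cases hφ : φ ∈ A
  · rw [if_pos hφ, Finset.sum_eq_single (blockOf M (φ : H → ℂ))]
    · rw [omega_blockCoeff, if_pos (Helper78.mem_blockOf_self hMp φ)]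
    · intro b' hb' hne
      rw [omega_blockCoeff, if_neg]
      intro hφb'
      exact hne (Helper78.isPBlock_eq_blockOf_of_mem hMp
        (Helper77.mem_blocksFinset.mp (Finset.mem_filter.mp hb').1) hφb')
    · intro hnot
      exfalso
      apply hnot
      rw [Finset.mem_filter]
      exact ⟨Helper77.mem_blocksFinset.mpr ⟨φ, rfl⟩, fun ψ hψ => hA φ hφ ψ hψ⟩
  · rw [if_neg hφ]
    symm
    refine Finset.sum_eq_zero (fun b' hb' => ?_)
    rw [omega_blockCoeff, if_neg]
    intro hφb'
    exact hφ ((Finset.mem_filter.mp hb').2 hφb')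

end Decomp

section Normal

variable {G : Type*} [Group G] [Fintype G] {M : Ideal AlgInt} {p : ℕ}
variable (N : Subgroup G) [hN : N.Normal] [Fintype N]

/-- **The easy direction.**  If the Brauer map at `S` does not kill the idempotent of `B`, it does
not kill the idempotent of the union of the conjugates of a block `b` of `N` covered by `B`. -/
theorem exists_mem_blockCoeff_conjUnion_not_memLocalIdeal [Fact p.Prime] (hM : IsPModular p M)
    {b : Set (IrrCharacter N)} (hb : IsPBlock M b) {B : Set (IrrCharacter G)} (hB : IsPBlock M B)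
    (hcov : ∃ χ ∈ B, ∃ θ ∈ b, classInner (fun n : N => (χ : G → ℂ) n) (θ : N → ℂ) ≠ 0)
    {S : Subgroup G} (hS : IsPGroup p S) {x : G} (hxS : x ∈ Subgroup.centralizer (S : Set G))
    (hx : ¬ MemLocalIdeal M (blockCoeff B x)) :
    ∃ n : N, (n : G) ∈ Subgroup.centralizer (S : Set G) ∧
      ¬ MemLocalIdeal M (blockCoeff (conjUnion N b) n) := by
  classical
  haveI hMp : M.IsPrime := IsPModular.isPrime hM
  by_contra hcon
  have hXE := conv_blockCoeff_extFun_conjUnion N hb hB hcov
  have hXcl : IsClassFunction G (blockCoeff B) := Helper77.blockCoeff_isClassFunction hB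
  have hXR : RValued M (blockCoeff B) := Helper77.blockCoeff_memLocalRing hB
  set E : G → ℂ := Helper77.extFun N (blockCoeff (conjUnion N b)) with hEdef
  have hEcl : IsClassFunction G E := by
    rw [hEdef, extFun_eq_extendByZero]
    exact isClassFunction_extendByZero N (blockCoeff_conj_of_gStable N (gStable_conjUnion N b))
  have hER : RValued M E :=
    Helper77.extFun_memLocalRing N (memLocalRing_blockCoeff_conjUnion N hb)
  have hEV : VanOn M S E := by
    intro c hc
    by_cases hcN : c ∈ N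
    · rw [hEdef, Helper77.extFun_of_mem N _ hcN]
      by_contra h
      exact hcon ⟨⟨c, hcN⟩, hc, h⟩
    · rw [hEdef, Helper77.extFun_of_not_mem N _ hcN]
      exact memLocalIdeal_zero
  have hV : VanOn M S (conv (blockCoeff B) E) :=
    vanOn_conv_right hM hS hXR hER (Helper77.invUnder_of_isClassFunction hXcl _)
      (Helper77.invUnder_of_isClassFunction hEcl _) hEV
  rw [hXE] at hV
  exact hx (hV x hxS)

/-- Conjugate blocks have the same defect. -/
theorem blockDefect_conjBlk (g : G) (b : Set (IrrCharacter N)) :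
    blockDefect p (Helper78.conjBlk N g b) = blockDefect p b := by
  unfold blockDefect
  congr 2
  ext d
  constructor
  · rintro ⟨θ', hθ', rfl⟩
    refine ⟨irrConj N g⁻¹ θ', hθ', ?_⟩
    show (charDegree (Helper15.conjFun N g⁻¹ (θ' : N → ℂ))).factorization p = _
    unfold charDegree
    rw [conjFun_apply_one]
  · rintro ⟨θ, hθ, rfl⟩
    refine ⟨irrConj N g θ, (Helper78.irrConj_mem_conjBlk_iff N g b θ).mpr hθ, ?_⟩
    show (charDegree (Helper15.conjFun N g (θ : N → ℂ))).factorization p = _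
    unfold charDegree
    rw [conjFun_apply_one]

/-- A block contained in the union of the conjugates of `b` is a conjugate of `b`. -/
theorem eq_conjBlk_of_subset_conjUnion [hMp : M.IsPrime] {b b' : Set (IrrCharacter N)}
    (hb : IsPBlock M b) (hb' : IsPBlock M b') (hsub : b' ⊆ conjUnion N b) :
    ∃ g : G, b' = Helper78.conjBlk N g b := by
  obtain ⟨θ', hθ'⟩ := Helper78.isPBlock_nonempty hMp hb'
  obtain ⟨g, hg⟩ := hsub hθ'
  refine ⟨g⁻¹, ?_⟩
  have h1 : θ' ∈ Helper78.conjBlk N g⁻¹ b := by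
    show irrConj N g⁻¹⁻¹ θ' ∈ b
    rw [inv_inv]
    exact hg
  rw [Helper78.isPBlock_eq_blockOf_of_mem hMp hb' hθ',
    Helper78.isPBlock_eq_blockOf_of_mem hMp (Helper78.isPBlock_conjBlk N g⁻¹ hb) h1]

/-- Covering passes to conjugate blocks. -/
theorem covers_conjBlk {b : Set (IrrCharacter N)} {B : Set (IrrCharacter G)}
    (hcov : ∃ χ ∈ B, ∃ θ ∈ b, classInner (fun n : N => (χ : G → ℂ) n) (θ : N → ℂ) ≠ 0) (g : G) :
    ∃ χ ∈ B, ∃ θ ∈ Helper78.conjBlk N g b,
      classInner (fun n : N => (χ : G → ℂ) n) (θ : N → ℂ) ≠ 0 := by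
  obtain ⟨χ, hχ, θ, hθ, hne⟩ := hcov
  refine ⟨χ, hχ, irrConj N g θ, (Helper78.irrConj_mem_conjBlk_iff N g b θ).mpr hθ, ?_⟩
  rw [irrConj_coe, Helper15.classInner_restrict_conjFun N (irr_isClassFunction χ)]
  exact hne


theorem conjBlk_one (b : Set (IrrCharacter N)) : Helper78.conjBlk N 1 b = b := by
  ext θ
  show irrConj N (1 : G)⁻¹ θ ∈ b ↔ θ ∈ b
  rw [inv_one, irrConj_one]

theorem conjBlk_conjBlk (u v : G) (b : Set (IrrCharacter N)) :
    Helper78.conjBlk N u (Helper78.conjBlk N v b) = Helper78.conjBlk N (v * u) b := by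
  ext θ
  show irrConj N v⁻¹ (irrConj N u⁻¹ θ) ∈ b ↔ irrConj N (v * u)⁻¹ θ ∈ b
  rw [irrConj_irrConj, mul_inv_rev]

theorem conjBlk_subset_conjUnion {b b' : Set (IrrCharacter N)} (h : b' ⊆ conjUnion N b) (u : G) :
    Helper78.conjBlk N u b' ⊆ conjUnion N b := by
  intro θ hθ
  have h1 : irrConj N u⁻¹ θ ∈ conjUnion N b := h hθ
  exact ((gStable_conjUnion N b).mem_iff N u⁻¹ θ).mp h1

open Classical in
/-- **The stable covered block.**  If the idempotent of the union of the conjugates of `b` has a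
unit coefficient at an element `n` centralized by the `p`-subgroup `S`, then some `S`-stable
conjugate of `b` has a unit idempotent coefficient at `n`. -/
theorem exists_stable_block_of_blockCoeff_conjUnion [Fact p.Prime] (hM : IsPModular p M)
    {b : Set (IrrCharacter N)} (hb : IsPBlock M b) {S : Subgroup G} (hS : IsPGroup p S)
    (n : N) (hnS : (n : G) ∈ Subgroup.centralizer (S : Set G))
    (hn : ¬ MemLocalIdeal M (blockCoeff (conjUnion N b) n)) :
    ∃ b' : Set (IrrCharacter N), IsPBlock M b' ∧ b' ⊆ conjUnion N b ∧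
      (∀ u ∈ S, Helper78.conjBlk N u b' = b') ∧ ¬ MemLocalIdeal M (blockCoeff b' n) := by
  classical
  haveI hMp : M.IsPrime := IsPModular.isPrime hM
  let _ : MulAction S (Set (IrrCharacter N)) :=
    { smul := fun u b' => Helper78.conjBlk N (u : G)⁻¹ b'
      one_smul := fun b' => by
        show Helper78.conjBlk N ((1 : S) : G)⁻¹ b' = b'
        rw [Subgroup.coe_one, inv_one, conjBlk_one]
      mul_smul := fun u v b' => by
        show Helper78.conjBlk N ((u * v : S) : G)⁻¹ b' =
          Helper78.conjBlk N (u : G)⁻¹ (Helper78.conjBlk N (v : G)⁻¹ b')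
        rw [conjBlk_conjBlk, Subgroup.coe_mul, mul_inv_rev] }
  have hsm : ∀ (u : S) (b' : Set (IrrCharacter N)), u • b' = Helper78.conjBlk N (u : G)⁻¹ b' :=
    fun _ _ => rfl
  let f : Set (IrrCharacter N) → ℂ :=
    fun b' => if IsPBlock M b' ∧ b' ⊆ conjUnion N b then blockCoeff b' n else 0
  have hfR : ∀ b', MemLocalRing M (f b') := by
    intro b'
    by_cases h : IsPBlock M b' ∧ b' ⊆ conjUnion N b
    · simp only [f, if_pos h]
      exact Helper77.blockCoeff_memLocalRing h.1 n
    · simp only [f, if_neg h]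
      exact memLocalRing_zero
  have hcond : ∀ (u : S) (b' : Set (IrrCharacter N)),
      (IsPBlock M b' ∧ b' ⊆ conjUnion N b) → (IsPBlock M (u • b') ∧ u • b' ⊆ conjUnion N b) := by
    intro u b' h
    rw [hsm]
    exact ⟨Helper78.isPBlock_conjBlk N (u : G)⁻¹ h.1, conjBlk_subset_conjUnion N h.2 (u : G)⁻¹⟩
  have hinv : ∀ (u : S) (b' : Set (IrrCharacter N)), f (u • b') = f b' := by
    intro u b'
    by_cases h : IsPBlock M b' ∧ b' ⊆ conjUnion N b
    · simp only [f, if_pos h, if_pos (hcond u b' h)]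
      rw [hsm, ← Helper78.blockCoeff_conj_eq_conjBlk N (u : G)⁻¹ b' n]
      congr 1
      apply Subtype.ext
      show (u : G)⁻¹ * (n : G) * (u : G)⁻¹⁻¹ = (n : G)
      have := (Subgroup.mem_centralizer_iff.mp hnS) (u : G)⁻¹ (S.inv_mem u.2)
      rw [this, mul_inv_cancel_right]
    · have h' : ¬ (IsPBlock M (u • b') ∧ u • b' ⊆ conjUnion N b) := by
        intro h'
        apply h
        have := hcond u⁻¹ (u • b') h'
        rwa [inv_smul_smul] at this
      simp only [f, if_neg h, if_neg h']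
  have hsum : ¬ MemLocalIdeal M (∑ b' : Set (IrrCharacter N), f b') := by
    have e : ∑ b' : Set (IrrCharacter N), f b' = blockCoeff (conjUnion N b) n := by
      rw [blockCoeff_closed_eq_sum (M := M) (conjUnion N b) (conjUnion_closed N hb),
        Finset.sum_apply]
      simp only [f]
      rw [← Finset.sum_filter]
      apply Finset.sum_congr _ (fun _ _ => rfl)
      ext b'
      simp only [Finset.mem_filter, Finset.mem_univ, true_and, Helper77.mem_blocksFinset]
    rw [e]
    exact hn
  obtain ⟨b', hfix, hb'⟩ := exists_fixed_of_sum_not_memLocalIdeal hM.2.2 hS f hfR hinv hsum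
  have hc : IsPBlock M b' ∧ b' ⊆ conjUnion N b := by
    by_contra h
    apply hb'
    simp only [f, if_neg h]
    exact memLocalIdeal_zero
  refine ⟨b', hc.1, hc.2, fun u hu => ?_, ?_⟩
  · have := hfix ⟨u⁻¹, S.inv_mem hu⟩
    rw [hsm] at this
    simpa using this
  · simpa only [f, if_pos hc] using hb'


theorem card_subgroupOf_of_le {K : Subgroup G} (hK : K ≤ N) :
    Nat.card (K.subgroupOf N) = Nat.card K :=
  Nat.card_congr (Subgroup.subgroupOfEquivOfLe hK).toEquiv

/-- **Knörr's theorem, stable form.**  If `B` covers the block `b` of the normal subgroup `N` and `S`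
is a defect group of `B`, then some `S`-stable conjugate `c` of `b` has defect group `S ∩ N`. -/
theorem exists_stable_covered_block_defect [Fact p.Prime] (hM : IsPModular p M)
    {b : Set (IrrCharacter N)} (hb : IsPBlock M b) {B : Set (IrrCharacter G)} (hB : IsPBlock M B)
    (hcov : ∃ χ ∈ B, ∃ θ ∈ b, classInner (fun n : N => (χ : G → ℂ) n) (θ : N → ℂ) ≠ 0)
    {S : Subgroup G} (hS : IsDefectGroup p M B S) :
    ∃ c : Set (IrrCharacter N), IsPBlock M c ∧ (∃ g : G, c = Helper78.conjBlk N g b) ∧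
      (∀ u ∈ S, Helper78.conjBlk N u c = c) ∧
      IsDefectGroup p M c ((S ⊓ N).subgroupOf N) := by
  classical
  haveI hMp : M.IsPrime := IsPModular.isPrime hM
  obtain ⟨x, hxdc, hSx, hScard⟩ := (isDefectGroup_iff p B S).mp hS
  have hSp : IsPGroup p S := IsPGroup.of_card hScard
  have hxS : x ∈ Subgroup.centralizer (S : Set G) := by
    rw [Subgroup.mem_centralizer_iff]
    intro s hs
    exact Subgroup.mem_centralizer_singleton_iff.mp (hSx hs)
  obtain ⟨n, hnS, hn⟩ :=
    exists_mem_blockCoeff_conjUnion_not_memLocalIdeal N hM hb hB hcov hSp hxS hxdc.2.1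
  obtain ⟨c, hc, hcO, hcS, hcn⟩ :=
    exists_stable_block_of_blockCoeff_conjUnion N hM hb hSp n hnS hn
  obtain ⟨g, hcg⟩ := eq_conjBlk_of_subset_conjUnion N hb hc hcO
  refine ⟨c, hc, ⟨g, hcg⟩, hcS, ?_⟩
  set P₀ : Subgroup N := (S ⊓ N).subgroupOf N with hP₀def
  have hP₀ : IsPGroup p P₀ := (hSp.to_le inf_le_left).comap_subtype
  have hP₀n : P₀ ≤ Subgroup.centralizer ({n} : Set N) := by
    intro q hq
    rw [Subgroup.mem_centralizer_singleton_iff]
    have hqS : (q : G) ∈ S := (Subgroup.mem_subgroupOf.mp hq).1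
    apply Subtype.ext
    exact (Subgroup.mem_centralizer_iff.mp hnS) (q : G) hqS
  obtain ⟨R, hR, hP₀R⟩ := exists_defectGroup_ge_of_blockCoeff hM hc hcn hP₀ hP₀n
  obtain ⟨k', hk'dc, hRk', hRcard⟩ := (isDefectGroup_iff p c R).mp hR
  set Q : Subgroup G := R.map N.subtype with hQdef
  have hQp : IsPGroup p Q := (IsPGroup.of_card hRcard).map _
  have hQN : Q ≤ N := Subgroup.map_subtype_le R
  have hk'Q : (k' : G) ∈ Subgroup.centralizer (Q : Set G) := by
    rw [Subgroup.mem_centralizer_iff]
    rintro _ ⟨r, hr, rfl⟩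
    have := Subgroup.mem_centralizer_singleton_iff.mp (hRk' hr)
    exact congrArg Subtype.val this
  have hcovc : ∃ χ ∈ B, ∃ θ ∈ c, classInner (fun n : N => (χ : G → ℂ) n) (θ : N → ℂ) ≠ 0 := by
    rw [hcg]
    exact covers_conjBlk N hcov g
  obtain ⟨g₁, hg₁Q, hg₁⟩ := exists_centralizer_blockCoeff_not_memLocalIdeal N hM hc hB hcovc
    hQp hQN k' hk'Q hk'dc.2.1
  have hQg₁ : Q ≤ Subgroup.centralizer ({g₁} : Set G) := by
    intro q hq
    rw [Subgroup.mem_centralizer_singleton_iff]
    exact (Subgroup.mem_centralizer_iff.mp hg₁Q) q hq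
  obtain ⟨y, hy⟩ := exists_conj_defectGroup_ge_of_blockCoeff hM hB hS hg₁ hQp hQg₁
  have hle : Q.map (MulAut.conj y⁻¹).toMonoidHom ≤ S ⊓ N := by
    rintro _ ⟨q, hq, rfl⟩
    refine ⟨?_, ?_⟩
    · obtain ⟨s, hs, hsq⟩ := Subgroup.mem_map.mp (hy hq)
      have : (MulAut.conj y⁻¹).toMonoidHom q = s := by
        rw [← hsq]
        show y⁻¹ * (y * s * y⁻¹) * y⁻¹⁻¹ = s
        group
      rw [this]
      exact hs
    · show y⁻¹ * q * y⁻¹⁻¹ ∈ N
      exact hN.conj_mem q (hQN hq) y⁻¹
  have hcard : Nat.card R ≤ Nat.card P₀ := by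
    calc Nat.card R = Nat.card Q := by
          rw [hQdef, Subgroup.card_map_of_injective N.subtype_injective]
      _ = Nat.card (Q.map (MulAut.conj y⁻¹).toMonoidHom) :=
          (Subgroup.card_map_of_injective (K := Q) (f := (MulAut.conj y⁻¹).toMonoidHom)
            (MulAut.conj y⁻¹).injective).symm
      _ ≤ Nat.card (S ⊓ N : Subgroup G) := Subgroup.card_le_of_le hle
      _ = Nat.card P₀ := (card_subgroupOf_of_le N inf_le_right).symm
  have : P₀ = R := Subgroup.eq_of_le_of_card_ge hP₀R hcard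
  rw [this]
  exact hR

/-- **Knörr's theorem.**  If `B` covers the block `b` of the normal subgroup `N` and `Q ≤ N` is a
defect group of `b`, then `B` has a defect group `P` with `P ∩ N = Q`. -/
theorem exists_defectGroup_inf_eq [Fact p.Prime] (hM : IsPModular p M)
    {b : Set (IrrCharacter N)} (hb : IsPBlock M b) {Q : Subgroup G} (hQN : Q ≤ N)
    (hQ : IsDefectGroup p M b (Q.subgroupOf N)) {B : Set (IrrCharacter G)} (hB : IsPBlock M B)
    (hcov : ∃ χ ∈ B, ∃ θ ∈ b, classInner (fun n : N => (χ : G → ℂ) n) (θ : N → ℂ) ≠ 0) :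
    ∃ P : Subgroup G, IsDefectGroup p M B P ∧ P ⊓ N = Q := by
  classical
  haveI hMp : M.IsPrime := IsPModular.isPrime hM
  obtain ⟨k, hkdc, hQk, hQcard⟩ := (isDefectGroup_iff p b (Q.subgroupOf N)).mp hQ
  have hQ'p : IsPGroup p (Q.subgroupOf N) := IsPGroup.of_card hQcard
  have hQp : IsPGroup p Q := hQ'p.of_equiv (Subgroup.subgroupOfEquivOfLe hQN)
  have hkQ : (k : G) ∈ Subgroup.centralizer (Q : Set G) := by
    rw [Subgroup.mem_centralizer_iff]
    intro q hq
    have h1 : (⟨q, hQN hq⟩ : N) ∈ Q.subgroupOf N := Subgroup.mem_subgroupOf.mpr hq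
    have := Subgroup.mem_centralizer_singleton_iff.mp (hQk h1)
    exact congrArg Subtype.val this
  obtain ⟨g₁, hg₁Q, hg₁⟩ := exists_centralizer_blockCoeff_not_memLocalIdeal N hM hb hB hcov
    hQp hQN k hkQ hkdc.2.1
  have hQg₁ : Q ≤ Subgroup.centralizer ({g₁} : Set G) := by
    intro q hq
    rw [Subgroup.mem_centralizer_singleton_iff]
    exact (Subgroup.mem_centralizer_iff.mp hg₁Q) q hq
  obtain ⟨P, hP, hQP⟩ := exists_defectGroup_ge_of_blockCoeff hM hB hg₁ hQp hQg₁
  refine ⟨P, hP, ?_⟩
  obtain ⟨c, hc, ⟨g, hcg⟩, _, hPN⟩ := exists_stable_covered_block_defect N hM hb hB hcov hP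
  have h1 : Nat.card ((P ⊓ N).subgroupOf N) = p ^ blockDefect p c :=
    Helper77.card_defectGroup hM hc _ hPN
  have h2 : Nat.card (Q.subgroupOf N) = p ^ blockDefect p b :=
    Helper77.card_defectGroup hM hb _ hQ
  rw [hcg, blockDefect_conjBlk, ← h2, card_subgroupOf_of_le N inf_le_right,
    card_subgroupOf_of_le N hQN] at h1
  exact (Subgroup.eq_of_le_of_card_ge (le_inf hQP hQN) h1.le).symm

end Normal

end Cfsg.Agent.Helper16
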