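import Cfsg.Agent.Helper16.KnorrCore
import Cfsg.Agent.Helper16.KnorrDefect

/-!
# Every character of a covered block lies under the covering block

(helper16.)  Let `N` be normal in `G`, `B` a block of `G` covering the block `b` of `N`.  Then every
`θ ∈ b` is a constituent of the restriction of some `χ ∈ B` (Navarro, Theorem 9.4).

The proof is the graded nilpotency argument of `KnorrCore`: if `θ ∈ b` is not under `B`, then
`e_B e_Θ = 0` for the idempotent `e_Θ` of the `G`-orbit `Θ` of `θ`; hence every non-empty product
`y` of pieces of `e_B` of degree `1` satisfies `y e_Θ = 0`, i.e. `ω_θ'(y) = 0` for `θ' ∈ Θ`.  As `Θ`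
meets every conjugate of `b` and `ω` is constant modulo the local ideal on blocks of `N`, `y` is a
radical element of `Z(ON)`.  Then long products of pieces vanish modulo the local ideal, and so does
`e_B = e_B ^ L`: a contradiction.
-/

set_option autoImplicit false
set_option linter.unusedSectionVars false

namespace Cfsg.Agent.Helper16

open Cfsg

variable {G : Type*} [Group G] [Fintype G] {M : Ideal AlgInt} {p : ℕ}
variable (N : Subgroup G) [hN : N.Normal]

theorem piece_zero (γ : G ⧸ N) : piece N (0 : G → ℂ) γ = 0 := by
  funext g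
  by_cases hg : (QuotientGroup.mk g : G ⧸ N) = γ
  · rw [piece_of_eq N _ hg]
  · rw [piece_of_ne N _ hg]; rfl

/-- If `X * E = 0` with `E` supported on `N`, the same holds for non-empty products of pieces. -/
theorem pieceProd_conv_eq_zero {X E : G → ℂ} (hE : SuppCoset N 1 E) (hXE : conv X E = 0)
    {l : List (G ⧸ N)} (hl : l ≠ []) : conv (pieceProd N X l) E = 0 := by
  induction l with
  | nil => exact absurd rfl hl
  | cons γ l ih =>
    cases l with
    | nil =>
      rw [pieceProd_cons, pieceProd_nil, Helper78.conv_deltaOne_right, piece_conv_of_supp N X hE,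
        hXE, piece_zero]
    | cons γ' l' =>
      rw [pieceProd_cons, conv_assoc, ih (List.cons_ne_nil _ _), Helper77.conv_zero_right]

/-- **Abstract graded nilpotency.**  If `X` is a central idempotent of the local group ring all of
whose non-empty degree-one products of pieces are radical elements of the centre of the local group
ring of `N`, then `X` has all its values in the local ideal. -/
theorem jValued_of_forall_isRadCentral [Fintype N] [hMp : M.IsPrime]
    {X : G → ℂ} (hXcl : IsClassFunction G X) (hXR : RValued M X) (hXX : conv X X = X)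
    (hrad : ∀ s : List (G ⧸ N), s ≠ [] → s.prod = 1 →
      IsRadCentral M (Helper77.resFun N (pieceProd N X s))) :
    Helper78.JValued M X := by
  classical
  haveI : Fintype (G ⧸ N) := Fintype.ofFinite _
  have hXN : Helper77.InvUnder (N : Set G) X := Helper77.invUnder_of_isClassFunction hXcl _
  refine of_forall_pieceProd N hXX
    (Fintype.card (G ⧸ N) * (Finset.univ : Finset (IrrCharacter N)).toList.length)
    (Helper78.JValued M) jValued_zero' (fun F F' hF hF' => jValued_add' hF hF') ?_
  intro l hl
  have hl' : Fintype.card (G ⧸ N) * (Finset.univ : Finset (IrrCharacter N)).toList.length ≤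
      l.length := by rw [hl]; exact Nat.le_succ _
  obtain ⟨ss, R, hlen, hss, hRR, hRN, hprod⟩ := exists_front_segments N hXR hXN _ l hl'
  rw [hprod]
  apply jValued_conv_left' _ hRR
  rw [convList_eq_extFun N]
  · intro g
    apply Helper77.extFun_memLocalIdeal N
    apply jValued_convList_of_isRadCentral
    · rw [List.length_map, List.length_map, hlen]
    · intro d hd
      obtain ⟨f, hf, rfl⟩ := List.mem_map.mp hd
      obtain ⟨s, hs, rfl⟩ := List.mem_map.mp hf
      exact hrad s (hss s hs).1 (hss s hs).2
  · intro f hf
    obtain ⟨s, hs, rfl⟩ := List.mem_map.mp hf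
    have := suppCoset_pieceProd N X s
    rwa [(hss s hs).2] at this

/-- **Navarro 9.4.**  If the block `B` of `G` covers the block `b` of the normal subgroup `N`, then
every `θ ∈ b` lies under some `χ ∈ B`. -/
theorem exists_mem_classInner_ne_zero_of_covers [Fintype N] [Fact p.Prime] (hM : IsPModular p M)
    {b : Set (IrrCharacter N)} (hb : IsPBlock M b) {B : Set (IrrCharacter G)} (hB : IsPBlock M B)
    (hcov : ∃ χ ∈ B, ∃ θ ∈ b, classInner (fun n : N => (χ : G → ℂ) n) (θ : N → ℂ) ≠ 0)
    (θ : IrrCharacter N) (hθ : θ ∈ b) :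
    ∃ χ ∈ B, classInner (fun n : N => (χ : G → ℂ) n) (θ : N → ℂ) ≠ 0 := by
  classical
  haveI hMp : M.IsPrime := IsPModular.isPrime hM
  by_contra hcon
  have hno : ∀ χ ∈ B, classInner (fun n : N => (χ : G → ℂ) n) (θ : N → ℂ) = 0 := by
    intro χ hχ
    by_contra h
    exact hcon ⟨χ, hχ, h⟩
  set X : G → ℂ := blockCoeff B with hXdef
  have hXcl : IsClassFunction G X := Helper77.blockCoeff_isClassFunction hB
  have hXR : RValued M X := Helper77.blockCoeff_memLocalRing hB
  have hXX : conv X X = X := Helper77.blockCoeff_conv_self hB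
  have hXE := conv_blockCoeff_extFun_conjUnion N hb hB hcov
  have hXN : Helper77.InvUnder (N : Set G) X := Helper77.invUnder_of_isClassFunction hXcl _
  -- the orbit of `θ`
  set Θ : Set (IrrCharacter N) := conjUnion N {θ} with hΘdef
  have hΘst : GStable N Θ := gStable_conjUnion N {θ}
  have hnoΘ : ∀ χ ∈ B, ¬ LiesOver N (χ : G → ℂ) Θ := by
    rintro χ hχ ⟨θ', ⟨g, hg⟩, hne⟩
    have hg' : irrConj N g θ' = θ := hg
    apply hne
    have h1 := hno χ hχ
    rw [← hg', irrConj_coe, Helper15.classInner_restrict_conjFun N (irr_isClassFunction χ)] at h1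
    exact h1
  set F : G → ℂ := Helper77.extFun N (blockCoeff Θ) with hFdef
  have hFsupp : SuppCoset N 1 F := suppCoset_extFun N _
  have hFcl : IsClassFunction G F := by
    rw [hFdef, extFun_eq_extendByZero]
    exact isClassFunction_extendByZero N (blockCoeff_conj_of_gStable N hΘst)
  have hXF : conv X F = 0 := by
    apply classFunction_ext_omega (isClassFunction_conv hXcl hFcl) isClassFunction_zero
    intro χ
    rw [irr_omega_conv χ hXcl hFcl, omega_zero, hFdef, extFun_eq_extendByZero,
      omega_ext_blockCoeff N χ hΘst, hXdef, omega_blockCoeff]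
    by_cases hχ : χ ∈ B
    · rw [if_neg (hnoΘ χ hχ), mul_zero]
    · rw [if_neg hχ, zero_mul]
  -- degree-one products of pieces are radical
  have hrad : ∀ s : List (G ⧸ N), s ≠ [] → s.prod = 1 →
      IsRadCentral M (Helper77.resFun N (pieceProd N X s)) := by
    intro s hs hsprod
    set Y : G → ℂ := pieceProd N X s with hYdef
    set y : N → ℂ := Helper77.resFun N Y with hydef
    have hYsupp : SuppCoset N 1 Y := by
      have := suppCoset_pieceProd N X s
      rwa [hsprod] at this
    have hYext : Helper77.extFun N y = Y :=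
      Helper77.extFun_resFun_of_support N Y (fun g hg => eq_zero_of_suppCoset_one N hYsupp hg)
    have hYN : Helper77.InvUnder (N : Set G) Y := invUnder_pieceProd N hXN s
    have hycl : IsClassFunction N y := Helper77.isClassFunction_resFun hYN
    have hYR : RValued M Y := rValued_pieceProd N hXR s
    have hyR : RValued M y := fun n => hYR (n : G)
    set O : Set (IrrCharacter N) := conjUnion N b with hOdef
    have heOcl : IsClassFunction N (blockCoeff O) := isClassFunction_blockCoeff O
    have heΘcl : IsClassFunction N (blockCoeff Θ) := isClassFunction_blockCoeff Θ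
    have hyO : conv y (blockCoeff O) = y := by
      apply Helper77.extFun_injective N
      rw [← Helper77.extFun_conv, hYext]
      exact pieceProd_conv_of_supp N (suppCoset_extFun N _) hXE hs
    have hyΘ : conv y (blockCoeff Θ) = 0 := by
      apply Helper77.extFun_injective N
      rw [← Helper77.extFun_conv, hYext]
      have h0 : Helper77.extFun N (0 : N → ℂ) = 0 := by
        funext g
        by_cases hg : g ∈ N
        · rw [Helper77.extFun_of_mem N _ hg]; rfl
        · rw [Helper77.extFun_of_not_mem N _ hg]; rfl
      rw [h0]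
      exact pieceProd_conv_eq_zero N hFsupp hXF hs
    have hωΘ : ∀ θ' ∈ Θ, omega (θ' : N → ℂ) y = 0 := by
      intro θ' hθ'
      have h1 : omega (θ' : N → ℂ) (conv y (blockCoeff Θ)) = 0 := by rw [hyΘ, omega_zero]
      rw [irr_omega_conv θ' hycl heΘcl, omega_blockCoeff Θ θ', if_pos hθ', mul_one] at h1
      exact h1
    refine ⟨hycl, hyR, ?_⟩
    intro φ
    have h1 : omega (φ : N → ℂ) y = omega (φ : N → ℂ) y * (if φ ∈ O then 1 else 0) := by
      conv_lhs => rw [← hyO]
      rw [irr_omega_conv φ hycl heOcl, omega_blockCoeff O φ]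
    by_cases hφO : φ ∈ O
    · obtain ⟨g, hg⟩ := hφO
      set b' : Set (IrrCharacter N) := Helper78.conjBlk N g⁻¹ b with hb'def
      have hφb' : φ ∈ b' := by
        show irrConj N g⁻¹⁻¹ φ ∈ b
        rw [inv_inv]
        exact hg
      have hb' : IsPBlock M b' := Helper78.isPBlock_conjBlk N g⁻¹ hb
      set θ' : IrrCharacter N := irrConj N g⁻¹ θ with hθ'def
      have hθ'b' : θ' ∈ b' := by
        show irrConj N g⁻¹⁻¹ (irrConj N g⁻¹ θ) ∈ b
        rw [inv_inv, irrConj_irrConj, inv_mul_cancel, irrConj_one]
        exact hθ
      have hθ'Θ : θ' ∈ Θ := by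
        refine ⟨g, ?_⟩
        show irrConj N g (irrConj N g⁻¹ θ) = θ
        rw [irrConj_irrConj, inv_mul_cancel, irrConj_one]
      have hsame : SameBlock M (φ : N → ℂ) (θ' : N → ℂ) := by
        have e := Helper78.isPBlock_eq_blockOf_of_mem hMp hb' hφb'
        rw [e] at hθ'b'
        exact hθ'b'
      have h2 := omega_sub_memLocalIdeal hsame hycl hyR
      rw [hωΘ θ' hθ'Θ, sub_zero] at h2
      exact h2
    · rw [h1, if_neg hφO, mul_zero]
      exact memLocalIdeal_zero
  have hJ : Helper78.JValued M X := jValued_of_forall_isRadCentral N hXcl hXR hXX hrad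
  obtain ⟨χ₀, rfl⟩ := hB
  obtain ⟨g, hg⟩ := exists_defectClass (M := M) χ₀
  exact hg.2.1 (hJ g)

end Cfsg.Agent.Helper16
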