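import Cfsg.Agent.Helper16.Covering

/-!
# Covering of blocks (helper16)

`N ⊴ G`.  For a `G`-stable set `𝒪` of irreducible characters of `N`, the function
`extendByZero N (blockCoeff 𝒪)` is a central idempotent of the group algebra of `G`, whose
`omega` transform at `χ` is `1` or `0` according as `χ` lies over a member of `𝒪` or not.
-/

set_option autoImplicit false
set_option linter.unusedSectionVars false

namespace Cfsg.Agent.Helper16

open Cfsg Cfsg.Agent.Helper15
open scoped ComplexConjugate

universe u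

variable {G : Type u} [Group G] [Fintype G]

section General

open Classical in
/-- Pairing `blockCoeff A` against a function. -/
theorem sum_blockCoeff_mul (A : Set (IrrCharacter G)) (F : G → ℂ) :
    ∑ x : G, blockCoeff A x * F x =
      ∑ χ : IrrCharacter G, (if χ ∈ A then (1 : ℂ) else 0) * (χ : G → ℂ) 1 *
        classInner F (χ : G → ℂ) := by
  simp_rw [blockCoeff_eq_sum, classInner]
  simp_rw [Finset.mul_sum, Finset.sum_mul]
  rw [Finset.sum_comm]
  refine Finset.sum_congr rfl (fun χ _ => ?_)
  refine Finset.sum_congr rfl (fun x _ => ?_)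
  ring

end General

section Normal

variable (N : Subgroup G) [hN : N.Normal]

/-- The conjugate of an irreducible character of `N` by `g : G`, as an irreducible character. -/
def irrConj (g : G) (θ : IrrCharacter N) : IrrCharacter N :=
  ⟨conjFun N g (θ : N → ℂ), isIrrCharacter_conjFun N θ.2 g⟩

theorem irrConj_coe (g : G) (θ : IrrCharacter N) :
    ((irrConj N g θ : IrrCharacter N) : N → ℂ) = conjFun N g (θ : N → ℂ) := rfl

theorem irrConj_irrConj (g h : G) (θ : IrrCharacter N) :
    irrConj N h (irrConj N g θ) = irrConj N (g * h) θ :=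
  Subtype.ext (conjFun_mul N g h (θ : N → ℂ)).symm

theorem irrConj_one (θ : IrrCharacter N) : irrConj N 1 θ = θ :=
  Subtype.ext (conjFun_one N (θ : N → ℂ))

/-- Conjugation by `g` as a permutation of `Irr N`. -/
def irrConjEquiv (g : G) : IrrCharacter N ≃ IrrCharacter N where
  toFun := irrConj N g
  invFun := irrConj N g⁻¹
  left_inv θ := by rw [irrConj_irrConj, mul_inv_cancel, irrConj_one]
  right_inv θ := by rw [irrConj_irrConj, inv_mul_cancel, irrConj_one]

theorem conjFun_apply_one (g : G) (θ : N → ℂ) : conjFun N g θ 1 = θ 1 := by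
  rw [conjFun_apply]
  congr 1
  apply Subtype.ext
  simp

/-- A set of irreducible characters of `N` stable under `G`-conjugation. -/
def GStable (O : Set (IrrCharacter N)) : Prop := ∀ θ ∈ O, ∀ g : G, irrConj N g θ ∈ O

theorem GStable.mem_iff {O : Set (IrrCharacter N)} (hO : GStable N O) (g : G) (θ : IrrCharacter N) :
    irrConj N g θ ∈ O ↔ θ ∈ O := by
  constructor
  · intro h
    have := hO _ h g⁻¹
    rwa [irrConj_irrConj, mul_inv_cancel, irrConj_one] at this
  · intro h
    exact hO θ h g

/-- `χ` lies over some member of `O`. -/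
def LiesOver (χ : G → ℂ) (O : Set (IrrCharacter N)) [Fintype N] : Prop :=
  ∃ θ ∈ O, classInner (fun n : N => χ n) (θ : N → ℂ) ≠ 0

variable [Fintype N]

/-- The idempotent of a `G`-stable set of characters of `N` is `G`-invariant. -/
theorem blockCoeff_conj_of_gStable {O : Set (IrrCharacter N)} (hO : GStable N O) (g : G) (n : N) :
    blockCoeff O ⟨g * n * g⁻¹, hN.conj_mem (n : G) n.2 g⟩ = blockCoeff O n := by
  classical
  rw [blockCoeff_eq_sum, blockCoeff_eq_sum]
  congr 1
  rw [← Equiv.sum_comp (irrConjEquiv N g)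
    (fun θ : IrrCharacter N => (if θ ∈ O then (1 : ℂ) else 0) * (θ : N → ℂ) 1 *
      conj ((θ : N → ℂ) n))]
  refine Finset.sum_congr rfl (fun θ _ => ?_)
  show _ = (if irrConj N g θ ∈ O then (1 : ℂ) else 0) * (irrConj N g θ : N → ℂ) 1 *
      conj ((irrConj N g θ : N → ℂ) n)
  rw [irrConj_coe, conjFun_apply_one, conjFun_apply]
  by_cases h : θ ∈ O
  · rw [if_pos h, if_pos ((hO.mem_iff N g θ).mpr h)]
  · rw [if_neg h, if_neg (fun h' => h ((hO.mem_iff N g θ).mp h'))]

theorem isClassFunction_extendByZero {f : N → ℂ}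
    (hf : ∀ (g : G) (n : N), f ⟨g * n * g⁻¹, hN.conj_mem (n : G) n.2 g⟩ = f n) :
    IsClassFunction G (extendByZero N f) := by
  intro x g
  by_cases hx : x ∈ N
  · have hx' : g * x * g⁻¹ ∈ N := hN.conj_mem x hx g
    rw [extendByZero_of_mem N f hx, extendByZero_of_mem N f hx']
    exact hf g ⟨x, hx⟩
  · have hx' : g * x * g⁻¹ ∉ N := by
      intro h
      apply hx
      have := hN.conj_mem _ h g⁻¹
      simpa [mul_assoc] using this
    rw [extendByZero_of_not_mem N f hx, extendByZero_of_not_mem N f hx']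

theorem memLocalRing_extendByZero {M : Ideal AlgInt} [M.IsPrime] {f : N → ℂ}
    (hf : ∀ n, MemLocalRing M (f n)) (x : G) : MemLocalRing M (extendByZero N f x) := by
  by_cases hx : x ∈ N
  · rw [extendByZero_of_mem N f hx]
    exact hf _
  · rw [extendByZero_of_not_mem N f hx]
    exact memLocalRing_zero

theorem omega_extendByZero (χ : G → ℂ) (f : N → ℂ) :
    omega χ (extendByZero N f) = (∑ n : N, f n * χ n) / χ 1 := by
  unfold omega
  rw [sum_extendByZero_mul]

theorem isClassFunction_restrict {χ : G → ℂ} (hχ : IsClassFunction G χ) :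
    IsClassFunction N (fun n : N => χ n) := by
  intro n h
  show χ ((h * n * h⁻¹ : N) : G) = χ n
  have : ((h * n * h⁻¹ : N) : G) = (h : G) * (n : G) * (h : G)⁻¹ := by simp
  rw [this]
  exact hχ _ _

open Classical in
/-- The central idempotent attached to a `G`-stable set `O` of characters of `N` acts on `χ` as `1`
or `0` according as `χ` lies over `O` or not. -/
theorem omega_ext_blockCoeff (χ : IrrCharacter G) {O : Set (IrrCharacter N)} (hO : GStable N O) :
    omega (χ : G → ℂ) (extendByZero N (blockCoeff O)) =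
      if LiesOver N (χ : G → ℂ) O then 1 else 0 := by
  have hχ1 : (χ : G → ℂ) 1 ≠ 0 := irr_one_ne_zero χ
  rw [omega_extendByZero, sum_blockCoeff_mul]
  by_cases h : LiesOver N (χ : G → ℂ) O
  · rw [if_pos h]
    obtain ⟨θ₀, hθ₀, hθ₀χ⟩ := h
    have hmem : ∀ θ : IrrCharacter N,
        classInner (fun n : N => (χ : G → ℂ) n) (θ : N → ℂ) ≠ 0 → θ ∈ O := by
      intro θ hθ
      obtain ⟨g, hg⟩ := exists_conj_of_constituents N χ.2 θ₀.2 θ.2 hθ₀χ hθ
      have : θ = irrConj N g θ₀ := Subtype.ext hg
      rw [this]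
      exact hO θ₀ hθ₀ g
    have hexp := congrFun (Helper79.classFunction_expansion
      (isClassFunction_restrict N (irr_isClassFunction χ))) 1
    rw [Finset.sum_apply] at hexp
    simp only [Pi.smul_apply, smul_eq_mul] at hexp
    have hsum : ∑ θ : IrrCharacter N, (if θ ∈ O then (1 : ℂ) else 0) * (θ : N → ℂ) 1 *
        classInner (fun n : N => (χ : G → ℂ) n) (θ : N → ℂ) = (χ : G → ℂ) 1 := by
      have h1 : (χ : G → ℂ) ((1 : N) : G) = (χ : G → ℂ) 1 := rfl
      rw [← h1, hexp]
      refine Finset.sum_congr rfl (fun θ _ => ?_)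
      by_cases hθ : θ ∈ O
      · rw [if_pos hθ]; ring
      · rw [if_neg hθ]
        have : classInner (fun n : N => (χ : G → ℂ) n) (θ : N → ℂ) = 0 := by
          by_contra h0
          exact hθ (hmem θ h0)
        rw [this]; ring
    rw [hsum, div_self hχ1]
  · rw [if_neg h]
    have hsum : ∑ θ : IrrCharacter N, (if θ ∈ O then (1 : ℂ) else 0) * (θ : N → ℂ) 1 *
        classInner (fun n : N => (χ : G → ℂ) n) (θ : N → ℂ) = 0 := by
      refine Finset.sum_eq_zero (fun θ _ => ?_)
      by_cases hθ : θ ∈ O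
      · have : classInner (fun n : N => (χ : G → ℂ) n) (θ : N → ℂ) = 0 := by
          by_contra h0
          exact h ⟨θ, hθ, h0⟩
        rw [this, mul_zero]
      · rw [if_neg hθ, zero_mul, zero_mul]
    rw [hsum, zero_div]

/-- Characters in the same block of `G` lie over the same `G`-stable sets of characters of `N`
with local-integral idempotent. -/
theorem liesOver_iff_of_sameBlock {M : Ideal AlgInt} [M.IsPrime] {O : Set (IrrCharacter N)}
    (hO : GStable N O) (hR : ∀ n : N, MemLocalRing M (blockCoeff O n)) {χ ψ : IrrCharacter G}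
    (h : SameBlock M (χ : G → ℂ) (ψ : G → ℂ)) :
    LiesOver N (χ : G → ℂ) O ↔ LiesOver N (ψ : G → ℂ) O := by
  classical
  have hcf : IsClassFunction G (extendByZero N (blockCoeff O)) :=
    isClassFunction_extendByZero N (blockCoeff_conj_of_gStable N hO)
  have hsub := omega_sub_memLocalIdeal h hcf (memLocalRing_extendByZero N hR)
  rw [omega_ext_blockCoeff N χ hO, omega_ext_blockCoeff N ψ hO] at hsub
  by_cases h1 : LiesOver N (χ : G → ℂ) O <;> by_cases h2 : LiesOver N (ψ : G → ℂ) O
  · exact ⟨fun _ => h2, fun _ => h1⟩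
  · exfalso
    rw [if_pos h1, if_neg h2, sub_zero] at hsub
    exact not_memLocalIdeal_one hsub
  · exfalso
    rw [if_neg h1, if_pos h2, zero_sub] at hsub
    exact not_memLocalIdeal_one (by simpa using memLocalIdeal_neg hsub)
  · exact ⟨fun h' => absurd h' h1, fun h' => absurd h' h2⟩

/-- The central character of a conjugate character. -/
theorem centralChar_conjFun (g : G) (θ : N → ℂ) (n : N) :
    centralChar (conjFun N g θ) n =
      centralChar θ ⟨g * n * g⁻¹, hN.conj_mem (n : G) n.2 g⟩ := by
  unfold centralChar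
  rw [conjFun_apply_one, conjFun_apply]
  have hidx := index_centralizer_mulEquiv (MulAut.conjNormal g : N ≃* N) n
  have he : (MulAut.conjNormal g : N ≃* N) n = ⟨g * n * g⁻¹, hN.conj_mem (n : G) n.2 g⟩ := by
    apply Subtype.ext
    rw [MulAut.conjNormal_apply]
  rw [he] at hidx
  rw [hidx]

theorem sameBlock_conjFun {M : Ideal AlgInt} {θ θ' : N → ℂ} (h : SameBlock M θ θ') (g : G) :
    SameBlock M (conjFun N g θ) (conjFun N g θ') := by
  intro n
  rw [centralChar_conjFun, centralChar_conjFun]
  exact h _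

/-- The union of the `G`-conjugates of a set `b` of characters of `N`. -/
def conjUnion (b : Set (IrrCharacter N)) : Set (IrrCharacter N) :=
  {θ | ∃ g : G, irrConj N g θ ∈ b}

theorem subset_conjUnion (b : Set (IrrCharacter N)) : b ⊆ conjUnion N b := by
  intro θ hθ
  exact ⟨1, by rwa [irrConj_one]⟩

theorem gStable_conjUnion (b : Set (IrrCharacter N)) : GStable N (conjUnion N b) := by
  rintro θ ⟨g, hg⟩ h
  refine ⟨h⁻¹ * g, ?_⟩
  rw [irrConj_irrConj, ← mul_assoc, mul_inv_cancel, one_mul]
  exact hg

theorem conjUnion_closed {M : Ideal AlgInt} [M.IsPrime] {b : Set (IrrCharacter N)}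
    (hb : IsPBlock M b) :
    ∀ θ ∈ conjUnion N b, ∀ θ' : IrrCharacter N,
      SameBlock M (θ : N → ℂ) (θ' : N → ℂ) → θ' ∈ conjUnion N b := by
  obtain ⟨θ₀, rfl⟩ := hb
  rintro θ ⟨g, hg⟩ θ' hs
  refine ⟨g, ?_⟩
  have h1 : SameBlock M (θ₀ : N → ℂ) (conjFun N g (θ : N → ℂ)) := hg
  have h2 : SameBlock M (conjFun N g (θ : N → ℂ)) (conjFun N g (θ' : N → ℂ)) :=
    sameBlock_conjFun N hs g
  exact sameBlock_trans h1 h2

/-- The idempotent of the union of the conjugates of a block of `N` is local-integral. -/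
theorem memLocalRing_blockCoeff_conjUnion {M : Ideal AlgInt} [M.IsPrime]
    {b : Set (IrrCharacter N)} (hb : IsPBlock M b) (n : N) :
    MemLocalRing M (blockCoeff (conjUnion N b) n) :=
  memLocalRing_blockCoeff_of_closed _ (conjUnion_closed N hb) n

/-- If `χ` lies over the union of conjugates of `b` then it lies over `b`. -/
theorem liesOver_of_liesOver_conjUnion {χ : G → ℂ} (hχ : IsClassFunction G χ)
    {b : Set (IrrCharacter N)} (h : LiesOver N χ (conjUnion N b)) : LiesOver N χ b := by
  obtain ⟨θ, ⟨g, hg⟩, hθ⟩ := h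
  refine ⟨irrConj N g θ, hg, ?_⟩
  rw [irrConj_coe, classInner_restrict_conjFun N hχ]
  exact hθ

end Normal

end Cfsg.Agent.Helper16
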