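import Cfsg.Agent.Helper16.BrauerNil
import Cfsg.Agent.Helper77.AbelianLocal

/-!
# Local blocks of a block with a cyclic defect group (helper16)

For a block `B` with a nontrivial cyclic defect group `P`, root `c` and a nontrivial subgroup
`Q ≤ P`, the block `f` of `C_G(Q)` induced by `c` has `N_G(Q, f) = N_G(P, c) C_G(Q)`, the same
inertial index as `B`, `l(f) = 1`, and is nilpotent.
-/

set_option autoImplicit false
set_option linter.unusedSectionVars false
set_option linter.unusedVariables false

namespace Cfsg.Agent.Helper16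

open Cfsg
open Cfsg.Agent.Helper77

section CyclicGroup

/-- In a finite cyclic group, the elements killed by the order of a subgroup lie in it. -/
theorem mem_of_pow_card_eq_one {P : Type*} [Group P] [Finite P] [IsCyclic P] (Q : Subgroup P)
    (y : P) (hy : y ^ Nat.card Q = 1) : y ∈ Q := by
  classical
  have hfin : Fintype P := Fintype.ofFinite P
  have hn : 0 < Nat.card Q := Nat.card_pos
  have h1 : (Finset.univ.filter (fun a : P => a ^ Nat.card Q = 1)).card ≤ Nat.card Q :=
    IsCyclic.card_pow_eq_one_le hn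
  have hsub : (Q : Set P).toFinset ⊆ Finset.univ.filter (fun a : P => a ^ Nat.card Q = 1) := by
    intro a ha
    rw [Set.mem_toFinset] at ha
    rw [Finset.mem_filter]
    refine ⟨Finset.mem_univ _, ?_⟩
    have h2 : (⟨a, ha⟩ : Q) ^ Nat.card Q = 1 := pow_card_eq_one'
    exact congrArg Subtype.val h2
  have hcard : (Q : Set P).toFinset.card = Nat.card Q := by
    rw [Set.toFinset_card, ← Nat.card_eq_fintype_card]
    rfl
  have heq := Finset.eq_of_subset_of_card_le hsub (by rw [hcard]; exact h1)
  have hy' : y ∈ Finset.univ.filter (fun a : P => a ^ Nat.card Q = 1) := by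
    rw [Finset.mem_filter]
    exact ⟨Finset.mem_univ _, hy⟩
  rw [← heq, Set.mem_toFinset] at hy'
  exact hy'

variable {G : Type*} [Group G] [Finite G]

/-- The normalizer of a cyclic subgroup normalizes each of its subgroups. -/
theorem normalizer_le_normalizer_of_isCyclic (P Q : Subgroup G) [hcyc : IsCyclic P] (hQP : Q ≤ P) :
    Subgroup.normalizer (P : Set G) ≤ Subgroup.normalizer (Q : Set G) := by
  have key : ∀ g : G, g ∈ Subgroup.normalizer (P : Set G) → ∀ h ∈ Q, g * h * g⁻¹ ∈ Q := by
    intro g hg h hh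
    have hP : g * h * g⁻¹ ∈ P := (Subgroup.mem_normalizer_iff.mp hg h).mp (hQP hh)
    have hpow : (⟨g * h * g⁻¹, hP⟩ : P) ^ Nat.card (Q.subgroupOf P) = 1 := by
      apply Subtype.ext
      rw [SubmonoidClass.coe_pow]
      show (g * h * g⁻¹) ^ Nat.card (Q.subgroupOf P) = 1
      rw [conj_pow]
      have h1 : Nat.card (Q.subgroupOf P) = Nat.card Q :=
        Nat.card_congr (Subgroup.subgroupOfEquivOfLe hQP).toEquiv
      rw [h1]
      have h2 : (⟨h, hh⟩ : Q) ^ Nat.card Q = 1 := pow_card_eq_one'
      have h3 : h ^ Nat.card Q = 1 := congrArg Subtype.val h2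
      rw [h3]
      group
    have := mem_of_pow_card_eq_one (Q.subgroupOf P) ⟨g * h * g⁻¹, hP⟩ hpow
    exact Subgroup.mem_subgroupOf.mp this
  intro g hg
  rw [Subgroup.mem_normalizer_iff]
  intro h
  constructor
  · exact key g hg h
  · intro hh
    have := key g⁻¹ (Subgroup.inv_mem _ hg) _ hh
    have e : g⁻¹ * (g * h * g⁻¹) * g⁻¹⁻¹ = h := by group
    rwa [e] at this

end CyclicGroup

section Main

variable {G : Type*} [Group G] [Fintype G] {M : Ideal AlgInt} {p : ℕ}

/-- **Local blocks of a block with a cyclic defect group.** -/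
theorem cyclic_defect_local [Fact p.Prime] (hM : IsPModular p M)
    (B : Set (IrrCharacter G)) (hB : IsPBlock M B) (P : Subgroup G)
    (hPD : IsDefectGroup p M B P) (hP1 : P ≠ ⊥) (hcyc : IsCyclic P)
    (c : Set (IrrCharacter (Subgroup.centralizer (P : Set G))))
    (hc : IsInducedBlock M (Subgroup.centralizer (P : Set G)) c B) (T : Subgroup G)
    (hT : ∀ g : G, g ∈ T ↔ (g ∈ Subgroup.normalizer (P : Set G) ∧
      StabilizesBlock (Subgroup.centralizer (P : Set G)) c g))
    (Q : Subgroup G) (hQP : Q ≤ P) (hQ1 : Q ≠ ⊥)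
    (f : Set (IrrCharacter (Subgroup.centralizer (Q : Set G))))
    (hf : IsInducedBlockIn M (Subgroup.centralizer (Q : Set G))
      (Subgroup.centralizer (P : Set G)) c f) (T' : Subgroup G)
    (hT' : ∀ g : G, g ∈ T' ↔ (g ∈ Subgroup.normalizer (Q : Set G) ∧
      StabilizesBlock (Subgroup.centralizer (Q : Set G)) f g)) :
    T' = T ⊔ Subgroup.centralizer (Q : Set G) ∧
      (Subgroup.centralizer (Q : Set G)).relIndex T' =
        (Subgroup.centralizer (P : Set G)).relIndex T ∧
      blockRank p f = 1 ∧ IsNilpotentBlock p M f := by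
  classical
  have hMp : M.IsPrime := isPrime_of_isPModular hM
  have hab : ∀ x ∈ P, ∀ y ∈ P, x * y = y * x := by
    intro x hx y hy
    exact congrArg Subtype.val ((IsCyclic.commGroup (α := P)).mul_comm ⟨x, hx⟩ ⟨y, hy⟩)
  have hmax := isMaximalBrauerPair_of_isInducedBlock_of_abelian hM B hB P hPD hab c hc
  have hPe : IsBrauerPair p M P c := hmax.1.1
  haveI hfinK : Fintype (Subgroup.centralizer (Q : Set G)) := Fintype.ofFinite _
  -- `f` is the block below `(P, c)`
  obtain ⟨f', hf', hle⟩ := exists_subpairLE hM P c hPe _ Q hQP le_rfl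
  have hX := isInducedBlockIn_of_subpairLE_of_abelian hM P c hPe hab Q f' hQP hf' hle
  have hff' : f = f' :=
    isInducedBlockIn_unique (Subgroup.centralizer (Q : Set G))
      (Subgroup.centralizer (P : Set G)) hf hX
  subst hff'
  -- the free action
  obtain ⟨hPT, hCT, hTN, hstabT⟩ := stab_basic P c T hT
  haveI hn : ((Subgroup.centralizer (P : Set G)).subgroupOf T).Normal :=
    (Subgroup.normal_subgroupOf_iff_le_normalizer hCT).mpr
      (hTN.trans (Helper78.normalizer_le_normalizer_centralizer P))
  obtain ⟨-, -, hfree⟩ := cyclic_defect_inertial_quotient hM B hB P hPD hP1 hcyc c hc T hT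
  have hTeq : T = stabT P c := by
    ext g
    rw [hT g, mem_stabT]
  have hT'eq : T' = stabT Q f := by
    ext g
    rw [hT' g, mem_stabT]
  have hnil : IsNilpotentBlock p M f :=
    isNilpotentBlock_of_free_action hM B P c hmax hab
      (fun g hg => hfree g (by rw [hTeq]; exact hg)) Q hQP hQ1 f hf' hle
  have hNPQ : Subgroup.normalizer (P : Set G) ≤ Subgroup.normalizer (Q : Set G) :=
    normalizer_le_normalizer_of_isCyclic P Q hQP
  have hTNQ : T ≤ Subgroup.normalizer (Q : Set G) := hTN.trans hNPQ
  have hCPQ : Subgroup.centralizer (P : Set G) ≤ Subgroup.centralizer (Q : Set G) :=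
    Subgroup.centralizer_le hQP
  obtain ⟨hQT', hCT', hTN', hstabT'⟩ := stab_basic Q f T' hT'
  have hTT' : T ≤ T' := by
    intro g hg
    rw [hT'eq]
    exact mem_stabT_of_mem_stabT_of_mem_normalizer hM P Q c f hPe hle g (by rw [← hTeq]; exact hg)
      (hTNQ hg)
  refine ⟨?_, ?_, ?_, hnil⟩
  · -- `T' = T C_G(Q)`
    apply le_antisymm
    · intro g hg
      rw [hT'eq] at hg
      obtain ⟨y, hy, k, hk, hgyk⟩ :=
        exists_mul_of_mem_stabT_of_abelian hM B P c hmax hab Q f hQP hf' hle g hg
      rw [hgyk]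
      exact Subgroup.mul_mem_sup (by rw [hTeq]; exact hy) hk
    · exact sup_le hTT' hCT'
  · -- the index
    have hidx := index_centralizer_stabT_of_abelian hM B P c hmax hab Q f hQP hf' hle
    rw [hT'eq, hTeq]
    rw [hTeq] at hTNQ hfree hCT
    have h1 : stabT P c ⊓ Subgroup.normalizer (Q : Set G) = stabT P c := inf_eq_left.mpr hTNQ
    have h2 : stabT P c ⊓ Subgroup.centralizer (Q : Set G) =
        Subgroup.centralizer (P : Set G) := by
      apply le_antisymm
      · rintro g ⟨hg, hgQ⟩
        obtain ⟨q, hq, hq1⟩ := (Subgroup.ne_bot_iff_exists_ne_one.mp hQ1 : ∃ a : Q, a ≠ 1) |>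
          fun ⟨a, ha⟩ => (⟨(a : G), a.2, fun h => ha (Subtype.ext h)⟩ : ∃ q : G, q ∈ Q ∧ q ≠ 1)
        have hgq : g * q * g⁻¹ = q := by
          have := Subgroup.mem_centralizer_iff.mp hgQ q hq
          rw [← this]
          group
        exact hfree g hg q (hQP hq) hq1 hgq
      · exact le_inf hCT hCPQ
    rw [h1, h2] at hidx
    exact hidx
  · -- the rank
    have hPK := le_centralizer_of_abelian P Q hab hQP
    have hmaxK := isMaximalBrauerPair_down_of_abelian hM B P c hmax hab Q f hQP hf' hle hPK hCPQ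
    have habK : ∀ x ∈ P.subgroupOf (Subgroup.centralizer (Q : Set G)),
        ∀ y ∈ P.subgroupOf (Subgroup.centralizer (Q : Set G)), x * y = y * x :=
      fun x hx y hy => Subtype.ext (hab x hx y hy)
    have hinertK : ∀ g : Subgroup.centralizer (Q : Set G),
        conjIdx g ⟨P.subgroupOf (Subgroup.centralizer (Q : Set G)),
          downBlock (Subgroup.centralizer (Q : Set G)) P hPK hCPQ c⟩ =
        (⟨P.subgroupOf (Subgroup.centralizer (Q : Set G)),
          downBlock (Subgroup.centralizer (Q : Set G)) P hPK hCPQ c⟩ :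
            BrauerPairIdx (Subgroup.centralizer (Q : Set G))) →
        g ∈ Subgroup.centralizer ((P.subgroupOf (Subgroup.centralizer (Q : Set G)) :
          Subgroup (Subgroup.centralizer (Q : Set G))) : Set (Subgroup.centralizer (Q : Set G))) := by
      intro g hg
      have hN : g ∈ Subgroup.normalizer ((P.subgroupOf (Subgroup.centralizer (Q : Set G)) :
          Subgroup (Subgroup.centralizer (Q : Set G))) : Set (Subgroup.centralizer (Q : Set G))) :=
        Helper16.mem_normalizer_of_map_conj_eq (Sigma.mk.inj_iff.mp hg).1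
      have hS := (conjIdx_eq_self_iff _ _ g hN).mp hg
      exact mem_centralizer_of_isNilpotentBlock_of_abelian hM f _ _ hmaxK habK hnil g hN hS
    obtain ⟨g₀, hg₀⟩ := hcyc.exists_generator
    have hy : Subgroup.centralizer
        ({(⟨(g₀ : G), hPK g₀.2⟩ : Subgroup.centralizer (Q : Set G))} :
          Set (Subgroup.centralizer (Q : Set G))) ≤
        Subgroup.centralizer ((P.subgroupOf (Subgroup.centralizer (Q : Set G)) :
          Subgroup (Subgroup.centralizer (Q : Set G))) : Set (Subgroup.centralizer (Q : Set G))) := by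
      intro k hk
      rw [Subgroup.mem_centralizer_singleton_iff] at hk
      rw [Subgroup.mem_centralizer_iff]
      intro z hz
      have hzP : (z : G) ∈ P := Subgroup.mem_subgroupOf.mp hz
      obtain ⟨n, hn⟩ := Subgroup.mem_zpowers_iff.mp (hg₀ ⟨(z : G), hzP⟩)
      have hzn : z = (⟨(g₀ : G), hPK g₀.2⟩ : Subgroup.centralizer (Q : Set G)) ^ n := by
        apply Subtype.ext
        have := congrArg Subtype.val hn
        rw [Subgroup.coe_zpow] at this ⊢
        exact this.symm
      rw [hzn]
      have hcomm : Commute k (⟨(g₀ : G), hPK g₀.2⟩ : Subgroup.centralizer (Q : Set G)) := hk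
      exact ((hcomm.zpow_right n).eq).symm
    exact blockRank_eq_one_of_abelian_inertial_one hM f _ _ hmaxK habK hinertK
      ⟨(g₀ : G), hPK g₀.2⟩ (Subgroup.mem_subgroupOf.mpr g₀.2) hy

end Main

end Cfsg.Agent.Helper16
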