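import Cfsg.Agent.Helper16.MajorSub

/-!
# Brauer's bound for the heights of the characters in a block

For a block `B` with defect group `D` of order `p ^ d`, inertial index `e` and a character of
height `h` in `B`: `|Z(D)| p ^ h ≤ e p ^ d`.
-/

set_option autoImplicit false
set_option linter.unusedSectionVars false
set_option linter.unusedVariables false

namespace Cfsg.Agent.Helper16

open Cfsg
open Cfsg.Agent.Helper77
open scoped ComplexConjugate

section Aux

variable {G : Type*} [Group G] [Fintype G]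

open Classical in
/-- representatives of the conjugacy classes of `p`-elements -/
theorem exists_pSection_reps (p : ℕ) :
    ∃ X : Finset G, (∀ x ∈ X, ∃ k : ℕ, orderOf x = p ^ k) ∧
      ∀ g : G, (∃ k : ℕ, orderOf g = p ^ k) → ∃! x, x ∈ X ∧ IsConj g x := by
  refine ⟨((Finset.univ : Finset (ConjClasses G)).image classRep).filter
    (fun x => ∃ k : ℕ, orderOf x = p ^ k), ?_, ?_⟩
  · intro x hx
    exact (Finset.mem_filter.mp hx).2
  · intro g hg
    have hc : IsConj (classRep (ConjClasses.mk g)) g := isConj_classRep_mk g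
    refine ⟨classRep (ConjClasses.mk g), ⟨?_, hc.symm⟩, ?_⟩
    · rw [Finset.mem_filter]
      refine ⟨Finset.mem_image_of_mem _ (Finset.mem_univ _), ?_⟩
      rw [orderOf_eq_of_isConj' hc]
      exact hg
    · rintro x' ⟨hx', hgx'⟩
      rw [Finset.mem_filter, Finset.mem_image] at hx'
      obtain ⟨⟨C', -, rfl⟩, -⟩ := hx'
      have h1 : ConjClasses.mk g = ConjClasses.mk (classRep C') :=
        ConjClasses.mk_eq_mk_iff_isConj.mpr hgx'
      rw [mk_classRep] at h1
      rw [h1]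

theorem zpowers_pow_eq_of_coprime (z : G) {γ : ℕ} (hγ : Nat.Coprime γ (orderOf z)) :
    Subgroup.zpowers (z ^ γ) = Subgroup.zpowers z := by
  apply le_antisymm
  · rw [Subgroup.zpowers_le]
    exact Subgroup.pow_mem _ (Subgroup.mem_zpowers z) γ
  · rw [Subgroup.zpowers_le]
    obtain ⟨m, hm⟩ := exists_pow_eq_self_of_coprime hγ
    have : (z ^ γ) ^ m ∈ Subgroup.zpowers (z ^ γ) :=
      Subgroup.pow_mem _ (Subgroup.mem_zpowers (z ^ γ)) m
    rwa [hm] at this

open Classical in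
/-- an orbit of `T` on elements centralized by `H` has at most `|T : H ∩ T|` elements -/
theorem orbit_card_le (H T : Subgroup G) (z₀ : G) (hcent : ∀ h ∈ H, h * z₀ = z₀ * h)
    (S : Finset G) (hS : ∀ s ∈ S, ∃ t ∈ T, t * z₀ * t⁻¹ = s) : S.card ≤ H.relIndex T := by
  haveI : Fintype (T ⧸ H.subgroupOf T) := Fintype.ofFinite _
  let φ : T ⧸ H.subgroupOf T → G := fun q => ((q.out : T) : G) * z₀ * ((q.out : T) : G)⁻¹
  have hsub : S ⊆ (Finset.univ : Finset (T ⧸ H.subgroupOf T)).image φ := by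
    intro s hs
    obtain ⟨t, ht, rfl⟩ := hS s hs
    rw [Finset.mem_image]
    refine ⟨QuotientGroup.mk (⟨t, ht⟩ : T), Finset.mem_univ _, ?_⟩
    obtain ⟨n, hn⟩ := QuotientGroup.mk_out_eq_mul (H.subgroupOf T) (⟨t, ht⟩ : T)
    show ((((QuotientGroup.mk (⟨t, ht⟩ : T) : T ⧸ H.subgroupOf T)).out : T) : G) * z₀ *
      ((((QuotientGroup.mk (⟨t, ht⟩ : T) : T ⧸ H.subgroupOf T)).out : T) : G)⁻¹ = t * z₀ * t⁻¹
    rw [hn]
    have hnH : ((n : T) : G) ∈ H := Subgroup.mem_subgroupOf.mp n.2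
    have hc := hcent _ hnH
    show t * ((n : T) : G) * z₀ * (t * ((n : T) : G))⁻¹ = t * z₀ * t⁻¹
    rw [mul_inv_rev, mul_assoc t, hc]
    group
  calc S.card ≤ ((Finset.univ : Finset (T ⧸ H.subgroupOf T)).image φ).card :=
        Finset.card_le_card hsub
    _ ≤ (Finset.univ : Finset (T ⧸ H.subgroupOf T)).card := Finset.card_image_le
    _ = H.relIndex T := by
        rw [Finset.card_univ, ← Nat.card_eq_fintype_card]
        rfl

end Aux

section Main

variable {G : Type*} [Group G] [Fintype G] {M : Ideal AlgInt} {p : ℕ}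

open Classical in
/-- **The lower bound**: summing the diagonal contributions of the major subsections attached to
the elements of `Z(D)`. -/
theorem center_lower_bound [Fact p.Prime] (hM : IsPModular p M) (B : Set (IrrCharacter G))
    (D : Subgroup G) (e : Set (IrrCharacter (Subgroup.centralizer (D : Set G))))
    (hmax : IsMaximalBrauerPair p M B D e)
    [∀ S : Subgroup G, Fintype S]
    (f : (z : G) → Set (IrrCharacter (Subgroup.centralizer
      ((Subgroup.zpowers z : Subgroup G) : Set G))))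
    (hf : ∀ z : G, Subgroup.zpowers z ≤ D → IsPBlock M (f z) ∧
      SubpairLE p M (Subgroup.zpowers z) (f z) D e)
    (χ : IrrCharacter G) (hχ : χ ∈ B) :
    (Nat.card (Subgroup.center D) : ℝ) * ((p ^ blockHeight p B (χ : G → ℂ) : ℕ) : ℝ) ≤
      ((p ^ blockDefect p B : ℕ) : ℝ) * ∑ ζ : Subgroup.center D,
        (contribE p (Subgroup.centralizer ((Subgroup.zpowers (((ζ : D) : G)) : Subgroup G) : Set G))
          ((ζ : D) : G) (f ((ζ : D) : G)) (χ : G → ℂ) (χ : G → ℂ)).re := by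
  haveI hMp : M.IsPrime := IsPModular.isPrime hM
  have hpr : p.Prime := Fact.out
  have hPe : IsBrauerPair p M D e := hmax.1.1
  have hB : IsPBlock M B := hmax.1.2.1
  have hDdef : IsDefectGroup p M B D := isDefectGroup_of_isMaximalBrauerPair hM B D e hmax
  have hcardD := card_defectGroup hM hB D hDdef
  set d := blockDefect p B with hd
  set h := blockHeight p B (χ : G → ℂ) with hh
  set N := p ^ d with hN
  set Γ := (Finset.range N).filter (fun γ => Nat.Coprime N γ) with hΓ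
  have hΓcard : Γ.card = N.totient := (Nat.totient_eq_card_coprime N).symm
  have hφpos : (0 : ℝ) < (N.totient : ℝ) := by
    exact_mod_cast Nat.totient_pos.mpr (pow_pos hpr.pos d)
  -- elements of the centre
  have hzD : ∀ ζ : Subgroup.center D, Subgroup.zpowers (((ζ : D) : G)) ≤ D := by
    intro ζ
    rw [Subgroup.zpowers_le]
    exact (ζ : D).2
  have hcomm : ∀ ζ : Subgroup.center D, ∀ x ∈ D, x * ((ζ : D) : G) = ((ζ : D) : G) * x := by
    intro ζ x hx
    have := Subgroup.mem_center_iff.mp ζ.2 ⟨x, hx⟩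
    exact congrArg Subtype.val this
  have hDz : ∀ ζ : Subgroup.center D,
      D ≤ Subgroup.centralizer ((Subgroup.zpowers (((ζ : D) : G)) : Subgroup G) : Set G) := by
    intro ζ x hx
    rw [centralizer_zpowers_eq, Subgroup.mem_centralizer_singleton_iff]
    exact hcomm ζ x hx
  have hord : ∀ ζ : Subgroup.center D, orderOf (((ζ : D) : G)) ∣ N := by
    intro ζ
    have h1 := orderOf_dvd_natCard (ζ : D)
    rw [hcardD, ← Subgroup.orderOf_coe] at h1
    exact h1
  -- the lower bound for each element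
  have hL : ∀ ζ : Subgroup.center D, (N.totient : ℝ) * ((p ^ h : ℕ) : ℝ) ≤ ∑ γ ∈ Γ,
      (((p ^ d : ℕ) : ℂ) * contribE p
        (Subgroup.centralizer ((Subgroup.zpowers (((ζ : D) : G)) : Subgroup G) : Set G))
        (((ζ : D) : G) ^ γ) (f ((ζ : D) : G)) (χ : G → ℂ) (χ : G → ℂ)).re := by
    intro ζ
    obtain ⟨hfb, hle⟩ := hf _ (hzD ζ)
    obtain ⟨hindf, hdef⟩ := blockDefect_eq_of_central_subpair hM B D _ e (f ((ζ : D) : G)) hmax
      (hzD ζ) (hDz ζ) hfb hle
    have hzmem : ((ζ : D) : G) ∈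
        Subgroup.centralizer ((Subgroup.zpowers (((ζ : D) : G)) : Subgroup G) : Set G) := by
      rw [centralizer_zpowers_eq, Subgroup.mem_centralizer_singleton_iff]
    have hyc : (⟨((ζ : D) : G), hzmem⟩ : Subgroup.centralizer
        ((Subgroup.zpowers (((ζ : D) : G)) : Subgroup G) : Set G)) ∈ Subgroup.center _ := by
      rw [Subgroup.mem_center_iff]
      intro c
      apply Subtype.ext
      have hc : (c : G) ∈ Subgroup.centralizer ({((ζ : D) : G)} : Set G) := by
        rw [← centralizer_zpowers_eq]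
        exact c.2
      rw [Subgroup.mem_centralizer_singleton_iff] at hc
      exact hc
    exact sum_contribE_major_ge hM hB _ ⟨((ζ : D) : G), hzmem⟩ hyc
      (centralizer_zpowers_eq _) d (hord ζ) hindf hdef χ hχ
  -- Galois invariance of the chosen blocks
  have hGal : ∀ ζ : Subgroup.center D, ∀ γ ∈ Γ,
      contribE p (Subgroup.centralizer
        ((Subgroup.zpowers ((((ζ : D) : G)) ^ γ) : Subgroup G) : Set G))
        (((ζ : D) : G) ^ γ) (f (((ζ : D) : G) ^ γ)) (χ : G → ℂ) (χ : G → ℂ) =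
      contribE p (Subgroup.centralizer ((Subgroup.zpowers (((ζ : D) : G)) : Subgroup G) : Set G))
        (((ζ : D) : G) ^ γ) (f ((ζ : D) : G)) (χ : G → ℂ) (χ : G → ℂ) := by
    intro ζ γ hγ
    rw [hΓ, Finset.mem_filter] at hγ
    have hcop : Nat.Coprime γ (orderOf (((ζ : D) : G))) :=
      Nat.Coprime.coprime_dvd_right (hord ζ) hγ.2.symm
    have hzp := zpowers_pow_eq_of_coprime (((ζ : D) : G)) hcop
    have hzD' : Subgroup.zpowers ((((ζ : D) : G)) ^ γ) ≤ D := by rw [hzp]; exact hzD ζ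
    obtain ⟨e₂, he₂⟩ := sigma_eq_of_fst_eq hzp (f (((ζ : D) : G) ^ γ))
    have hchain : Relation.ReflTransGen (NormalSubpairRel p M)
        (⟨Subgroup.zpowers ((((ζ : D) : G)) ^ γ), f (((ζ : D) : G) ^ γ)⟩ : BrauerPairIdx G)
        ⟨D, e⟩ := (hf _ hzD').2
    rw [he₂] at hchain
    have he₂f : e₂ = f ((ζ : D) : G) :=
      subpairLE_unique hM D e hPe _ _ (le_refl _) e₂ _ hchain (hf _ (hzD ζ)).2
    rw [he₂f] at he₂
    exact congrArg (fun a : BrauerPairIdx G =>
      contribE p (Subgroup.centralizer ((a.1 : Subgroup G) : Set G)) (((ζ : D) : G) ^ γ) a.2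
        (χ : G → ℂ) (χ : G → ℂ)) he₂
  -- permuting the centre by powers
  have hperm : ∀ γ ∈ Γ, ∑ ζ : Subgroup.center D,
      (contribE p (Subgroup.centralizer
        ((Subgroup.zpowers ((((ζ : D) : G)) ^ γ) : Subgroup G) : Set G))
        (((ζ : D) : G) ^ γ) (f (((ζ : D) : G) ^ γ)) (χ : G → ℂ) (χ : G → ℂ)).re =
      ∑ ζ : Subgroup.center D,
        (contribE p (Subgroup.centralizer
          ((Subgroup.zpowers (((ζ : D) : G)) : Subgroup G) : Set G))
          ((ζ : D) : G) (f ((ζ : D) : G)) (χ : G → ℂ) (χ : G → ℂ)).re := by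
    intro γ hγ
    rw [hΓ, Finset.mem_filter] at hγ
    have hcardZ : Nat.card (Subgroup.center D) ∣ N := by
      have h1 := Subgroup.card_subgroup_dvd_card (Subgroup.center D)
      rw [hcardD] at h1
      exact h1
    have hcop : (Nat.card (Subgroup.center D)).Coprime γ :=
      Nat.Coprime.coprime_dvd_left hcardZ hγ.2
    exact Equiv.sum_comp (powCoprime hcop) (fun ζ : Subgroup.center D =>
      (contribE p (Subgroup.centralizer
          ((Subgroup.zpowers (((ζ : D) : G)) : Subgroup G) : Set G))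
          ((ζ : D) : G) (f ((ζ : D) : G)) (χ : G → ℂ) (χ : G → ℂ)).re)
  -- assemble
  set S : ℝ := ∑ ζ : Subgroup.center D,
        (contribE p (Subgroup.centralizer
          ((Subgroup.zpowers (((ζ : D) : G)) : Subgroup G) : Set G))
          ((ζ : D) : G) (f ((ζ : D) : G)) (χ : G → ℂ) (χ : G → ℂ)).re with hS
  have hre : ∀ w : ℂ, (((p ^ d : ℕ) : ℂ) * w).re = ((p ^ d : ℕ) : ℝ) * w.re := by
    intro w
    rw [← Complex.ofReal_natCast, Complex.re_ofReal_mul]
  have h1 : (N.totient : ℝ) * S = ∑ ζ : Subgroup.center D, ∑ γ ∈ Γ,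
      (contribE p (Subgroup.centralizer
        ((Subgroup.zpowers (((ζ : D) : G)) : Subgroup G) : Set G))
        (((ζ : D) : G) ^ γ) (f ((ζ : D) : G)) (χ : G → ℂ) (χ : G → ℂ)).re := by
    rw [Finset.sum_comm]
    have h2 : ∀ γ ∈ Γ, ∑ ζ : Subgroup.center D,
        (contribE p (Subgroup.centralizer
          ((Subgroup.zpowers (((ζ : D) : G)) : Subgroup G) : Set G))
          (((ζ : D) : G) ^ γ) (f ((ζ : D) : G)) (χ : G → ℂ) (χ : G → ℂ)).re = S := by
      intro γ hγ
      rw [← hperm γ hγ]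
      refine Finset.sum_congr rfl (fun ζ _ => ?_)
      rw [hGal ζ γ hγ]
    rw [Finset.sum_congr rfl h2, Finset.sum_const, hΓcard, nsmul_eq_mul]
  have h3 : (Nat.card (Subgroup.center D) : ℝ) * ((N.totient : ℝ) * ((p ^ h : ℕ) : ℝ)) ≤
      ((p ^ d : ℕ) : ℝ) * ((N.totient : ℝ) * S) := by
    rw [h1, Finset.mul_sum]
    have h4 : (Nat.card (Subgroup.center D) : ℝ) * ((N.totient : ℝ) * ((p ^ h : ℕ) : ℝ)) =
        ∑ ζ : Subgroup.center D, (N.totient : ℝ) * ((p ^ h : ℕ) : ℝ) := by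
      rw [Finset.sum_const, Finset.card_univ, nsmul_eq_mul, Nat.card_eq_fintype_card]
    rw [h4]
    refine Finset.sum_le_sum (fun ζ _ => ?_)
    refine le_trans (hL ζ) (le_of_eq ?_)
    rw [Finset.mul_sum]
    refine Finset.sum_congr rfl (fun γ _ => ?_)
    rw [hre]
  have h5 : (N.totient : ℝ) * ((Nat.card (Subgroup.center D) : ℝ) * ((p ^ h : ℕ) : ℝ)) ≤
      (N.totient : ℝ) * (((p ^ d : ℕ) : ℝ) * S) := by
    calc (N.totient : ℝ) * ((Nat.card (Subgroup.center D) : ℝ) * ((p ^ h : ℕ) : ℝ))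
        = (Nat.card (Subgroup.center D) : ℝ) * ((N.totient : ℝ) * ((p ^ h : ℕ) : ℝ)) := by ring
      _ ≤ ((p ^ d : ℕ) : ℝ) * ((N.totient : ℝ) * S) := h3
      _ = (N.totient : ℝ) * (((p ^ d : ℕ) : ℝ) * S) := by ring
  exact le_of_mul_le_mul_left h5 hφpos

open Classical in
/-- **The upper bound**: conjugate major subsections come from one orbit of the inertial group. -/
theorem center_upper_bound [Fact p.Prime] (hM : IsPModular p M) (B : Set (IrrCharacter G))
    (D : Subgroup G) (b : Set (IrrCharacter ↥(D ⊔ Subgroup.centralizer (D : Set G))))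
    (hb : IsPBlock M b) (T : Subgroup G)
    (hT : ∀ g : G, g ∈ T ↔ (g ∈ Subgroup.normalizer (D : Set G) ∧ ∀ θ ∈ b,
      ∀ θ' : IrrCharacter ↥(D ⊔ Subgroup.centralizer (D : Set G)),
        (∀ h h' : ↥(D ⊔ Subgroup.centralizer (D : Set G)), (h' : G) = g * h * g⁻¹ →
          (θ' : ↥(D ⊔ Subgroup.centralizer (D : Set G)) → ℂ) h' =
            (θ : ↥(D ⊔ Subgroup.centralizer (D : Set G)) → ℂ) h) → θ' ∈ b))
    (e : Set (IrrCharacter (Subgroup.centralizer (D : Set G))))
    (hbe : ∀ t : ↥(D ⊔ Subgroup.centralizer (D : Set G)), blockCoeff b t =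
      extFun (Subgroup.centralizer (D : Set G)) (blockCoeff e) (t : G))
    (hmax : IsMaximalBrauerPair p M B D e)
    [∀ S : Subgroup G, Fintype S]
    (f : (z : G) → Set (IrrCharacter (Subgroup.centralizer
      ((Subgroup.zpowers z : Subgroup G) : Set G))))
    (hf : ∀ z : G, Subgroup.zpowers z ≤ D → IsPBlock M (f z) ∧
      SubpairLE p M (Subgroup.zpowers z) (f z) D e)
    (χ : IrrCharacter G) :
    ∑ ζ : Subgroup.center D,
      (contribE p (Subgroup.centralizer ((Subgroup.zpowers (((ζ : D) : G)) : Subgroup G) : Set G))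
        ((ζ : D) : G) (f ((ζ : D) : G)) (χ : G → ℂ) (χ : G → ℂ)).re ≤
      (((D ⊔ Subgroup.centralizer (D : Set G)).relIndex T : ℕ) : ℝ) := by
  haveI hMp : M.IsPrime := IsPModular.isPrime hM
  have hpr : p.Prime := Fact.out
  have hPe : IsBrauerPair p M D e := hmax.1.1
  have hB : IsPBlock M B := hmax.1.2.1
  have hDdef : IsDefectGroup p M B D := isDefectGroup_of_isMaximalBrauerPair hM B D e hmax
  have hcardD := card_defectGroup hM hB D hDdef
  have hχcl := irr_isClassFunction χ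
  set E : ℕ := (D ⊔ Subgroup.centralizer (D : Set G)).relIndex T with hE
  -- elements of the centre
  have hzD : ∀ ζ : Subgroup.center D, Subgroup.zpowers (((ζ : D) : G)) ≤ D := by
    intro ζ
    rw [Subgroup.zpowers_le]
    exact (ζ : D).2
  have hcomm : ∀ ζ : Subgroup.center D, ∀ x ∈ D, x * ((ζ : D) : G) = ((ζ : D) : G) * x := by
    intro ζ x hx
    have := Subgroup.mem_center_iff.mp ζ.2 ⟨x, hx⟩
    exact congrArg Subtype.val this
  have hDz : ∀ ζ : Subgroup.center D,
      D ≤ Subgroup.centralizer ((Subgroup.zpowers (((ζ : D) : G)) : Subgroup G) : Set G) := by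
    intro ζ x hx
    rw [centralizer_zpowers_eq, Subgroup.mem_centralizer_singleton_iff]
    exact hcomm ζ x hx
  have hzp : ∀ ζ : Subgroup.center D, ∃ k : ℕ, orderOf (((ζ : D) : G)) = p ^ k := by
    intro ζ
    have h1 := orderOf_dvd_natCard (ζ : D)
    rw [hcardD, ← Subgroup.orderOf_coe] at h1
    obtain ⟨k, -, hk⟩ := (Nat.dvd_prime_pow hpr).1 h1
    exact ⟨k, hk⟩
  -- representatives
  obtain ⟨X, hX, hXrep⟩ := exists_pSection_reps (G := G) p
  have hex : ∀ ζ : Subgroup.center D, ∃ x : G, x ∈ X ∧ IsConj (((ζ : D) : G)) x :=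
    fun ζ => (hXrep _ (hzp ζ)).exists
  choose xr hxr using hex
  have hexg : ∀ ζ : Subgroup.center D, ∃ g : G, g * ((ζ : D) : G) * g⁻¹ = xr ζ :=
    fun ζ => isConj_iff.mp (hxr ζ).2
  choose gg hgg using hexg
  -- transported blocks and their contributions
  set tb : (x₀ : G) → Subgroup.center D → Set (IrrCharacter (Subgroup.centralizer ({x₀} : Set G))) :=
    fun x₀ ζ => transBlock (((ζ : D) : G)) x₀ (gg ζ) (f ((ζ : D) : G)) with htb
  set MM : (x₀ : G) → Set (IrrCharacter (Subgroup.centralizer ({x₀} : Set G))) → ℝ :=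
    fun x₀ β => (contribE p (Subgroup.centralizer ({x₀} : Set G)) x₀ β
      (χ : G → ℂ) (χ : G → ℂ)).re with hMM
  have hmm : ∀ ζ : Subgroup.center D,
      (contribE p (Subgroup.centralizer ((Subgroup.zpowers (((ζ : D) : G)) : Subgroup G) : Set G))
        ((ζ : D) : G) (f ((ζ : D) : G)) (χ : G → ℂ) (χ : G → ℂ)).re = MM (xr ζ) (tb (xr ζ) ζ) := by
    intro ζ
    show _ = (contribE p (Subgroup.centralizer ({xr ζ} : Set G)) (xr ζ)
      (transBlock (((ζ : D) : G)) (xr ζ) (gg ζ) (f ((ζ : D) : G))) (χ : G → ℂ) (χ : G → ℂ)).re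
    rw [contribE_transBlock _ _ _ (hgg ζ) _ hχcl hχcl]
  have hMMnn : ∀ x₀ ∈ X, ∀ β ∈ Helper77.blocksFinset M (Subgroup.centralizer ({x₀} : Set G)),
      0 ≤ MM x₀ β := by
    intro x₀ hx₀ β hβ
    rw [Helper77.mem_blocksFinset] at hβ
    have hrow := sum_contribE_row hM x₀ (hX x₀ hx₀) hβ χ
    show 0 ≤ (contribE p (Subgroup.centralizer ({x₀} : Set G)) x₀ β (χ : G → ℂ) (χ : G → ℂ)).re
    rw [← hrow, Complex.re_sum]
    refine Finset.sum_nonneg (fun ψ _ => ?_)
    rw [Complex.mul_conj, Complex.ofReal_re]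
    exact Complex.normSq_nonneg _
  have hBessel : ∑ x₀ ∈ X, ∑ β ∈ Helper77.blocksFinset M (Subgroup.centralizer ({x₀} : Set G)),
      MM x₀ β = 1 := by
    have h1 := sum_sections_contribE_self hM X hX hXrep χ
    have h2 := congrArg Complex.re h1
    rw [Complex.re_sum, Complex.one_re] at h2
    rw [← h2]
    refine Finset.sum_congr rfl (fun x₀ _ => ?_)
    rw [Complex.re_sum]
  -- the fibres
  have hfib : ∀ x₀ ∈ X, ∀ β : Set (IrrCharacter (Subgroup.centralizer ({x₀} : Set G))),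
      ((Finset.univ.filter (fun ζ : Subgroup.center D => xr ζ = x₀)).filter
        (fun ζ => tb x₀ ζ = β)).card ≤ E := by
    intro x₀ hx₀ β
    set Φ := (Finset.univ.filter (fun ζ : Subgroup.center D => xr ζ = x₀)).filter
        (fun ζ => tb x₀ ζ = β) with hΦ
    by_cases hne : Φ.Nonempty
    · obtain ⟨ζ₀, hζ₀⟩ := hne
      rw [hΦ, Finset.mem_filter, Finset.mem_filter] at hζ₀
      obtain ⟨⟨-, hx₀'⟩, hβ₀⟩ := hζ₀
      have hinj : Function.Injective (fun ζ : Subgroup.center D => ((ζ : D) : G)) := by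
        intro a b hab
        exact Subtype.ext (Subtype.ext hab)
      have hcard : Φ.card = (Φ.image (fun ζ : Subgroup.center D => ((ζ : D) : G))).card :=
        (Finset.card_image_of_injective _ hinj).symm
      rw [hcard]
      refine orbit_card_le _ T (((ζ₀ : D) : G)) ?_ _ ?_
      · -- `D C_G(D)` centralizes `z₀`
        have hle : D ⊔ Subgroup.centralizer (D : Set G) ≤
            Subgroup.centralizer ({((ζ₀ : D) : G)} : Set G) := by
          refine sup_le ?_ ?_
          · intro x hx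
            rw [Subgroup.mem_centralizer_singleton_iff]
            exact hcomm ζ₀ x hx
          · intro x hx
            rw [Subgroup.mem_centralizer_singleton_iff]
            rw [Subgroup.mem_centralizer_iff] at hx
            exact (hx _ (ζ₀ : D).2).symm
        intro y hy
        have := hle hy
        rwa [Subgroup.mem_centralizer_singleton_iff] at this
      · intro s hs
        rw [Finset.mem_image] at hs
        obtain ⟨ζ, hζ, rfl⟩ := hs
        rw [hΦ, Finset.mem_filter, Finset.mem_filter] at hζ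
        obtain ⟨⟨-, hxζ⟩, hβζ⟩ := hζ
        have hg₀ : gg ζ₀ * ((ζ₀ : D) : G) * (gg ζ₀)⁻¹ = x₀ := by rw [hgg ζ₀, hx₀']
        have hgζ : gg ζ * ((ζ : D) : G) * (gg ζ)⁻¹ = x₀ := by rw [hgg ζ, hxζ]
        have heq : transBlock (((ζ₀ : D) : G)) x₀ (gg ζ₀) (f ((ζ₀ : D) : G)) =
            transBlock (((ζ : D) : G)) x₀ (gg ζ) (f ((ζ : D) : G)) := by
          show tb x₀ ζ₀ = tb x₀ ζ
          rw [hβ₀, hβζ]
        have hconj := conjIdx_eq_of_transBlock_eq _ _ x₀ (gg ζ₀) (gg ζ) hg₀ hgζ _ _ heq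
        obtain ⟨t₁, ht₁, hfix⟩ := exists_stabilizer_conj hM B D e hmax _ _ _ _ (hDz ζ₀) (hzD ζ)
          (hDz ζ) (hf _ (hzD ζ)).1 (hf _ (hzD ζ₀)).2 (hf _ (hzD ζ)).2 _ hconj
        obtain ⟨hN, hstab⟩ := mem_stabilizer_of_conjIdx D e b hb hbe _ hfix
        refine ⟨t₁ * ((gg ζ)⁻¹ * gg ζ₀), (hT _).mpr ⟨hN, hstab⟩, ?_⟩
        have ht₁c : t₁ * ((ζ : D) : G) = ((ζ : D) : G) * t₁ := by
          have h1 : t₁ ∈ Subgroup.centralizer ({((ζ : D) : G)} : Set G) := by
            rw [← centralizer_zpowers_eq]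
            exact ht₁
          rw [Subgroup.mem_centralizer_singleton_iff] at h1
          exact h1
        have hz : ((ζ : D) : G) = (gg ζ)⁻¹ * x₀ * gg ζ := by rw [← hgζ]; group
        have hz₀ : (gg ζ)⁻¹ * gg ζ₀ * ((ζ₀ : D) : G) * ((gg ζ)⁻¹ * gg ζ₀)⁻¹ = ((ζ : D) : G) := by
          rw [hz, ← hg₀]
          group
        calc t₁ * ((gg ζ)⁻¹ * gg ζ₀) * ((ζ₀ : D) : G) * (t₁ * ((gg ζ)⁻¹ * gg ζ₀))⁻¹
            = t₁ * ((gg ζ)⁻¹ * gg ζ₀ * ((ζ₀ : D) : G) * ((gg ζ)⁻¹ * gg ζ₀)⁻¹) * t₁⁻¹ := by group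
          _ = t₁ * ((ζ : D) : G) * t₁⁻¹ := by rw [hz₀]
          _ = ((ζ : D) : G) := by rw [ht₁c]; group
    · rw [Finset.not_nonempty_iff_eq_empty] at hne
      rw [hne, Finset.card_empty]
      exact Nat.zero_le _
  -- per representative
  have hper : ∀ x₀ ∈ X,
      ∑ ζ ∈ Finset.univ.filter (fun ζ : Subgroup.center D => xr ζ = x₀), MM x₀ (tb x₀ ζ) ≤
      (E : ℝ) * ∑ β ∈ Helper77.blocksFinset M (Subgroup.centralizer ({x₀} : Set G)), MM x₀ β := by
    intro x₀ hx₀
    rw [Finset.sum_comp (MM x₀) (tb x₀)]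
    have himg : (Finset.univ.filter (fun ζ : Subgroup.center D => xr ζ = x₀)).image (tb x₀) ⊆
        Helper77.blocksFinset M (Subgroup.centralizer ({x₀} : Set G)) := by
      intro β hβ
      rw [Finset.mem_image] at hβ
      obtain ⟨ζ, hζ, rfl⟩ := hβ
      rw [Finset.mem_filter] at hζ
      rw [Helper77.mem_blocksFinset]
      exact isPBlock_transBlock _ _ _ (by rw [hgg ζ, hζ.2]) (hf _ (hzD ζ)).1
    calc ∑ β ∈ (Finset.univ.filter (fun ζ : Subgroup.center D => xr ζ = x₀)).image (tb x₀),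
          ((Finset.univ.filter (fun ζ : Subgroup.center D => xr ζ = x₀)).filter
            (fun ζ => tb x₀ ζ = β)).card • MM x₀ β
        ≤ ∑ β ∈ (Finset.univ.filter (fun ζ : Subgroup.center D => xr ζ = x₀)).image (tb x₀),
          (E : ℝ) * MM x₀ β := by
          refine Finset.sum_le_sum (fun β hβ => ?_)
          rw [nsmul_eq_mul]
          refine mul_le_mul_of_nonneg_right ?_ (hMMnn x₀ hx₀ β (himg hβ))
          exact_mod_cast hfib x₀ hx₀ β
      _ ≤ ∑ β ∈ Helper77.blocksFinset M (Subgroup.centralizer ({x₀} : Set G)),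
          (E : ℝ) * MM x₀ β := by
          refine Finset.sum_le_sum_of_subset_of_nonneg himg (fun β hβ _ => ?_)
          exact mul_nonneg (Nat.cast_nonneg _) (hMMnn x₀ hx₀ β hβ)
      _ = (E : ℝ) * ∑ β ∈ Helper77.blocksFinset M (Subgroup.centralizer ({x₀} : Set G)),
          MM x₀ β := (Finset.mul_sum _ _ _).symm
  calc ∑ ζ : Subgroup.center D,
      (contribE p (Subgroup.centralizer ((Subgroup.zpowers (((ζ : D) : G)) : Subgroup G) : Set G))
        ((ζ : D) : G) (f ((ζ : D) : G)) (χ : G → ℂ) (χ : G → ℂ)).re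
      = ∑ ζ : Subgroup.center D, MM (xr ζ) (tb (xr ζ) ζ) :=
        Finset.sum_congr rfl (fun ζ _ => hmm ζ)
    _ = ∑ x₀ ∈ X, ∑ ζ ∈ Finset.univ.filter (fun ζ : Subgroup.center D => xr ζ = x₀),
          MM (xr ζ) (tb (xr ζ) ζ) :=
        (Finset.sum_fiberwise_of_maps_to (fun ζ _ => (hxr ζ).1) _).symm
    _ = ∑ x₀ ∈ X, ∑ ζ ∈ Finset.univ.filter (fun ζ : Subgroup.center D => xr ζ = x₀),
          MM x₀ (tb x₀ ζ) := by
        refine Finset.sum_congr rfl (fun x₀ _ => Finset.sum_congr rfl (fun ζ hζ => ?_))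
        rw [(Finset.mem_filter.mp hζ).2]
    _ ≤ ∑ x₀ ∈ X, (E : ℝ) *
          ∑ β ∈ Helper77.blocksFinset M (Subgroup.centralizer ({x₀} : Set G)), MM x₀ β :=
        Finset.sum_le_sum hper
    _ = (E : ℝ) := by rw [← Finset.mul_sum, hBessel, mul_one]

/-- **Brauer's height bound**: `|Z(D)| p ^ h ≤ e p ^ d`. -/
theorem card_center_mul_pow_height_le [Fact p.Prime] (hM : IsPModular p M)
    (B : Set (IrrCharacter G)) (hB : IsPBlock M B) (D : Subgroup G)
    (hBD : IsDefectGroup p M B D)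
    (b : Set (IrrCharacter ↥(D ⊔ Subgroup.centralizer (D : Set G))))
    (hind : IsInducedBlock M (D ⊔ Subgroup.centralizer (D : Set G)) b B) (T : Subgroup G)
    (hT : ∀ g : G, g ∈ T ↔ (g ∈ Subgroup.normalizer (D : Set G) ∧ ∀ θ ∈ b,
      ∀ θ' : IrrCharacter ↥(D ⊔ Subgroup.centralizer (D : Set G)),
        (∀ h h' : ↥(D ⊔ Subgroup.centralizer (D : Set G)), (h' : G) = g * h * g⁻¹ →
          (θ' : ↥(D ⊔ Subgroup.centralizer (D : Set G)) → ℂ) h' =
            (θ : ↥(D ⊔ Subgroup.centralizer (D : Set G)) → ℂ) h) → θ' ∈ b))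
    (χ : IrrCharacter G) (hχ : χ ∈ B) :
    Nat.card (Subgroup.center D) * p ^ blockHeight p B (χ : G → ℂ) ≤
      (D ⊔ Subgroup.centralizer (D : Set G)).relIndex T * p ^ blockDefect p B := by
  classical
  haveI hMp : M.IsPrime := IsPModular.isPrime hM
  have hpr : p.Prime := Fact.out
  obtain ⟨e, he, hbe, hmax⟩ := exists_maximalPair_of_induced hM B hB D hBD b hind
  have hPe : IsBrauerPair p M D e := hmax.1.1
  haveI : ∀ S : Subgroup G, Fintype S := fun S => Fintype.ofFinite S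
  have hex : ∀ z : G, ∃ f : Set (IrrCharacter (Subgroup.centralizer
      ((Subgroup.zpowers z : Subgroup G) : Set G))),
      Subgroup.zpowers z ≤ D → IsPBlock M f ∧ SubpairLE p M (Subgroup.zpowers z) f D e := by
    intro z
    by_cases hz : Subgroup.zpowers z ≤ D
    · obtain ⟨f, ⟨hf, hle⟩, -⟩ := existsUnique_subpairLE hM D (Subgroup.zpowers z) e hPe hz
      exact ⟨f, fun _ => ⟨hf, hle⟩⟩
    · exact ⟨∅, fun h => absurd h hz⟩
  choose f hf using hex
  have hlow := center_lower_bound hM B D e hmax f hf χ hχ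
  have hup := center_upper_bound hM B D b hind.1 T hT e hbe hmax f hf χ
  have hpd : (0 : ℝ) ≤ ((p ^ blockDefect p B : ℕ) : ℝ) := Nat.cast_nonneg _
  have hfin : (Nat.card (Subgroup.center D) : ℝ) *
      ((p ^ blockHeight p B (χ : G → ℂ) : ℕ) : ℝ) ≤
      ((p ^ blockDefect p B : ℕ) : ℝ) *
        (((D ⊔ Subgroup.centralizer (D : Set G)).relIndex T : ℕ) : ℝ) :=
    le_trans hlow (mul_le_mul_of_nonneg_left hup hpd)
  have hfin' : ((Nat.card (Subgroup.center D) * p ^ blockHeight p B (χ : G → ℂ) : ℕ) : ℝ) ≤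
      (((D ⊔ Subgroup.centralizer (D : Set G)).relIndex T * p ^ blockDefect p B : ℕ) : ℝ) := by
    push_cast
    push_cast at hfin
    linarith
  exact_mod_cast hfin'

end Main

end Cfsg.Agent.Helper16
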