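import Cfsg.Agent.Helper16.CosetGrading
import Cfsg.Agent.Helper16.Covering2
import Cfsg.Agent.Helper16.UnionBlocks
import Cfsg.Agent.Helper78.FongReynolds

/-!
# The core of Knörr's theorem

(helper16.)  Let `N` be normal in `G`, `b` a block of `N` covered by the block `B` of `G`, and `Q ≤ N`
a `p`-subgroup such that the Brauer map at `Q` does not kill the idempotent of `b`.  Then the Brauer
map at `Q` does not kill the idempotent of `B` (`exists_centralizer_blockCoeff_not_memLocalIdeal`).

The proof is the graded nilpotency argument: were `Br_Q(e_B) = 0`, every product of pieces of `e_B`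
(with respect to the grading by `G/N`) of degree `1` would be a radical element of `Z(kN)`, so every
long product of pieces would vanish, and so would `e_B = e_B ^ L`.
-/

set_option autoImplicit false
set_option linter.unusedSectionVars false

namespace Cfsg.Agent.Helper16

open Cfsg

variable {G : Type*} [Group G] [Fintype G] {M : Ideal AlgInt} {p : ℕ}
variable (N : Subgroup G) [hN : N.Normal]

theorem extFun_eq_extendByZero (f : N → ℂ) : Helper77.extFun N f = extendByZero N f := by
  funext g
  by_cases hg : g ∈ N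
  · rw [Helper77.extFun_of_mem N f hg, Helper15.extendByZero_of_mem N f hg]
  · rw [Helper77.extFun_of_not_mem N f hg, Helper15.extendByZero_of_not_mem N f hg]

theorem suppCoset_extFun (f : N → ℂ) : SuppCoset N 1 (Helper77.extFun N f) := by
  intro g hg
  exact Helper77.extFun_of_not_mem N f (fun h => hg ((QuotientGroup.eq_one_iff g).mpr h))

theorem eq_zero_of_suppCoset_one {f : G → ℂ} (hf : SuppCoset N 1 f) {g : G} (hg : g ∉ N) :
    f g = 0 :=
  hf g (fun h => hg ((QuotientGroup.eq_one_iff g).mp h))

theorem extFun_deltaOne [Fintype N] :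
    Helper77.extFun N (deltaOne : N → ℂ) = (deltaOne : G → ℂ) := by
  classical
  funext g
  by_cases hg : g ∈ N
  · rw [Helper77.extFun_of_mem N _ hg]
    unfold deltaOne
    by_cases h1 : g = 1
    · subst h1
      have h2 : (⟨1, hg⟩ : N) = 1 := rfl
      rw [if_pos h2, if_pos rfl]
    · rw [if_neg h1, if_neg]
      intro h
      exact h1 (congrArg Subtype.val h)
  · rw [Helper77.extFun_of_not_mem N _ hg]
    unfold deltaOne
    rw [if_neg]
    rintro rfl
    exact hg N.one_mem

/-- A product of functions supported on `N` is the extension of the product of the restrictions. -/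
theorem convList_eq_extFun [Fintype N] (fs : List (G → ℂ)) (h : ∀ f ∈ fs, SuppCoset N 1 f) :
    convList fs = Helper77.extFun N (convList (fs.map (Helper77.resFun N))) := by
  induction fs with
  | nil => rw [List.map_nil, convList_nil, convList_nil, extFun_deltaOne]
  | cons a fs ih =>
    rw [List.map_cons, convList_cons, convList_cons, ← Helper77.extFun_conv,
      ← ih (fun f hf => h f (List.mem_cons_of_mem _ hf)),
      Helper77.extFun_resFun_of_support N a
        (fun g hg => eq_zero_of_suppCoset_one N (h a (List.mem_cons_self ..)) hg)]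

/-- If `X = X * X` and a property closed under sums holds for all products of `L ≥ 1` pieces of
`X`, it holds for `X`. -/
theorem of_forall_pieceProd [Fintype (G ⧸ N)] {X : G → ℂ} (hXX : conv X X = X) (L : ℕ) :
    ∀ (Pr : (G → ℂ) → Prop), Pr 0 → (∀ F F', Pr F → Pr F' → Pr (F + F')) →
      (∀ l : List (G ⧸ N), l.length = L + 1 → Pr (pieceProd N X l)) → Pr X := by
  classical
  have hsum : ∀ (Pr : (G → ℂ) → Prop), Pr 0 → (∀ F F', Pr F → Pr F' → Pr (F + F')) →
      ∀ (I : Finset (G ⧸ N)) (f : (G ⧸ N) → G → ℂ), (∀ γ, Pr (f γ)) → Pr (∑ γ ∈ I, f γ) := by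
    intro Pr h0 hadd I f hf
    induction I using Finset.induction_on with
    | empty => rw [Finset.sum_empty]; exact h0
    | insert γ I hγ ih => rw [Finset.sum_insert hγ]; exact hadd _ _ (hf γ) ih
  induction L with
  | zero =>
    intro Pr h0 hadd h
    rw [← sum_piece N X]
    apply hsum Pr h0 hadd
    intro γ
    have := h [γ] rfl
    rwa [pieceProd_cons, pieceProd_nil, Helper78.conv_deltaOne_right] at this
  | succ L ih =>
    intro Pr h0 hadd h
    have key := ih (fun F => Pr (conv X F)) (by
        show Pr (conv X 0)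
        rw [Helper77.conv_zero_right]; exact h0)
      (by
        intro F F' hF hF'
        show Pr (conv X (F + F'))
        rw [Helper78.conv_add_right]; exact hadd _ _ hF hF')
      (by
        intro l hl
        show Pr (conv X (pieceProd N X l))
        have e : conv X (pieceProd N X l) = ∑ γ : G ⧸ N, pieceProd N X (γ :: l) := by
          have e1 : conv X (pieceProd N X l) =
              conv (∑ γ : G ⧸ N, piece N X γ) (pieceProd N X l) := by rw [sum_piece N X]
          rw [e1, Helper77.conv_finset_sum_left]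
          rfl
        rw [e]
        apply hsum Pr h0 hadd
        intro γ
        exact h (γ :: l) (by rw [List.length_cons, hl]))
    have : Pr (conv X X) := key
    rwa [hXX] at this


/-- `e_B * e_O = e_B`, where `O` is the union of the conjugates of a block `b` covered by `B`. -/
theorem conv_blockCoeff_extFun_conjUnion [Fintype N] [hMp : M.IsPrime]
    {b : Set (IrrCharacter N)} (hb : IsPBlock M b) {B : Set (IrrCharacter G)} (hB : IsPBlock M B)
    (hcov : ∃ χ ∈ B, ∃ θ ∈ b, classInner (fun n : N => (χ : G → ℂ) n) (θ : N → ℂ) ≠ 0) :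
    conv (blockCoeff B) (Helper77.extFun N (blockCoeff (conjUnion N b))) = blockCoeff B := by
  classical
  have hO : GStable N (conjUnion N b) := gStable_conjUnion N b
  have hXcl : IsClassFunction G (blockCoeff B) := Helper77.blockCoeff_isClassFunction hB
  rw [extFun_eq_extendByZero]
  have hEcl : IsClassFunction G (extendByZero N (blockCoeff (conjUnion N b))) :=
    isClassFunction_extendByZero N (blockCoeff_conj_of_gStable N hO)
  apply classFunction_ext_omega (isClassFunction_conv hXcl hEcl) hXcl
  intro χ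
  rw [irr_omega_conv χ hXcl hEcl, Helper77.omega_blockCoeff hB χ, omega_ext_blockCoeff N χ hO]
  by_cases hχ : χ ∈ B
  · rw [if_pos hχ, one_mul, if_pos]
    obtain ⟨χ₀, hχ₀, θ, hθ, hne⟩ := hcov
    have h0 : LiesOver N (χ₀ : G → ℂ) (conjUnion N b) := ⟨θ, subset_conjUnion N b hθ, hne⟩
    exact (liesOver_iff_of_sameBlock N hO (memLocalRing_blockCoeff_conjUnion N hb)
      (Helper78.sameBlock_of_mem_of_mem hMp hB hχ₀ hχ)).mp h0
  · rw [if_neg hχ, zero_mul]

/-- A class function killed by the Brauer map at `Q` is killed by the Brauer map at every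
conjugate of `Q`. -/
theorem vanOn_map_conj {X : G → ℂ} (hX : IsClassFunction G X) {Q : Subgroup G}
    (hXV : VanOn M Q X) (g : G) : VanOn M (Q.map (MulAut.conj g).toMonoidHom) X := by
  intro c hc
  have h1 : g⁻¹ * c * g ∈ Subgroup.centralizer (Q : Set G) := by
    rw [Subgroup.mem_centralizer_iff]
    intro q hq
    have h2 := (Subgroup.mem_centralizer_iff.mp hc) (g * q * g⁻¹)
      (Subgroup.mem_map.mpr ⟨q, hq, by simp [MulAut.conj_apply]⟩)
    have h3 : g⁻¹ * (g * q * g⁻¹ * c) * g = g⁻¹ * (c * (g * q * g⁻¹)) * g := by rw [h2]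
    have e1 : g⁻¹ * (g * q * g⁻¹ * c) * g = q * (g⁻¹ * c * g) := by group
    have e2 : g⁻¹ * (c * (g * q * g⁻¹)) * g = g⁻¹ * c * g * q := by group
    rw [e1, e2] at h3
    exact h3
  have h4 := hXV _ h1
  have h5 := hX (g⁻¹ * c * g) g
  have e : g * (g⁻¹ * c * g) * g⁻¹ = c := by group
  rw [e] at h5
  rw [h5]
  exact h4

theorem map_conj_le_of_normal {Q : Subgroup G} (hQN : Q ≤ N) (g : G) :
    Q.map (MulAut.conj g).toMonoidHom ≤ N := by
  rintro _ ⟨q, hq, rfl⟩
  show g * q * g⁻¹ ∈ N
  exact hN.conj_mem q (hQN hq) g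

/-- **Degree-one products of pieces are radical.** -/
theorem isRadCentral_resFun_pieceProd [Fintype N] [Fact p.Prime] (hM : IsPModular p M)
    {b : Set (IrrCharacter N)} (hb : IsPBlock M b)
    {Q : Subgroup G} (hQ : IsPGroup p Q) (hQN : Q ≤ N)
    (x₀ : N) (hx₀Q : (x₀ : G) ∈ Subgroup.centralizer (Q : Set G))
    (hx₀ : ¬ MemLocalIdeal M (blockCoeff b x₀))
    {X : G → ℂ} (hXcl : IsClassFunction G X) (hXR : RValued M X)
    (hXE : conv X (Helper77.extFun N (blockCoeff (conjUnion N b))) = X)
    (hXV : VanOn M Q X) {s : List (G ⧸ N)} (hs : s ≠ []) (hsprod : s.prod = 1) :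
    IsRadCentral M (Helper77.resFun N (pieceProd N X s)) := by
  classical
  haveI hMp : M.IsPrime := IsPModular.isPrime hM
  have hXN : Helper77.InvUnder (N : Set G) X := Helper77.invUnder_of_isClassFunction hXcl _
  set Y : G → ℂ := pieceProd N X s with hYdef
  set y : N → ℂ := Helper77.resFun N Y with hydef
  have hYsupp : SuppCoset N 1 Y := by
    have := suppCoset_pieceProd N X s
    rwa [hsprod] at this
  have hYext : Helper77.extFun N y = Y :=
    Helper77.extFun_resFun_of_support N Y (fun g hg => eq_zero_of_suppCoset_one N hYsupp hg)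
  have hYN : Helper77.InvUnder (N : Set G) Y := invUnder_pieceProd N hXN s
  have hycl : IsClassFunction N y := Helper77.isClassFunction_resFun hYN
  have hYR : RValued M Y := rValued_pieceProd N hXR s
  have hyR : RValued M y := fun n => hYR (n : G)
  set O : Set (IrrCharacter N) := conjUnion N b with hOdef
  have heOcl : IsClassFunction N (blockCoeff O) := isClassFunction_blockCoeff O
  have hyO : conv y (blockCoeff O) = y := by
    apply Helper77.extFun_injective N
    rw [← Helper77.extFun_conv, hYext]
    exact pieceProd_conv_of_supp N (suppCoset_extFun N _) hXE hs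
  refine ⟨hycl, hyR, ?_⟩
  intro φ
  have h1 : omega (φ : N → ℂ) y = omega (φ : N → ℂ) y * (if φ ∈ O then 1 else 0) := by
    conv_lhs => rw [← hyO]
    rw [irr_omega_conv φ hycl heOcl, omega_blockCoeff O φ]
  by_cases hφO : φ ∈ O
  · obtain ⟨g, hg⟩ := hφO
    set b' : Set (IrrCharacter N) := Helper78.conjBlk N g⁻¹ b with hb'def
    have hφb' : φ ∈ b' := by
      show irrConj N g⁻¹⁻¹ φ ∈ b
      rw [inv_inv]
      exact hg
    have hb' : IsPBlock M b' := Helper78.isPBlock_conjBlk N g⁻¹ hb
    set x' : N := ⟨g * (x₀ : G) * g⁻¹, hN.conj_mem (x₀ : G) x₀.2 g⟩ with hx'def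
    have hx' : ¬ MemLocalIdeal M (blockCoeff b' x') := by
      rw [hb'def, ← Helper78.blockCoeff_conj_eq_conjBlk N g⁻¹ b x']
      have e : (⟨g⁻¹ * (x' : G) * g⁻¹⁻¹, hN.conj_mem (x' : G) x'.2 g⁻¹⟩ : N) = x₀ := by
        apply Subtype.ext
        show g⁻¹ * (g * (x₀ : G) * g⁻¹) * g⁻¹⁻¹ = (x₀ : G)
        group
      rw [e]
      exact hx₀
    set Qg : Subgroup G := Q.map (MulAut.conj g).toMonoidHom with hQgdef
    have hQg : IsPGroup p Qg := hQ.map _
    have hQgN : Qg ≤ N := map_conj_le_of_normal N hQN g
    set P' : Subgroup N := Qg.subgroupOf N with hP'def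
    have hP' : IsPGroup p P' := hQg.comap_subtype
    have hx'P : x' ∈ Subgroup.centralizer (P' : Set N) := by
      rw [Subgroup.mem_centralizer_iff]
      intro h hh
      have hh' : (h : G) ∈ Qg := hh
      obtain ⟨q, hq, hqh⟩ := Subgroup.mem_map.mp hh'
      have hqx := (Subgroup.mem_centralizer_iff.mp hx₀Q) q hq
      apply Subtype.ext
      show (h : G) * (g * (x₀ : G) * g⁻¹) = g * (x₀ : G) * g⁻¹ * (h : G)
      rw [← hqh]
      show g * q * g⁻¹ * (g * (x₀ : G) * g⁻¹) = g * (x₀ : G) * g⁻¹ * (g * q * g⁻¹)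
      have e1 : g * q * g⁻¹ * (g * (x₀ : G) * g⁻¹) = g * (q * (x₀ : G)) * g⁻¹ := by group
      have e2 : g * (x₀ : G) * g⁻¹ * (g * q * g⁻¹) = g * ((x₀ : G) * q) * g⁻¹ := by group
      rw [e1, e2, hqx]
    have hYV : VanOn M Qg Y :=
      vanOn_pieceProd N hM hQg hQgN hXR hXN (vanOn_map_conj hXcl hXV g) hs
    have hyV : VanOn M P' y := by
      intro c hc
      apply hYV (c : G)
      rw [Subgroup.mem_centralizer_iff]
      intro h hh
      have hhN : h ∈ N := hQgN hh
      have := (Subgroup.mem_centralizer_iff.mp hc) ⟨h, hhN⟩ hh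
      exact congrArg Subtype.val this
    exact omega_memLocalIdeal_of_vanOn hM hb' P' hP' x' hx'P hx' y hycl hyR hyV φ hφb'
  · rw [h1, if_neg hφO, mul_zero]
    exact memLocalIdeal_zero


/-- Long products of pieces vanish modulo the local ideal. -/
theorem jValued_pieceProd_long [Fintype N] [Fintype (G ⧸ N)] [Fact p.Prime]
    (hM : IsPModular p M)
    {b : Set (IrrCharacter N)} (hb : IsPBlock M b)
    {Q : Subgroup G} (hQ : IsPGroup p Q) (hQN : Q ≤ N)
    (x₀ : N) (hx₀Q : (x₀ : G) ∈ Subgroup.centralizer (Q : Set G))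
    (hx₀ : ¬ MemLocalIdeal M (blockCoeff b x₀))
    {X : G → ℂ} (hXcl : IsClassFunction G X) (hXR : RValued M X)
    (hXE : conv X (Helper77.extFun N (blockCoeff (conjUnion N b))) = X)
    (hXV : VanOn M Q X) (l : List (G ⧸ N))
    (hl : Fintype.card (G ⧸ N) * (Finset.univ : Finset (IrrCharacter N)).toList.length ≤ l.length) :
    Helper78.JValued M (pieceProd N X l) := by
  classical
  haveI hMp : M.IsPrime := IsPModular.isPrime hM
  have hXN : Helper77.InvUnder (N : Set G) X := Helper77.invUnder_of_isClassFunction hXcl _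
  obtain ⟨ss, R, hlen, hss, hRR, hRN, hprod⟩ := exists_front_segments N hXR hXN _ l hl
  rw [hprod]
  apply jValued_conv_left' _ hRR
  rw [convList_eq_extFun N]
  · intro g
    apply Helper77.extFun_memLocalIdeal N
    apply jValued_convList_of_isRadCentral
    · rw [List.length_map, List.length_map, hlen]
    · intro d hd
      obtain ⟨f, hf, rfl⟩ := List.mem_map.mp hd
      obtain ⟨s, hs, rfl⟩ := List.mem_map.mp hf
      exact isRadCentral_resFun_pieceProd N hM hb hQ hQN x₀ hx₀Q hx₀ hXcl hXR hXE hXV
        (hss s hs).1 (hss s hs).2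
  · intro f hf
    obtain ⟨s, hs, rfl⟩ := List.mem_map.mp hf
    have := suppCoset_pieceProd N X s
    rwa [(hss s hs).2] at this

/-- **The core of Knörr's theorem.**  If the block `B` of `G` covers the block `b` of the normal
subgroup `N` and the Brauer map at the `p`-subgroup `Q ≤ N` does not kill the idempotent of `b`,
then it does not kill the idempotent of `B`. -/
theorem exists_centralizer_blockCoeff_not_memLocalIdeal [Fintype N] [Fact p.Prime]
    (hM : IsPModular p M)
    {b : Set (IrrCharacter N)} (hb : IsPBlock M b) {B : Set (IrrCharacter G)} (hB : IsPBlock M B)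
    (hcov : ∃ χ ∈ B, ∃ θ ∈ b, classInner (fun n : N => (χ : G → ℂ) n) (θ : N → ℂ) ≠ 0)
    {Q : Subgroup G} (hQ : IsPGroup p Q) (hQN : Q ≤ N)
    (x₀ : N) (hx₀Q : (x₀ : G) ∈ Subgroup.centralizer (Q : Set G))
    (hx₀ : ¬ MemLocalIdeal M (blockCoeff b x₀)) :
    ∃ g : G, g ∈ Subgroup.centralizer (Q : Set G) ∧ ¬ MemLocalIdeal M (blockCoeff B g) := by
  classical
  haveI hMp : M.IsPrime := IsPModular.isPrime hM
  haveI : Fintype (G ⧸ N) := Fintype.ofFinite _
  by_contra hcon
  have hXV : VanOn M Q (blockCoeff B) := by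
    intro c hc
    by_contra h
    exact hcon ⟨c, hc, h⟩
  have hXcl : IsClassFunction G (blockCoeff B) := Helper77.blockCoeff_isClassFunction hB
  have hXR : RValued M (blockCoeff B) := Helper77.blockCoeff_memLocalRing hB
  have hXX : conv (blockCoeff B) (blockCoeff B) = blockCoeff B := Helper77.blockCoeff_conv_self hB
  have hXE := conv_blockCoeff_extFun_conjUnion N hb hB hcov
  have hJ : Helper78.JValued M (blockCoeff B) := by
    refine of_forall_pieceProd N hXX
      (Fintype.card (G ⧸ N) * (Finset.univ : Finset (IrrCharacter N)).toList.length)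
      (Helper78.JValued M) jValued_zero' (fun F F' hF hF' => jValued_add' hF hF') ?_
    intro l hl
    exact jValued_pieceProd_long N hM hb hQ hQN x₀ hx₀Q hx₀ hXcl hXR hXE hXV l
      (by rw [hl]; exact Nat.le_succ _)
  obtain ⟨χ₀, rfl⟩ := hB
  obtain ⟨g, hg⟩ := exists_defectClass (M := M) χ₀
  exact hg.2.1 (hJ g)

end Cfsg.Agent.Helper16
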