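import Cfsg.Agent.Helper16.KnorrDefect
import Cfsg.Agent.Helper81.NormalAction
import Cfsg.Agent.S0966

/-!
# Stabilizers of covered blocks and `p`-power overgroups

(helper16.)  Let `N ≤ L` be normal in `G` with `L/N` a `p`-group, `B` a block of `G` with a defect
group contained in `N`, and `c` a block of `N` covered by `B`.  Then the stabilizer of `c` meets `L`
in `N`.
-/

set_option autoImplicit false
set_option linter.unusedSectionVars false

namespace Cfsg.Agent.Helper16

open Cfsg

section Variant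

variable {G : Type*} [Group G] [Fintype G] {M : Ideal AlgInt} {p : ℕ}
variable (N : Subgroup G) [hN : N.Normal] [Fintype N]

/-- The core of Knörr's theorem, with the covering hypothesis in idempotent form. -/
theorem exists_centralizer_blockCoeff_not_memLocalIdeal_of_conv [Fact p.Prime]
    (hM : IsPModular p M)
    {b : Set (IrrCharacter N)} (hb : IsPBlock M b) {B : Set (IrrCharacter G)} (hB : IsPBlock M B)
    (hXE : conv (blockCoeff B) (Helper77.extFun N (blockCoeff (conjUnion N b))) = blockCoeff B)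
    {Q : Subgroup G} (hQ : IsPGroup p Q) (hQN : Q ≤ N)
    (x₀ : N) (hx₀Q : (x₀ : G) ∈ Subgroup.centralizer (Q : Set G))
    (hx₀ : ¬ MemLocalIdeal M (blockCoeff b x₀)) :
    ∃ g : G, g ∈ Subgroup.centralizer (Q : Set G) ∧ ¬ MemLocalIdeal M (blockCoeff B g) := by
  classical
  haveI hMp : M.IsPrime := IsPModular.isPrime hM
  haveI : Fintype (G ⧸ N) := Fintype.ofFinite _
  by_contra hcon
  have hXV : VanOn M Q (blockCoeff B) := by
    intro c hc
    by_contra h
    exact hcon ⟨c, hc, h⟩
  have hXcl : IsClassFunction G (blockCoeff B) := Helper77.blockCoeff_isClassFunction hB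
  have hXR : RValued M (blockCoeff B) := Helper77.blockCoeff_memLocalRing hB
  have hXX : conv (blockCoeff B) (blockCoeff B) = blockCoeff B := Helper77.blockCoeff_conv_self hB
  have hJ : Helper78.JValued M (blockCoeff B) := by
    refine of_forall_pieceProd N hXX
      (Fintype.card (G ⧸ N) * (Finset.univ : Finset (IrrCharacter N)).toList.length)
      (Helper78.JValued M) jValued_zero' (fun F F' hF hF' => jValued_add' hF hF') ?_
    intro l hl
    exact jValued_pieceProd_long N hM hb hQ hQN x₀ hx₀Q hx₀ hXcl hXR hXE hXV l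
      (by rw [hl]; exact Nat.le_succ _)
  obtain ⟨χ₀, rfl⟩ := hB
  obtain ⟨g, hg⟩ := exists_defectClass (M := M) χ₀
  exact hg.2.1 (hJ g)

/-- `e_O * e_b = e_b` for the union `O` of the conjugates of `b`. -/
theorem conv_extFun_conjUnion_extFun [hMp : M.IsPrime] {b : Set (IrrCharacter N)}
    (hb : IsPBlock M b) :
    conv (Helper77.extFun N (blockCoeff (conjUnion N b))) (Helper77.extFun N (blockCoeff b)) =
      Helper77.extFun N (blockCoeff b) := by
  classical
  rw [Helper77.extFun_conv]
  congr 1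
  apply classFunction_ext_omega
    (isClassFunction_conv (isClassFunction_blockCoeff _) (isClassFunction_blockCoeff _))
    (isClassFunction_blockCoeff _)
  intro φ
  rw [irr_omega_conv φ (isClassFunction_blockCoeff _) (isClassFunction_blockCoeff _),
    omega_blockCoeff, omega_blockCoeff]
  by_cases hφ : φ ∈ b
  · rw [if_pos hφ, if_pos (subset_conjUnion N b hφ), mul_one]
  · rw [if_neg hφ, mul_zero]

/-- If `e_B * e_b ≠ 0` then `e_B * e_O = e_B`. -/
theorem conv_blockCoeff_extFun_conjUnion_of_ne_zero [hMp : M.IsPrime]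
    {b : Set (IrrCharacter N)} (hb : IsPBlock M b) {B : Set (IrrCharacter G)} (hB : IsPBlock M B)
    (hne : conv (blockCoeff B) (Helper77.extFun N (blockCoeff b)) ≠ 0) :
    conv (blockCoeff B) (Helper77.extFun N (blockCoeff (conjUnion N b))) = blockCoeff B := by
  classical
  have hO : GStable N (conjUnion N b) := gStable_conjUnion N b
  have hXcl : IsClassFunction G (blockCoeff B) := Helper77.blockCoeff_isClassFunction hB
  have hEcl : IsClassFunction G (extendByZero N (blockCoeff (conjUnion N b))) :=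
    isClassFunction_extendByZero N (blockCoeff_conj_of_gStable N hO)
  by_cases h : ∃ χ₀ ∈ B, LiesOver N (χ₀ : G → ℂ) (conjUnion N b)
  · obtain ⟨χ₀, hχ₀, h0⟩ := h
    rw [extFun_eq_extendByZero]
    apply classFunction_ext_omega (isClassFunction_conv hXcl hEcl) hXcl
    intro χ
    rw [irr_omega_conv χ hXcl hEcl, Helper77.omega_blockCoeff hB χ, omega_ext_blockCoeff N χ hO]
    by_cases hχ : χ ∈ B
    · rw [if_pos hχ, one_mul, if_pos]
      exact (liesOver_iff_of_sameBlock N hO (memLocalRing_blockCoeff_conjUnion N hb)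
        (Helper78.sameBlock_of_mem_of_mem hMp hB hχ₀ hχ)).mp h0
    · rw [if_neg hχ, zero_mul]
  · exfalso
    apply hne
    have h0 : conv (blockCoeff B) (Helper77.extFun N (blockCoeff (conjUnion N b))) = 0 := by
      rw [extFun_eq_extendByZero]
      apply classFunction_ext_omega (isClassFunction_conv hXcl hEcl) isClassFunction_zero
      intro χ
      rw [irr_omega_conv χ hXcl hEcl, Helper77.omega_blockCoeff hB χ,
        omega_ext_blockCoeff N χ hO, omega_zero]
      by_cases hχ : χ ∈ B
      · rw [if_pos hχ, one_mul, if_neg]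
        intro hl
        exact h ⟨χ, hχ, hl⟩
      · rw [if_neg hχ, zero_mul]
    rw [← conv_extFun_conjUnion_extFun N hb, ← conv_assoc, h0, Helper77.conv_zero_left]

/-- If `B` covers `b` then `e_B * e_b ≠ 0`. -/
theorem conv_blockCoeff_extFun_ne_zero [hMp : M.IsPrime]
    {b : Set (IrrCharacter N)} {B : Set (IrrCharacter G)} (hB : IsPBlock M B)
    (hcov : ∃ χ ∈ B, ∃ θ ∈ b, classInner (fun n : N => (χ : G → ℂ) n) (θ : N → ℂ) ≠ 0) :
    conv (blockCoeff B) (Helper77.extFun N (blockCoeff b)) ≠ 0 := by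
  classical
  obtain ⟨χ, hχ, θ₀, hθ₀, hne⟩ := hcov
  intro h0
  have hXcl : IsClassFunction G (blockCoeff B) := Helper77.blockCoeff_isClassFunction hB
  -- the functional `Φ(F) = ∑ F(g) χ(g)`
  have hΦ : ∑ g : G, conv (blockCoeff B) (Helper77.extFun N (blockCoeff b)) g * (χ : G → ℂ) g =
      ∑ y : G, Helper77.extFun N (blockCoeff b) y * (χ : G → ℂ) y := by
    simp only [conv_apply, Finset.sum_mul]
    rw [Finset.sum_comm]
    calc ∑ x : G, ∑ g : G, blockCoeff B x * Helper77.extFun N (blockCoeff b) (x⁻¹ * g) *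
          (χ : G → ℂ) g
        = ∑ x : G, ∑ y : G, blockCoeff B x * Helper77.extFun N (blockCoeff b) y *
          (χ : G → ℂ) (x * y) := by
          refine Finset.sum_congr rfl (fun x _ => ?_)
          rw [← Equiv.sum_comp (Equiv.mulLeft x)]
          refine Finset.sum_congr rfl (fun y _ => ?_)
          show blockCoeff B x * Helper77.extFun N (blockCoeff b) (x⁻¹ * (x * y)) *
            (χ : G → ℂ) (x * y) = _
          rw [inv_mul_cancel_left]
      _ = ∑ y : G, Helper77.extFun N (blockCoeff b) y *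
            ∑ x : G, blockCoeff B x * (χ : G → ℂ) (y * x) := by
          rw [Finset.sum_comm]
          refine Finset.sum_congr rfl (fun y _ => ?_)
          rw [Finset.mul_sum]
          refine Finset.sum_congr rfl (fun x _ => ?_)
          have hcl : (χ : G → ℂ) (x * y) = (χ : G → ℂ) (y * x) := by
            have := irr_isClassFunction χ (x * y) y
            rw [← this]
            congr 1
            group
          rw [hcl]
          ring
      _ = ∑ y : G, Helper77.extFun N (blockCoeff b) y * (χ : G → ℂ) y := by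
          refine Finset.sum_congr rfl (fun y _ => ?_)
          rw [Helper78.sum_mul_irr_mul χ hXcl y, Helper77.omega_blockCoeff hB χ, if_pos hχ,
            one_mul]
  rw [h0] at hΦ
  simp only [Pi.zero_apply, zero_mul, Finset.sum_const_zero] at hΦ
  rw [extFun_eq_extendByZero, Helper15.sum_extendByZero_mul,
    sum_blockCoeff_mul b (fun n : N => (χ : G → ℂ) n)] at hΦ
  -- positivity
  have hψN : IsCharacter N (fun n : N => (χ : G → ℂ) n) :=
    Helper74.isCharacter_restrict N (Helper74.isCharacter_of_isIrr χ.2)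
  choose m hm using fun θ : IrrCharacter N =>
    Helper15.isCharacter_inner_nat hψN (Helper74.irr_isCharacter θ)
  choose d hd using fun θ : IrrCharacter N => Helper15.irr_degree_pos θ.2
  have hsum : ∑ θ : IrrCharacter N, (if θ ∈ b then (1 : ℂ) else 0) * (θ : N → ℂ) 1 *
      classInner (fun n : N => (χ : G → ℂ) n) (θ : N → ℂ) =
      ((∑ θ : IrrCharacter N, (if θ ∈ b then 1 else 0) * d θ * m θ : ℕ) : ℂ) := by
    push_cast
    refine Finset.sum_congr rfl (fun θ _ => ?_)
    rw [hm θ, (hd θ).2]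
  rw [hsum] at hΦ
  have h0' : ∑ θ : IrrCharacter N, (if θ ∈ b then 1 else 0) * d θ * m θ = 0 := by
    exact_mod_cast hΦ.symm
  have h1 := (Finset.sum_eq_zero_iff.mp h0') θ₀ (Finset.mem_univ _)
  rw [if_pos hθ₀, one_mul] at h1
  rcases Nat.mul_eq_zero.mp h1 with h2 | h2
  · exact (hd θ₀).1.ne' h2
  · apply hne
    rw [hm θ₀, h2]
    simp

end Variant

section PElement

variable {G : Type*} [Group G] [Finite G]

/-- In a `p`-power extension `L` of a normal subgroup `N`, an element of `L` outside `N` has a power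
which is a `p`-element outside `N`. -/
theorem exists_pow_prime_order_not_mem (p : ℕ) [hp : Fact p.Prime] (N L : Subgroup G) [N.Normal]
    (hLN : ∃ k : ℕ, (N.subgroupOf L).index = p ^ k) {y : G} (hyL : y ∈ L) (hyN : y ∉ N) :
    ∃ m : ℕ, (∃ e : ℕ, orderOf (y ^ m) = p ^ e) ∧ y ^ m ∉ N := by
  have ho : orderOf y ≠ 0 := (orderOf_pos y).ne'
  obtain ⟨e, m, hm, ho'⟩ := Nat.exists_eq_pow_mul_and_not_dvd ho p hp.out.ne_one
  have hm0 : m ≠ 0 := by
    rintro rfl
    exact hm (dvd_zero p)
  refine ⟨m, ⟨e, ?_⟩, ?_⟩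
  · rw [orderOf_pow_of_dvd hm0 (by rw [ho']; exact Dvd.intro_left _ rfl), ho',
      Nat.mul_div_cancel _ (Nat.pos_of_ne_zero hm0)]
  · intro h
    obtain ⟨k, hk⟩ := hLN
    have h1 : y ^ (p ^ k) ∈ N := by
      have := Subgroup.pow_index_mem (N.subgroupOf L) (⟨y, hyL⟩ : L)
      rw [hk] at this
      exact this
    have hcop : Nat.Coprime m (p ^ k) :=
      Nat.Coprime.pow_right k ((Nat.Prime.coprime_iff_not_dvd hp.out).mpr hm).symm
    have hb := Int.gcd_eq_gcd_ab (m : ℤ) ((p ^ k : ℕ) : ℤ)
    have hg : Int.gcd (m : ℤ) ((p ^ k : ℕ) : ℤ) = 1 := by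
      rw [Int.gcd_natCast_natCast]
      exact hcop
    rw [hg] at hb
    apply hyN
    have h2 : y = (y ^ m) ^ (Int.gcdA (m : ℤ) ((p ^ k : ℕ) : ℤ)) *
        (y ^ (p ^ k)) ^ (Int.gcdB (m : ℤ) ((p ^ k : ℕ) : ℤ)) := by
      rw [← zpow_natCast y m, ← zpow_natCast y (p ^ k), ← zpow_mul, ← zpow_mul, ← zpow_add, ← hb]
      simp
    rw [h2]
    exact N.mul_mem (N.zpow_mem h _) (N.zpow_mem h1 _)

theorem isPGroup_zpowers_of_orderOf (p : ℕ) [hp : Fact p.Prime] {z : G} {e : ℕ}
    (hz : orderOf z = p ^ e) : IsPGroup p (Subgroup.zpowers z) := by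
  apply IsPGroup.of_card (n := e)
  rw [Nat.card_zpowers, hz]

end PElement

section FixedModJ

variable {M : Ideal AlgInt}

/-- The fixed point principle for functions invariant modulo the local ideal. -/
theorem exists_fixed_of_sum_not_memLocalIdeal_of_congr {p : ℕ} [Fact p.Prime] [M.IsPrime]
    (hpM : (p : AlgInt) ∈ M)
    {Γ X : Type*} [Group Γ] [MulAction Γ X] [Fintype X] (hΓ : IsPGroup p Γ)
    (f : X → ℂ) (hfS : ∀ x, MemLocalRing M (f x))
    (hinv : ∀ (u : Γ) (x : X), MemLocalIdeal M (f (u • x) - f x))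
    (hsum : ¬ MemLocalIdeal M (∑ x, f x)) :
    ∃ x, (∀ u : Γ, u • x = x) ∧ ¬ MemLocalIdeal M (f x) := by
  classical
  by_contra hcon
  apply hsum
  rw [Finset.sum_partition (MulAction.orbitRel Γ X)]
  refine memLocalIdeal_sum _ _ (fun xbar _ => ?_)
  induction xbar using Quotient.inductionOn with
  | h x =>
    have hmem : ∀ y, y ∈ Finset.univ.filter
        (fun y => (⟦y⟧ : Quotient (MulAction.orbitRel Γ X)) = ⟦x⟧) ↔
        y ∈ MulAction.orbit Γ x := by
      intro y
      simp only [Finset.mem_filter, Finset.mem_univ, true_and]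
      rw [Quotient.eq]
      exact MulAction.orbitRel_apply
    have hsplit : ∑ y ∈ Finset.univ.filter
        (fun y => (⟦y⟧ : Quotient (MulAction.orbitRel Γ X)) = ⟦x⟧), f y =
        ∑ y ∈ Finset.univ.filter
          (fun y => (⟦y⟧ : Quotient (MulAction.orbitRel Γ X)) = ⟦x⟧), (f y - f x) +
        ((Finset.univ.filter
          (fun y => (⟦y⟧ : Quotient (MulAction.orbitRel Γ X)) = ⟦x⟧)).card : ℂ) * f x := by
      rw [Finset.sum_sub_distrib, Finset.sum_const, nsmul_eq_mul]
      ring
    rw [hsplit]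
    refine memLocalIdeal_add (memLocalIdeal_sum _ _ (fun y hy => ?_)) ?_
    · obtain ⟨u, rfl⟩ := (hmem y).mp hy
      exact hinv u x
    · have hcard : (Finset.univ.filter
          (fun y => (⟦y⟧ : Quotient (MulAction.orbitRel Γ X)) = ⟦x⟧)).card =
          Nat.card (MulAction.orbit Γ x) := by
        rw [Nat.card_eq_fintype_card, ← Set.toFinset_card]
        congr 1
        ext y
        rw [hmem y, Set.mem_toFinset]
      obtain ⟨n, hn⟩ := hΓ.card_orbit x
      rw [hcard, hn]
      cases n with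
      | zero =>
        rw [pow_zero, Nat.cast_one, one_mul]
        by_contra hfx
        apply hcon
        refine ⟨x, ?_, hfx⟩
        intro u
        have h1 : Nat.card (MulAction.orbit Γ x) = 1 := by rw [hn, pow_zero]
        have hsub : Subsingleton (MulAction.orbit Γ x) := (Nat.card_eq_one_iff_unique.mp h1).1
        have := Subsingleton.elim (⟨u • x, MulAction.mem_orbit x u⟩ : MulAction.orbit Γ x)
          ⟨x, MulAction.mem_orbit_self x⟩
        exact congrArg Subtype.val this
      | succ n =>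
        rw [pow_succ, Nat.cast_mul, mul_assoc]
        exact memLocalIdeal_mul_left (memLocalRing_natCast _)
          (memLocalIdeal_mul_right (memLocalIdeal_prime hpM) (hfS x))

end FixedModJ

section FixedClass

variable {G : Type*} [Group G] [Fintype G] {M : Ideal AlgInt} {p : ℕ}
variable (N : Subgroup G) [hN : N.Normal] [Fintype N]

/-- A `p`-subgroup stabilizing the block `c` of the normal subgroup `N` fixes an `N`-class on which
the idempotent of `c` has a unit coefficient. -/
theorem exists_fixed_class_blockCoeff [Fact p.Prime] (hM : IsPModular p M)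
    {c : Set (IrrCharacter N)} (hc : IsPBlock M c) {S : Subgroup G} (hS : IsPGroup p S)
    (hstab : ∀ u ∈ S, ∀ θ : IrrCharacter N, irrConj N u θ ∈ c ↔ θ ∈ c) :
    ∃ k : N, ¬ MemLocalIdeal M (blockCoeff c k) ∧
      ∀ u ∈ S, ∃ n : N, u * (k : G) * u⁻¹ = (n : G) * (k : G) * (n : G)⁻¹ := by
  classical
  haveI hMp : M.IsPrime := IsPModular.isPrime hM
  haveI : Fintype (ConjClasses N) := Fintype.ofFinite _
  obtain ⟨θ₀, hθ₀⟩ := Helper78.isPBlock_nonempty hMp hc
  letI actG : MulAction G (ConjClasses N) := Helper81.clsMulAction N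
  have hecl : IsClassFunction N (blockCoeff c) := isClassFunction_blockCoeff c
  let F : N → ℂ := fun k => blockCoeff c k * centralChar (θ₀ : N → ℂ) k
  let f : ConjClasses N → ℂ := fun C => F (classRep C)
  have hFconj : ∀ {a b : N}, IsConj a b → F a = F b := by
    intro a b hab
    show blockCoeff c a * centralChar (θ₀ : N → ℂ) a = blockCoeff c b * centralChar (θ₀ : N → ℂ) b
    rw [isClassFunction_eq_of_isConj hecl hab,
      centralChar_of_isConj (irr_isClassFunction θ₀) hab]
  have hfmk : ∀ k : N, f (ConjClasses.mk k) = F k := fun k => hFconj (isConj_classRep_mk k)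
  have hfR : ∀ C, MemLocalRing M (f C) := fun C =>
    memLocalRing_mul (Helper77.blockCoeff_memLocalRing hc _) (centralChar_memLocalRing θ₀ _)
  have hinv : ∀ (u : S) (C : ConjClasses N), MemLocalIdeal M (f (u • C) - f C) := by
    intro u C
    obtain ⟨k, rfl⟩ := ConjClasses.exists_rep C
    have h1 : (u • ConjClasses.mk k : ConjClasses N) =
        ConjClasses.mk ⟨(u : G) * k * (u : G)⁻¹, hN.conj_mem (k : G) k.2 (u : G)⟩ :=
      Helper81.clsMulAction_smul_mk N (u : G) k
    rw [h1, hfmk, hfmk]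
    show MemLocalIdeal M (blockCoeff c ⟨(u : G) * k * (u : G)⁻¹, _⟩ *
      centralChar (θ₀ : N → ℂ) ⟨(u : G) * k * (u : G)⁻¹, _⟩ -
      blockCoeff c k * centralChar (θ₀ : N → ℂ) k)
    rw [Helper78.blockCoeff_conj_of_iff N (O := c) (O' := c) (u : G) (hstab (u : G) u.2) k,
      ← centralChar_conjFun N (u : G) (θ₀ : N → ℂ) k, ← mul_sub]
    refine memLocalIdeal_mul_left (Helper77.blockCoeff_memLocalRing hc _) ?_
    have hmem : irrConj N (u : G) θ₀ ∈ c := (hstab (u : G) u.2 θ₀).mpr hθ₀
    have hsame : SameBlock M ((irrConj N (u : G) θ₀ : IrrCharacter N) : N → ℂ) (θ₀ : N → ℂ) :=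
      Helper78.sameBlock_of_mem_of_mem hMp hc hmem hθ₀
    exact hsame k
  have hsum : ¬ MemLocalIdeal M (∑ C : ConjClasses N, f C) := by
    have e : ∑ C : ConjClasses N, f C = omega (θ₀ : N → ℂ) (blockCoeff c) := by
      rw [omega_eq_sum_classes' _ _ (irr_isClassFunction θ₀) hecl]
    rw [e, omega_blockCoeff c θ₀, if_pos hθ₀]
    exact not_memLocalIdeal_one
  obtain ⟨C, hfix, hC⟩ :=
    exists_fixed_of_sum_not_memLocalIdeal_of_congr hM.2.2 hS f hfR hinv hsum
  refine ⟨classRep C, ?_, ?_⟩
  · intro h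
    apply hC
    exact memLocalIdeal_mul_right h (centralChar_memLocalRing θ₀ _)
  · intro u hu
    have h1 := hfix ⟨u, hu⟩
    have h2 : ((⟨u, hu⟩ : S) • ConjClasses.mk (classRep C) : ConjClasses N) =
        ConjClasses.mk ⟨u * (classRep C : N) * u⁻¹, hN.conj_mem _ (classRep C).2 u⟩ :=
      Helper81.clsMulAction_smul_mk N u (classRep C)
    rw [mk_classRep] at h2
    rw [h2] at h1
    have h3 : IsConj (classRep C)
        (⟨u * (classRep C : N) * u⁻¹, hN.conj_mem _ (classRep C).2 u⟩ : N) := by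
      rw [← ConjClasses.mk_eq_mk_iff_isConj, h1, mk_classRep]
    obtain ⟨n, hn⟩ := isConj_iff.mp h3
    refine ⟨n, ?_⟩
    have := congrArg Subtype.val hn
    simpa using this.symm

end FixedClass

section Main

variable {G : Type*} [Group G] [Fintype G] {M : Ideal AlgInt} {p : ℕ}

/-- From `StabilizesBlock` for `t⁻¹` to membership of the conjugate by `t`. -/
theorem irrConj_mem_of_stabilizesBlock_inv (N : Subgroup G) [hN : N.Normal]
    {c : Set (IrrCharacter N)} {t : G} (hst : StabilizesBlock N c t⁻¹) {θ : IrrCharacter N}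
    (hθ : θ ∈ c) : irrConj N t θ ∈ c := by
  obtain ⟨θ', hθ', hconj⟩ := hst.2 θ hθ
  have : irrConj N t θ = θ' := by
    apply Subtype.ext
    funext n
    rw [irrConj_coe, Helper15.conjFun_apply]
    symm
    exact hconj ⟨t * n * t⁻¹, hN.conj_mem (n : G) n.2 t⟩ n (by simp [mul_assoc])
  rw [this]
  exact hθ'

/-- **Stabilizers of covered blocks and `p`-power overgroups.** -/
theorem stabilizer_inf_eq_of_defectGroup_le [Fact p.Prime] (hM : IsPModular p M)
    (N L : Subgroup G) [hN : N.Normal] [hL : L.Normal] [Fintype N] (hNL : N ≤ L)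
    (hLN : ∃ k : ℕ, (N.subgroupOf L).index = p ^ k)
    {B : Set (IrrCharacter G)} (hB : IsPBlock M B) {c : Set (IrrCharacter N)} (hc : IsPBlock M c)
    (hcov : ∃ χ ∈ B, ∃ θ ∈ c, classInner (fun n : N => (χ : G → ℂ) n) (θ : N → ℂ) ≠ 0)
    (hD : ∃ D : Subgroup G, IsDefectGroup p M B D ∧ D ≤ N)
    (T : Subgroup G) (hT : ∀ x : G, x ∈ T ↔ StabilizesBlock N c x) : T ⊓ L = N := by
  classical
  haveI hMp : M.IsPrime := IsPModular.isPrime hM
  haveI : Fintype L := Fintype.ofFinite _
  -- `N ≤ T`
  have hNT : N ≤ T := by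
    intro n hn
    rw [hT]
    refine ⟨by rw [Subgroup.normalizer_eq_top]; exact Subgroup.mem_top n, fun χ hχ => ?_⟩
    refine ⟨χ, hχ, fun k k' hkk' => ?_⟩
    have h1 := irr_isClassFunction χ k ⟨n, hn⟩
    rw [← h1]
    refine congrArg (χ : N → ℂ) (Subtype.ext ?_)
    rw [hkk']
    simp
  -- the stabilizer property in `irrConj` form
  have hstabT : ∀ t ∈ T, ∀ θ : IrrCharacter N, irrConj N t θ ∈ c ↔ θ ∈ c := by
    intro t ht θ
    constructor
    · intro h
      have h1 : StabilizesBlock N c (t⁻¹)⁻¹ := by rw [inv_inv]; exact (hT t).mp ht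
      have h2 := irrConj_mem_of_stabilizesBlock_inv N h1 h
      rwa [irrConj_irrConj, mul_inv_cancel, irrConj_one] at h2
    · intro h
      exact irrConj_mem_of_stabilizesBlock_inv N ((hT t⁻¹).mp (T.inv_mem ht)) h
  apply le_antisymm _ (le_inf hNT hNL)
  by_contra hnot
  obtain ⟨x, hxTL, hxN⟩ := SetLike.not_le_iff_exists.mp hnot
  -- a `p`-element `z ∈ T ⊓ L` outside `N`
  obtain ⟨m, ⟨e, hze⟩, hzN⟩ := exists_pow_prime_order_not_mem p N L hLN hxTL.2 hxN
  set z := x ^ m with hzdef
  have hzTL : z ∈ T ⊓ L := (T ⊓ L).pow_mem hxTL m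
  have hSp : IsPGroup p (Subgroup.zpowers z) := isPGroup_zpowers_of_orderOf p hze
  have hSle : Subgroup.zpowers z ≤ T ⊓ L := (Subgroup.zpowers_le).mpr hzTL
  obtain ⟨k, hk, hkfix⟩ := exists_fixed_class_blockCoeff N hM hc hSp
    (fun u hu => hstabT u (hSle hu).1)
  obtain ⟨n, hn⟩ := hkfix z (Subgroup.mem_zpowers z)
  -- `y = n⁻¹ z` centralizes `k`
  set y : G := (n : G)⁻¹ * z with hydef
  have hyTL : y ∈ T ⊓ L :=
    (T ⊓ L).mul_mem ((T ⊓ L).inv_mem (le_inf hNT hNL n.2)) hzTL
  have hyN : y ∉ N := by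
    intro h
    apply hzN
    have := N.mul_mem n.2 h
    rwa [hydef, mul_inv_cancel_left] at this
  have hyk : y * (k : G) = (k : G) * y := by
    have h1 : z * (k : G) = (n : G) * (k : G) * (n : G)⁻¹ * z := by
      rw [← hn]; group
    rw [hydef, mul_assoc, h1]
    group
  obtain ⟨m', ⟨e', hz'e⟩, hz'N⟩ := exists_pow_prime_order_not_mem p N L hLN hyTL.2 hyN
  set z' := y ^ m' with hz'def
  have hz'TL : z' ∈ T ⊓ L := (T ⊓ L).pow_mem hyTL m'
  have hz'k : z' * (k : G) = (k : G) * z' := by
    have hc' : Commute y (k : G) := hyk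
    exact (hc'.pow_left m').eq
  set R : Subgroup G := Subgroup.zpowers z' with hRdef
  have hRp : IsPGroup p R := isPGroup_zpowers_of_orderOf p hz'e
  have hRle : R ≤ T ⊓ L := (Subgroup.zpowers_le).mpr hz'TL
  have hRL : R ≤ L := fun r hr => (hRle hr).2
  have hRk : (k : G) ∈ Subgroup.centralizer (R : Set G) := by
    rw [Subgroup.mem_centralizer_iff]
    intro r hr
    obtain ⟨i, rfl⟩ := Subgroup.mem_zpowers_iff.mp hr
    have hc' : Commute z' (k : G) := hz'k
    exact (hc'.zpow_left i).eq
  -- the block `E` of `L` covering `c`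
  have hLnorm : L ≤ Subgroup.normalizer (N : Set G) := by
    rw [Subgroup.normalizer_eq_top]; exact le_top
  have hsupp : ∀ E' : Set (IrrCharacter L), IsPBlock M E' →
      ∀ t : L, (t : G) ∉ N → blockCoeff E' t = 0 := by
    intro E' hE' t ht
    have hpd : p ∣ orderOf t :=
      Cfsg.Agent.S0966.dvd_orderOf_of_not_mem (N.subgroupOf L) hLN
        (fun h => ht (Subgroup.mem_subgroupOf.mp h))
    exact Helper77.blockCoeff_eq_zero_of_dvd_orderOf hM hE' t hpd
  obtain ⟨E, hE, hEcoef⟩ := Helper77.exists_covering_block L N hNL hLnorm c hc hsupp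
  set FE : G → ℂ := Helper77.orbitSum L N hLnorm c with hFEdef
  set Fc : G → ℂ := Helper77.extFun N (blockCoeff c) with hFcdef
  have hFEeq : Helper77.extFun L (blockCoeff E) = FE := by
    funext g
    by_cases hg : g ∈ L
    · rw [Helper77.extFun_of_mem L _ hg, hEcoef ⟨g, hg⟩]
    · rw [Helper77.extFun_of_not_mem L _ hg, hFEdef,
        Helper77.orbitSum_of_not_mem L N hLnorm c (fun h => hg (hNL h))]
  have h1 : conv FE Fc = Fc :=
    Helper77.orbitSum_conv_extFun L N hLnorm hc (Helper77.self_mem_orbitFinset L N hLnorm c)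
  have hFER : RValued M FE := Helper77.orbitSum_memLocalRing L N hLnorm hc
  have hFcR : RValued M Fc := Helper77.extFun_memLocalRing N (Helper77.blockCoeff_memLocalRing hc)
  have hFEinv : Helper77.InvUnder (R : Set G) FE :=
    (Helper77.invUnder_orbitSum L N hLnorm c).mono (fun r hr => hRL hr)
  have hFcinv : Helper77.InvUnder (R : Set G) Fc :=
    Helper77.invUnder_extFun_blockCoeff_of_stabilizes N R c
      (fun r hr => (hT r).mp (hRle hr).1)
  -- the Brauer map at `R` does not kill the idempotent of `E`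
  obtain ⟨x₀, hx₀R, hx₀⟩ : ∃ x₀ : L, (x₀ : G) ∈ Subgroup.centralizer (R : Set G) ∧
      ¬ MemLocalIdeal M (blockCoeff E x₀) := by
    by_contra hcon
    have hV : VanOn M R FE := by
      intro c' hc'
      by_contra h
      have hc'N : c' ∈ N := by
        by_contra hN'
        apply h
        rw [hFEdef, Helper77.orbitSum_of_not_mem L N hLnorm c hN']
        exact memLocalIdeal_zero
      apply hcon
      refine ⟨⟨c', hNL hc'N⟩, hc', ?_⟩
      rw [hEcoef]
      exact h
    have hV2 := vanOn_conv_left hM hRp hFER hFcR hFEinv hFcinv hV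
    rw [h1] at hV2
    apply hk
    have := hV2 (k : G) hRk
    rwa [hFcdef, Helper77.extFun_coe] at this
  -- `B` covers `E`, in idempotent form
  have hne_c : conv (blockCoeff B) Fc ≠ 0 := conv_blockCoeff_extFun_ne_zero N hB hcov
  have hne_E : conv (blockCoeff B) (Helper77.extFun L (blockCoeff E)) ≠ 0 := by
    intro h
    apply hne_c
    rw [← h1, ← conv_assoc, ← hFEeq, h, Helper77.conv_zero_left]
  have hXE := conv_blockCoeff_extFun_conjUnion_of_ne_zero L hE hB hne_E
  obtain ⟨g, hgR, hg⟩ := exists_centralizer_blockCoeff_not_memLocalIdeal_of_conv L hM hE hB hXE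
    hRp hRL x₀ hx₀R hx₀
  obtain ⟨D, hDdef, hDN⟩ := hD
  have hRg : R ≤ Subgroup.centralizer ({g} : Set G) := by
    intro r hr
    rw [Subgroup.mem_centralizer_singleton_iff]
    exact (Subgroup.mem_centralizer_iff.mp hgR) r hr
  obtain ⟨y', hy'⟩ := exists_conj_defectGroup_ge_of_blockCoeff hM hB hDdef hg hRp hRg
  apply hz'N
  have hz'R : z' ∈ R := Subgroup.mem_zpowers z'
  obtain ⟨d, hd, hdz⟩ := Subgroup.mem_map.mp (hy' hz'R)
  rw [← hdz]
  show y' * d * y'⁻¹ ∈ N
  exact hN.conj_mem d (hDN hd) y'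

end Main

end Cfsg.Agent.Helper16
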