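import Cfsg.Agent.Helper16.KulshammerCount
import Cfsg.Agent.Helper77.DefectOrder
import Cfsg.Agent.Helper74.DegP

/-!
# Characters vanishing on the elements of order `p` have defect zero (Knörr)

(helper16.)  A ring-theoretic proof in the style of Külshammer.  Let `Θ` be the sum of the elements
`x` with `x^p = 1`.  If `χ` vanishes on the elements of order `p`, then `ω_χ(Θ) = 1`, so `Θ e_B` is
a unit of the centre of the block `B` of `χ`: `Θ w ≡ e_B` modulo the local ideal for a central `w`.
On the other hand `λ(Θ b)^p ≡ λ(b^p)` for all `b` (rotation of tuples), where `λ` is the coefficient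
at `1`.  Applied to `b = w (u - 1) x` with `u` of order `p` and `x ∈ C_G(u)` (so `b^p ≡ 0`) this
gives `e_B((ux)⁻¹) ≡ e_B(x⁻¹)`; as `e_B` vanishes on `p`-singular elements, `e_B(s) ≡ 0` for every
`p`-regular `s` whose centralizer has order divisible by `p`.  Hence the defect classes of `B` have
`p'`-centralizers and `B` has defect zero.
-/

set_option autoImplicit false
set_option linter.unusedSectionVars false

namespace Cfsg.Agent.Helper16

open Cfsg

universe u

namespace CAlg

variable {G : Type u} [Group G] [Fintype G] {M : Ideal AlgInt}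

/-- The subring of class functions (the centre of the group algebra). -/
def clSub : Subring (CAlg G) where
  carrier := {a | IsClassFunction G (fn a)}
  mul_mem' := fun ha hb => isClassFunction_conv ha hb
  one_mem' := isClassFunction_deltaOne
  add_mem' := fun ha hb => isClassFunction_add ha hb
  zero_mem' := isClassFunction_zero
  neg_mem' := fun {a} ha => by
    have : fn (-a) = (-1 : ℂ) • fn a := by
      funext g
      show -(fn a g) = (-1 : ℂ) * fn a g
      ring
    show IsClassFunction G (fn (-a))
    rw [this]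
    exact isClassFunction_smul _ ha

theorem mem_clSub {a : CAlg G} : a ∈ clSub (G := G) ↔ IsClassFunction G (fn a) := Iff.rfl

/-- A central element of the local group ring which is congruent to `1` on a block `B` has an
inverse on `B` modulo the local ideal. -/
theorem exists_mul_sub_blockCoeff_jValued [hMp : M.IsPrime] {B : Set (IrrCharacter G)}
    (hB : IsPBlock M B) {T : CAlg G} (hTcl : IsClassFunction G (fn T)) (hTR : RValued M (fn T))
    (hT : ∀ ψ ∈ B, MemLocalIdeal M (omega ((ψ : IrrCharacter G) : G → ℂ) (fn T) - 1)) :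
    ∃ w : CAlg G, RValued M (fn w) ∧ IsClassFunction G (fn w) ∧
      Helper78.JValued M (fn (T * w - of (blockCoeff B))) := by
  classical
  set E : CAlg G := of (blockCoeff B) with hE
  have hEcl : IsClassFunction G (fn E) := Helper77.blockCoeff_isClassFunction hB
  have hER : RValued M (fn E) := fun x => Helper77.blockCoeff_memLocalRing hB x
  have hEE : E * E = E := Helper77.blockCoeff_conv_self hB
  set n : CAlg G := (1 - T) * E with hn
  have h1T : (1 - T) ∈ clSub (G := G) := sub_mem (one_mem _) (mem_clSub.mpr hTcl)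
  have h1TR : (1 - T) ∈ rSub (G := G) M := sub_mem (one_mem _) (mem_rSub.mpr hTR)
  have hncl : IsClassFunction G (fn n) := mem_clSub.mp (mul_mem h1T (mem_clSub.mpr hEcl))
  have hnR : RValued M (fn n) := mem_rSub.mp (mul_mem h1TR (mem_rSub.mpr hER))
  have hnrad : IsRadCentral M (fn n) := by
    refine ⟨hncl, hnR, fun φ => ?_⟩
    have e1 : fn n = conv (fn (1 - T)) (blockCoeff B) := rfl
    have hEcl' : IsClassFunction G (blockCoeff B) := hEcl
    rw [e1, irr_omega_conv φ (mem_clSub.mp h1T) hEcl', omega_blockCoeff]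
    by_cases hφ : φ ∈ B
    · rw [if_pos hφ, mul_one]
      have e2 : fn (1 - T) = deltaOne - fn T := rfl
      rw [e2, omega_sub, omega_deltaOne _ (irr_one_ne_zero φ)]
      have := memLocalIdeal_neg (hT φ hφ)
      rwa [neg_sub] at this
    · rw [if_neg hφ, mul_zero]
      exact memLocalIdeal_zero
  set N := (Finset.univ : Finset (IrrCharacter G)).toList.length with hN
  set S : CAlg G := ∑ i ∈ Finset.range N, n ^ i with hS
  have hScl : S ∈ clSub (G := G) := sum_mem (fun i _ => pow_mem (mem_clSub.mpr hncl) i)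
  have hSR : S ∈ rSub (G := G) M := sum_mem (fun i _ => pow_mem (mem_rSub.mpr hnR) i)
  refine ⟨E * S, mem_rSub.mp (mul_mem (mem_rSub.mpr hER) hSR),
    mem_clSub.mp (mul_mem (mem_clSub.mpr hEcl) hScl), ?_⟩
  have hcE : Commute E (1 - T) := commute_of_isClassFunction hEcl _
  have hEn : E * n = n := by
    rw [hn, ← mul_assoc, hcE.eq, mul_assoc, hEE]
  have hTE : T * E = E * (1 - n) := by
    rw [mul_sub, mul_one, hEn, hn, sub_mul, one_mul]
    abel
  have h2 : T * (E * S) - E = -(E * n ^ N) := by
    rw [← mul_assoc, hTE, mul_assoc, hS, mul_neg_geom_sum, mul_sub, mul_one]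
    abel
  rw [h2]
  have hJ := jValued_pow_of_isRadCentral hnrad (le_refl N)
  intro g
  have e3 : fn (-(E * n ^ N)) g = -(conv (fn E) (fn (n ^ N)) g) := rfl
  rw [e3]
  exact memLocalIdeal_neg (jValued_conv_right' hER hJ g)

end CAlg

section Adjoint

variable {G : Type u} [Group G] [Fintype G] [DecidableEq G] {M : Ideal AlgInt}

open CAlg

/-- Frobenius for finite sums in a commutative ring. -/
theorem exists_sum_pow_prime_eq {R : Type*} [CommRing R] {ι : Type*} [DecidableEq ι] {p : ℕ}
    (hp : p.Prime) (s : Finset ι) (f : ι → R) :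
    ∃ r : R, (∑ i ∈ s, f i) ^ p = ∑ i ∈ s, f i ^ p + (p : R) * r := by
  induction s using Finset.induction_on with
  | empty =>
    refine ⟨0, ?_⟩
    rw [Finset.sum_empty, Finset.sum_empty, zero_pow hp.ne_zero, mul_zero, add_zero]
  | insert a s ha ih =>
    obtain ⟨r, hr⟩ := ih
    obtain ⟨r', hr'⟩ := exists_add_pow_prime_eq hp (f a) (∑ i ∈ s, f i)
    refine ⟨r + f a * (∑ i ∈ s, f i) * r', ?_⟩
    rw [Finset.sum_insert ha, Finset.sum_insert ha, hr', hr]
    ring

/-- **The adjoint of the `p`-power map.**  If the coefficient at `1` of `b^p` lies in the local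
ideal, then so does the sum of the coefficients of `b` at the elements `g` with `g^p = 1`. -/
theorem memLocalIdeal_sum_of_pow {p : ℕ} [Fact p.Prime] (hM : IsPModular p M)
    [hMp : M.IsPrime]
    (hWB1 : ∀ (b : G → ℂ) (n : ℕ) (g : G), Helper77.convPow b n g =
      ∑ v : Fin n → G, if (List.ofFn v).prod = g then ∏ i, b (v i) else 0)
    (hWB2 : ∀ b : G → ↥(Helper77.localRing M), ∃ r : ↥(Helper77.localRing M),
      (∑ v : Fin p → G, if (List.ofFn v).prod = 1 then ∏ i, b (v i) else 0) =
        (∑ g ∈ Finset.univ.filter (fun g : G => g ^ p = 1), b g ^ p) +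
          (p : ↥(Helper77.localRing M)) * r)
    {b : CAlg G} (hb : RValued M (fn b)) (hbp : MemLocalIdeal M (fn (b ^ p) 1)) :
    MemLocalIdeal M (∑ g ∈ Finset.univ.filter (fun g : G => g ^ p = 1), fn b g) := by
  have hp : p.Prime := Fact.out
  set F := Finset.univ.filter (fun g : G => g ^ p = 1) with hF
  let b' : G → ↥(Helper77.localRing M) := fun g => ⟨fn b g, hb g⟩
  obtain ⟨r₂, hr₂⟩ := hWB2 b'
  obtain ⟨r₁, hr₁⟩ := exists_sum_pow_prime_eq hp F b'
  -- transport both identities to `ℂ`
  have hr₂' := congrArg (Subring.subtype (Helper77.localRing M)) hr₂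
  have hr₁' := congrArg (Subring.subtype (Helper77.localRing M)) hr₁
  simp only [map_sum, map_add, map_mul, map_pow, map_natCast, map_prod, apply_ite,
    map_zero] at hr₂' hr₁'
  have hb'v : ∀ g, (Subring.subtype (Helper77.localRing M)) (b' g) = fn b g := fun g => rfl
  simp only [hb'v] at hr₂' hr₁'
  have hconv : fn (b ^ p) 1 =
      ∑ v : Fin p → G, if (List.ofFn v).prod = 1 then ∏ i, fn b (v i) else 0 := by
    rw [fn_pow, hWB1]
  rw [← hconv] at hr₂'
  -- `t ^ p ∈ J`
  have htp : MemLocalIdeal M ((∑ g ∈ F, fn b g) ^ p) := by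
    rw [hr₁']
    have e : ∑ g ∈ F, fn b g ^ p = fn (b ^ p) 1 -
        (p : ℂ) * (Subring.subtype (Helper77.localRing M)) r₂ := by
      rw [hr₂']; ring
    rw [e]
    have hpJ : MemLocalIdeal M (p : ℂ) := Helper77.memLocalIdeal_p hM
    exact memLocalIdeal_add (memLocalIdeal_sub hbp (memLocalIdeal_mul_right hpJ r₂.2))
      (memLocalIdeal_mul_right hpJ r₁.2)
  have htR : MemLocalRing M (∑ g ∈ F, fn b g) := memLocalRing_sum _ _ (fun g _ => hb g)
  exact Helper77.memLocalIdeal_of_pow M htR htp

end Adjoint

section Key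

variable {G : Type u} [Group G] [Fintype G] [DecidableEq G] {M : Ideal AlgInt}

open CAlg

/-- The sum of the elements `x` with `x ^ p = 1`. -/
def thetaP (p : ℕ) : CAlg G := of (fun x : G => if x ^ p = 1 then (1 : ℂ) else 0)

theorem fn_thetaP (p : ℕ) (x : G) : fn (thetaP p : CAlg G) x = if x ^ p = 1 then (1 : ℂ) else 0 :=
  rfl

theorem isClassFunction_thetaP (p : ℕ) : IsClassFunction G (fn (thetaP p : CAlg G)) := by
  intro g h
  rw [fn_thetaP, fn_thetaP]
  have : (h * g * h⁻¹) ^ p = 1 ↔ g ^ p = 1 := by
    rw [conj_pow]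
    constructor
    · intro h1
      have := congrArg (fun y => h⁻¹ * y * h) h1
      simpa [mul_assoc] using this
    · intro h1
      rw [h1]; group
  simp only [this]

theorem rValued_thetaP [M.IsPrime] (p : ℕ) : RValued M (fn (thetaP p : CAlg G)) := by
  intro x
  rw [fn_thetaP]
  split_ifs
  · exact memLocalRing_one
  · exact memLocalRing_zero

/-- The coefficient at `1` of `Θ b` is the sum of the coefficients of `b` at the `g` with
`g ^ p = 1`. -/
theorem fn_thetaP_mul_one (p : ℕ) (b : CAlg G) :
    fn (thetaP p * b) 1 = ∑ g ∈ Finset.univ.filter (fun g : G => g ^ p = 1), fn b g := by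
  rw [fn_mul, conv_apply, Finset.sum_filter]
  refine Finset.sum_bij' (fun y _ => y⁻¹) (fun y _ => y⁻¹) (fun _ _ => Finset.mem_univ _)
    (fun _ _ => Finset.mem_univ _) (fun _ _ => inv_inv _) (fun _ _ => inv_inv _) ?_
  intro y _
  rw [fn_thetaP, mul_one]
  have : y⁻¹ ^ p = 1 ↔ y ^ p = 1 := by rw [inv_pow, inv_eq_one]
  by_cases hy : y ^ p = 1
  · rw [if_pos hy, if_pos (this.mpr hy), one_mul]
  · rw [if_neg hy, if_neg (fun h => hy (this.mp h)), zero_mul]

/-- `(u - 1)^p ≡ 0` for `u` with `u ^ p = 1`. -/
theorem jValued_single_sub_one_pow {p : ℕ} [Fact p.Prime] (hM : IsPModular p M) {u : G}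
    (hu : u ^ p = 1) : Helper78.JValued M (fn ((single u - 1 : CAlg G) ^ p)) := by
  haveI hMp : M.IsPrime := IsPModular.isPrime hM
  have hp : p.Prime := Fact.out
  have hsR : RValued M (fn (single u : CAlg G)) := by
    intro x
    rw [fn_single]
    split_ifs
    · exact memLocalRing_one
    · exact memLocalRing_zero
  have h1R : RValued M (fn (-1 : CAlg G)) := mem_rSub.mp (neg_mem (one_mem _))
  have hc : Commute (single u : CAlg G) (-1) := (Commute.one_right _).neg_right
  have hF := jValued_add_pow_sub hM hsR h1R hc 1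
  rw [pow_one, single_pow, hu, single_one] at hF
  have e0 : (single u - 1 : CAlg G) = single u + -1 := sub_eq_add_neg _ _
  rw [e0]
  rcases hp.eq_two_or_odd' with h2 | hodd
  · -- `p = 2`
    subst h2
    have e1 : ((single u + -1 : CAlg G)) ^ 2 =
        ((single u + -1 : CAlg G) ^ 2 - 1 - (-1) ^ 2) + ((2 : ℕ) : CAlg G) * 1 := by
      have h2 : (2 : CAlg G) = 1 + 1 := one_add_one_eq_two.symm
      rw [neg_one_sq, mul_one, Nat.cast_ofNat, h2]
      abel
    rw [e1]
    intro g
    have e2 : fn (((single u + -1 : CAlg G) ^ 2 - 1 - (-1) ^ 2) + ((2 : ℕ) : CAlg G) * 1) g =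
        fn ((single u + -1 : CAlg G) ^ 2 - 1 - (-1) ^ 2) g + fn (((2 : ℕ) : CAlg G) * 1) g := rfl
    rw [e2, fn_natCast_mul]
    refine memLocalIdeal_add (hF g) ?_
    refine memLocalIdeal_mul_right (Helper77.memLocalIdeal_p hM) ?_
    rw [fn_one]
    exact rValued_deltaOne g
  · have e1 : ((single u + -1 : CAlg G)) ^ p = (single u + -1 : CAlg G) ^ p - 1 - (-1) ^ p := by
      rw [hodd.neg_one_pow]
      abel
    rw [e1]
    exact hF

/-- **The key congruence.**  If `Θ w ≡ e_B` with `w` central, then
`e_B((u x)⁻¹) ≡ e_B(x⁻¹)` for `u` with `u ^ p = 1` and `x` commuting with `u`. -/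
theorem blockCoeff_mul_inv_sub_memLocalIdeal {p : ℕ} [Fact p.Prime] (hM : IsPModular p M)
    [hMp : M.IsPrime]
    (hWB1 : ∀ (b : G → ℂ) (n : ℕ) (g : G), Helper77.convPow b n g =
      ∑ v : Fin n → G, if (List.ofFn v).prod = g then ∏ i, b (v i) else 0)
    (hWB2 : ∀ b : G → ↥(Helper77.localRing M), ∃ r : ↥(Helper77.localRing M),
      (∑ v : Fin p → G, if (List.ofFn v).prod = 1 then ∏ i, b (v i) else 0) =
        (∑ g ∈ Finset.univ.filter (fun g : G => g ^ p = 1), b g ^ p) +
          (p : ↥(Helper77.localRing M)) * r)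
    {E w : CAlg G} (hER : RValued M (fn E)) (hwR : RValued M (fn w))
    (hwcl : IsClassFunction G (fn w))
    (hw : Helper78.JValued M (fn (thetaP p * w - E)))
    {u x : G} (hu : u ^ p = 1) (hux : u * x = x * u) :
    MemLocalIdeal M (fn E (u * x)⁻¹ - fn E x⁻¹) := by
  have hsR : ∀ a : G, RValued M (fn (single a : CAlg G)) := by
    intro a y
    rw [fn_single]
    split_ifs
    · exact memLocalRing_one
    · exact memLocalRing_zero
  set c : CAlg G := (single u - 1) * single x with hc
  have hcR : RValued M (fn c) :=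
    mem_rSub.mp (mul_mem (sub_mem (mem_rSub.mpr (hsR u)) (one_mem _)) (mem_rSub.mpr (hsR x)))
  set b : CAlg G := w * c with hb
  have hbR : RValued M (fn b) := mem_rSub.mp (mul_mem (mem_rSub.mpr hwR) (mem_rSub.mpr hcR))
  -- `b ^ p` has values in the local ideal
  have hcomm1 : Commute (single u - 1 : CAlg G) (single x) := by
    have h1 : Commute (single u : CAlg G) (single x) := by
      show single u * single x = single x * single u
      rw [single_mul_single, single_mul_single, hux]
    exact h1.sub_left (Commute.one_left _)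
  have hwc : Commute w c := commute_of_isClassFunction hwcl c
  have hbp : b ^ p = w ^ p * ((single u - 1) ^ p * single x ^ p) := by
    rw [hb, hwc.mul_pow, hc, hcomm1.mul_pow]
  have hbpJ : Helper78.JValued M (fn (b ^ p)) := by
    rw [hbp]
    have h1 : Helper78.JValued M (fn ((single u - 1 : CAlg G) ^ p * single x ^ p)) :=
      jValued_conv_left' (jValued_single_sub_one_pow hM hu) (rValued_pow (hsR x) p)
    exact jValued_conv_right' (rValued_pow hwR p) h1
  have ht := memLocalIdeal_sum_of_pow hM hWB1 hWB2 hbR (hbpJ 1)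
  rw [← fn_thetaP_mul_one] at ht
  -- expand `Θ b = (Θ w) c = (E + j) c`
  have e1 : thetaP p * b = E * c + (thetaP p * w - E) * c := by
    rw [hb, ← mul_assoc, sub_mul]
    abel
  rw [e1] at ht
  have e2 : fn (E * c + (thetaP p * w - E) * c) 1 =
      fn (E * c) 1 + fn ((thetaP p * w - E) * c) 1 := rfl
  rw [e2] at ht
  have hj : MemLocalIdeal M (fn ((thetaP p * w - E) * c) 1) := jValued_conv_left' hw hcR 1
  have h3 := memLocalIdeal_sub ht hj
  rw [add_sub_cancel_right] at h3
  have e3 : E * c = E * single (u * x) - E * single x := by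
    rw [hc, sub_mul, one_mul, single_mul_single, mul_sub]
  have e4 : fn (E * single (u * x) - E * single x) 1 =
      fn (E * single (u * x)) 1 - fn (E * single x) 1 := rfl
  rw [e3, e4, fn_mul_single, fn_mul_single, one_mul, one_mul] at h3
  exact h3

end Key

section Main

variable {G : Type u} [Group G] [Fintype G] [DecidableEq G] {M : Ideal AlgInt}

open CAlg

/-- **Knörr's vanishing theorem**, given the two tuple-counting facts: an irreducible character
vanishing on all elements of order `p` has `p`-defect zero. -/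
theorem factorization_charDegree_of_vanish {p : ℕ} [Fact p.Prime] (hM : IsPModular p M)
    [hMp : M.IsPrime]
    (hWB1 : ∀ (b : G → ℂ) (n : ℕ) (g : G), Helper77.convPow b n g =
      ∑ v : Fin n → G, if (List.ofFn v).prod = g then ∏ i, b (v i) else 0)
    (hWB2 : ∀ b : G → ↥(Helper77.localRing M), ∃ r : ↥(Helper77.localRing M),
      (∑ v : Fin p → G, if (List.ofFn v).prod = 1 then ∏ i, b (v i) else 0) =
        (∑ g ∈ Finset.univ.filter (fun g : G => g ^ p = 1), b g ^ p) +
          (p : ↥(Helper77.localRing M)) * r)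
    (χ : IrrCharacter G) (hvan : ∀ g : G, orderOf g = p → (χ : G → ℂ) g = 0) :
    (charDegree (χ : G → ℂ)).factorization p = (Nat.card G).factorization p := by
  have hp : p.Prime := Fact.out
  set B := blockOf M (χ : G → ℂ) with hBdef
  have hB : IsPBlock M B := ⟨χ, rfl⟩
  have hχB : χ ∈ B := Helper78.mem_blockOf_self hMp χ
  -- `ω_χ(Θ) = 1`
  have hω : omega (χ : G → ℂ) (fn (thetaP p : CAlg G)) = 1 := by
    unfold omega
    rw [Finset.sum_eq_single (1 : G)]
    · rw [fn_thetaP, if_pos (one_pow p), one_mul, div_self (irr_one_ne_zero χ)]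
    · intro x _ hx
      rw [fn_thetaP]
      by_cases hxp : x ^ p = 1
      · have hdvd : orderOf x ∣ p := orderOf_dvd_of_pow_eq_one hxp
        rcases (Nat.dvd_prime hp).mp hdvd with h1 | h1
        · exact absurd (orderOf_eq_one_iff.mp h1) hx
        · rw [hvan x h1, mul_zero]
      · rw [if_neg hxp, zero_mul]
    · intro h; exact absurd (Finset.mem_univ _) h
  have hT : ∀ ψ ∈ B, MemLocalIdeal M
      (omega ((ψ : IrrCharacter G) : G → ℂ) (fn (thetaP p : CAlg G)) - 1) := by
    intro ψ hψ
    rw [← hω]
    exact omega_sub_memLocalIdeal (sameBlock_symm hψ) (isClassFunction_thetaP p)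
      (rValued_thetaP p)
  obtain ⟨w, hwR, hwcl, hw⟩ := exists_mul_sub_blockCoeff_jValued hB (isClassFunction_thetaP p)
    (rValued_thetaP (M := M) p) hT
  have hER : RValued M (fn (of (blockCoeff B) : CAlg G)) :=
    fun x => Helper77.blockCoeff_memLocalRing hB x
  -- a defect class
  obtain ⟨k, hk⟩ := exists_defectClass (M := M) χ
  have hk' : ¬ MemLocalIdeal M (blockCoeff B k) := hk.2.1
  have hkreg : ¬ p ∣ orderOf k := by
    intro hd
    apply hk'
    rw [Helper77.blockCoeff_eq_zero_of_dvd_orderOf hM hB k hd]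
    exact memLocalIdeal_zero
  -- its centralizer is a `p'`-group
  have hcent : ¬ p ∣ Nat.card (Subgroup.centralizer ({k} : Set G)) := by
    intro hd
    obtain ⟨u', hu'⟩ := exists_prime_orderOf_dvd_card' p hd
    set u : G := (u' : G) with hu
    have huo : orderOf u = p := by rw [hu, Subgroup.orderOf_coe]; exact hu'
    have hup : u ^ p = 1 := by rw [← huo]; exact pow_orderOf_eq_one u
    have huk : u * k = k * u := by
      have := u'.2
      rw [Subgroup.mem_centralizer_iff] at this
      exact (this k (Set.mem_singleton k)).symm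
    have hux : u * k⁻¹ = k⁻¹ * u := by
      have := congrArg (fun y => k⁻¹ * y * k⁻¹) huk
      simp only [mul_assoc, mul_inv_cancel, mul_one, inv_mul_cancel_left] at this
      exact this.symm
    have hkey := blockCoeff_mul_inv_sub_memLocalIdeal hM hWB1 hWB2 hER hwR hwcl hw hup hux
    rw [inv_inv] at hkey
    have hsing : p ∣ orderOf ((u * k⁻¹)⁻¹) := by
      rw [orderOf_inv]
      have hcomm : Commute u k⁻¹ := hux
      have hcop : Nat.Coprime (orderOf u) (orderOf k⁻¹) := by
        rw [huo, orderOf_inv]
        exact (Nat.Prime.coprime_iff_not_dvd hp).mpr hkreg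
      rw [hcomm.orderOf_mul_eq_mul_orderOf_of_coprime hcop, huo]
      exact dvd_mul_right p _
    have h0 : fn (of (blockCoeff B) : CAlg G) (u * k⁻¹)⁻¹ = 0 :=
      Helper77.blockCoeff_eq_zero_of_dvd_orderOf hM hB _ hsing
    rw [h0, zero_sub] at hkey
    have := memLocalIdeal_neg hkey
    rw [neg_neg] at this
    exact hk' this
  -- the defect group is trivial
  obtain ⟨P⟩ : Nonempty (Sylow p (Subgroup.centralizer ({k} : Set G))) := inferInstance
  have hD : IsDefectGroup p M B
      ((P : Subgroup (Subgroup.centralizer ({k} : Set G))).map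
        (Subgroup.centralizer ({k} : Set G)).subtype) := ⟨k, hk, P, rfl⟩
  have hcard := Helper77.card_defectGroup hM hB _ hD
  have hPcard : Nat.card ((P : Subgroup (Subgroup.centralizer ({k} : Set G))).map
        (Subgroup.centralizer ({k} : Set G)).subtype) = 1 := by
    rw [Subgroup.card_map_of_injective (Subgroup.subtype_injective _), Sylow.card_eq_multiplicity,
      Nat.factorization_eq_zero_of_not_dvd hcent, pow_zero]
  rw [hPcard] at hcard
  have hdef0 : blockDefect p B = 0 := by
    by_contra hne
    have : 1 < p ^ blockDefect p B := Nat.one_lt_pow hne hp.one_lt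
    omega
  -- conclude
  unfold blockDefect at hdef0
  have hle : (Nat.card G).factorization p ≤
      sInf ((fun ψ : IrrCharacter G => (charDegree (ψ : G → ℂ)).factorization p) '' B) :=
    Nat.sub_eq_zero_iff_le.mp hdef0
  have hle2 : sInf ((fun ψ : IrrCharacter G => (charDegree (ψ : G → ℂ)).factorization p) '' B) ≤
      (charDegree (χ : G → ℂ)).factorization p := Nat.sInf_le ⟨χ, hχB, rfl⟩
  have hle3 : (charDegree (χ : G → ℂ)).factorization p ≤ (Nat.card G).factorization p := by
    have hdvd := Helper74.charDegree_dvd_card χ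
    have hpos : Nat.card G ≠ 0 := Nat.card_pos.ne'
    exact (Nat.factorization_le_iff_dvd (by
      intro h0
      rw [h0] at hdvd
      exact hpos (Nat.eq_zero_of_zero_dvd hdvd)) hpos).mpr hdvd p
  omega

end Main

end Cfsg.Agent.Helper16
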