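import Cfsg.Agent.Helper16.ConvRing
import Cfsg.Agent.Helper16.ThirdMain

/-!
# Külshammer's formula for the principal block idempotent: the ring part

(helper16.)  Let `Ω` be the sum of the `p`-regular elements of `G`, `R` their number and `e₀` the
principal block idempotent.  Then `Ω - R e₀` lies in the radical of the centre of the local group
ring, so for `p^m ≥ |Irr G|` the Frobenius congruence gives `Ω^(p^m) ≡ R^(p^m) e₀` modulo the local
ideal.
-/

set_option autoImplicit false
set_option linter.unusedSectionVars false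

namespace Cfsg.Agent.Helper16

open Cfsg

universe u

namespace CAlg

variable {G : Type u} [Group G] [Fintype G] {M : Ideal AlgInt}

theorem fn_list_prod (l : List (CAlg G)) : fn l.prod = convList (l.map fn) := by
  induction l with
  | nil => rfl
  | cons a l ih =>
    rw [List.prod_cons, fn_mul, ih, List.map_cons, convList_cons]

/-- Large powers of a radical central element have values in the local ideal. -/
theorem jValued_pow_of_isRadCentral [M.IsPrime] {z : CAlg G} (hz : IsRadCentral M (fn z)) {n : ℕ}
    (hn : (Finset.univ : Finset (IrrCharacter G)).toList.length ≤ n) :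
    Helper78.JValued M (fn (z ^ n)) := by
  set k := (Finset.univ : Finset (IrrCharacter G)).toList.length with hk
  have h1 : Helper78.JValued M (fn (z ^ k)) := by
    rw [← List.prod_replicate, fn_list_prod]
    apply jValued_convList_of_isRadCentral
    · rw [List.length_map, List.length_replicate]
    · intro d hd
      rw [List.map_replicate] at hd
      rw [List.eq_of_mem_replicate hd]
      exact hz
  have h2 : z ^ n = z ^ k * z ^ (n - k) := by
    rw [← pow_add, Nat.add_sub_cancel' hn]
  rw [h2, fn_mul]
  exact jValued_conv_left' h1 (rValued_pow hz.2.1 _)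

end CAlg

section Ring

variable {G : Type u} [Group G] [Fintype G] {M : Ideal AlgInt}

open CAlg

/-- `Ω^(p^m) ≡ R^(p^m) e₀` modulo the local ideal, for `p^m ≥ |Irr G|`. -/
theorem pReg_pow_sub_memLocalIdeal {p : ℕ} [Fact p.Prime] (hM : IsPModular p M) {m : ℕ}
    (hm : (Finset.univ : Finset (IrrCharacter G)).toList.length ≤ p ^ m) (g : G) :
    MemLocalIdeal M (fn ((of (pReg p : G → ℂ)) ^ p ^ m) g -
      ((Nat.card {x : G // ¬ p ∣ orderOf x} : ℕ) : ℂ) ^ p ^ m *
        blockCoeff (principalBlock M G) g) := by
  classical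
  haveI hMp : M.IsPrime := IsPModular.isPrime hM
  set R : ℕ := Nat.card {x : G // ¬ p ∣ orderOf x} with hR
  set B₀ := principalBlock M G with hB₀def
  have hB₀ : IsPBlock M B₀ := Helper78.isPBlock_principalBlock M G
  set W : CAlg G := of (pReg p : G → ℂ) with hW
  set E : CAlg G := of (blockCoeff B₀) with hE
  have hWcl : IsClassFunction G (fn W) := isClassFunction_pReg p
  have hWR : RValued M (fn W) := fun x => pReg_memLocalRing p x
  have hEcl : IsClassFunction G (fn E) := Helper77.blockCoeff_isClassFunction hB₀
  have hER : RValued M (fn E) := fun x => Helper77.blockCoeff_memLocalRing hB₀ x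
  have hEE : E * E = E := Helper77.blockCoeff_conv_self hB₀
  set y : CAlg G := R • E with hy
  set z : CAlg G := W - y with hz
  have hyfn : fn y = (R : ℂ) • blockCoeff B₀ := by
    funext x
    rw [hy, fn_nsmul]
    rfl
  have hycl : IsClassFunction G (fn y) := by
    rw [hyfn]
    exact isClassFunction_smul _ hEcl
  have hyR : RValued M (fn y) := by
    intro x
    rw [hy, fn_nsmul]
    exact memLocalRing_mul (memLocalRing_natCast R) (hER x)
  have hzfn : fn z = pReg p - (R : ℂ) • blockCoeff B₀ := by
    rw [hz, fn_sub, hyfn]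
    rfl
  have hzrad : IsRadCentral M (fn z) := by
    refine ⟨?_, ?_, ?_⟩
    · rw [hz, fn_sub]
      exact isClassFunction_sub hWcl hycl
    · intro x
      rw [hz, fn_sub]
      exact memLocalRing_sub (hWR x) (hyR x)
    · intro φ
      rw [hzfn, omega_sub, omega_smul, omega_blockCoeff]
      by_cases hφ : φ ∈ B₀
      · rw [if_pos hφ, mul_one, ← omega_principal_pReg (G := G) p]
        have h1 : SameBlock M (φ : G → ℂ)
            ((Helper79.principalIrr G : IrrCharacter G) : G → ℂ) := sameBlock_symm hφ
        exact omega_sub_memLocalIdeal h1 (isClassFunction_pReg p)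
          (pReg_memLocalRing (M := M) p)
      · rw [if_neg hφ, mul_zero, sub_zero, omega_pReg_eq_zero hM φ hφ]
        exact memLocalIdeal_zero
  have hcomm : Commute y z := commute_of_isClassFunction hycl z
  have hF := jValued_add_pow_sub hM hyR hzrad.2.1 hcomm m
  have hyz : y + z = W := by rw [hz]; abel
  rw [hyz] at hF
  have hzJ := jValued_pow_of_isRadCentral hzrad hm
  have hpos : 0 < p ^ m := pow_pos (Fact.out : p.Prime).pos m
  have hyn : y ^ p ^ m = (R ^ p ^ m) • E := by
    rw [hy, smul_pow]
    congr 1
    obtain ⟨j, hj⟩ := Nat.exists_eq_succ_of_ne_zero hpos.ne'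
    rw [hj]
    exact (IsIdempotentElem.pow_succ_eq j hEE)
  have h1 := memLocalIdeal_add (hF g) (hzJ g)
  have h2 : fn (W ^ p ^ m - y ^ p ^ m - z ^ p ^ m) g + fn (z ^ p ^ m) g =
      fn (W ^ p ^ m) g - ((R : ℕ) : ℂ) ^ p ^ m * blockCoeff B₀ g := by
    rw [hyn]
    have e1 : fn (W ^ p ^ m - (R ^ p ^ m) • E - z ^ p ^ m) g =
        fn (W ^ p ^ m) g - fn ((R ^ p ^ m) • E) g - fn (z ^ p ^ m) g := rfl
    rw [e1, fn_nsmul]
    push_cast
    have e2 : fn E g = blockCoeff B₀ g := rfl
    rw [e2]
    ring
  rw [h2] at h1
  exact h1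

end Ring

end Cfsg.Agent.Helper16
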