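import Cfsg.Agent.Helper16.Kulshammer

/-!
# Külshammer's formula for the principal block idempotent: the counting part

(helper16.)  The coefficient of a `p`-regular element `g` in `Ω^(p^m)` (with `p^m ≡ 1` modulo the
order of `g`) is the coefficient of `1` in `(Ω g⁻¹)^(p^m)`, which counts tuples with product one and
is congruent modulo `p` to the number of `t` with `t g` `p`-regular and `t^(p^m) = 1` (cyclic
rotation).  The two counting facts enter as hypotheses `hB1`, `hB2` (proved by helper49 and
helper42).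
-/

set_option autoImplicit false
set_option linter.unusedSectionVars false

namespace Cfsg.Agent.Helper16

open Cfsg

universe u

namespace CAlg

variable {G : Type u} [Group G] [Fintype G] [DecidableEq G] {M : Ideal AlgInt}

/-- The group element `a` in the convolution algebra. -/
def single (a : G) : CAlg G := of (fun x => if x = a then (1 : ℂ) else 0)

theorem fn_single (a x : G) : fn (single a) x = if x = a then (1 : ℂ) else 0 := rfl

theorem fn_mul_single (b : CAlg G) (a x : G) : fn (b * single a) x = fn b (x * a⁻¹) := by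
  rw [fn_mul, conv_apply, Finset.sum_eq_single (x * a⁻¹)]
  · rw [fn_single, if_pos (by group), mul_one]
  · intro u _ hu
    rw [fn_single, if_neg, mul_zero]
    intro h
    apply hu
    rw [← h]
    group
  · intro h; exact absurd (Finset.mem_univ _) h

theorem single_mul_single (a b : G) : single a * single b = single (a * b) := by
  ext x
  rw [fn_mul_single, fn_single, fn_single]
  by_cases h : x = a * b
  · rw [if_pos h, if_pos (by rw [h]; group)]
  · rw [if_neg h, if_neg]
    intro h'
    apply h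
    rw [← h']
    group

theorem single_one : single (1 : G) = 1 := by
  ext x
  rw [fn_single, fn_one]
  unfold deltaOne
  by_cases hx : x = 1
  · rw [if_pos hx, if_pos hx]
  · rw [if_neg hx, if_neg hx]

theorem single_pow (a : G) (n : ℕ) : single a ^ n = single (a ^ n) := by
  induction n with
  | zero => rw [pow_zero, pow_zero, single_one]
  | succ n ih => rw [pow_succ, ih, single_mul_single, pow_succ]

end CAlg

section Count

variable {G : Type u} [Group G] [Fintype G] [DecidableEq G] {M : Ideal AlgInt}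

open CAlg

/-- The coefficient of `g` in `Ω^n` for `g^n = g`, as a count of tuples. -/
theorem pReg_pow_apply_eq_card
    (hB1 : ∀ (S : Finset G) (n : ℕ) (g : G),
      Helper77.convPow (fun x : G => if x ∈ S then (1 : ℂ) else 0) n g =
        (Fintype.card {v : Fin n → G // (∀ i, v i ∈ S) ∧ (List.ofFn v).prod = g} : ℂ))
    (p : ℕ) (g : G) {n : ℕ} (hgn : g ^ n = g) :
    fn ((of (pReg p : G → ℂ)) ^ n) g =
      (Fintype.card {v : Fin n → G //
        (∀ i, v i ∈ Finset.univ.filter (fun t : G => ¬ p ∣ orderOf (t * g))) ∧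
          (List.ofFn v).prod = 1} : ℂ) := by
  set W : CAlg G := of (pReg p : G → ℂ) with hW
  set S : Finset G := Finset.univ.filter (fun t : G => ¬ p ∣ orderOf (t * g)) with hS
  have hWcl : IsClassFunction G (fn W) := isClassFunction_pReg p
  have hcomm : Commute W (single g⁻¹) := commute_of_isClassFunction hWcl _
  have h1 : (W * single g⁻¹) ^ n = W ^ n * single ((g⁻¹) ^ n) := by
    rw [hcomm.mul_pow, single_pow]
  have h2 : fn (W ^ n * single ((g⁻¹) ^ n)) 1 = fn (W ^ n) g := by
    rw [fn_mul_single, one_mul, inv_pow, inv_inv, hgn]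
  have h3 : fn (W * single g⁻¹) = fun x : G => if x ∈ S then (1 : ℂ) else 0 := by
    funext x
    rw [fn_mul_single, inv_inv]
    show pReg p (x * g) = _
    by_cases hx : p ∣ orderOf (x * g)
    · rw [pReg_of_dvd hx, if_neg]
      rw [hS, Finset.mem_filter]
      exact fun h => h.2 hx
    · rw [pReg_of_not_dvd hx, if_pos]
      rw [hS, Finset.mem_filter]
      exact ⟨Finset.mem_univ _, hx⟩
  rw [← h2, ← h1, fn_pow, h3, hB1]

/-- The number of `t` with `t g` `p`-regular and `t^(p^m) = 1` is the number of factorisations of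
`g` as a `p`-element times a `p`-regular element, when `p^m` is large. -/
theorem card_filter_eq_card_pairs (p : ℕ) [hp : Fact p.Prime] (g : G) {m : ℕ}
    (hm : Fintype.card G ≤ m) :
    ((Finset.univ.filter (fun t : G => ¬ p ∣ orderOf (t * g))).filter
        (fun t => t ^ p ^ m = 1)).card =
      Nat.card {xy : G × G // (∃ k : ℕ, orderOf xy.1 = p ^ k) ∧ ¬ p ∣ orderOf xy.2 ∧
        xy.1 * xy.2 = g} := by
  classical
  rw [← Fintype.card_coe, ← Nat.card_eq_fintype_card]
  refine Nat.card_congr ?_
  refine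
    { toFun := fun t => ⟨((t : G)⁻¹, (t : G) * g), ?_, ?_, ?_⟩
      invFun := fun xy => ⟨(xy : G × G).1⁻¹, ?_⟩
      left_inv := ?_
      right_inv := ?_ }
  · have ht := t.2
    rw [Finset.mem_filter, Finset.mem_filter] at ht
    have h1 : orderOf (t : G) ∣ p ^ m := orderOf_dvd_of_pow_eq_one ht.2
    obtain ⟨k, _, hk⟩ := (Nat.dvd_prime_pow hp.out).mp h1
    exact ⟨k, by rw [orderOf_inv]; exact hk⟩
  · have ht := t.2
    rw [Finset.mem_filter, Finset.mem_filter] at ht
    exact ht.1.2
  · show (t : G)⁻¹ * ((t : G) * g) = g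
    group
  · obtain ⟨⟨x, y⟩, ⟨k, hk⟩, hy, hxy⟩ := xy
    rw [Finset.mem_filter, Finset.mem_filter]
    refine ⟨⟨Finset.mem_univ _, ?_⟩, ?_⟩
    · show ¬ p ∣ orderOf (x⁻¹ * g)
      have : x⁻¹ * g = y := by rw [← hxy]; group
      rw [this]
      exact hy
    · show (x⁻¹) ^ p ^ m = 1
      rw [inv_pow, inv_eq_one]
      apply orderOf_dvd_iff_pow_eq_one.mp
      rw [hk]
      apply pow_dvd_pow
      have h1 : p ^ k ≤ Fintype.card G := by
        rw [← hk]
        exact orderOf_le_card_univ
      exact ((Nat.lt_pow_self hp.out.one_lt).le.trans h1).trans hm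
  · intro t
    apply Subtype.ext
    show ((t : G)⁻¹)⁻¹ = (t : G)
    rw [inv_inv]
  · rintro ⟨⟨x, y⟩, hk, hy, hxy⟩
    apply Subtype.ext
    show ((x⁻¹)⁻¹, x⁻¹ * g) = (x, y)
    rw [inv_inv]
    congr 1
    rw [← hxy]
    group

end Count

end Cfsg.Agent.Helper16

namespace Cfsg.Agent.Helper16

open Cfsg CAlg

universe u

section Final

variable {G : Type u} [Group G] [Fintype G] [DecidableEq G] {M : Ideal AlgInt}

theorem memLocalIdeal_natCast_sub_of_modEq {p : ℕ} (hM : IsPModular p M) {a b : ℕ}
    (h : a ≡ b [MOD p]) : MemLocalIdeal M ((a : ℂ) - (b : ℂ)) := by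
  have h1 : (p : ℤ) ∣ (a : ℤ) - (b : ℤ) := (Nat.modEq_iff_dvd.mp h.symm)
  have h2 := (Helper77.memLocalIdeal_intCast_iff hM ((a : ℤ) - (b : ℤ))).mpr h1
  push_cast at h2
  exact h2

theorem pow_prime_pow_modEq (p : ℕ) [Fact p.Prime] (R m : ℕ) : R ^ p ^ m ≡ R [MOD p] := by
  rw [← ZMod.natCast_eq_natCast_iff]
  push_cast
  exact ZMod.pow_card_pow (n := m) (p := p) (R : ZMod p)

/-- **Külshammer's formula**, given the two tuple-counting facts. -/
theorem kulshammer_of_counts {p : ℕ} [Fact p.Prime] (hM : IsPModular p M)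
    (hB1 : ∀ (S : Finset G) (n : ℕ) (g : G),
      Helper77.convPow (fun x : G => if x ∈ S then (1 : ℂ) else 0) n g =
        (Fintype.card {v : Fin n → G // (∀ i, v i ∈ S) ∧ (List.ofFn v).prod = g} : ℂ))
    (hB2 : ∀ (m : ℕ) (S : Finset G),
      Fintype.card {v : Fin (p ^ m) → G // (∀ i, v i ∈ S) ∧ (List.ofFn v).prod = 1} ≡
        (S.filter (fun t => t ^ (p ^ m) = 1)).card [MOD p])
    (g : G) (hg : ¬ p ∣ orderOf g) :
    MemLocalIdeal M (blockCoeff (principalBlock M G) g -
      (Nat.card {xy : G × G // (∃ k : ℕ, orderOf xy.1 = p ^ k) ∧ ¬ p ∣ orderOf xy.2 ∧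
        xy.1 * xy.2 = g} : ℂ) / (Nat.card {y : G // ¬ p ∣ orderOf y} : ℂ)) := by
  haveI hMp : M.IsPrime := IsPModular.isPrime hM
  have hp : p.Prime := Fact.out
  set R : ℕ := Nat.card {y : G // ¬ p ∣ orderOf y} with hR
  set N : ℕ := Nat.card {xy : G × G // (∃ k : ℕ, orderOf xy.1 = p ^ k) ∧ ¬ p ∣ orderOf xy.2 ∧
        xy.1 * xy.2 = g} with hN
  set k := (Finset.univ : Finset (IrrCharacter G)).toList.length with hk
  set o := orderOf g with ho
  have hφ : 0 < Nat.totient o := Nat.totient_pos.mpr (orderOf_pos g)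
  set c := Fintype.card G + k + 1 with hc
  set m := Nat.totient o * c with hm
  have hcm : c ≤ m := Nat.le_mul_of_pos_left c hφ
  have hm1 : Fintype.card G ≤ m := le_trans (by rw [hc]; omega) hcm
  have hkm : k ≤ p ^ m :=
    le_trans (le_trans (by rw [hc]; omega) hcm) (Nat.lt_pow_self hp.one_lt).le
  have hcop : Nat.Coprime p o := (Nat.Prime.coprime_iff_not_dvd hp).mpr hg
  have hmod : p ^ m ≡ 1 [MOD o] := by
    rw [hm, pow_mul]
    have := (Nat.ModEq.pow_totient hcop).pow c
    rwa [one_pow] at this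
  have hgn : g ^ p ^ m = g := by
    have h1 : g ^ p ^ m = g ^ 1 := pow_eq_pow_iff_modEq.mpr hmod
    rwa [pow_one] at h1
  have hA1 := pReg_pow_sub_memLocalIdeal hM hkm g
  have hA2 := pReg_pow_apply_eq_card hB1 p g hgn
  have hT := hB2 m (Finset.univ.filter (fun t : G => ¬ p ∣ orderOf (t * g)))
  rw [card_filter_eq_card_pairs p g hm1] at hT
  rw [hA2] at hA1
  have hT' := memLocalIdeal_natCast_sub_of_modEq hM hT
  have hRn := memLocalIdeal_natCast_sub_of_modEq hM (pow_prime_pow_modEq p R m)
  have he : MemLocalRing M (blockCoeff (principalBlock M G) g) :=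
    Helper77.blockCoeff_memLocalRing (Helper78.isPBlock_principalBlock M G) g
  -- `R e₀(g) - N ∈ J`
  have h1 : MemLocalIdeal M ((R : ℂ) * blockCoeff (principalBlock M G) g - (N : ℂ)) := by
    have e : (R : ℂ) * blockCoeff (principalBlock M G) g - (N : ℂ) =
        -(((R ^ p ^ m : ℕ) : ℂ) - (R : ℂ)) * blockCoeff (principalBlock M G) g -
          (((Fintype.card {v : Fin (p ^ m) → G //
            (∀ i, v i ∈ Finset.univ.filter (fun t : G => ¬ p ∣ orderOf (t * g))) ∧
              (List.ofFn v).prod = 1} : ℕ) : ℂ) -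
            ((R : ℕ) : ℂ) ^ p ^ m * blockCoeff (principalBlock M G) g) +
          (((Fintype.card {v : Fin (p ^ m) → G //
            (∀ i, v i ∈ Finset.univ.filter (fun t : G => ¬ p ∣ orderOf (t * g))) ∧
              (List.ofFn v).prod = 1} : ℕ) : ℂ) - (N : ℂ)) := by
      push_cast
      ring
    rw [e]
    exact memLocalIdeal_add (memLocalIdeal_sub
      (memLocalIdeal_mul_right (memLocalIdeal_neg hRn) he) hA1) hT'
  have hRnd : ¬ p ∣ R := not_dvd_card_pRegular (G := G) p
  have hR0 : (R : ℂ) ≠ 0 := by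
    intro h0
    apply hRnd
    have : R = 0 := by exact_mod_cast h0
    rw [this]
    exact dvd_zero p
  have e2 : blockCoeff (principalBlock M G) g - (N : ℂ) / (R : ℂ) =
      (R : ℂ)⁻¹ * ((R : ℂ) * blockCoeff (principalBlock M G) g - (N : ℂ)) := by
    field_simp
  rw [e2]
  exact memLocalIdeal_mul_left (memLocalRing_inv_natCast hM hRnd) h1

end Final

end Cfsg.Agent.Helper16
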