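import Cfsg.Agent.Helper16.ContribTransport
import Cfsg.Agent.Helper77.PairTransport

/-!
# Major subsections through Brauer pairs

Let `(D, e)` be a maximal Brauer pair of the block `B`.  For `z` in the centre of `D`, the unique
pair `(⟨z⟩, f)` below `(D, e)` gives a subsection `(z, f)` of `B` with `f` of the same defect as
`B`; two of these subsections that are conjugate in `G` are conjugate under the stabilizer of
`(D, e)`.
-/

set_option autoImplicit false
set_option linter.unusedSectionVars false
set_option linter.unusedVariables false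

namespace Cfsg.Agent.Helper16

open Cfsg
open Cfsg.Agent.Helper77

section Pairs

variable {G : Type*} [Group G] [Fintype G] {M : Ideal AlgInt} {p : ℕ}

/-- **A block of `D C_G(D)` inducing `B`, `D` a defect group of `B`, gives a maximal Brauer pair.** -/
theorem exists_maximalPair_of_induced [Fact p.Prime] (hM : IsPModular p M)
    (B : Set (IrrCharacter G)) (hB : IsPBlock M B) (D : Subgroup G)
    (hD : IsDefectGroup p M B D)
    (b : Set (IrrCharacter ↥(D ⊔ Subgroup.centralizer (D : Set G))))
    (hind : IsInducedBlock M (D ⊔ Subgroup.centralizer (D : Set G)) b B) :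
    ∃ e : Set (IrrCharacter (Subgroup.centralizer (D : Set G))), IsPBlock M e ∧
      (∀ t : ↥(D ⊔ Subgroup.centralizer (D : Set G)), blockCoeff b t =
        extFun (Subgroup.centralizer (D : Set G)) (blockCoeff e) (t : G)) ∧
      IsMaximalBrauerPair p M B D e := by
  classical
  have hMp : M.IsPrime := isPrime_of_isPModular hM
  have hcard := card_defectGroup hM hB D hD
  have hP : IsPGroup p D := IsPGroup.of_card hcard
  have hPL := le_sup_centralizer_left D
  have hCL : Subgroup.centralizer (D : Set G) ≤ D ⊔ Subgroup.centralizer (D : Set G) :=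
    le_sup_right
  have hLN := sup_centralizer_le_normalizer D
  have hNC := Helper78.normalizer_le_normalizer_centralizer D
  have hLC := hLN.trans hNC
  have hsupp : ∀ E : Set (IrrCharacter ↥(D ⊔ Subgroup.centralizer (D : Set G))), IsPBlock M E →
      ∀ t : ↥(D ⊔ Subgroup.centralizer (D : Set G)),
        (t : G) ∉ Subgroup.centralizer (D : Set G) → blockCoeff E t = 0 :=
    fun E hE t ht => blockCoeff_eq_zero_of_not_mem_centralizer_sub hM D _ hP hPL hLN hE t ht
  have hstab : ∀ e : Set (IrrCharacter (Subgroup.centralizer (D : Set G))), IsPBlock M e →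
      ∀ t ∈ D ⊔ Subgroup.centralizer (D : Set G),
        StabilizesBlock (Subgroup.centralizer (D : Set G)) e t :=
    fun e _ t ht => stabilizesBlock_of_mem_sup D e t ht
  obtain ⟨e, he, hbe⟩ := exists_block_eq_extFun _ _ hCL hstab hsupp b hind.1
  have hPe : IsBrauerPairOf p M B D e :=
    isBrauerPairOf_of_isInducedBlock hM D _ hP hPL hCL hLN hLC B e he (hstab e he) b hind.1 hbe
      hind
  exact ⟨e, he, hbe, isMaximalBrauerPair_of_card hM B D e hPe hcard⟩

/-- **A Brauer pair of `B` on an abelian subgroup induces `B`.** -/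
theorem isInducedBlock_of_isBrauerPairOf_abelian [Fact p.Prime] (hM : IsPModular p M)
    (B : Set (IrrCharacter G)) (Q : Subgroup G) (hab : Q ≤ Subgroup.centralizer (Q : Set G))
    (f : Set (IrrCharacter (Subgroup.centralizer (Q : Set G))))
    (hQf : IsBrauerPairOf p M B Q f) :
    IsInducedBlock M (Subgroup.centralizer (Q : Set G)) f B := by
  classical
  have hfin : Fintype (Subgroup.centralizer (Q : Set G)) := Fintype.ofFinite _
  have hHC : Subgroup.centralizer (Q : Set G) ≤
      Subgroup.normalizer ((Subgroup.centralizer (Q : Set G) : Subgroup G) : Set G) :=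
    Subgroup.le_normalizer
  refine isInducedBlock_of_covering hM Q (Subgroup.centralizer (Q : Set G)) hQf.1.1 hab le_rfl
    (Subgroup.centralizer_le_normalizer _) hHC B f hQf f hQf.1.2 (fun t => ?_)
  rw [orbitSum_of_stable _ _ hHC f (fun t ht => stabilizesBlock_of_mem_self _ f t ht)]
  exact (extFun_of_mem _ _ t.2).symm

/-- **The pair on a central subgroup of `D` below a maximal pair has the defect of `B`.** -/
theorem blockDefect_eq_of_central_subpair [Fact p.Prime] (hM : IsPModular p M)
    (B : Set (IrrCharacter G)) (D Q : Subgroup G)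
    (e : Set (IrrCharacter (Subgroup.centralizer (D : Set G))))
    (f : Set (IrrCharacter (Subgroup.centralizer (Q : Set G))))
    (hmax : IsMaximalBrauerPair p M B D e) (hQD : Q ≤ D)
    (hDC : D ≤ Subgroup.centralizer (Q : Set G)) (hf : IsPBlock M f)
    (hle : SubpairLE p M Q f D e) :
    IsInducedBlock M (Subgroup.centralizer (Q : Set G)) f B ∧
      blockDefect p f = blockDefect p B := by
  classical
  have hpr : p.Prime := Fact.out
  have hPe : IsBrauerPair p M D e := hmax.1.1
  have hB : IsPBlock M B := hmax.1.2.1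
  have hD : IsDefectGroup p M B D := isDefectGroup_of_isMaximalBrauerPair hM B D e hmax
  have hcardD := card_defectGroup hM hB D hD
  obtain ⟨D', hD', hle'⟩ := exists_defectGroup_ge_centralizer hM D Q e f hPe hQD hf hle
  have hcardD' := card_defectGroup hM hf D' hD'
  have hQf : IsBrauerPairOf p M B Q f :=
    (isBrauerPairOf_iff_of_subpairLE hM D Q e f hPe ⟨hPe.1.to_le hQD, hf⟩ hle B).mp hmax.1
  have hind := isInducedBlock_of_isBrauerPairOf_abelian hM B Q (hQD.trans hDC) f hQf
  refine ⟨hind, le_antisymm ?_ ?_⟩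
  · obtain ⟨x, hx⟩ := Helper78.defectGroup_le_of_induced hM _ f B hind D' hD' D hD
    have h1 := Subgroup.card_le_of_le hx
    rw [Subgroup.card_map_of_injective (MulAut.conj x).injective,
      Subgroup.card_map_of_injective (Subgroup.subtype_injective _), hcardD', hcardD] at h1
    exact (Nat.pow_le_pow_iff_right hpr.one_lt).mp h1
  · have h1 := Subgroup.card_le_of_le hle'
    rw [inf_eq_left.mpr hDC, card_subgroupOf_of_le hDC, hcardD', hcardD] at h1
    exact (Nat.pow_le_pow_iff_right hpr.one_lt).mp h1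

theorem conjIdx_mul (x y : G) (a : BrauerPairIdx G) :
    conjIdx (x * y) a = conjIdx x (conjIdx y a) := by
  apply idx_ext
  · show a.1.map (MulAut.conj (x * y)).toMonoidHom =
      (a.1.map (MulAut.conj y).toMonoidHom).map (MulAut.conj x).toMonoidHom
    rw [Subgroup.map_map]
    congr 1
    ext g
    simp [MulAut.conj_apply, mul_assoc]
  · rw [funSetIdx_conjIdx, funSetIdx_conjIdx, funSetIdx_conjIdx, conjFun_mul_image]

/-- **Fusion of central subpairs is controlled by the stabilizer of the maximal pair.** -/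
theorem exists_stabilizer_conj [Fact p.Prime] (hM : IsPModular p M)
    (B : Set (IrrCharacter G)) (D : Subgroup G)
    (e : Set (IrrCharacter (Subgroup.centralizer (D : Set G))))
    (hmax : IsMaximalBrauerPair p M B D e) (Q Q' : Subgroup G)
    (f : Set (IrrCharacter (Subgroup.centralizer (Q : Set G))))
    (f' : Set (IrrCharacter (Subgroup.centralizer (Q' : Set G))))
    (hDC : D ≤ Subgroup.centralizer (Q : Set G))
    (hQ'D : Q' ≤ D) (hDC' : D ≤ Subgroup.centralizer (Q' : Set G)) (hf' : IsPBlock M f')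
    (hle : SubpairLE p M Q f D e) (hle' : SubpairLE p M Q' f' D e)
    (u : G) (hu : conjIdx u ⟨Q, f⟩ = (⟨Q', f'⟩ : BrauerPairIdx G)) :
    ∃ t₁ ∈ Subgroup.centralizer (Q' : Set G),
      conjIdx (t₁ * u) ⟨D, e⟩ = (⟨D, e⟩ : BrauerPairIdx G) := by
  classical
  have hMp : M.IsPrime := isPrime_of_isPModular hM
  have hPe : IsBrauerPair p M D e := hmax.1.1
  have hB : IsPBlock M B := hmax.1.2.1
  have hDdef : IsDefectGroup p M B D := isDefectGroup_of_isMaximalBrauerPair hM B D e hmax
  have hcardD := card_defectGroup hM hB D hDdef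
  have hQmap : Q.map (MulAut.conj u).toMonoidHom = Q' := (Sigma.mk.inj_iff.mp hu).1
  -- the conjugate maximal pair
  have hleR : SubpairLE p M Q' f' (D.map (MulAut.conj u).toMonoidHom) (conjBlock D u e) := by
    have := reflTransGen_conjIdx (p := p) (M := M) u hle
    rw [hu] at this
    exact this
  have hRp : IsBrauerPair p M (D.map (MulAut.conj u).toMonoidHom) (conjBlock D u e) :=
    isBrauerPair_conj D u hPe
  have hQ'R : Q' ≤ D.map (MulAut.conj u).toMonoidHom := le_of_reflTransGen hleR
  have hRC' : D.map (MulAut.conj u).toMonoidHom ≤ Subgroup.centralizer (Q' : Set G) := by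
    rw [← hQmap]
    rintro _ ⟨d, hd, rfl⟩
    exact conj_mem_centralizer_map Q u d (hDC hd)
  -- normal inclusions
  have hnD : IsNormalSubpair p M Q' f' D e := by
    obtain ⟨fD, hfD, hn, hleD⟩ := exists_isNormalSubpair_of_subpairLE hM D Q' D e f' hPe hQ'D le_rfl
      (hDC'.trans (Subgroup.centralizer_le_normalizer _)) hle'
    have : fD = e := subpairLE_unique hM D e hPe _ D (le_refl _) fD e hleD
      Relation.ReflTransGen.refl
    rw [this] at hn
    exact hn
  have hnR : IsNormalSubpair p M Q' f' (D.map (MulAut.conj u).toMonoidHom) (conjBlock D u e) := by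
    obtain ⟨fR, hfR, hn, hleR'⟩ := exists_isNormalSubpair_of_subpairLE hM
      (D.map (MulAut.conj u).toMonoidHom) Q' (D.map (MulAut.conj u).toMonoidHom) (conjBlock D u e)
      f' hRp hQ'R le_rfl (hRC'.trans (Subgroup.centralizer_le_normalizer _)) hleR
    have : fR = conjBlock D u e := subpairLE_unique hM _ _ hRp _ _ (le_refl _) fR _ hleR'
      Relation.ReflTransGen.refl
    rw [this] at hn
    exact hn
  haveI : Fintype (Subgroup.centralizer (Q' : Set G)) := Fintype.ofFinite _
  have hdef := (blockDefect_eq_of_central_subpair hM B D Q' e f' hmax hQ'D hDC' hf' hle').2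
  have hcard : Nat.card D = p ^ blockDefect p f' := by rw [hdef]; exact hcardD
  have hFf : ∀ t : Subgroup.centralizer (Q' : Set G), blockCoeff f' t =
      extFun (Subgroup.centralizer (Q' : Set G)) (blockCoeff f') (t : G) :=
    fun t => (extFun_of_mem _ _ t.2).symm
  obtain ⟨t₁, ht₁, hle₁⟩ := exists_conj_subpairLE_over (Subgroup.centralizer (Q' : Set G)) hM Q' D
    (D.map (MulAut.conj u).toMonoidHom) f' e (conjBlock D u e) hnD hnR hDC' hRC' le_rfl f' hf' hFf
    hcard
  refine ⟨t₁, ht₁, ?_⟩
  rw [conjIdx_mul]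
  have hle₁' : Relation.ReflTransGen (NormalSubpairRel p M)
      (conjIdx t₁ (conjIdx u ⟨D, e⟩)) (⟨D, e⟩ : BrauerPairIdx G) := hle₁
  have h1 : (conjIdx t₁ (conjIdx u (⟨D, e⟩ : BrauerPairIdx G))).1 = D := by
    apply Subgroup.eq_of_le_of_card_ge (le_of_reflTransGen hle₁')
    show Nat.card D ≤ Nat.card ((D.map (MulAut.conj u).toMonoidHom).map
      (MulAut.conj t₁).toMonoidHom)
    rw [Subgroup.card_map_of_injective (MulAut.conj t₁).injective,
      Subgroup.card_map_of_injective (MulAut.conj u).injective]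
  rcases reflTransGen_cases hle₁' with h | ⟨b, hlt, -, hrest⟩
  · exact h
  · exfalso
    have h2 : b.1 ≤ D := le_of_reflTransGen hrest
    rw [h1] at hlt
    exact absurd h2 (not_le_of_gt hlt)

/-- the idempotent of a pair, as a function on `G` -/
noncomputable def idxCoeff (a : BrauerPairIdx G) : G → ℂ :=
  extFun (Subgroup.centralizer (a.1 : Set G)) (blockCoeff a.2)

theorem idxCoeff_conjIdx (t : G) (a : BrauerPairIdx G) :
    idxCoeff (conjIdx t a) = Helper77.conjFun t (idxCoeff a) :=
  extFun_blockCoeff_conjBlock a.1 t a.2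

theorem mem_normalizer_of_map_conj_eq {D : Subgroup G} {t : G}
    (h : D.map (MulAut.conj t).toMonoidHom = D) : t ∈ Subgroup.normalizer (D : Set G) := by
  rw [Subgroup.mem_normalizer_iff]
  intro g
  constructor
  · intro hg
    rw [← h]
    exact ⟨g, hg, rfl⟩
  · intro hg
    rw [← h] at hg
    obtain ⟨d, hd, hdg⟩ := hg
    have : d = g := by
      have h1 : t * d * t⁻¹ = t * g * t⁻¹ := hdg
      exact mul_left_cancel (mul_right_cancel h1)
    rw [← this]
    exact hd

/-- **An element fixing the maximal pair `(D, e)` stabilizes the block of `D C_G(D)` with the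
idempotent of `e`.** -/
theorem mem_stabilizer_of_conjIdx [hMp : M.IsPrime] (D : Subgroup G)
    (e : Set (IrrCharacter (Subgroup.centralizer (D : Set G))))
    (b : Set (IrrCharacter ↥(D ⊔ Subgroup.centralizer (D : Set G)))) (hb : IsPBlock M b)
    (hbe : ∀ t : ↥(D ⊔ Subgroup.centralizer (D : Set G)), blockCoeff b t =
      extFun (Subgroup.centralizer (D : Set G)) (blockCoeff e) (t : G))
    (t : G) (ht : conjIdx t ⟨D, e⟩ = (⟨D, e⟩ : BrauerPairIdx G)) :
    t ∈ Subgroup.normalizer (D : Set G) ∧
      ∀ θ ∈ b, ∀ θ' : IrrCharacter ↥(D ⊔ Subgroup.centralizer (D : Set G)),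
        (∀ h h' : ↥(D ⊔ Subgroup.centralizer (D : Set G)), (h' : G) = t * h * t⁻¹ →
          (θ' : ↥(D ⊔ Subgroup.centralizer (D : Set G)) → ℂ) h' =
            (θ : ↥(D ⊔ Subgroup.centralizer (D : Set G)) → ℂ) h) → θ' ∈ b := by
  classical
  have hDmap : D.map (MulAut.conj t).toMonoidHom = D := (Sigma.mk.inj_iff.mp ht).1
  have htN : t ∈ Subgroup.normalizer (D : Set G) := mem_normalizer_of_map_conj_eq hDmap
  refine ⟨htN, ?_⟩
  have hcoef : Helper77.conjFun t (extFun (Subgroup.centralizer (D : Set G)) (blockCoeff e)) =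
      extFun (Subgroup.centralizer (D : Set G)) (blockCoeff e) := by
    have := congrArg idxCoeff ht
    rw [idxCoeff_conjIdx] at this
    exact this
  have hPL := le_sup_centralizer_left D
  have hCL : Subgroup.centralizer (D : Set G) ≤ D ⊔ Subgroup.centralizer (D : Set G) :=
    le_sup_right
  have hNC := Helper78.normalizer_le_normalizer_centralizer D
  have hconjL : ∀ (m : G), m ∈ Subgroup.normalizer (D : Set G) →
      ∀ k ∈ D ⊔ Subgroup.centralizer (D : Set G),
        m * k * m⁻¹ ∈ D ⊔ Subgroup.centralizer (D : Set G) := by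
    intro m hm k hk
    have hle' : D ⊔ Subgroup.centralizer (D : Set G) ≤
        (D ⊔ Subgroup.centralizer (D : Set G)).comap (MulAut.conj m).toMonoidHom := by
      refine sup_le ?_ ?_
      · intro u hu
        rw [Subgroup.mem_comap]
        exact hPL ((Subgroup.mem_normalizer_iff.mp hm u).mp hu)
      · intro u hu
        rw [Subgroup.mem_comap]
        exact hCL ((Subgroup.mem_normalizer_iff.mp (hNC hm) u).mp hu)
    exact hle' hk
  have h1 : ∀ k ∈ D ⊔ Subgroup.centralizer (D : Set G),
      t * k * t⁻¹ ∈ D ⊔ Subgroup.centralizer (D : Set G) := fun k hk => hconjL t htN k hk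
  have h2 : ∀ k ∈ D ⊔ Subgroup.centralizer (D : Set G),
      t⁻¹ * k * t ∈ D ⊔ Subgroup.centralizer (D : Set G) := by
    intro k hk
    have := hconjL t⁻¹ (Subgroup.inv_mem _ htN) k hk
    rwa [inv_inv] at this
  let σ : ↥(D ⊔ Subgroup.centralizer (D : Set G)) ≃* ↥(D ⊔ Subgroup.centralizer (D : Set G)) :=
    Helper78.conjEquiv t h1 h2
  have hb'' : IsPBlock M (Helper78.irrMap σ '' b) := isPBlock_image_irrMap σ hb
  have hbb : Helper78.irrMap σ '' b = b := by
    refine isPBlock_eq_of_blockCoeff_eq hb'' hb (fun s => ?_)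
    rw [blockCoeff_image_irrMap', hbe, hbe]
    have : ((σ.symm s : ↥(D ⊔ Subgroup.centralizer (D : Set G))) : G) = t⁻¹ * (s : G) * t := rfl
    rw [this]
    exact congrFun hcoef (s : G)
  intro θ hθ θ' hrel
  have hθ' : θ' = Helper78.irrMap σ θ := by
    apply Subtype.ext
    funext h'
    rw [Helper78.irrMap_apply]
    apply hrel
    show (h' : G) = t * (t⁻¹ * (h' : G) * t) * t⁻¹
    group
  rw [hθ', ← hbb]
  exact Set.mem_image_of_mem _ hθ

end Pairs

section Trans

variable {G : Type*} [Group G] [Fintype G] {M : Ideal AlgInt} {p : ℕ}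

theorem centralizer_zpowers_eq (z : G) :
    Subgroup.centralizer ((Subgroup.zpowers z : Subgroup G) : Set G) =
      Subgroup.centralizer ({z} : Set G) := by
  ext g
  rw [Subgroup.mem_centralizer_iff, Subgroup.mem_centralizer_singleton_iff]
  constructor
  · intro h
    exact (h z (Subgroup.mem_zpowers z)).symm
  · intro h w hw
    obtain ⟨k, rfl⟩ := Subgroup.mem_zpowers_iff.mp hw
    exact ((Commute.zpow_right (show Commute g z from h) k).eq).symm

/-- conjugation by `g` from `C_G(⟨z⟩)` to `C_G(g z g⁻¹)` -/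
noncomputable def zEquiv (z x₀ g : G) (h : g * z * g⁻¹ = x₀) :
    Subgroup.centralizer ((Subgroup.zpowers z : Subgroup G) : Set G) ≃*
      Subgroup.centralizer ({x₀} : Set G) :=
  Helper78.conjEquiv g
    (by
      intro k hk
      rw [centralizer_zpowers_eq, Subgroup.mem_centralizer_singleton_iff] at hk
      rw [Subgroup.mem_centralizer_singleton_iff, ← h]
      calc g * k * g⁻¹ * (g * z * g⁻¹) = g * (k * z) * g⁻¹ := by group
        _ = g * (z * k) * g⁻¹ := by rw [hk]
        _ = g * z * g⁻¹ * (g * k * g⁻¹) := by group)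
    (by
      intro k hk
      rw [Subgroup.mem_centralizer_singleton_iff, ← h] at hk
      rw [centralizer_zpowers_eq, Subgroup.mem_centralizer_singleton_iff]
      calc g⁻¹ * k * g * z = g⁻¹ * (k * (g * z * g⁻¹)) * g := by group
        _ = g⁻¹ * ((g * z * g⁻¹) * k) * g := by rw [hk]
        _ = z * (g⁻¹ * k * g) := by group)

theorem coe_zEquiv (z x₀ g : G) (h : g * z * g⁻¹ = x₀)
    (c : Subgroup.centralizer ((Subgroup.zpowers z : Subgroup G) : Set G)) :
    ((zEquiv z x₀ g h c : Subgroup.centralizer ({x₀} : Set G)) : G) = g * (c : G) * g⁻¹ := rfl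

open Classical in
/-- the block of `C_G(x₀)` conjugate to the block `f` of `C_G(⟨z⟩)` -/
noncomputable def transBlock (z x₀ g : G)
    (f : Set (IrrCharacter (Subgroup.centralizer ((Subgroup.zpowers z : Subgroup G) : Set G)))) :
    Set (IrrCharacter (Subgroup.centralizer ({x₀} : Set G))) :=
  if h : g * z * g⁻¹ = x₀ then Helper78.irrMap (zEquiv z x₀ g h) '' f else ∅

theorem transBlock_eq (z x₀ g : G) (h : g * z * g⁻¹ = x₀)
    (f : Set (IrrCharacter (Subgroup.centralizer ((Subgroup.zpowers z : Subgroup G) : Set G)))) :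
    transBlock z x₀ g f = Helper78.irrMap (zEquiv z x₀ g h) '' f := by
  unfold transBlock
  rw [dif_pos h]

theorem isPBlock_transBlock (z x₀ g : G) (h : g * z * g⁻¹ = x₀)
    {f : Set (IrrCharacter (Subgroup.centralizer ((Subgroup.zpowers z : Subgroup G) : Set G)))}
    (hf : IsPBlock M f) : IsPBlock M (transBlock z x₀ g f) := by
  rw [transBlock_eq z x₀ g h]
  exact isPBlock_image_irrMap _ hf

theorem contribE_transBlock (z x₀ g : G) (h : g * z * g⁻¹ = x₀)
    [Fintype (Subgroup.centralizer ((Subgroup.zpowers z : Subgroup G) : Set G))]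
    [Fintype (Subgroup.centralizer ({x₀} : Set G))]
    (f : Set (IrrCharacter (Subgroup.centralizer ((Subgroup.zpowers z : Subgroup G) : Set G))))
    {χ ψ : G → ℂ} (hχ : IsClassFunction G χ) (hψ : IsClassFunction G ψ) :
    contribE p (Subgroup.centralizer ({x₀} : Set G)) x₀ (transBlock z x₀ g f) χ ψ =
      contribE p (Subgroup.centralizer ((Subgroup.zpowers z : Subgroup G) : Set G)) z f χ ψ := by
  rw [transBlock_eq z x₀ g h]
  have := contribE_transport (p := p) _ _ (zEquiv z x₀ g h) g (coe_zEquiv z x₀ g h) z f hχ hψ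
  rw [h] at this
  exact this

/-- extension by zero commutes with transport along a conjugation -/
theorem extFun_irrMap_of_conj (H H' : Subgroup G) (σ : H ≃* H') (g : G)
    (hσ : ∀ c : H, ((σ c : H') : G) = g * (c : G) * g⁻¹) (ξ : IrrCharacter H) :
    extFun H' (Helper78.irrMap σ ξ : H' → ℂ) = Helper77.conjFun g (extFun H (ξ : H → ℂ)) := by
  funext y
  rw [Helper77.conjFun_apply]
  by_cases hy : y ∈ H'
  · have hsymm : ((σ.symm ⟨y, hy⟩ : H) : G) = g⁻¹ * y * g := by
      have h1 := hσ (σ.symm ⟨y, hy⟩)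
      rw [MulEquiv.apply_symm_apply] at h1
      have h2 : y = g * ((σ.symm ⟨y, hy⟩ : H) : G) * g⁻¹ := h1
      calc ((σ.symm ⟨y, hy⟩ : H) : G)
          = g⁻¹ * (g * ((σ.symm ⟨y, hy⟩ : H) : G) * g⁻¹) * g := by group
        _ = g⁻¹ * y * g := by rw [← h2]
    have hy' : g⁻¹ * y * g ∈ H := by rw [← hsymm]; exact (σ.symm ⟨y, hy⟩).2
    rw [extFun_of_mem _ _ hy, extFun_of_mem _ _ hy', Helper78.irrMap_apply]
    have : σ.symm ⟨y, hy⟩ = (⟨g⁻¹ * y * g, hy'⟩ : H) := Subtype.ext hsymm
    rw [this]
  · have hy' : g⁻¹ * y * g ∉ H := by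
      intro h
      apply hy
      have h1 := hσ ⟨g⁻¹ * y * g, h⟩
      have h2 : g * (g⁻¹ * y * g) * g⁻¹ = y := by group
      rw [← h2, ← h1]
      exact (σ ⟨g⁻¹ * y * g, h⟩).2
    rw [extFun_of_not_mem _ _ hy, extFun_of_not_mem _ _ hy']

/-- the members of a set of irreducible characters of a subgroup, as functions on `G` -/
def genSet (H : Subgroup G) (f : Set (IrrCharacter H)) : Set (G → ℂ) :=
  (fun ξ : IrrCharacter H => extFun H (ξ : H → ℂ)) '' f

theorem genSet_image_irrMap (H H' : Subgroup G) (σ : H ≃* H') (g : G)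
    (hσ : ∀ c : H, ((σ c : H') : G) = g * (c : G) * g⁻¹) (f : Set (IrrCharacter H)) :
    genSet H' (Helper78.irrMap σ '' f) = Helper77.conjFun g '' genSet H f := by
  unfold genSet
  rw [Set.image_image, Set.image_image]
  refine Set.image_congr (fun ξ _ => ?_)
  exact extFun_irrMap_of_conj H H' σ g hσ ξ

theorem conjFun_one_image (S : Set (G → ℂ)) : Helper77.conjFun (1 : G) '' S = S := by
  have : Helper77.conjFun (1 : G) = id := by
    funext φ y
    rw [Helper77.conjFun_apply]
    simp
  rw [this, Set.image_id]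

/-- **Equal transported blocks give conjugate pairs.** -/
theorem conjIdx_eq_of_transBlock_eq (z z' x₀ g g' : G) (h : g * z * g⁻¹ = x₀)
    (h' : g' * z' * g'⁻¹ = x₀)
    (f : Set (IrrCharacter (Subgroup.centralizer ((Subgroup.zpowers z : Subgroup G) : Set G))))
    (f' : Set (IrrCharacter (Subgroup.centralizer ((Subgroup.zpowers z' : Subgroup G) : Set G))))
    (heq : transBlock z x₀ g f = transBlock z' x₀ g' f') :
    conjIdx (g'⁻¹ * g) ⟨Subgroup.zpowers z, f⟩ =
      (⟨Subgroup.zpowers z', f'⟩ : BrauerPairIdx G) := by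
  apply idx_ext
  · show (Subgroup.zpowers z).map (MulAut.conj (g'⁻¹ * g)).toMonoidHom = Subgroup.zpowers z'
    rw [MonoidHom.map_zpowers]
    congr 1
    show g'⁻¹ * g * z * (g'⁻¹ * g)⁻¹ = z'
    have : z' = g'⁻¹ * x₀ * g' := by rw [← h']; group
    rw [this, ← h]
    group
  · rw [funSetIdx_conjIdx, conjFun_mul_image]
    show Helper77.conjFun g'⁻¹ '' (Helper77.conjFun g '' genSet _ f) = genSet _ f'
    rw [← genSet_image_irrMap _ _ (zEquiv z x₀ g h) g (coe_zEquiv z x₀ g h) f,
      ← transBlock_eq z x₀ g h, heq, transBlock_eq z' x₀ g' h',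
      genSet_image_irrMap _ _ (zEquiv z' x₀ g' h') g' (coe_zEquiv z' x₀ g' h') f',
      ← conjFun_mul_image, inv_mul_cancel, conjFun_one_image]

end Trans

end Cfsg.Agent.Helper16
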