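import Cfsg.Agent.Helper16.ConvAlg

/-!
# Products of radical central elements vanish modulo the local ideal

(helper16.)  A generalisation of `Helper77.exists_convPow_memLocalIdeal`: the convolution product of
`|Irr H|` class functions with values in the local ring, all of whose central character values lie in
the local ideal, has all its values in the local ideal.  (The radical of the centre of the modular
group algebra is nilpotent of exponent at most `|Irr H|`.)
-/

set_option autoImplicit false
set_option linter.unusedSectionVars false

namespace Cfsg.Agent.Helper16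

open Cfsg

variable {H : Type*} [Group H] [Fintype H] {M : Ideal AlgInt}

/-- A central element of the local group ring whose central character values all lie in the local
ideal. -/
def IsRadCentral (M : Ideal AlgInt) (d : H → ℂ) : Prop :=
  IsClassFunction H d ∧ RValued M d ∧ ∀ φ : IrrCharacter H, MemLocalIdeal M (omega (φ : H → ℂ) d)

theorem exists_shifted_product [M.IsPrime] :
    ∀ (l : List (H → ℂ)) (L : List (IrrCharacter H)), l.length = L.length →
      (∀ d ∈ l, IsRadCentral M d) →
      ∃ D : H → ℂ, IsClassFunction H D ∧ RValued M D ∧ Helper78.JValued M (D - convList l) ∧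
        ∀ ψ : IrrCharacter H, omega (ψ : H → ℂ) D =
          (List.zipWith (fun (d : H → ℂ) (φ : IrrCharacter H) =>
            omega (ψ : H → ℂ) d - omega (φ : H → ℂ) d) l L).prod := by
  intro l
  induction l with
  | nil =>
    intro L _ _
    refine ⟨deltaOne, isClassFunction_deltaOne, rValued_deltaOne, ?_, ?_⟩
    · intro h
      rw [convList_nil, sub_self]
      exact memLocalIdeal_zero
    · intro ψ
      rw [List.zipWith_nil_left, List.prod_nil, omega_deltaOne _ (irr_one_ne_zero ψ)]
  | cons a l ih =>
    intro L hlen hl
    cases L with
    | nil => simp at hlen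
    | cons φ L' =>
      have hlen' : l.length = L'.length := by simpa using hlen
      obtain ⟨D, hDcl, hDR, hDJ, hDω⟩ := ih L' hlen' (fun d hd => hl d (List.mem_cons_of_mem _ hd))
      obtain ⟨hacl, haR, haI⟩ := hl a (List.mem_cons_self ..)
      refine ⟨conv a D - omega (φ : H → ℂ) a • D, ?_, ?_, ?_, ?_⟩
      · exact isClassFunction_sub (isClassFunction_conv hacl hDcl) (isClassFunction_smul _ hDcl)
      · intro h
        exact memLocalRing_sub (rValued_conv haR hDR h)
          (memLocalRing_mul (memLocalIdeal_memLocalRing (haI φ)) (hDR h))
      · intro h
        have h1 : (conv a D - omega (φ : H → ℂ) a • D - convList (a :: l)) h =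
            conv a (D - convList l) h - omega (φ : H → ℂ) a * D h := by
          rw [convList_cons, conv_sub_right']
          simp only [Pi.sub_apply, Pi.smul_apply, smul_eq_mul]
          ring
        rw [h1]
        exact memLocalIdeal_sub (jValued_conv_right' haR hDJ h)
          (memLocalIdeal_mul_right (haI φ) (hDR h))
      · intro ψ
        rw [omega_sub, omega_smul, irr_omega_conv ψ hacl hDcl, hDω ψ, List.zipWith_cons_cons,
          List.prod_cons]
        ring

/-- **Uniform nilpotency of the radical of the centre.**  The product of `|Irr H|` radical central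
elements has all its values in the local ideal. -/
theorem jValued_convList_of_isRadCentral [M.IsPrime] (l : List (H → ℂ))
    (hlen : l.length = (Finset.univ : Finset (IrrCharacter H)).toList.length)
    (hl : ∀ d ∈ l, IsRadCentral M d) : Helper78.JValued M (convList l) := by
  classical
  obtain ⟨D, hDcl, hDR, hDJ, hDω⟩ :=
    exists_shifted_product l (Finset.univ : Finset (IrrCharacter H)).toList hlen hl
  have hD0 : D = 0 := by
    apply classFunction_ext_omega hDcl isClassFunction_zero
    intro ψ
    rw [hDω ψ, omega_zero]
    apply List.prod_eq_zero
    have hψ : ψ ∈ (Finset.univ : Finset (IrrCharacter H)).toList :=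
      Finset.mem_toList.mpr (Finset.mem_univ ψ)
    obtain ⟨i, hi, hiψ⟩ := List.mem_iff_getElem.mp hψ
    have hi' : i < l.length := by rw [hlen]; exact hi
    have hiz : i < (List.zipWith (fun (d : H → ℂ) (φ : IrrCharacter H) =>
        omega (ψ : H → ℂ) d - omega (φ : H → ℂ) d) l
        (Finset.univ : Finset (IrrCharacter H)).toList).length := by
      rw [List.length_zipWith]
      exact lt_min hi' hi
    have hget : (List.zipWith (fun (d : H → ℂ) (φ : IrrCharacter H) =>
        omega (ψ : H → ℂ) d - omega (φ : H → ℂ) d) l
        (Finset.univ : Finset (IrrCharacter H)).toList)[i] = 0 := by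
      rw [List.getElem_zipWith, hiψ, sub_self]
    rw [← hget]
    exact List.getElem_mem hiz
  intro h
  have := hDJ h
  rw [hD0] at this
  simp only [Pi.sub_apply, Pi.zero_apply, zero_sub] at this
  have h2 := memLocalIdeal_neg this
  rwa [neg_neg] at h2

end Cfsg.Agent.Helper16
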