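import Cfsg.Agent.Helper16.CentralDefect
import Cfsg.Agent.Helper16.SecondMain

/-!
# Averaging an irreducible character over a normal subgroup, and the `p`-regular span of a block
for a normal `p`-subgroup centralized by the `p`-regular elements
-/

set_option autoImplicit false
set_option linter.unusedSectionVars false
set_option linter.unusedVariables false

namespace Cfsg.Agent.Helper16

open Cfsg
open scoped ComplexConjugate

section NA

variable {G : Type*} [Group G] [Fintype G] {M : Ideal AlgInt} {p : ℕ}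

open Classical in
/-- The indicator function of a normal subgroup is a class function. -/
theorem isClassFunction_indicator_normal (P : Subgroup G) [hP : P.Normal] :
    IsClassFunction G (fun g : G => if g ∈ P then (1 : ℂ) else 0) := by
  intro g t
  show (if t * g * t⁻¹ ∈ P then (1 : ℂ) else 0) = if g ∈ P then (1 : ℂ) else 0
  have : t * g * t⁻¹ ∈ P ↔ g ∈ P := by
    constructor
    · intro h
      have := hP.conj_mem _ h t⁻¹
      simpa [mul_assoc] using this
    · intro h
      exact hP.conj_mem _ h t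
  simp only [this]

open Classical in
/-- Sums over a subgroup as sums over the group with an indicator. -/
theorem sum_subgroup_eq_sum_ite (P : Subgroup G) [Fintype P] (f : G → ℂ) :
    ∑ z : P, f (z : G) = ∑ g : G, (if g ∈ P then (1 : ℂ) else 0) * f g := by
  have h1 : ∑ g : G, (if g ∈ P then (1 : ℂ) else 0) * f g =
      ∑ g ∈ Finset.univ.filter (fun g : G => g ∈ P), f g := by
    rw [Finset.sum_filter]
    refine Finset.sum_congr rfl (fun g _ => ?_)
    by_cases h : g ∈ P
    · rw [if_pos h, if_pos h, one_mul]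
    · rw [if_neg h, if_neg h, zero_mul]
  rw [h1]
  refine Finset.sum_bij (fun z _ => (z : G)) ?_ ?_ ?_ ?_
  · intro z _
    rw [Finset.mem_filter]
    exact ⟨Finset.mem_univ _, z.2⟩
  · intro z₁ _ z₂ _ h
    exact Subtype.ext h
  · intro g hg
    rw [Finset.mem_filter] at hg
    exact ⟨⟨g, hg.2⟩, Finset.mem_univ _, rfl⟩
  · intro z _
    rfl

/-- Averaging an irreducible character over a normal subgroup multiplies it by a scalar. -/
theorem sum_normal_translate (χ : IrrCharacter G) (P : Subgroup G) [P.Normal] [Fintype P] (g : G) :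
    ∑ z : P, (χ : G → ℂ) ((z : G) * g) =
      ((∑ z : P, (χ : G → ℂ) (z : G)) / (χ : G → ℂ) 1) * (χ : G → ℂ) g := by
  classical
  have h := irr_sum_mul_eq_omega χ (isClassFunction_indicator_normal P) g
  rw [← sum_subgroup_eq_sum_ite P (fun x => (χ : G → ℂ) (x * g))] at h
  rw [h]
  congr 1
  unfold omega
  rw [← sum_subgroup_eq_sum_ite P (fun x => (χ : G → ℂ) x)]

/-- Summing an irreducible character over a coset of a normal subgroup in its kernel. -/
theorem sum_normal_translate_of_ker (χ : IrrCharacter G) (P : Subgroup G) [P.Normal] [Fintype P]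
    (hker : ∀ u ∈ P, (χ : G → ℂ) u = (χ : G → ℂ) 1) (g : G) :
    ∑ z : P, (χ : G → ℂ) ((z : G) * g) = (Nat.card P : ℂ) * (χ : G → ℂ) g := by
  rw [sum_normal_translate χ P g]
  congr 1
  have hne := irr_one_ne_zero χ
  have hk : ∀ z : P, (χ : G → ℂ) (z : G) = (χ : G → ℂ) 1 := fun z => hker z z.2
  rw [Finset.sum_congr rfl (fun z _ => hk z), Finset.sum_const, Finset.card_univ,
    Nat.card_eq_fintype_card, nsmul_eq_mul, mul_div_assoc, div_self hne, mul_one]

/-- Summing an irreducible character over a coset of a normal subgroup not in its kernel. -/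
theorem sum_normal_translate_of_not_ker (χ : IrrCharacter G) (P : Subgroup G) [P.Normal]
    [Fintype P] (hker : ¬ ∀ u ∈ P, (χ : G → ℂ) u = (χ : G → ℂ) 1) (g : G) :
    ∑ z : P, (χ : G → ℂ) ((z : G) * g) = 0 := by
  classical
  have hne := irr_one_ne_zero χ
  set c : ℂ := (∑ z : P, (χ : G → ℂ) (z : G)) / (χ : G → ℂ) 1 with hc
  have hform : ∀ g : G, ∑ z : P, (χ : G → ℂ) ((z : G) * g) = c * (χ : G → ℂ) g :=
    fun g => sum_normal_translate χ P g
  have hcardP : (Fintype.card P : ℂ) = (Nat.card P : ℂ) := by rw [Nat.card_eq_fintype_card]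
  have hcsum : ∑ z : P, (χ : G → ℂ) (z : G) = c * (χ : G → ℂ) 1 := by
    rw [hc, div_mul_cancel₀ _ hne]
  have hPne : (Nat.card P : ℂ) ≠ 0 := by
    have : 0 < Nat.card P := Nat.card_pos
    exact_mod_cast this.ne'
  -- `c ^ 2 = |P| c`
  have hsq : c * c = (Nat.card P : ℂ) * c := by
    have h1 : ∑ z : P, ∑ w : P, (χ : G → ℂ) ((z : G) * ((w : G) * 1)) =
        (Nat.card P : ℂ) * (c * (χ : G → ℂ) 1) := by
      have : ∀ z : P, ∑ w : P, (χ : G → ℂ) ((z : G) * ((w : G) * 1)) =
          c * (χ : G → ℂ) 1 := by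
        intro z
        rw [← hform 1]
        have e := Equiv.sum_comp (Equiv.mulLeft z) (fun w : P => (χ : G → ℂ) ((w : G) * 1))
        rw [← e]
        refine Finset.sum_congr rfl (fun w _ => ?_)
        congr 1
        simp [mul_assoc]
      rw [Finset.sum_congr rfl (fun z _ => this z), Finset.sum_const, Finset.card_univ,
        nsmul_eq_mul, hcardP]
    have h2 : ∑ z : P, ∑ w : P, (χ : G → ℂ) ((z : G) * ((w : G) * 1)) =
        c * (c * (χ : G → ℂ) 1) := by
      rw [Finset.sum_comm]
      have : ∀ w : P, ∑ z : P, (χ : G → ℂ) ((z : G) * ((w : G) * 1)) =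
          c * (χ : G → ℂ) ((w : G) * 1) := fun w => hform _
      rw [Finset.sum_congr rfl (fun w _ => this w), ← Finset.mul_sum, hform 1]
    have h3 : (c * c - (Nat.card P : ℂ) * c) * (χ : G → ℂ) 1 = 0 := by
      linear_combination h1 - h2
    rcases mul_eq_zero.mp h3 with h | h
    · linear_combination h
    · exact absurd h hne
  have hc0 : c = 0 := by
    by_contra hcne
    have hcP : c = (Nat.card P : ℂ) := by
      have : (c - (Nat.card P : ℂ)) * c = 0 := by linear_combination hsq
      rcases mul_eq_zero.mp this with h | h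
      · linear_combination h
      · exact absurd h hcne
    apply hker
    intro u hu
    have h1 := hform u
    have h2 : ∑ z : P, (χ : G → ℂ) ((z : G) * u) = ∑ z : P, (χ : G → ℂ) (z : G) := by
      rw [← Equiv.sum_comp (Equiv.mulRight (⟨u, hu⟩ : P)) (fun z : P => (χ : G → ℂ) (z : G))]
      refine Finset.sum_congr rfl (fun z _ => ?_)
      rfl
    rw [h2, hcsum, hcP] at h1
    exact (mul_left_cancel₀ hPne h1).symm
  rw [hform g, hc0, zero_mul]

/-- For a normal `p`-subgroup `P` centralized by the `p`-regular elements, the `p`-regular part of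
a member of `B` lies in the span of the `p`-regular parts of the members of `B` having `P` in
their kernel. -/
theorem pRegularPart_mem_span_ker_normal [Fact p.Prime] (hM : IsPModular p M)
    {B : Set (IrrCharacter G)}
    (hB : IsPBlock M B) (P : Subgroup G) [P.Normal] (hP : IsPGroup p P)
    (hPC : ∀ z ∈ P, ∀ x : G, ¬ p ∣ orderOf x → z * x = x * z)
    (ψ : IrrCharacter G) (hψ : ψ ∈ B) :
    pRegularPart p (ψ : G → ℂ) ∈ Submodule.span ℂ
      ((fun χ : IrrCharacter G => pRegularPart p (χ : G → ℂ)) ''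
        {χ | χ ∈ B ∧ ∀ u ∈ P, (χ : G → ℂ) u = (χ : G → ℂ) 1}) := by
  classical
  haveI : Fintype P := Fintype.ofFinite P
  set c : IrrCharacter G → ℂ := fun χ =>
    classInner (pRegularPart p (ψ : G → ℂ)) (pRegularPart p (χ : G → ℂ)) with hc
  have hfun : pRegularPart p (ψ : G → ℂ) = ∑ χ ∈ (Set.toFinite B).toFinset,
      (if ∀ u ∈ P, (χ : G → ℂ) u = (χ : G → ℂ) 1 then (Nat.card P : ℂ) * c χ else 0) •
        pRegularPart p (χ : G → ℂ) := by
    funext x
    rw [Finset.sum_apply]
    by_cases hx : p ∣ orderOf x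
    · simp only [Pi.smul_apply, Helper77.pRegularPart_of_sing hx, smul_zero, Finset.sum_const_zero]
    · simp only [Pi.smul_apply, Helper77.pRegularPart_of_reg hx, smul_eq_mul]
      have h1 : ∑ z : P, pRegularPart p (ψ : G → ℂ) ((z : G) * x) = (ψ : G → ℂ) x := by
        rw [Finset.sum_eq_single (1 : P)]
        · rw [Subgroup.coe_one, one_mul, Helper77.pRegularPart_of_reg hx]
        · intro z _ hz
          apply Helper77.pRegularPart_of_sing
          have hz1 : (z : G) ≠ 1 := by
            intro h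
            apply hz
            exact Subtype.ext h
          exact Helper77.dvd_orderOf_mul_of_isPGroup hP z.2 hz1 (hPC z z.2 x hx) hx
        · intro h
          exact absurd (Finset.mem_univ _) h
      rw [← h1]
      have h2 : ∀ z : P, pRegularPart p (ψ : G → ℂ) ((z : G) * x) =
          ∑ χ ∈ (Set.toFinite B).toFinset, c χ * (χ : G → ℂ) ((z : G) * x) := fun z =>
        (sum_inner_pRegularPart_full hM hB ψ hψ _).symm
      rw [Finset.sum_congr rfl (fun z _ => h2 z), Finset.sum_comm]
      refine Finset.sum_congr rfl (fun χ _ => ?_)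
      rw [← Finset.mul_sum]
      by_cases hk : ∀ u ∈ P, (χ : G → ℂ) u = (χ : G → ℂ) 1
      · rw [if_pos hk, sum_normal_translate_of_ker χ P hk]
        ring
      · rw [if_neg hk, sum_normal_translate_of_not_ker χ P hk, mul_zero, zero_mul]
  rw [hfun]
  refine Submodule.sum_mem _ (fun χ hχ => ?_)
  by_cases hk : ∀ u ∈ P, (χ : G → ℂ) u = (χ : G → ℂ) 1
  · refine Submodule.smul_mem _ _ (Submodule.subset_span ⟨χ, ⟨?_, hk⟩, rfl⟩)
    simpa using hχ
  · rw [if_neg hk, zero_smul]
    exact Submodule.zero_mem _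

/-- If `θ` is the only member of `B` with `P` in its kernel, every member of `B` is proportional
to `θ` on the `p`-regular elements. -/
theorem exists_smul_pRegular_of_unique_ker [Fact p.Prime] (hM : IsPModular p M)
    {B : Set (IrrCharacter G)}
    (hB : IsPBlock M B) (P : Subgroup G) [P.Normal] (hP : IsPGroup p P)
    (hPC : ∀ z ∈ P, ∀ x : G, ¬ p ∣ orderOf x → z * x = x * z)
    (θ : IrrCharacter G)
    (huniq : ∀ χ ∈ B, (∀ u ∈ P, (χ : G → ℂ) u = (χ : G → ℂ) 1) → χ = θ)
    (ψ : IrrCharacter G) (hψ : ψ ∈ B) :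
    ∃ c : ℂ, ∀ x : G, ¬ p ∣ orderOf x → (ψ : G → ℂ) x = c * (θ : G → ℂ) x := by
  have h := pRegularPart_mem_span_ker_normal hM hB P hP hPC ψ hψ
  have hsub : ((fun χ : IrrCharacter G => pRegularPart p (χ : G → ℂ)) ''
        {χ | χ ∈ B ∧ ∀ u ∈ P, (χ : G → ℂ) u = (χ : G → ℂ) 1}) ⊆
      {pRegularPart p (θ : G → ℂ)} := by
    rintro _ ⟨χ, ⟨hχB, hχk⟩, rfl⟩
    rw [huniq χ hχB hχk]
    exact Set.mem_singleton _
  have h2 := Submodule.span_mono (R := ℂ) hsub h
  rw [Submodule.mem_span_singleton] at h2
  obtain ⟨c, hc⟩ := h2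
  refine ⟨c, fun x hx => ?_⟩
  have := congrFun hc x
  rw [Pi.smul_apply, smul_eq_mul, Helper77.pRegularPart_of_reg hx,
    Helper77.pRegularPart_of_reg hx] at this
  exact this.symm

end NA

end Cfsg.Agent.Helper16
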