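import Cfsg.Agent.Helper16.SubsectionCount

/-!
# Block orthogonality on a `p`-section, two-variable form (helper16)

For a `p`-element `z` of `G` with centralizer `C`, a block `B` of `G` and `p`-regular `y, y' ∈ C`:
`∑_{ζ ∈ B} ζ(z y) conj ζ(z y') = ∑_{b^G = B} ∑_{χ ∈ b} χ(y) conj χ(y')`.
The diagonal case `y = y'` is `block_norm_sum_eq`.
-/

set_option autoImplicit false
set_option linter.unusedSectionVars false
set_option linter.unusedVariables false

namespace Cfsg.Agent.Helper16

open Cfsg
open scoped ComplexConjugate

variable {G : Type*} [Group G] [Fintype G] {M : Ideal AlgInt} {p : ℕ}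

open Classical in
/-- The `b`-component of the class indicator of `z y'` at `y`. -/
theorem shiftPart_classInd_two [Fact p.Prime] (hM : IsPModular p M) (z : G)
    (hz : ∃ k : ℕ, orderOf z = p ^ k) [Fintype (Subgroup.centralizer ({z} : Set G))]
    {b : Set (IrrCharacter (Subgroup.centralizer ({z} : Set G)))} (hb : IsPBlock M b)
    (y y' : Subgroup.centralizer ({z} : Set G)) (hy : ¬ p ∣ orderOf y) (hy' : ¬ p ∣ orderOf y') :
    shiftPart z b (classInd (z * (y' : G))) y = blockPart b (classInd y') y := by
  classical
  have hθ := isClassFunction_classInd (z * (y' : G))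
  have hC : shiftPart z b (classInd (z * (y' : G))) y =
      blockPart b (fun c : Subgroup.centralizer ({z} : Set G) =>
        classInd (z * (y' : G)) (z * (c : G))) y := by
    rw [shiftPart_def, ← blockPart_eq_sum_blockCoeff_mul b (isClassFunction_shift' hθ z) y]
  have hD : blockPart b (fun c : Subgroup.centralizer ({z} : Set G) =>
        classInd (z * (y' : G)) (z * (c : G))) y = blockPart b (classInd y') y := by
    have hd := blockPart_eq_zero_of_vanish_pRegular hM hb
      ((fun c : Subgroup.centralizer ({z} : Set G) => classInd (z * (y' : G)) (z * (c : G))) -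
        classInd y') (by
        intro c hc
        rw [Pi.sub_apply]
        unfold classInd
        have := isConj_mul_iff z hz y' c hy' hc
        by_cases hyc : IsConj y' c
        · rw [if_pos hyc, if_pos (this.mpr hyc), sub_self]
        · rw [if_neg hyc, if_neg (fun h => hyc (this.mp h)), sub_self]) y hy
    rw [blockPart_sub] at hd
    exact sub_eq_zero.mp hd
  rw [hC, hD]

open Classical in
/-- **Block orthogonality on a `p`-section, two-variable form.** -/
theorem block_section_orth [Fact p.Prime] (hM : IsPModular p M) (z : G)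
    (hz : ∃ k : ℕ, orderOf z = p ^ k) [Fintype (Subgroup.centralizer ({z} : Set G))]
    {B : Set (IrrCharacter G)} (hB : IsPBlock M B)
    (y y' : Subgroup.centralizer ({z} : Set G)) (hy : ¬ p ∣ orderOf y) (hy' : ¬ p ∣ orderOf y') :
    ∑ ζ : IrrCharacter G, (if ζ ∈ B then (1 : ℂ) else 0) *
      ((ζ : G → ℂ) (z * (y : G)) * conj ((ζ : G → ℂ) (z * (y' : G)))) =
    ∑ b ∈ (Helper77.blocksFinset M (Subgroup.centralizer ({z} : Set G))).filter
        (fun b => IsInducedBlock M (Subgroup.centralizer ({z} : Set G)) b B),
      ∑ χ : IrrCharacter (Subgroup.centralizer ({z} : Set G)),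
        (if χ ∈ b then (1 : ℂ) else 0) *
        ((χ : Subgroup.centralizer ({z} : Set G) → ℂ) y *
          conj ((χ : Subgroup.centralizer ({z} : Set G) → ℂ) y')) := by
  haveI hMp : M.IsPrime := IsPModular.isPrime hM
  have hθ := isClassFunction_classInd (z * (y' : G))
  have h1 := blockPart_shift_general hM z hz hB hθ y hy
  have h2 : ∀ b ∈ (Helper77.blocksFinset M (Subgroup.centralizer ({z} : Set G))).filter
        (fun b => IsInducedBlock M (Subgroup.centralizer ({z} : Set G)) b B),
      shiftPart z b (classInd (z * (y' : G))) y =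
      (Nat.card (Subgroup.centralizer ({y'} : Set (Subgroup.centralizer ({z} : Set G)))) : ℂ)⁻¹ *
        ∑ χ : IrrCharacter (Subgroup.centralizer ({z} : Set G)),
        (if χ ∈ b then (1 : ℂ) else 0) *
        ((χ : Subgroup.centralizer ({z} : Set G) → ℂ) y *
          conj ((χ : Subgroup.centralizer ({z} : Set G) → ℂ) y')) := by
    intro b hb
    rw [Finset.mem_filter, Helper77.mem_blocksFinset] at hb
    rw [shiftPart_classInd_two hM z hz hb.1 y y' hy hy', blockPart_classInd]
  rw [Finset.sum_congr rfl h2, ← Finset.mul_sum, blockPart_classInd,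
    card_centralizer_mul z hz y' hy'] at h1
  have hc : (Nat.card (Subgroup.centralizer ({y'} : Set (Subgroup.centralizer ({z} : Set G)))) : ℂ)⁻¹
      ≠ 0 := by
    apply inv_ne_zero
    have : 0 < Nat.card (Subgroup.centralizer ({y'} : Set (Subgroup.centralizer ({z} : Set G)))) :=
      Nat.card_pos
    exact_mod_cast this.ne'
  exact mul_left_cancel₀ hc h1

end Cfsg.Agent.Helper16
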