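import Cfsg.Agent.Helper82.PRB.Defs
import Cfsg.Agent.Helper16.DT.Defs
import Cfsg.Agent.Helper77.BlockRank
import Cfsg.Agent.Helper16.SectionOrth

/-!
# PRB farm (S4712), leaf (BN2): the two-variable block norm formula (helper16)
-/

set_option autoImplicit false
set_option linter.unusedSectionVars false
set_option linter.unusedVariables false

namespace Cfsg.Agent.Helper16.PRB

open Cfsg Cfsg.Agent.Helper16 Cfsg.Agent.Helper16.DT Cfsg.Agent.Helper82.PRB
open scoped ComplexConjugate

universe u

variable {G : Type u} [Group G] [Fintype G] {M : Ideal AlgInt} {p : ℕ}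

open Classical in
/-- (BN2) the two-variable form of `Helper16.block_norm_sum_eq`. -/
theorem block_norm_sum_eq₂ [Fact p.Prime] (hM : IsPModular p M) (z : G)
    (hz : ∃ k : ℕ, orderOf z = p ^ k) [Fintype (Subgroup.centralizer ({z} : Set G))]
    {B : Set (IrrCharacter G)} (hB : IsPBlock M B)
    (y y' : Subgroup.centralizer ({z} : Set G)) (hy : ¬ p ∣ orderOf y) (hy' : ¬ p ∣ orderOf y') :
    ∑ ζ : IrrCharacter G, (if ζ ∈ B then (1 : ℂ) else 0) *
      ((ζ : G → ℂ) (z * (y' : G)) * conj ((ζ : G → ℂ) (z * (y : G)))) =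
    ∑ b ∈ (Helper77.blocksFinset M (Subgroup.centralizer ({z} : Set G))).filter
        (fun b => IsInducedBlock M (Subgroup.centralizer ({z} : Set G)) b B),
      ∑ χ : IrrCharacter (Subgroup.centralizer ({z} : Set G)),
        (if χ ∈ b then (1 : ℂ) else 0) *
        ((χ : Subgroup.centralizer ({z} : Set G) → ℂ) y' *
          conj ((χ : Subgroup.centralizer ({z} : Set G) → ℂ) y)) :=
  block_section_orth hM z hz hB y' y hy' hy

end Cfsg.Agent.Helper16.PRB
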