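import Cfsg.Agent.Helper82.PRB.Defs
import Cfsg.Agent.Helper16.DT.Defs
import Cfsg.Agent.Helper77.BlockRank
import Cfsg.Agent.Helper16.PRB_BN2

/-!
# PRB farm (S4712), leaf (SECF): a section whose `p`-element is conjugate to its `m`-th power
-/

set_option autoImplicit false
set_option linter.unusedSectionVars false
set_option linter.unusedVariables false

namespace Cfsg.Agent.Helper16.PRB

open Cfsg Cfsg.Agent.Helper16 Cfsg.Agent.Helper16.DT Cfsg.Agent.Helper82.PRB
open scoped ComplexConjugate

universe u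

variable {G : Type u} [Group G] [Fintype G] {M : Ideal AlgInt} {p : ℕ}

/-- (POW), local copy: for `y` `p`-regular commuting with `z` and `m = 1` modulo the `p'`-part of
`|G|`: `(z y)^m = z^m y`. -/
theorem mul_pow_of_pRegular_aux [Fact p.Prime] (m : ℕ)
    (hm1 : m ≡ 1 [MOD Nat.card G / p ^ (Nat.card G).factorization p]) (z y : G)
    (hzy : Commute z y) (hy : ¬ p ∣ orderOf y) : (z * y) ^ m = z ^ m * y := by
  have hp : p.Prime := Fact.out
  have hdvd : orderOf y ∣ Nat.card G := orderOf_dvd_natCard y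
  have hcop : Nat.Coprime (orderOf y) (p ^ (Nat.card G).factorization p) :=
    Nat.Coprime.pow_right _ ((Nat.Prime.coprime_iff_not_dvd hp).mpr hy).symm
  have hsplit : p ^ (Nat.card G).factorization p * (Nat.card G / p ^ (Nat.card G).factorization p) =
      Nat.card G := Nat.ordProj_mul_ordCompl_eq_self (Nat.card G) p
  have hdvd' : orderOf y ∣ Nat.card G / p ^ (Nat.card G).factorization p := by
    rw [← hsplit] at hdvd
    exact hcop.dvd_of_dvd_mul_left hdvd
  have hym : y ^ m = y := by
    have h1 : m ≡ 1 [MOD orderOf y] := hm1.of_dvd hdvd'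
    have := (pow_eq_pow_iff_modEq (x := y) (n := m) (m := 1)).mpr h1
    simpa using this
  rw [hzy.mul_pow, hym]

open Classical in
/-- (SECF) a section whose `p`-element `z` is conjugate to `z^m` by `t`: `σ` is conjugation by `t`
on `H = C_G(z)`. -/
theorem twN_eq_of_conj [Fact p.Prime] (hM : IsPModular p M) {B : Set (IrrCharacter G)}
    (hB : IsPBlock M B) (m : ℕ)
    (hm1 : m ≡ 1 [MOD Nat.card G / p ^ (Nat.card G).factorization p])
    (z : G) (hz : ∃ k : ℕ, orderOf z = p ^ k) [Fintype (Subgroup.centralizer ({z} : Set G))]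
    (t : G) (ht : t * z * t⁻¹ = z ^ m)
    (σ : Subgroup.centralizer ({z} : Set G) ≃* Subgroup.centralizer ({z} : Set G))
    (hσ : ∀ k : Subgroup.centralizer ({z} : Set G), ((σ k : Subgroup.centralizer ({z} : Set G)) : G) =
      t * (k : G) * t⁻¹)
    (y : Subgroup.centralizer ({z} : Set G)) (hy : ¬ p ∣ orderOf y) :
    twN B m (z * (y : G)) =
    ∑ b ∈ (Helper77.blocksFinset M (Subgroup.centralizer ({z} : Set G))).filter
        (fun b => IsInducedBlock M (Subgroup.centralizer ({z} : Set G)) b B),
      ∑ χ : IrrCharacter (Subgroup.centralizer ({z} : Set G)),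
        (if χ ∈ b then (1 : ℂ) else 0) *
        ((χ : Subgroup.centralizer ({z} : Set G) → ℂ) (σ.symm y) *
          conj ((χ : Subgroup.centralizer ({z} : Set G) → ℂ) y)) := by
  have hzy : Commute z (y : G) := by
    have := y.2
    rw [Subgroup.mem_centralizer_iff] at this
    exact (this z (Set.mem_singleton z))
  have hy' : ¬ p ∣ orderOf (y : G) := by rwa [Subgroup.orderOf_coe]
  have hpow : (z * (y : G)) ^ m = z ^ m * (y : G) := mul_pow_of_pRegular_aux m hm1 z y hzy hy'
  -- `σ (σ.symm y) = y`
  have hsy : t * ((σ.symm y : Subgroup.centralizer ({z} : Set G)) : G) * t⁻¹ = (y : G) := by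
    rw [← hσ, MulEquiv.apply_symm_apply]
  have hconj : z ^ m * (y : G) =
      t * (z * ((σ.symm y : Subgroup.centralizer ({z} : Set G)) : G)) * t⁻¹ := by
    rw [← ht, ← hsy]
    group
  have hord : ¬ p ∣ orderOf (σ.symm y) := by
    rwa [MulEquiv.orderOf_eq]
  rw [← block_norm_sum_eq₂ hM z hz hB y (σ.symm y) hy hord, twN_def]
  refine Finset.sum_congr rfl (fun ζ _ => ?_)
  rw [hpow, hconj, irr_isClassFunction ζ _ t]

end Cfsg.Agent.Helper16.PRB
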