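import Cfsg.Agent.Helper16.Quotient
import Cfsg.Agent.Helper16.SylowIn
import Cfsg.Agent.Helper16.Defect

/-!
# Central characters of inflated characters and images of Sylow subgroups of centralizers
-/

set_option autoImplicit false
set_option linter.unusedSectionVars false
set_option linter.unusedVariables false

namespace Cfsg.Agent.Helper16

open Cfsg

section

variable {G : Type*} [Group G] [Finite G] (N : Subgroup G) [N.Normal]

theorem centralizer_le_comap_centralizer_mk (x : G) :
    Subgroup.centralizer ({x} : Set G) ≤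
      (Subgroup.centralizer ({(QuotientGroup.mk x : G ⧸ N)} : Set (G ⧸ N))).comap
        (QuotientGroup.mk' N) := by
  intro y hy
  rw [Subgroup.mem_comap, Subgroup.mem_centralizer_singleton_iff]
  rw [Subgroup.mem_centralizer_singleton_iff] at hy
  show (QuotientGroup.mk y : G ⧸ N) * QuotientGroup.mk x = QuotientGroup.mk x * QuotientGroup.mk y
  rw [← QuotientGroup.mk_mul, ← QuotientGroup.mk_mul, hy]

/-- The central character of an inflated function. -/
theorem centralChar_comp_mk (φ : G ⧸ N → ℂ) (x : G) :
    centralChar (φ ∘ (QuotientGroup.mk : G → G ⧸ N)) x =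
      (((Subgroup.centralizer ({x} : Set G)).relIndex
        ((Subgroup.centralizer ({(QuotientGroup.mk x : G ⧸ N)} : Set (G ⧸ N))).comap
          (QuotientGroup.mk' N)) : ℕ) : ℂ) * centralChar φ (QuotientGroup.mk x) := by
  unfold centralChar
  have h1 := Subgroup.relIndex_mul_index (centralizer_le_comap_centralizer_mk N x)
  rw [Subgroup.index_comap_of_surjective _ (QuotientGroup.mk'_surjective N)] at h1
  rw [← h1]
  simp only [Function.comp_apply, QuotientGroup.mk_one, Nat.cast_mul]
  ring

/-- A `p`-subgroup of `K` of index prime to `p` in `K` has Sylow order. -/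
theorem card_eq_of_not_dvd_relIndex {p : ℕ} [Fact p.Prime] {S K : Subgroup G} (hS : IsPGroup p S)
    (hle : S ≤ K) (h : ¬ p ∣ S.relIndex K) :
    Nat.card S = p ^ (Nat.card K).factorization p := by
  have hp : p.Prime := Fact.out
  obtain ⟨k, hk⟩ := hS.exists_card_eq
  have h1 : (S.subgroupOf K).index * Nat.card (S.subgroupOf K) = Nat.card K :=
    Subgroup.index_mul_card _
  have h2 : Nat.card (S.subgroupOf K) = Nat.card S :=
    Nat.card_congr (Subgroup.subgroupOfEquivOfLe hle).toEquiv
  have h3 : S.relIndex K = (S.subgroupOf K).index := rfl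
  rw [h2, ← h3, hk] at h1
  have hr0 : S.relIndex K ≠ 0 := by
    intro h0; apply h; rw [h0]; exact dvd_zero p
  rw [← h1, Nat.factorization_mul hr0 (pow_ne_zero k hp.ne_zero), Finsupp.add_apply,
    Nat.factorization_eq_zero_of_not_dvd h, hp.factorization_pow, Finsupp.single_eq_same, zero_add,
    hk]

/-- If `Q` is a Sylow `p`-subgroup of `C ≤ H`, `N ≤ H`, and `|H : C|` is prime to `p`, then the
image of `Q` in `G ⧸ N` has the order of a Sylow `p`-subgroup of the image of `H`. -/
theorem card_map_mk_sylow {p : ℕ} [Fact p.Prime] (C H : Subgroup G) (hCH : C ≤ H) (hNH : N ≤ H)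
    (Q : Sylow p C) (hrel : ¬ p ∣ C.relIndex H) :
    (((Q : Subgroup C).map C.subtype).map (QuotientGroup.mk' N) ≤ H.map (QuotientGroup.mk' N)) ∧
    Nat.card (((Q : Subgroup C).map C.subtype).map (QuotientGroup.mk' N)) =
      p ^ (Nat.card (H.map (QuotientGroup.mk' N))).factorization p := by
  have hp : p.Prime := Fact.out
  have hQ'C : (Q : Subgroup C).map C.subtype ≤ C := Subgroup.map_subtype_le _
  have hle : ((Q : Subgroup C).map C.subtype).map (QuotientGroup.mk' N) ≤
      H.map (QuotientGroup.mk' N) := Subgroup.map_mono (hQ'C.trans hCH)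
  refine ⟨hle, ?_⟩
  have hQ'p : IsPGroup p ((Q : Subgroup C).map C.subtype) := Q.2.map _
  have hSp : IsPGroup p (((Q : Subgroup C).map C.subtype).map (QuotientGroup.mk' N)) :=
    hQ'p.map _
  apply card_eq_of_not_dvd_relIndex hSp hle
  have hker : (QuotientGroup.mk' N).ker = N := QuotientGroup.ker_mk' N
  have h1 : (((Q : Subgroup C).map C.subtype).map (QuotientGroup.mk' N)).relIndex
      (H.map (QuotientGroup.mk' N)) = ((Q : Subgroup C).map C.subtype ⊔ N).relIndex H := by
    rw [Subgroup.relIndex_map_map, hker, sup_eq_left.mpr hNH]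
  rw [h1]
  have h2 : ((Q : Subgroup C).map C.subtype ⊔ N).relIndex H ∣
      ((Q : Subgroup C).map C.subtype).relIndex H :=
    Subgroup.relIndex_dvd_of_le_left H le_sup_left
  have h3 : ((Q : Subgroup C).map C.subtype).relIndex C * C.relIndex H =
      ((Q : Subgroup C).map C.subtype).relIndex H :=
    Subgroup.relIndex_mul_relIndex _ C H hQ'C hCH
  have h4 : ((Q : Subgroup C).map C.subtype).relIndex C = (Q : Subgroup C).index := by
    show (((Q : Subgroup C).map C.subtype).subgroupOf C).index = _
    rw [Subgroup.subgroupOf, Subgroup.comap_map_eq_self_of_injective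
      (Subgroup.subtype_injective _)]
  intro hdvd
  have hdvd' : p ∣ ((Q : Subgroup C).map C.subtype).relIndex C * C.relIndex H := by
    rw [h3]; exact hdvd.trans h2
  rcases (Nat.Prime.dvd_mul hp).mp hdvd' with h | h
  · rw [h4] at h
    exact Q.not_dvd_index h
  · exact hrel h

/-- If `Q` is a Sylow `p`-subgroup of `C_G(x)` and the class of `x` has the same `p`-part as the
class of its image, then the image of `Q` has the order of a Sylow subgroup of the centralizer of
the image. -/
theorem card_map_mk_sylow_centralizer {p : ℕ} [Fact p.Prime] (x : G)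
    (Q : Sylow p (Subgroup.centralizer ({x} : Set G)))
    (hrel : ¬ p ∣ (Subgroup.centralizer ({x} : Set G)).relIndex
      ((Subgroup.centralizer ({(QuotientGroup.mk x : G ⧸ N)} : Set (G ⧸ N))).comap
        (QuotientGroup.mk' N))) :
    (((Q : Subgroup (Subgroup.centralizer ({x} : Set G))).map
        (Subgroup.centralizer ({x} : Set G)).subtype).map (QuotientGroup.mk' N) ≤
      Subgroup.centralizer ({(QuotientGroup.mk x : G ⧸ N)} : Set (G ⧸ N))) ∧
    Nat.card (((Q : Subgroup (Subgroup.centralizer ({x} : Set G))).map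
        (Subgroup.centralizer ({x} : Set G)).subtype).map (QuotientGroup.mk' N)) =
      p ^ (Nat.card (Subgroup.centralizer
        ({(QuotientGroup.mk x : G ⧸ N)} : Set (G ⧸ N)))).factorization p := by
  have hker : (QuotientGroup.mk' N).ker = N := QuotientGroup.ker_mk' N
  have hNH : N ≤ (Subgroup.centralizer ({(QuotientGroup.mk x : G ⧸ N)} : Set (G ⧸ N))).comap
      (QuotientGroup.mk' N) := by
    intro n hn
    rw [Subgroup.mem_comap]
    have : (QuotientGroup.mk' N) n = 1 := by
      rw [← MonoidHom.mem_ker, hker]; exact hn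
    rw [this]; exact Subgroup.one_mem _
  have h := card_map_mk_sylow N _ _ (centralizer_le_comap_centralizer_mk N x) hNH Q hrel
  rw [Subgroup.map_comap_eq_self_of_surjective (QuotientGroup.mk'_surjective N)] at h
  exact h

end

end Cfsg.Agent.Helper16
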