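import Cfsg.Agent.Helper16.DefectClasses
import Cfsg.Agent.Helper16.UnionBlocks
import Cfsg.Agent.Helper77.DefectOrder
import Cfsg.Agent.Helper77.BlockOrth
import Cfsg.Agent.Helper78.BlockBasic
import Cfsg.Agent.Helper79.Linear
import Cfsg.Agent.Helper74.CharBasic

/-!
# Real blocks for the prime 2

Pairing argument `K ↔ K⁻¹` on the conjugacy classes, and real classes of odd order elements.
-/

set_option autoImplicit false
set_option linter.unusedSectionVars false
set_option linter.unusedVariables false

namespace Cfsg.Agent.Helper16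

open Cfsg
open scoped ComplexConjugate

universe u

/-- Pairing lemma: a sum over the non-fixed points of an involution `σ` of a function that is
`σ`-invariant modulo the local ideal lies in the local ideal, when `2` does. -/
theorem sum_involution_memLocalIdeal {α : Type*} [Fintype α] [DecidableEq α] {M : Ideal AlgInt}
    [M.IsPrime] (h2 : MemLocalIdeal M 2) (σ : α → α) (hσ : ∀ a, σ (σ a) = a) (f : α → ℂ)
    (hR : ∀ a, MemLocalRing M (f a)) (hf : ∀ a, MemLocalIdeal M (f (σ a) - f a)) :
    MemLocalIdeal M (∑ a ∈ Finset.univ.filter (fun a => σ a ≠ a), f a) := by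
  classical
  let r : α → ℕ := fun a => (Fintype.equivFin α a : ℕ)
  have hr : Function.Injective r := fun a b h => (Fintype.equivFin α).injective (Fin.ext h)
  have hsplit : Finset.univ.filter (fun a => σ a ≠ a) =
      Finset.univ.filter (fun a => r a < r (σ a)) ∪
        Finset.univ.filter (fun a => r (σ a) < r a) := by
    ext a
    simp only [Finset.mem_filter, Finset.mem_univ, true_and, Finset.mem_union]
    constructor
    · intro h
      rcases lt_trichotomy (r a) (r (σ a)) with h1 | h1 | h1
      · exact Or.inl h1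
      · exact absurd (hr h1).symm h
      · exact Or.inr h1
    · rintro (h | h) heq <;> rw [heq] at h <;> exact lt_irrefl _ h
  have hdisj : Disjoint (Finset.univ.filter (fun a => r a < r (σ a)))
      (Finset.univ.filter (fun a => r (σ a) < r a)) := by
    rw [Finset.disjoint_filter]
    intro a _ h1 h2
    exact lt_asymm h1 h2
  rw [hsplit, Finset.sum_union hdisj]
  have hgt : ∑ a ∈ Finset.univ.filter (fun a => r (σ a) < r a), f a =
      ∑ a ∈ Finset.univ.filter (fun a => r a < r (σ a)), f (σ a) := by
    refine Finset.sum_nbij' σ σ ?_ ?_ ?_ ?_ ?_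
    · intro a ha
      simp only [Finset.mem_filter, Finset.mem_univ, true_and] at ha ⊢
      rw [hσ]; exact ha
    · intro a ha
      simp only [Finset.mem_filter, Finset.mem_univ, true_and] at ha ⊢
      rw [hσ]; exact ha
    · intro a _; exact hσ a
    · intro a _; exact hσ a
    · intro a _; rw [hσ]
  rw [hgt, ← Finset.sum_add_distrib]
  refine memLocalIdeal_sum _ _ (fun a _ => ?_)
  have e : f a + f (σ a) = 2 * f a + (f (σ a) - f a) := by ring
  rw [e]
  exact memLocalIdeal_add (memLocalIdeal_mul_right h2 (hR a)) (hf a)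

variable {G : Type u} [Group G] [Fintype G]

/-- A real element `g ≠ 1` of odd order has a conjugacy class of even size. -/
theorem two_dvd_index_centralizer_of_real (g : G) (hg : g ≠ 1) (hodd : ¬ 2 ∣ orderOf g)
    (hreal : IsConj g g⁻¹) : 2 ∣ (Subgroup.centralizer ({g} : Set G)).index := by
  classical
  have hcard := card_filter_isConj' g
  have hcard' : (Finset.univ.filter (fun x => IsConj g x)).card =
      (Subgroup.centralizer ({g} : Set G)).index := by exact_mod_cast hcard
  rw [← hcard']
  have hz : ((Finset.univ.filter (fun x => IsConj g x)).card : ZMod 2) = 0 := by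
    rw [Finset.card_eq_sum_ones, Nat.cast_sum]
    refine Finset.sum_involution (fun x _ => x⁻¹) ?_ ?_ ?_ ?_
    · intro a _
      simp only [Nat.cast_one]
      decide
    · intro a ha _ hinv
      simp only [Finset.mem_filter, Finset.mem_univ, true_and] at ha
      have hsq : a ^ 2 = 1 := by
        rw [pow_two]
        calc a * a = a⁻¹ * a := by rw [hinv]
          _ = 1 := inv_mul_cancel a
      have hord : orderOf a = orderOf g := by
        obtain ⟨c, hc⟩ := isConj_iff.mp ha
        rw [← hc]
        exact (MulEquiv.orderOf_eq (MulAut.conj c) g)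
      have hd : orderOf a ∣ 2 := orderOf_dvd_of_pow_eq_one hsq
      rw [hord] at hd
      have h12 : orderOf g = 1 ∨ orderOf g = 2 := by
        have := (Nat.dvd_prime Nat.prime_two).mp hd
        exact this
      rcases h12 with h1 | h2
      · exact hg (orderOf_eq_one_iff.mp h1)
      · exact hodd (by rw [h2])
    · intro a ha
      simp only [Finset.mem_filter, Finset.mem_univ, true_and] at ha ⊢
      obtain ⟨c, hc⟩ := isConj_iff.mp ha
      have h1 : IsConj g⁻¹ a⁻¹ := isConj_iff.mpr ⟨c, by rw [← hc]; group⟩
      exact hreal.trans h1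
    · intro a _
      exact inv_inv a
  exact (ZMod.natCast_eq_zero_iff _ 2).mp hz

/-- A set of irreducible characters is *real* when it is closed under complex conjugation. -/
def IsRealSet (B : Set (IrrCharacter G)) : Prop :=
  ∀ ψ ∈ B, ∃ χ ∈ B, (χ : G → ℂ) = fun g => conj ((ψ : G → ℂ) g)

theorem irr_one_conj (χ : IrrCharacter G) : conj ((χ : G → ℂ) 1) = (χ : G → ℂ) 1 := by
  rw [← Helper74.charDegree_cast (Helper74.irr_isCharacter χ)]
  exact Complex.conj_natCast _

/-- The partial involution "complex conjugate" on irreducible characters. -/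
noncomputable def irrBar (ψ : IrrCharacter G) : IrrCharacter G := by
  classical
  exact if h : ∃ χ : IrrCharacter G, (χ : G → ℂ) = fun g => conj ((ψ : G → ℂ) g) then
    Classical.choose h else ψ

theorem irrBar_of_exists {ψ χ : IrrCharacter G}
    (h : (χ : G → ℂ) = fun g => conj ((ψ : G → ℂ) g)) : irrBar ψ = χ := by
  classical
  have hex : ∃ χ : IrrCharacter G, (χ : G → ℂ) = fun g => conj ((ψ : G → ℂ) g) := ⟨χ, h⟩
  unfold irrBar
  rw [dif_pos hex]
  apply Subtype.ext
  rw [Classical.choose_spec hex, h]

theorem irrBar_of_not_exists {ψ : IrrCharacter G}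
    (h : ¬ ∃ χ : IrrCharacter G, (χ : G → ℂ) = fun g => conj ((ψ : G → ℂ) g)) :
    irrBar ψ = ψ := by
  classical
  unfold irrBar
  rw [dif_neg h]

theorem irrBar_irrBar (ψ : IrrCharacter G) : irrBar (irrBar ψ) = ψ := by
  classical
  by_cases hex : ∃ χ : IrrCharacter G, (χ : G → ℂ) = fun g => conj ((ψ : G → ℂ) g)
  · obtain ⟨χ, hχ⟩ := hex
    rw [irrBar_of_exists hχ]
    apply irrBar_of_exists
    funext g
    rw [hχ]
    simp
  · rw [irrBar_of_not_exists hex, irrBar_of_not_exists hex]

theorem irrBar_mem_iff {B : Set (IrrCharacter G)} (hB : IsRealSet B) (ψ : IrrCharacter G) :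
    irrBar ψ ∈ B ↔ ψ ∈ B := by
  have key : ∀ ψ : IrrCharacter G, ψ ∈ B → irrBar ψ ∈ B := by
    intro ψ hψ
    obtain ⟨χ, hχB, hχ⟩ := hB ψ hψ
    rw [irrBar_of_exists hχ]
    exact hχB
  constructor
  · intro h
    have := key _ h
    rwa [irrBar_irrBar] at this
  · exact key ψ

theorem irrBar_apply_of_mem {B : Set (IrrCharacter G)} (hB : IsRealSet B) {ψ : IrrCharacter G}
    (hψ : ψ ∈ B) (g : G) : (irrBar ψ : G → ℂ) g = conj ((ψ : G → ℂ) g) := by
  obtain ⟨χ, hχB, hχ⟩ := hB ψ hψ
  rw [irrBar_of_exists hχ, hχ]

/-- The block idempotent coefficients of a real set of characters are invariant under inversion. -/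
theorem blockCoeff_inv_of_real {B : Set (IrrCharacter G)} (hB : IsRealSet B) (g : G) :
    blockCoeff B g⁻¹ = blockCoeff B g := by
  classical
  rw [blockCoeff_eq_sum, blockCoeff_eq_sum]
  congr 1
  have hinv : Function.Involutive (irrBar : IrrCharacter G → IrrCharacter G) := irrBar_irrBar
  rw [← Equiv.sum_comp hinv.toPerm]
  refine Finset.sum_congr rfl (fun ψ _ => ?_)
  show (if irrBar ψ ∈ B then (1 : ℂ) else 0) * (irrBar ψ : G → ℂ) 1 *
    conj ((irrBar ψ : G → ℂ) g⁻¹) = _
  by_cases hψ : ψ ∈ B
  · rw [if_pos ((irrBar_mem_iff hB ψ).mpr hψ), if_pos hψ, irrBar_apply_of_mem hB hψ,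
      irrBar_apply_of_mem hB hψ, irr_one_conj,
      Helper74.char_inv (Helper74.irr_isCharacter ψ) g]
    simp
  · rw [if_neg (fun h => hψ ((irrBar_mem_iff hB ψ).mp h)), if_neg hψ, zero_mul, zero_mul,
      zero_mul, zero_mul]

theorem centralizer_singleton_inv (g : G) :
    Subgroup.centralizer ({g⁻¹} : Set G) = Subgroup.centralizer ({g} : Set G) := by
  ext x
  rw [Subgroup.mem_centralizer_singleton_iff, Subgroup.mem_centralizer_singleton_iff]
  constructor
  · intro h
    have : g * x = g * (x * g⁻¹) * g := by group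
    rw [this, h]; group
  · intro h
    have : g⁻¹ * x = g⁻¹ * (x * g) * g⁻¹ := by group
    rw [this, h]; group

/-- For a real block, central characters at `g` and `g⁻¹` agree modulo the local ideal. -/
theorem centralChar_inv_sub_memLocalIdeal {M : Ideal AlgInt} [M.IsPrime]
    {B : Set (IrrCharacter G)} (hBb : IsPBlock M B) (hB : IsRealSet B) {χ : IrrCharacter G}
    (hχ : χ ∈ B) (g : G) :
    MemLocalIdeal M (centralChar (χ : G → ℂ) g⁻¹ - centralChar (χ : G → ℂ) g) := by
  obtain ⟨χ', hχ'B, hχ'⟩ := hB χ hχ
  have e : centralChar (χ : G → ℂ) g⁻¹ = centralChar (χ' : G → ℂ) g := by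
    unfold centralChar
    rw [centralizer_singleton_inv, Helper74.char_inv (Helper74.irr_isCharacter χ) g, hχ']
    simp only
    rw [irr_one_conj]
  rw [e]
  obtain ⟨χ₀, rfl⟩ := hBb
  exact sameBlock_trans (sameBlock_symm hχ'B) hχ g

end Cfsg.Agent.Helper16
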