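import Cfsg.Agent.Helper77.IdemTrace
import Cfsg.Agent.Helper16.LocalRing
import Cfsg.Agent.Helper16.Omega

/-!
# Matrix lemmas for the second main theorem

* `det_one_sub_ne_zero`: a matrix congruent to `1` modulo the local ideal is invertible.
* `trace_eq_zero_of_twist`: the trace trick.
* `cmat`: the left regular representation of functions on a finite group.
-/

set_option autoImplicit false
set_option linter.unusedSectionVars false
set_option linter.unusedVariables false

namespace Cfsg.Agent.Helper16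

open Cfsg Matrix

section Det

variable {M : Ideal AlgInt} [hMp : M.IsPrime]

/-- A matrix congruent to `1` modulo the local ideal has nonzero determinant. -/
theorem det_one_sub_ne_zero {n : Type*} [Fintype n] [DecidableEq n] (N : Matrix n n ℂ)
    (hN : ∀ i j, MemLocalIdeal M (N i j)) : (1 - N).det ≠ 0 := by
  classical
  let R := Helper77.localRing M
  let J := Helper77.localIdeal M
  let NR : Matrix n n R := fun i j => ⟨N i j, memLocalIdeal_memLocalRing (hN i j)⟩
  have hNR : NR.map R.subtype = N := by ext i j; rfl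
  let π : R →+* R ⧸ J := Ideal.Quotient.mk J
  have hbar : NR.map π = 0 := by
    ext i j
    simp only [Matrix.map_apply, Matrix.zero_apply]
    rw [Ideal.Quotient.eq_zero_iff_mem]
    exact hN i j
  have hdet : π (1 - NR).det = 1 := by
    rw [RingHom.map_det, RingHom.mapMatrix_apply, Matrix.map_sub (hf := map_sub π),
      Matrix.map_one _ (map_zero π) (map_one π), hbar, sub_zero, det_one]
  have hJtop : J ≠ ⊤ := Helper77.localIdeal_ne_top M
  have hdet0 : (1 - NR).det ≠ 0 := by
    intro h0
    rw [h0, map_zero] at hdet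
    have : (1 : R ⧸ J) = 0 := hdet.symm
    rw [← map_one π, Ideal.Quotient.eq_zero_iff_mem] at this
    exact hJtop ((Ideal.eq_top_iff_one J).mpr this)
  have hQ : (1 - NR).map R.subtype = 1 - N := by
    rw [Matrix.map_sub (hf := map_sub R.subtype),
      Matrix.map_one _ (map_zero R.subtype) (map_one R.subtype), hNR]
  rw [← hQ]
  have : ((1 - NR).map R.subtype).det = R.subtype (1 - NR).det := by
    rw [RingHom.map_det, RingHom.mapMatrix_apply]
  rw [this]
  intro h
  apply hdet0
  exact Subtype.ext h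

end Det

section Twist

/-- The trace trick: if `S` is invertible in the corner ring `U M U`, commutes with `C` and
`H S = ζ S H` with `ζ ≠ 1`, then `tr (U H C) = 0`. -/
theorem trace_eq_zero_of_twist {n : Type*} [Fintype n] [DecidableEq n]
    (U S Hh C : Matrix n n ℂ) (ζ : ℂ) (hζ : ζ ≠ 1)
    (hU : U * U = U) (hSU : S * U = S) (hUS : U * S = S)
    (hHS : Hh * S = ζ • (S * Hh)) (hCS : C * S = S * C)
    (hdet : (S + (1 - U)).det ≠ 0) : (U * Hh * C).trace = 0 := by
  set T := S + (1 - U) with hT
  have hunit : IsUnit T.det := isUnit_iff_ne_zero.mpr hdet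
  have hTU : T * U = S := by
    rw [hT, add_mul, sub_mul, one_mul, hSU, hU, sub_self, add_zero]
  have hUT : U * T = S := by
    rw [hT, mul_add, mul_sub, mul_one, hUS, hU, sub_self, add_zero]
  have hT'U : T⁻¹ * U = U * T⁻¹ := by
    calc T⁻¹ * U = T⁻¹ * U * (T * T⁻¹) := by rw [mul_nonsing_inv _ hunit, mul_one]
      _ = T⁻¹ * (U * T) * T⁻¹ := by simp only [mul_assoc]
      _ = T⁻¹ * (T * U) * T⁻¹ := by rw [hUT, hTU]
      _ = (T⁻¹ * T) * U * T⁻¹ := by simp only [mul_assoc]
      _ = U * T⁻¹ := by rw [nonsing_inv_mul _ hunit, one_mul]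
  have hSS' : S * (T⁻¹ * U) = U := by
    rw [← hUT, mul_assoc, ← mul_assoc T, mul_nonsing_inv _ hunit, one_mul, hU]
  have hS'S : (T⁻¹ * U) * S = U := by
    rw [hT'U, ← hTU, mul_assoc, ← mul_assoc T⁻¹, nonsing_inv_mul _ hunit, one_mul, hU]
  have key : (U * Hh * C).trace = ζ * (U * Hh * C).trace := by
    calc (U * Hh * C).trace = (S * ((T⁻¹ * U) * Hh * C)).trace := by
          rw [← mul_assoc, ← mul_assoc, hSS']
      _ = (((T⁻¹ * U) * Hh * C) * S).trace := Matrix.trace_mul_comm _ _
      _ = ((T⁻¹ * U) * (Hh * S) * C).trace := by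
          rw [mul_assoc ((T⁻¹ * U) * Hh), hCS]
          simp only [mul_assoc]
      _ = ζ * (((T⁻¹ * U) * S) * Hh * C).trace := by
          rw [hHS, Matrix.mul_smul, Matrix.smul_mul, Matrix.trace_smul, smul_eq_mul]
          simp only [mul_assoc]
      _ = ζ * (U * Hh * C).trace := by rw [hS'S]
  have h2 : (1 - ζ) * (U * Hh * C).trace = 0 := by
    rw [sub_mul, one_mul, ← key, sub_self]
  rcases mul_eq_zero.mp h2 with h | h
  · exact absurd (sub_eq_zero.mp h).symm hζ
  · exact h

end Twist

section MatRJ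

variable {M : Ideal AlgInt} [M.IsPrime] {n : Type*} [Fintype n] [DecidableEq n]

/-- All entries lie in the local ring. -/
def MatR (M : Ideal AlgInt) (X : Matrix n n ℂ) : Prop := ∀ i j, MemLocalRing M (X i j)

/-- All entries lie in the local ideal. -/
def MatJ (M : Ideal AlgInt) (X : Matrix n n ℂ) : Prop := ∀ i j, MemLocalIdeal M (X i j)

theorem MatR.mul {X Y : Matrix n n ℂ} (hX : MatR M X) (hY : MatR M Y) : MatR M (X * Y) := by
  intro i j
  rw [Matrix.mul_apply]
  exact memLocalRing_sum _ _ (fun k _ => memLocalRing_mul (hX i k) (hY k j))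

theorem MatJ.mul_left {X Y : Matrix n n ℂ} (hX : MatR M X) (hY : MatJ M Y) : MatJ M (X * Y) := by
  intro i j
  rw [Matrix.mul_apply]
  exact memLocalIdeal_sum _ _ (fun k _ => memLocalIdeal_mul_left (hX i k) (hY k j))

theorem MatJ.mul_right {X Y : Matrix n n ℂ} (hX : MatJ M X) (hY : MatR M Y) : MatJ M (X * Y) := by
  intro i j
  rw [Matrix.mul_apply]
  exact memLocalIdeal_sum _ _ (fun k _ => memLocalIdeal_mul_right (hX i k) (hY k j))

/-- The matrix form of the key step of the second main theorem. -/
theorem second_main_matrix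
    (E F Eh Ep Ek Q Hh C : Matrix n n ℂ) (ζ : ℂ) (hζ : ζ ≠ 1)
    (hEE : E * E = E) (hFF : F * F = F) (hEF : Commute E F) (hE : E = Eh + Ep)
    (hFEh : Commute F Eh) (hI : (F - Eh * F) * Q = F)
    (hHE : Commute Hh E) (hHF : Commute Hh F) (hHQ : Commute Hh Q)
    (hHEk : Hh * Ek = ζ • (Ek * Hh))
    (hCE : Commute C E) (hCF : Commute C F) (hCEk : Commute C Ek) (hCQ : Commute C Q)
    (hER : MatR M E) (hFR : MatR M F) (hQR : MatR M Q) (hJ : MatJ M (Ep - Ek)) :
    (E * F * Hh * C).trace = 0 := by
  have hUU : (E * F) * (E * F) = E * F := by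
    calc (E * F) * (E * F) = E * (F * E) * F := by simp only [mul_assoc]
      _ = E * (E * F) * F := by rw [hEF.eq]
      _ = (E * E) * (F * F) := by simp only [mul_assoc]
      _ = E * F := by rw [hEE, hFF]
  have hEp : Ep = E - Eh := by rw [hE]; abel
  have hUWQ : (E * F) * (Ep * F) * Q = E * F := by
    have h2 : (E * F) * (Eh * F) = E * (Eh * F) := by
      calc (E * F) * (Eh * F) = E * ((F * Eh) * F) := by simp only [mul_assoc]
        _ = E * ((Eh * F) * F) := by rw [hFEh.eq]
        _ = E * (Eh * (F * F)) := by simp only [mul_assoc]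
        _ = E * (Eh * F) := by rw [hFF]
    have h1 : (E * F) * (Ep * F) = E * (F - Eh * F) := by
      rw [hEp, sub_mul, mul_sub, hUU, h2, mul_sub]
    rw [h1, mul_assoc, hI]
  set U := E * F with hUdef
  set S := U * (Ek * F) * Q * U with hSdef
  have hUR : MatR M U := hER.mul hFR
  have hdiff : U - S = U * ((Ep - Ek) * F) * Q * U := by
    rw [sub_mul Ep Ek F, mul_sub, sub_mul, sub_mul, hUWQ, hUU]
  have hJ' : MatJ M (U - S) := by
    rw [hdiff]
    exact ((MatJ.mul_left hUR (hJ.mul_right hFR)).mul_right hQR).mul_right hUR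
  have hdet : (S + (1 - U)).det ≠ 0 := by
    have : S + (1 - U) = 1 - (U - S) := by abel
    rw [this]
    exact det_one_sub_ne_zero (M := M) _ hJ'
  have hSU : S * U = S := by
    rw [hSdef, mul_assoc, hUU]
  have hUS : U * S = S := by
    rw [hSdef]
    simp only [← mul_assoc]
    rw [hUU]
  have hHU : Commute Hh U := hHE.mul_right hHF
  have hHS : Hh * S = ζ • (S * Hh) := by
    have hR' : Commute Hh (F * Q * U) := (hHF.mul_right hHQ).mul_right hHU
    have e1 : S = U * Ek * (F * Q * U) := by rw [hSdef]; simp only [mul_assoc]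
    rw [e1]
    calc Hh * (U * Ek * (F * Q * U)) = (Hh * U) * Ek * (F * Q * U) := by simp only [mul_assoc]
      _ = U * (Hh * Ek) * (F * Q * U) := by rw [hHU.eq]; simp only [mul_assoc]
      _ = ζ • (U * Ek * (Hh * (F * Q * U))) := by
          rw [hHEk, Matrix.mul_smul, Matrix.smul_mul]; simp only [mul_assoc]
      _ = ζ • (U * Ek * (F * Q * U) * Hh) := by rw [hR'.eq]; simp only [mul_assoc]
  have hCU : Commute C U := hCE.mul_right hCF
  have hCS : Commute C S :=
    ((hCU.mul_right (hCEk.mul_right hCF)).mul_right hCQ).mul_right hCU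
  exact trace_eq_zero_of_twist U S Hh C ζ hζ hUU hSU hUS hHS hCS.eq hdet

end MatRJ

section CMat

variable {G : Type*} [Group G] [Fintype G] [DecidableEq G]

/-- The matrix of left multiplication by the group-algebra element `∑ a(x) x`. -/
noncomputable def cmat (a : G → ℂ) : Matrix G G ℂ := Matrix.of fun x y => a (x * y⁻¹)

theorem cmat_apply (a : G → ℂ) (x y : G) : cmat a x y = a (x * y⁻¹) := rfl

theorem cmat_conv (a b : G → ℂ) : cmat (conv a b) = cmat a * cmat b := by
  ext x z
  rw [cmat_apply, Matrix.mul_apply, conv_apply]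
  refine Fintype.sum_equiv ((Equiv.inv G).trans (Equiv.mulRight x)) _ _ (fun t => ?_)
  simp only [Equiv.trans_apply, Equiv.inv_apply, Equiv.coe_mulRight, cmat_apply,
    _root_.mul_inv_rev, inv_inv, mul_inv_cancel_left, mul_assoc]

theorem cmat_add (a b : G → ℂ) : cmat (a + b) = cmat a + cmat b := by
  ext x z; rfl

theorem cmat_sub (a b : G → ℂ) : cmat (a - b) = cmat a - cmat b := by
  ext x z; rfl

theorem cmat_smul (c : ℂ) (a : G → ℂ) : cmat (c • a) = c • cmat a := by
  ext x z; rfl

theorem cmat_injective : Function.Injective (cmat : (G → ℂ) → Matrix G G ℂ) := by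
  intro a b h
  funext g
  have := congrFun (congrFun h g) 1
  simpa [cmat_apply] using this

theorem trace_cmat (a : G → ℂ) : (cmat a).trace = (Fintype.card G : ℂ) * a 1 := by
  unfold Matrix.trace
  simp only [Matrix.diag_apply, cmat_apply, mul_inv_cancel, Finset.sum_const, Finset.card_univ,
    nsmul_eq_mul]

/-- The permutation matrix of left multiplication by `g`. -/
noncomputable def pmat (g : G) : Matrix G G ℂ := cmat (fun x => if x = g then 1 else 0)

theorem pmat_apply (g x y : G) : pmat g x y = if x * y⁻¹ = g then 1 else 0 := rfl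

theorem pmat_mul_cmat (g : G) (a : G → ℂ) : pmat g * cmat a = cmat (fun x => a (g⁻¹ * x)) := by
  ext x z
  rw [Matrix.mul_apply, cmat_apply]
  rw [Finset.sum_eq_single (g⁻¹ * x)]
  · rw [pmat_apply, cmat_apply, if_pos (by group), one_mul, mul_assoc]
  · intro y _ hy
    rw [pmat_apply, if_neg, zero_mul]
    intro h
    apply hy
    rw [← h]; group
  · intro h; exact absurd (Finset.mem_univ _) h

theorem cmat_mul_pmat (g : G) (a : G → ℂ) : cmat a * pmat g = cmat (fun x => a (x * g⁻¹)) := by
  ext x z
  rw [Matrix.mul_apply, cmat_apply]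
  rw [Finset.sum_eq_single (g * z)]
  · rw [pmat_apply, cmat_apply, if_pos (by group), mul_one]
    congr 1
    group
  · intro y _ hy
    rw [pmat_apply, if_neg, mul_zero]
    intro h
    apply hy
    rw [← h]; group
  · intro h; exact absurd (Finset.mem_univ _) h

/-- A class function is central. -/
theorem cmat_comm_of_isClassFunction {a : G → ℂ} (ha : IsClassFunction G a) (b : G → ℂ) :
    cmat a * cmat b = cmat b * cmat a := by
  rw [← cmat_conv, ← cmat_conv]
  congr 1
  funext g
  rw [conv_apply, conv_apply]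
  -- `∑ x, a x * b (x⁻¹ g) = ∑ y, b y * a (y⁻¹ g)` via `y = x⁻¹ g`
  refine Fintype.sum_equiv ((Equiv.inv G).trans (Equiv.mulRight g)) _ _ (fun x => ?_)
  simp only [Equiv.trans_apply, Equiv.inv_apply, Equiv.coe_mulRight, _root_.mul_inv_rev, inv_inv]
  rw [mul_comm]
  congr 1
  have := ha (g⁻¹ * x * g) g
  rw [← this]
  congr 1
  group

end CMat

end Cfsg.Agent.Helper16
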