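import Cfsg.Agent.Helper16.SylowBlocks
import Cfsg.Agent.Helper16.QuotientDefect
import Cfsg.Agent.S0962
import Cfsg.Agent.S0912
import Cfsg.Agent.Lib.Cores

/-!
# The number of blocks of a group with a normal Sylow `p`-subgroup
-/

set_option autoImplicit false
set_option linter.unusedSectionVars false
set_option linter.unusedVariables false

namespace Cfsg.Agent.Helper16

open Cfsg

universe u

variable {H : Type u} [Group H] [Finite H] {M : Ideal AlgInt}

/-- The order of a normal `p`-subgroup of index prime to `p`. -/
theorem card_eq_pow_of_not_dvd_index (p : ℕ) [Fact p.Prime] (P : Subgroup H)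
    (hP : IsPGroup p P) (hidx : ¬ p ∣ P.index) :
    Nat.card P = p ^ (Nat.card H).factorization p := by
  have h := card_eq_of_not_dvd_relIndex (p := p) (S := P) (K := ⊤) hP le_top
    (by rw [Subgroup.relIndex_top_right]; exact hidx)
  rwa [Subgroup.card_top] at h

/-- A `p`-subgroup lies in a normal `p`-subgroup of index prime to `p`. -/
theorem le_of_isPGroup_of_normal_sylow (p : ℕ) [Fact p.Prime] (P : Subgroup H) [hPn : P.Normal]
    (hP : IsPGroup p P) (hidx : ¬ p ∣ P.index) {Q : Subgroup H} (hQ : IsPGroup p Q) : Q ≤ P := by
  obtain ⟨S, hS⟩ := hQ.exists_le_sylow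
  haveI : ((hP.toSylow hidx : Sylow p H) : Subgroup H).Normal := by
    rw [IsPGroup.toSylow_coe]; exact hPn
  obtain ⟨g, hg⟩ := MulAction.exists_smul_eq H (hP.toSylow hidx) S
  rw [Sylow.smul_eq_of_normal] at hg
  have : (S : Subgroup H) = P := by rw [← hg, IsPGroup.toSylow_coe]
  rw [← this]
  exact hS

/-- In a group with a normal Sylow `p`-subgroup `P`, the number of blocks equals the number of
`p`-regular classes contained in `C_H(P)`. -/
theorem card_blocks_eq_card_pRegular_classes (p : ℕ) [Fact p.Prime] (hM : IsPModular p M)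
    (P : Subgroup H) [P.Normal] (hP : IsPGroup p P) (hidx : ¬ p ∣ P.index) :
    Nat.card {B : Set (IrrCharacter H) // IsPBlock M B} =
      Nat.card {C : ConjClasses H // ∀ n : H, ConjClasses.mk n = C →
        ¬ p ∣ orderOf n ∧ n ∈ Subgroup.centralizer (P : Set H)} := by
  classical
  haveI : Fintype H := Fintype.ofFinite H
  haveI hMp : M.IsPrime := IsPModular.isPrime hM
  have hp : p.Prime := Fact.out
  refine le_antisymm ?_ (card_pRegular_classes_le_card_blocks p hM P hP hidx)
  have hcardP := card_eq_pow_of_not_dvd_index p P hP hidx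
  -- every block has full defect
  have hfull : ∀ B : Set (IrrCharacter H), IsPBlock M B →
      (Nat.card H).factorization p ≤ blockDefect p B := by
    intro B hB
    obtain ⟨χ₀, rfl⟩ := hB
    obtain ⟨D, hD⟩ := exists_defectGroup (M := M) p χ₀
    have h1 : P ≤ D := (Cfsg.Agent.Lib.le_pCore inferInstance hP).trans
      (Cfsg.Agent.S0912.result p M hM _ ⟨χ₀, rfl⟩ D hD)
    have h2 := Subgroup.card_le_of_le h1
    rw [hcardP, Helper77.card_defectGroup hM ⟨χ₀, rfl⟩ D hD] at h2
    exact (Nat.pow_le_pow_iff_right hp.one_lt).mp h2
  have e1 : Nat.card {B : Set (IrrCharacter H) // IsPBlock M B} =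
      Nat.card {B : Set (IrrCharacter H) // IsPBlock M B ∧
        (Nat.card H).factorization p ≤ blockDefect p B} :=
    Nat.card_congr (Equiv.subtypeEquivRight (fun B =>
      ⟨fun h => ⟨h, hfull B h⟩, fun h => h.1⟩))
  have e2 : Nat.card {C : ConjClasses H // ∃ g : H, ConjClasses.mk g = C ∧ IsPRegular p g ∧
      (Nat.card H).factorization p ≤
        (Nat.card (Subgroup.centralizer ({g} : Set H))).factorization p} =
      Nat.card {C : ConjClasses H // ∀ n : H, ConjClasses.mk n = C →
        ¬ p ∣ orderOf n ∧ n ∈ Subgroup.centralizer (P : Set H)} := by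
    refine Nat.card_congr (Equiv.subtypeEquivRight (fun C => ⟨?_, ?_⟩))
    · rintro ⟨g, rfl, hreg, hdef⟩ n hn
      have hc : IsConj g n := ConjClasses.mk_eq_mk_iff_isConj.mp hn.symm
      obtain ⟨c, rfl⟩ := isConj_iff.mp hc
      -- `g` centralizes `P`
      have hgP : g ∈ Subgroup.centralizer (P : Set H) := by
        obtain ⟨Q⟩ : Nonempty (Sylow p (Subgroup.centralizer ({g} : Set H))) := inferInstance
        have hQp : IsPGroup p ((Q : Subgroup _).map
            (Subgroup.centralizer ({g} : Set H)).subtype) := Q.2.map _
        have hQle := le_of_isPGroup_of_normal_sylow p P hP hidx hQp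
        have hQcard : Nat.card ((Q : Subgroup _).map
            (Subgroup.centralizer ({g} : Set H)).subtype) =
            p ^ (Nat.card (Subgroup.centralizer ({g} : Set H))).factorization p := by
          rw [Subgroup.card_map_of_injective (Subgroup.subtype_injective _)]
          exact Q.card_eq_multiplicity
        have hge : Nat.card P ≤ Nat.card ((Q : Subgroup _).map
            (Subgroup.centralizer ({g} : Set H)).subtype) := by
          rw [hcardP, hQcard]
          exact Nat.pow_le_pow_right hp.pos hdef
        have hPQ : (Q : Subgroup _).map (Subgroup.centralizer ({g} : Set H)).subtype = P :=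
          Subgroup.eq_of_le_of_card_ge hQle hge
        rw [Subgroup.mem_centralizer_iff]
        intro u hu
        have hu' : u ∈ Subgroup.centralizer ({g} : Set H) := by
          rw [← hPQ] at hu
          exact Subgroup.map_subtype_le _ hu
        rw [Subgroup.mem_centralizer_singleton_iff] at hu'
        exact hu'
      refine ⟨?_, ?_⟩
      · have : orderOf (c * g * c⁻¹) = orderOf g := MulEquiv.orderOf_eq (MulAut.conj c) g
        rw [this]; exact hreg
      · exact (inferInstance : (Subgroup.centralizer (P : Set H)).Normal).conj_mem g hgP c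
    · intro h
      obtain ⟨hreg, hcen⟩ := h (classRep C) (mk_classRep C)
      refine ⟨classRep C, mk_classRep C, hreg, ?_⟩
      have hPle : P ≤ Subgroup.centralizer ({classRep C} : Set H) := by
        intro u hu
        rw [Subgroup.mem_centralizer_singleton_iff]
        exact (Subgroup.mem_centralizer_iff.mp hcen) u hu
      have hdvd := Subgroup.card_dvd_of_le hPle
      rw [hcardP] at hdvd
      exact (hp.pow_dvd_iff_le_factorization Nat.card_pos.ne').mp hdvd
  rw [e1, ← e2]
  exact Cfsg.Agent.S0962.result p M hM _

end Cfsg.Agent.Helper16
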